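import Mathlib
import Groth.Prelude.Def_SGA1
import Groth.Agent.H69.QuotBasis

/-! Quotient by a subgroup on a clopen piece: if `X = ⊔_{G/H} gY` then `Y/H = X/G`. -/

set_option autoImplicit false
set_option linter.style.haveILetI false
set_option linter.unusedSectionVars false
open AlgebraicGeometry CategoryTheory TopologicalSpace

universe u

namespace Groth.Agent.H19.Coset

open Groth.Agent.H69.QuotBasis

section gen

variable {X Y Z : Scheme.{u}}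

theorem appLE_res (f : X ⟶ Y) (U : Y.Opens) (V V' : X.Opens) (e : V ≤ f ⁻¹ᵁ U) (hle : V' ≤ V)
    (e' : V' ≤ f ⁻¹ᵁ U) (a : Γ(Y, U)) :
    (X.presheaf.map (homOfLE hle).op).hom ((f.appLE U V e).hom a) = (f.appLE U V' e').hom a :=
  congr($(Scheme.Hom.appLE_map f e (homOfLE hle).op) a)

theorem res_appLE (f : X ⟶ Y) (U U' : Y.Opens) (V : X.Opens) (e : V ≤ f ⁻¹ᵁ U) (hle : U ≤ U')
    (e' : V ≤ f ⁻¹ᵁ U') (a : Γ(Y, U')) :
    (f.appLE U V e).hom ((Y.presheaf.map (homOfLE hle).op).hom a) = (f.appLE U' V e').hom a :=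
  congr($(Scheme.Hom.map_appLE f e (homOfLE hle).op) a)

theorem appLE_appLE (f : X ⟶ Y) (g : Y ⟶ Z) (U : Z.Opens) (V : Y.Opens) (W : X.Opens)
    (e1 : V ≤ g ⁻¹ᵁ U) (e2 : W ≤ f ⁻¹ᵁ V) (e3 : W ≤ (f ≫ g) ⁻¹ᵁ U) (a : Γ(Z, U)) :
    (f.appLE V W e2).hom ((g.appLE U V e1).hom a) = ((f ≫ g).appLE U W e3).hom a :=
  congr($(Scheme.Hom.appLE_comp_appLE f g U V W e1 e2) a)

theorem appLE_congr' (a b : X ⟶ Y) (hab : a = b) (U : Y.Opens) (V : X.Opens)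
    (ha : V ≤ a ⁻¹ᵁ U) (hb : V ≤ b ⁻¹ᵁ U) (s : Γ(Y, U)) :
    (a.appLE U V ha).hom s = (b.appLE U V hb).hom s := by
  subst hab; rfl

theorem res_res {U V W : Z.Opens} (h1 : V ≤ U) (h2 : W ≤ V) (h3 : W ≤ U) (s : Γ(Z, U)) :
    (Z.presheaf.map (homOfLE h2).op).hom ((Z.presheaf.map (homOfLE h1).op).hom s) =
      (Z.presheaf.map (homOfLE h3).op).hom s := by
  change (Z.presheaf.map (homOfLE h1).op ≫ Z.presheaf.map (homOfLE h2).op).hom s = _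
  rw [← Functor.map_comp]
  rfl

theorem app_eq_appLE_hom (f : X ⟶ Y) (U : Y.Opens) (a : Γ(Y, U)) :
    (f.app U).hom a = (f.appLE U (f ⁻¹ᵁ U) le_rfl).hom a :=
  congr($(Scheme.Hom.app_eq_appLE f) a)

theorem appLE_bijective_of_isOpenImmersion (f : X ⟶ Y) [IsOpenImmersion f] (A : Y.Opens)
    (hA : A ≤ f.opensRange) (V' : X.Opens) (h : V' = f ⁻¹ᵁ A) :
    Function.Bijective (f.appLE A V' h.le).hom := by
  subst h
  rw [Scheme.Hom.appLE_eq_app]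
  haveI := f.isIso_app A hA
  exact ConcreteCategory.bijective_of_isIso (f.app A)

end gen

variable {X XG : Scheme.{u}} {G : Type u} [Group G]

theorem rho_mul_hom (ρ : G →* Aut X) (a b : G) : (ρ (a * b)).hom = (ρ b).hom ≫ (ρ a).hom := by
  rw [map_mul]; rfl

theorem rho_base_mul (ρ : G →* Aut X) (a b : G) (x : X) :
    (ρ (a * b)).hom.base x = (ρ a).hom.base ((ρ b).hom.base x) := by
  rw [rho_mul_hom]; rfl

theorem rho_one_hom (ρ : G →* Aut X) : (ρ 1).hom = 𝟙 X := by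
  rw [map_one]; rfl

theorem rho_one_base (ρ : G →* Aut X) (x : X) : (ρ 1).hom.base x = x := by
  rw [rho_one_hom]; rfl

/-- The core gluing statement, purely on `X`. -/
theorem core (ρ : G →* Aut X) (p : X ⟶ XG) (hinv : ∀ g : G, (ρ g).hom ≫ p = p)
    (H : Subgroup G) (Y : X.Opens)
    (hcov : ∀ x : X, ∃ g : G, (ρ g).hom.base x ∈ Y)
    (hdisj : ∀ g : G, g ∉ H → ∀ y : X, y ∈ Y → (ρ g).hom.base y ∉ Y)
    (hstab : ∀ h : G, h ∈ H → ∀ y : X, y ∈ Y → (ρ h).hom.base y ∈ Y)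
    (U : XG.Opens) :
    (∀ t₁ t₂ : Γ(X, p ⁻¹ᵁ U), (∀ g, act ρ p hinv g U t₁ = t₁) →
      (∀ g, act ρ p hinv g U t₂ = t₂) →
      (X.presheaf.map (homOfLE (inf_le_right : Y ⊓ p ⁻¹ᵁ U ≤ p ⁻¹ᵁ U)).op).hom t₁ =
        (X.presheaf.map (homOfLE (inf_le_right : Y ⊓ p ⁻¹ᵁ U ≤ p ⁻¹ᵁ U)).op).hom t₂ →
      t₁ = t₂) ∧
    (∀ s' : Γ(X, Y ⊓ p ⁻¹ᵁ U),
      (∀ h : G, h ∈ H → ∀ hle : Y ⊓ p ⁻¹ᵁ U ≤ (ρ h).hom ⁻¹ᵁ (Y ⊓ p ⁻¹ᵁ U),
        ((ρ h).hom.appLE (Y ⊓ p ⁻¹ᵁ U) (Y ⊓ p ⁻¹ᵁ U) hle).hom s' = s') →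
      ∃ t : Γ(X, p ⁻¹ᵁ U), (∀ g, act ρ p hinv g U t = t) ∧
        (X.presheaf.map (homOfLE (inf_le_right : Y ⊓ p ⁻¹ᵁ U ≤ p ⁻¹ᵁ U)).op).hom t = s') := by
  set W : X.Opens := p ⁻¹ᵁ U with hWdef
  let A : G → X.Opens := fun g => W ⊓ (ρ g).hom ⁻¹ᵁ Y
  have hW : ∀ g, W ≤ (ρ g).hom ⁻¹ᵁ W := fun g => SGA1.preimage_le_of_inv ρ p hinv g U
  have hA : ∀ g, A g ≤ (ρ g).hom ⁻¹ᵁ (Y ⊓ W) := fun g x hx => ⟨hx.2, hW g hx.1⟩
  have hAW : ∀ g, A g ≤ (ρ g).hom ⁻¹ᵁ W := fun g x hx => hW g hx.1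
  have hcovA : W ≤ ⨆ g, A g := by
    intro x hx
    obtain ⟨g, hg⟩ := hcov x
    exact Opens.mem_iSup.mpr ⟨g, hx, hg⟩
  -- key: invariant sections are determined by their restriction to `Y ⊓ W`
  have K : ∀ t : Γ(X, W), (∀ g, act ρ p hinv g U t = t) → ∀ g,
      (X.presheaf.map (homOfLE (inf_le_left : A g ≤ W)).op).hom t =
        ((ρ g).hom.appLE (Y ⊓ W) (A g) (hA g)).hom
          ((X.presheaf.map (homOfLE (inf_le_right : Y ⊓ W ≤ W)).op).hom t) := by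
    intro t ht g
    have ht' : ((ρ g).hom.appLE W W (hW g)).hom t = t := ht g
    calc (X.presheaf.map (homOfLE (inf_le_left : A g ≤ W)).op).hom t
        = (X.presheaf.map (homOfLE (inf_le_left : A g ≤ W)).op).hom
            (((ρ g).hom.appLE W W (hW g)).hom t) := by rw [ht']
      _ = ((ρ g).hom.appLE W (A g) (hAW g)).hom t := appLE_res _ _ _ _ _ _ _ _
      _ = _ := (res_appLE _ _ _ _ _ _ _ _).symm
  refine ⟨?_, ?_⟩
  · intro t₁ t₂ h1 h2 h12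
    refine TopCat.Sheaf.eq_of_locally_eq' (C := CommRingCat.{u}) X.sheaf (fun g : G => A g) W
      (fun g => homOfLE inf_le_left) hcovA t₁ t₂ ?_
    intro g
    change (X.presheaf.map (homOfLE (inf_le_left : A g ≤ W)).op).hom t₁ =
      (X.presheaf.map (homOfLE (inf_le_left : A g ≤ W)).op).hom t₂
    rw [K t₁ h1 g, K t₂ h2 g, h12]
  · intro s' hs'
    let tg : ∀ g : G, Γ(X, A g) := fun g => ((ρ g).hom.appLE (Y ⊓ W) (A g) (hA g)).hom s'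
    have hYW : ∀ h : G, h ∈ H → Y ⊓ W ≤ (ρ h).hom ⁻¹ᵁ (Y ⊓ W) :=
      fun h hh x hx => ⟨hstab h hh x hx.1, hW h hx.2⟩
    have hcompat : ∀ g g' : G,
        (X.presheaf.map (homOfLE (inf_le_left : A g ⊓ A g' ≤ A g)).op).hom (tg g) =
          (X.presheaf.map (homOfLE (inf_le_right : A g ⊓ A g' ≤ A g')).op).hom (tg g') := by
      intro g g'
      by_cases hh : g' * g⁻¹ ∈ H
      · have hgg : (ρ g').hom = (ρ g).hom ≫ (ρ (g' * g⁻¹)).hom := by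
          rw [← rho_mul_hom, inv_mul_cancel_right]
        have e0 : A g ⊓ A g' ≤ (ρ g).hom ⁻¹ᵁ (Y ⊓ W) := inf_le_left.trans (hA g)
        have e0' : A g ⊓ A g' ≤ (ρ g').hom ⁻¹ᵁ (Y ⊓ W) := inf_le_right.trans (hA g')
        have e0'' : A g ⊓ A g' ≤ ((ρ g).hom ≫ (ρ (g' * g⁻¹)).hom) ⁻¹ᵁ (Y ⊓ W) := by
          rw [← hgg]; exact e0'
        calc (X.presheaf.map (homOfLE (inf_le_left : A g ⊓ A g' ≤ A g)).op).hom (tg g)
            = ((ρ g).hom.appLE (Y ⊓ W) (A g ⊓ A g') e0).hom s' := appLE_res _ _ _ _ _ _ _ _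
          _ = ((ρ g).hom.appLE (Y ⊓ W) (A g ⊓ A g') e0).hom
                (((ρ (g' * g⁻¹)).hom.appLE (Y ⊓ W) (Y ⊓ W) (hYW _ hh)).hom s') := by
              rw [hs' _ hh]
          _ = (((ρ g).hom ≫ (ρ (g' * g⁻¹)).hom).appLE (Y ⊓ W) (A g ⊓ A g') e0'').hom s' :=
              appLE_appLE _ _ _ _ _ _ _ _ _
          _ = ((ρ g').hom.appLE (Y ⊓ W) (A g ⊓ A g') e0').hom s' :=
              appLE_congr' _ _ hgg.symm _ _ _ _ _
          _ = _ := (appLE_res _ _ _ _ _ _ _ _).symm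
      · have hbot : A g ⊓ A g' = ⊥ := by
          rw [eq_bot_iff]
          rintro x ⟨⟨-, hx1⟩, ⟨-, hx2⟩⟩
          exfalso
          refine hdisj _ hh _ hx1 ?_
          rw [← rho_base_mul, inv_mul_cancel_right]
          exact hx2
        have hss : Subsingleton Γ(X, A g ⊓ A g') := by
          rw [hbot]; infer_instance
        exact Subsingleton.elim _ _
    obtain ⟨t, ht, -⟩ := TopCat.Sheaf.existsUnique_gluing' (C := CommRingCat.{u}) X.sheaf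
      (fun g : G => A g) W (fun g => homOfLE inf_le_left) hcovA tg hcompat
    have ht' : ∀ g, (X.presheaf.map (homOfLE (inf_le_left : A g ≤ W)).op).hom t = tg g := ht
    refine ⟨t, ?_, ?_⟩
    · intro g0
      refine TopCat.Sheaf.eq_of_locally_eq' (C := CommRingCat.{u}) X.sheaf (fun g : G => A g) W
        (fun g => homOfLE inf_le_left) hcovA _ _ ?_
      intro g
      change (X.presheaf.map (homOfLE (inf_le_left : A g ≤ W)).op).hom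
          (((ρ g0).hom.appLE W W (hW g0)).hom t) =
        (X.presheaf.map (homOfLE (inf_le_left : A g ≤ W)).op).hom t
      have hAA : A g ≤ (ρ g0).hom ⁻¹ᵁ (A (g * g0⁻¹)) := by
        intro x hx
        refine ⟨hW g0 hx.1, ?_⟩
        change (ρ (g * g0⁻¹)).hom.base ((ρ g0).hom.base x) ∈ Y
        rw [← rho_base_mul, inv_mul_cancel_right]
        exact hx.2
      have hgg : (ρ g0).hom ≫ (ρ (g * g0⁻¹)).hom = (ρ g).hom := by
        rw [← rho_mul_hom, inv_mul_cancel_right]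
      have e3 : A g ≤ ((ρ g0).hom ≫ (ρ (g * g0⁻¹)).hom) ⁻¹ᵁ (Y ⊓ W) := by
        rw [hgg]; exact hA g
      calc (X.presheaf.map (homOfLE (inf_le_left : A g ≤ W)).op).hom
            (((ρ g0).hom.appLE W W (hW g0)).hom t)
          = ((ρ g0).hom.appLE W (A g) (inf_le_left.trans (hW g0))).hom t :=
            appLE_res _ _ _ _ _ _ _ _
        _ = ((ρ g0).hom.appLE (A (g * g0⁻¹)) (A g) hAA).hom
              ((X.presheaf.map (homOfLE (inf_le_left : A (g * g0⁻¹) ≤ W)).op).hom t) :=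
            (res_appLE _ _ _ _ _ _ _ _).symm
        _ = ((ρ g0).hom.appLE (A (g * g0⁻¹)) (A g) hAA).hom (tg (g * g0⁻¹)) := by rw [ht']
        _ = (((ρ g0).hom ≫ (ρ (g * g0⁻¹)).hom).appLE (Y ⊓ W) (A g) e3).hom s' :=
            appLE_appLE _ _ _ _ _ _ _ _ _
        _ = tg g := appLE_congr' _ _ hgg _ _ _ _ _
        _ = _ := (ht' g).symm
    · have hYA : Y ⊓ W ≤ A 1 := by
        intro x hx
        refine ⟨hx.2, ?_⟩
        change (ρ 1).hom.base x ∈ Y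
        rw [rho_one_base]
        exact hx.1
      calc (X.presheaf.map (homOfLE (inf_le_right : Y ⊓ W ≤ W)).op).hom t
          = (X.presheaf.map (homOfLE hYA).op).hom
              ((X.presheaf.map (homOfLE (inf_le_left : A 1 ≤ W)).op).hom t) :=
            (res_res _ _ _ _).symm
        _ = (X.presheaf.map (homOfLE hYA).op).hom (tg 1) := by rw [ht']
        _ = ((ρ 1).hom.appLE (Y ⊓ W) (Y ⊓ W) (hYW 1 H.one_mem)).hom s' :=
            appLE_res _ _ _ _ _ _ _ _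
        _ = s' := hs' 1 H.one_mem _


/-- `Y/H = X/G` when `X` is the disjoint union of the translates of the open `Y` over `G/H`. -/
theorem main (ρ : G →* Aut X) (p : X ⟶ XG) (hP : SGA1.IsQuot ρ p) (H : Subgroup G) (Y : X.Opens)
    (hcov : ∀ x : X, ∃ g : G, x ∈ (ρ g).hom.base '' (Y : Set X))
    (hdisj : ∀ g : G, g ∉ H → Disjoint ((ρ g).hom.base '' (Y : Set X)) (Y : Set X))
    (ρY : H →* Aut (Y : Scheme.{u})) (hρY : ∀ h : H, (ρY h).hom ≫ Y.ι = Y.ι ≫ (ρ (h : G)).hom) :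
    SGA1.IsQuot ρY (Y.ι ≫ p) := by
  have hinv := hP.inv
  have hcov' : ∀ x : X, ∃ g : G, (ρ g).hom.base x ∈ Y := by
    intro x
    obtain ⟨g, y, hy, rfl⟩ := hcov x
    refine ⟨g⁻¹, ?_⟩
    rw [← rho_base_mul, inv_mul_cancel, rho_one_base]
    exact hy
  have hdisj' : ∀ g : G, g ∉ H → ∀ y : X, y ∈ Y → (ρ g).hom.base y ∉ Y := by
    intro g hg y hy hy'
    exact Set.disjoint_left.mp (hdisj g hg) ⟨y, hy, rfl⟩ hy'
  have hstab : ∀ h : G, h ∈ H → ∀ y : X, y ∈ Y → (ρ h).hom.base y ∈ Y := by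
    intro h hh y hy
    have e : (ρ h).hom.base (Y.ι.base ⟨y, hy⟩) = Y.ι.base ((ρY ⟨h, hh⟩).hom.base ⟨y, hy⟩) := by
      change (Y.ι ≫ (ρ h).hom).base ⟨y, hy⟩ = ((ρY ⟨h, hh⟩).hom ≫ Y.ι).base ⟨y, hy⟩
      rw [hρY ⟨h, hh⟩]
    have e2 : (ρ h).hom.base y = ((ρY ⟨h, hh⟩).hom.base ⟨y, hy⟩).1 := e
    rw [e2]
    exact ((ρY ⟨h, hh⟩).hom.base ⟨y, hy⟩).2
  -- `Y` is closed
  have hclosed : IsClosed (Y : Set X) := by
    rw [← isOpen_compl_iff, isOpen_iff_forall_mem_open]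
    intro x hx
    obtain ⟨g, hg⟩ := hcov' x
    have hgH : g ∉ H := by
      intro hgH
      apply hx
      have := hstab g⁻¹ (H.inv_mem hgH) _ hg
      rwa [← rho_base_mul, inv_mul_cancel, rho_one_base] at this
    refine ⟨((ρ g).hom ⁻¹ᵁ Y : X.Opens), ?_, ((ρ g).hom ⁻¹ᵁ Y).isOpen, hg⟩
    intro z hz hzY
    exact hdisj' g hgH z hzY hz
  haveI : IsClosedImmersion Y.ι :=
    IsClosedImmersion.of_isPreimmersion Y.ι (by rw [Scheme.Opens.range_ι]; exact hclosed)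
  haveI : IsAffineHom p := hP.affine
  haveI : IsAffineHom (Y.ι ≫ p) := inferInstance
  have hinvY : ∀ h : H, (ρY h).hom ≫ Y.ι ≫ p = Y.ι ≫ p := by
    intro h
    rw [← Category.assoc, hρY h, Category.assoc, hinv]
  -- sections on `Y`
  have hV' : ∀ U : XG.Opens, (Y.ι ≫ p) ⁻¹ᵁ U = Y.ι ⁻¹ᵁ (Y ⊓ p ⁻¹ᵁ U) := by
    intro U
    exact Opens.ext (Set.ext fun x => ⟨fun hx => ⟨x.2, hx⟩, fun hx => hx.2⟩)
  have hφ : ∀ U : XG.Opens, Function.Bijective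
      (Y.ι.appLE (Y ⊓ p ⁻¹ᵁ U) ((Y.ι ≫ p) ⁻¹ᵁ U) (hV' U).le).hom := by
    intro U
    exact appLE_bijective_of_isOpenImmersion Y.ι (Y ⊓ p ⁻¹ᵁ U)
      (by rw [Scheme.Opens.opensRange_ι]; exact inf_le_left) _ (hV' U)
  have hcomp : ∀ (U : XG.Opens) (σ : Γ(XG, U)), ((Y.ι ≫ p).app U).hom σ =
      (Y.ι.appLE (Y ⊓ p ⁻¹ᵁ U) ((Y.ι ≫ p) ⁻¹ᵁ U) (hV' U).le).hom
        ((X.presheaf.map (homOfLE (inf_le_right : Y ⊓ p ⁻¹ᵁ U ≤ p ⁻¹ᵁ U)).op).hom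
          ((p.app U).hom σ)) := by
    intro U σ
    rw [app_eq_appLE_hom p U σ, appLE_res p U _ _ le_rfl inf_le_right inf_le_right σ,
      appLE_appLE Y.ι p U _ _ inf_le_right (hV' U).le le_rfl σ, app_eq_appLE_hom]
  refine ⟨inferInstance, hinvY, ?_, ?_⟩
  · intro U σ₁ σ₂ h12
    rw [hcomp, hcomp] at h12
    have h12' := (hφ U).1 h12
    apply hP.injective U
    exact (core ρ p hinv H Y hcov' hdisj' hstab U).1 _ _ (fun g => act_app ρ p hinv g U σ₁)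
      (fun g => act_app ρ p hinv g U σ₂) h12'
  · intro U s
    constructor
    · rintro ⟨σ, rfl⟩ h
      exact act_app ρY (Y.ι ≫ p) hinvY h U σ
    · intro hs
      obtain ⟨s', rfl⟩ := (hφ U).2 s
      have hs'inv : ∀ h : G, h ∈ H → ∀ hle : Y ⊓ p ⁻¹ᵁ U ≤ (ρ h).hom ⁻¹ᵁ (Y ⊓ p ⁻¹ᵁ U),
          ((ρ h).hom.appLE (Y ⊓ p ⁻¹ᵁ U) (Y ⊓ p ⁻¹ᵁ U) hle).hom s' = s' := by
        intro h hh hle
        apply (hφ U).1
        have e1 : (Y.ι ≫ p) ⁻¹ᵁ U ≤ (Y.ι ≫ (ρ h).hom) ⁻¹ᵁ (Y ⊓ p ⁻¹ᵁ U) := by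
          intro x hx
          exact hle ((hV' U).le hx)
        have e2 : (Y.ι ≫ p) ⁻¹ᵁ U ≤ ((ρY ⟨h, hh⟩).hom ≫ Y.ι) ⁻¹ᵁ (Y ⊓ p ⁻¹ᵁ U) := by
          rw [hρY ⟨h, hh⟩]; exact e1
        calc (Y.ι.appLE (Y ⊓ p ⁻¹ᵁ U) ((Y.ι ≫ p) ⁻¹ᵁ U) (hV' U).le).hom
              (((ρ h).hom.appLE (Y ⊓ p ⁻¹ᵁ U) (Y ⊓ p ⁻¹ᵁ U) hle).hom s')
            = ((Y.ι ≫ (ρ h).hom).appLE (Y ⊓ p ⁻¹ᵁ U) ((Y.ι ≫ p) ⁻¹ᵁ U) e1).hom s' :=
              appLE_appLE _ _ _ _ _ _ _ _ _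
          _ = (((ρY ⟨h, hh⟩).hom ≫ Y.ι).appLE (Y ⊓ p ⁻¹ᵁ U) ((Y.ι ≫ p) ⁻¹ᵁ U) e2).hom s' :=
              appLE_congr' _ _ (hρY ⟨h, hh⟩).symm _ _ _ _ _
          _ = ((ρY ⟨h, hh⟩).hom.appLE ((Y.ι ≫ p) ⁻¹ᵁ U) ((Y.ι ≫ p) ⁻¹ᵁ U)
                (SGA1.preimage_le_of_inv ρY (Y.ι ≫ p) hinvY ⟨h, hh⟩ U)).hom
                ((Y.ι.appLE (Y ⊓ p ⁻¹ᵁ U) ((Y.ι ≫ p) ⁻¹ᵁ U) (hV' U).le).hom s') :=
              (appLE_appLE _ _ _ _ _ _ _ _ _).symm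
          _ = _ := hs ⟨h, hh⟩
      obtain ⟨t, htinv, hts⟩ := (core ρ p hinv H Y hcov' hdisj' hstab U).2 s' hs'inv
      obtain ⟨σ, hσ⟩ := (hP.range_iff U t).mpr htinv
      refine ⟨σ, ?_⟩
      rw [hcomp, hσ, hts]

end Groth.Agent.H19.Coset
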