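import Mathlib
import Groth.Prelude.Def_FinFr
import Groth.Agent.H19.Coset

/-! The fixed-point scheme of the Frobenius of `X ⊗_k K` (`k` finite) is reduced, and finite if
`X` is of finite type. -/

set_option autoImplicit false
set_option linter.style.haveILetI false
set_option linter.unusedSectionVars false
universe u
open AlgebraicGeometry CategoryTheory CategoryTheory.Limits TopologicalSpace

namespace Groth.Agent.H19.FixFrob

open Groth.Agent.H19.Coset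

/-- In a local ring containing the finite field `k`, the solutions of `t^q = t` are the elements
of `k`. -/
theorem exists_eq_of_pow_card_eq {k : Type u} [Field k] [Finite k] {R : Type u} [CommRing R]
    [IsLocalRing R] (j : k →+* R) (t : R) (ht : t ^ Nat.card k = t) : ∃ c : k, t = j c := by
  classical
  cases nonempty_fintype k
  rw [Nat.card_eq_fintype_card] at ht
  have hpoly : (∏ c : k, (Polynomial.X - Polynomial.C c)) =
      (Polynomial.X ^ Fintype.card k - Polynomial.X : Polynomial k) := by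
    have hmon : (Polynomial.X ^ Fintype.card k - Polynomial.X : Polynomial k).Monic :=
      Polynomial.monic_X_pow_sub (by
        rw [Polynomial.degree_X]; exact_mod_cast Fintype.one_lt_card)
    have h := Polynomial.prod_multiset_X_sub_C_of_monic_of_roots_card_eq hmon (by
      rw [FiniteField.roots_X_pow_card_sub_X,
        FiniteField.X_pow_card_sub_X_natDegree_eq k Fintype.one_lt_card]
      simp)
    rw [FiniteField.roots_X_pow_card_sub_X] at h
    exact h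
  have hprod : ∏ c : k, (t - j c) = 0 := by
    have h := congrArg (Polynomial.eval₂ j t) hpoly
    rw [Polynomial.eval₂_finsetProd] at h
    simp only [Polynomial.eval₂_sub, Polynomial.eval₂_X, Polynomial.eval₂_C,
      Polynomial.eval₂_pow] at h
    rw [h, ht, sub_self]
  obtain ⟨c₀, hc₀⟩ : ∃ c₀ : k, ¬ IsUnit (t - j c₀) := by
    by_contra hall
    push Not at hall
    have h1 : IsUnit (∏ c : k, (t - j c)) := IsUnit.prod_iff.mpr (fun c _ => hall c)
    rw [hprod] at h1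
    exact not_isUnit_zero h1
  refine ⟨c₀, ?_⟩
  have hothers : ∀ c ∈ Finset.univ.erase c₀, IsUnit (t - j c) := by
    intro c hc
    have hne : c ≠ c₀ := Finset.ne_of_mem_erase hc
    by_contra hnu
    have h1 : (t - j c) - (t - j c₀) ∈ IsLocalRing.maximalIdeal R :=
      Ideal.sub_mem _ ((IsLocalRing.mem_maximalIdeal _).mpr hnu)
        ((IsLocalRing.mem_maximalIdeal _).mpr hc₀)
    have h2 : (t - j c) - (t - j c₀) = j (c₀ - c) := by rw [map_sub]; ring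
    rw [h2] at h1
    exact (IsLocalRing.mem_maximalIdeal _).mp h1
      ((IsUnit.mk0 _ (sub_ne_zero.mpr hne.symm)).map j)
  have hsplit : (t - j c₀) * ∏ c ∈ Finset.univ.erase c₀, (t - j c) = 0 := by
    exact (Finset.mul_prod_erase Finset.univ (fun c => t - j c) (Finset.mem_univ c₀)).trans hprod
  have hu : IsUnit (∏ c ∈ Finset.univ.erase c₀, (t - j c)) := IsUnit.prod_iff.mpr hothers
  exact sub_eq_zero.mp (hu.mul_left_eq_zero.mp hsplit)

/-- Induction principle for a pushout of commutative rings. -/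
theorem gen_of_isPushout {A B A' B' : CommRingCat.{u}}
    (φ : A ⟶ B) (α : A ⟶ A') (β : B ⟶ B') (φ' : A' ⟶ B')
    (hpo : IsPushout φ α β φ') (P : B' → Prop) (h0 : P 0) (hβ : ∀ b, P (β.hom b))
    (hmul : ∀ (a' : A') (x : B'), P x → P (φ'.hom a' * x))
    (hadd : ∀ x y, P x → P y → P (x + y)) : ∀ x, P x := by
  letI := φ.hom.toAlgebra
  letI := α.hom.toAlgebra
  letI := β.hom.toAlgebra
  letI := φ'.hom.toAlgebra
  letI : Algebra A B' := (β.hom.comp φ.hom).toAlgebra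
  haveI : IsScalarTower A B B' := .of_algebraMap_eq' rfl
  haveI : IsScalarTower A A' B' := .of_algebraMap_eq' (by
    change β.hom.comp φ.hom = φ'.hom.comp α.hom
    rw [← CommRingCat.hom_comp, ← CommRingCat.hom_comp, hpo.w])
  haveI : Algebra.IsPushout A A' B B' := CommRingCat.isPushout_iff_isPushout.mp hpo.flip
  intro x
  refine IsBaseChange.inductionOn (Algebra.IsPushout.out (R := A) (S := A') (R' := B) (S' := B'))
    x P h0 (fun b => hβ b) (fun a' n hn => ?_) hadd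
  rw [Algebra.smul_def]
  exact hmul a' n hn

section theta

variable {X Z : Scheme.{u}} (a : Z ⟶ X)

/-- Pull back a section over `U` to the germ at `z`. -/
noncomputable def theta (U : X.Opens) (z : Z) (hz : a z ∈ U) : Γ(X, U) →+* Z.presheaf.stalk z :=
  (Z.presheaf.germ (a ⁻¹ᵁ U) z hz).hom.comp (a.app U).hom

theorem theta_eq_stalkMap (U : X.Opens) (z : Z) (hz : a z ∈ U) (s : Γ(X, U)) :
    theta a U z hz s = (a.stalkMap z).hom ((X.presheaf.germ U (a z) hz).hom s) :=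
  (Scheme.Hom.germ_stalkMap_apply a U z hz s).symm

theorem isUnit_theta_iff (U : X.Opens) (z : Z) (hz : a z ∈ U) (s : Γ(X, U)) :
    IsUnit (theta a U z hz s) ↔ a z ∈ X.basicOpen s := by
  rw [theta_eq_stalkMap, Scheme.mem_basicOpen X s (a z) hz]
  exact isUnit_map_iff (a.stalkMap z).hom _

theorem theta_appLE_of_comp (F : X ⟶ X) (haF : a ≫ F = a) (U : X.Opens) (hU : U ≤ F ⁻¹ᵁ U)
    (z : Z) (hz : a z ∈ U) (s : Γ(X, U)) :
    theta a U z hz ((F.appLE U U hU).hom s) = theta a U z hz s := by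
  have e3 : a ⁻¹ᵁ U ≤ (a ≫ F) ⁻¹ᵁ U := by rw [haF]
  have h1 : (a.app U).hom ((F.appLE U U hU).hom s) = (a.app U).hom s := by
    rw [app_eq_appLE_hom, appLE_appLE a F U U (a ⁻¹ᵁ U) hU le_rfl e3 s,
      appLE_congr' _ _ haF U (a ⁻¹ᵁ U) e3 le_rfl s, ← app_eq_appLE_hom]
  change (Z.presheaf.germ (a ⁻¹ᵁ U) z hz).hom ((a.app U).hom ((F.appLE U U hU).hom s)) =
    (Z.presheaf.germ (a ⁻¹ᵁ U) z hz).hom ((a.app U).hom s)
  rw [h1]

/-- Every germ on `Z` at `z` is a fraction of pulled-back sections over an affine `U ∋ a z`. -/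
theorem exists_theta_frac [IsPreimmersion a] (U : X.Opens) (hU : IsAffineOpen U) (z : Z)
    (hz : a z ∈ U) (r : Z.presheaf.stalk z) :
    ∃ b s : Γ(X, U), IsUnit (theta a U z hz s) ∧ r * theta a U z hz s = theta a U z hz b := by
  obtain ⟨ξ, rfl⟩ := a.stalkMap_surjective z r
  letI : Algebra Γ(X, U) (X.presheaf.stalk (a z)) := (X.presheaf.germ U (a z) hz).hom.toAlgebra
  haveI : IsLocalization.AtPrime (X.presheaf.stalk (a z))
      (hU.primeIdealOf ⟨a z, hz⟩).asIdeal := hU.isLocalization_stalk ⟨a z, hz⟩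
  obtain ⟨⟨b, s⟩, hbs⟩ := IsLocalization.surj (hU.primeIdealOf ⟨a z, hz⟩).asIdeal.primeCompl ξ
  have hbs' : ξ * (X.presheaf.germ U (a z) hz).hom s.1 = (X.presheaf.germ U (a z) hz).hom b := hbs
  have hunit : IsUnit ((X.presheaf.germ U (a z) hz).hom s.1) :=
    IsLocalization.map_units (X.presheaf.stalk (a z)) s
  refine ⟨b, s.1, ?_, ?_⟩
  · rw [theta_eq_stalkMap]
    exact hunit.map (a.stalkMap z).hom
  · rw [theta_eq_stalkMap, theta_eq_stalkMap, ← hbs', map_mul]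

end theta


section main

variable {k : Type u} [Field k] [Finite k] {K : Type u} [Field K] [Algebra k K]
  {X X₀ Z : Scheme.{u}} (f : X₀ ⟶ Spec (CommRingCat.of k))
  (π : X ⟶ X₀) (str : X ⟶ Spec (CommRingCat.of K))
  (hpb : IsPullback π str f (FinFr.specι k K))
  (FX : X₀ ⟶ X₀) (hle : ∀ U : X₀.Opens, U ≤ FX ⁻¹ᵁ U)
  (hFapp : ∀ (U : X₀.Opens) (s : Γ(X₀, U)), (FX.appLE U U (hle U)).hom s = s ^ Nat.card k)
  (F : X ⟶ X) (hF1 : F ≫ π = π ≫ FX)
  (a : Z ⟶ X) (haF : a ≫ F = a)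

include hle hF1 in
theorem preimage_le (U₀ : X₀.Opens) : π ⁻¹ᵁ U₀ ≤ F ⁻¹ᵁ (π ⁻¹ᵁ U₀) := by
  rw [← Scheme.Hom.comp_preimage, hF1, Scheme.Hom.comp_preimage]
  exact π.preimage_mono (hle U₀)

include hFapp in
theorem frob_pull (U₀ : X₀.Opens) (t : Γ(X₀, U₀)) :
    (F.appLE (π ⁻¹ᵁ U₀) (π ⁻¹ᵁ U₀) (preimage_le π FX hle F hF1 U₀)).hom ((π.app U₀).hom t) =
      ((π.app U₀).hom t) ^ Nat.card k := by
  have e1 : π ⁻¹ᵁ U₀ ≤ (F ≫ π) ⁻¹ᵁ U₀ := by
    rw [Scheme.Hom.comp_preimage]; exact preimage_le π FX hle F hF1 U₀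
  have e2 : π ⁻¹ᵁ U₀ ≤ (π ≫ FX) ⁻¹ᵁ U₀ := by rw [← hF1]; exact e1
  rw [app_eq_appLE_hom π U₀ t,
    appLE_appLE F π U₀ (π ⁻¹ᵁ U₀) (π ⁻¹ᵁ U₀) le_rfl (preimage_le π FX hle F hF1 U₀) e1 t,
    appLE_congr' _ _ hF1 U₀ (π ⁻¹ᵁ U₀) e1 e2 t,
    ← appLE_appLE π FX U₀ U₀ (π ⁻¹ᵁ U₀) (hle U₀) le_rfl e2 t, hFapp, map_pow]

/-- The structure map `k → O_{Z,z}`. -/
noncomputable def jk (U₀ : X₀.Opens) (z : Z) (hz : a z ∈ π ⁻¹ᵁ U₀) : k →+* Z.presheaf.stalk z :=
  (theta a (π ⁻¹ᵁ U₀) z hz).comp ((π.app U₀).hom.comp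
    ((f.appLE ⊤ U₀ le_top).hom.comp (Scheme.ΓSpecIso (CommRingCat.of k)).inv.hom))

/-- The structure map `K → O_{Z,z}`. -/
noncomputable def jK (U₀ : X₀.Opens) (z : Z) (hz : a z ∈ π ⁻¹ᵁ U₀) : K →+* Z.presheaf.stalk z :=
  (theta a (π ⁻¹ᵁ U₀) z hz).comp ((str.appLE ⊤ (π ⁻¹ᵁ U₀) le_top).hom.comp
    (Scheme.ΓSpecIso (CommRingCat.of K)).inv.hom)

include hle hFapp hF1 haF in
theorem theta_pull_mem_k (U₀ : X₀.Opens) (z : Z) (hz : a z ∈ π ⁻¹ᵁ U₀) (t : Γ(X₀, U₀)) :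
    ∃ c : k, theta a (π ⁻¹ᵁ U₀) z hz ((π.app U₀).hom t) = jk f π a U₀ z hz c := by
  apply exists_eq_of_pow_card_eq (jk f π a U₀ z hz)
  rw [← map_pow, ← frob_pull π FX hle hFapp F hF1 U₀ t, theta_appLE_of_comp a F haF]

include hpb hle hFapp hF1 haF in
theorem theta_mem_K (U₀ : X₀.Opens) (hU₀ : IsAffineOpen U₀) (z : Z) (hz : a z ∈ π ⁻¹ᵁ U₀)
    (b : Γ(X, π ⁻¹ᵁ U₀)) :
    ∃ l : K, theta a (π ⁻¹ᵁ U₀) z hz b = jK π str a U₀ z hz l := by
  have hUY : π ⁻¹ᵁ U₀ = π ⁻¹ᵁ U₀ ⊓ str ⁻¹ᵁ ⊤ := by simp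
  have hpo := (isIso_pushoutSection_iff hpb (US := ⊤) (UT := ⊤) (UX := U₀) le_top le_top hUY).mp
    (isIso_pushoutSection_of_isAffineOpen hpb le_top le_top hUY (isAffineOpen_top _)
      (isAffineOpen_top _) hU₀)
  have hsurjK := (ConcreteCategory.bijective_of_isIso (Scheme.ΓSpecIso (CommRingCat.of K)).inv).2
  refine gen_of_isPushout _ _ _ _ hpo
    (fun b => ∃ l : K, theta a (π ⁻¹ᵁ U₀) z hz b = jK π str a U₀ z hz l) ⟨0, by simp⟩ ?_ ?_ ?_ b
  · intro t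
    obtain ⟨c, hc⟩ := theta_pull_mem_k f π FX hle hFapp F hF1 a haF U₀ z hz t
    have hw := congr($(hpo.w) ((Scheme.ΓSpecIso (CommRingCat.of k)).inv.hom c))
    obtain ⟨l, hl⟩ := hsurjK (((FinFr.specι k K).appLE ⊤ ⊤ le_top).hom
      ((Scheme.ΓSpecIso (CommRingCat.of k)).inv.hom c))
    refine ⟨l, ?_⟩
    have h1 : (π.appLE U₀ (π ⁻¹ᵁ U₀) le_rfl).hom t = (π.app U₀).hom t :=
      (app_eq_appLE_hom π U₀ t).symm
    have h2 : (π.appLE U₀ (π ⁻¹ᵁ U₀) le_rfl).hom ((f.appLE ⊤ U₀ le_top).hom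
        ((Scheme.ΓSpecIso (CommRingCat.of k)).inv.hom c)) =
        (str.appLE ⊤ (π ⁻¹ᵁ U₀) le_top).hom (((FinFr.specι k K).appLE ⊤ ⊤ le_top).hom
          ((Scheme.ΓSpecIso (CommRingCat.of k)).inv.hom c)) := hw
    change theta a (π ⁻¹ᵁ U₀) z hz ((π.appLE U₀ (π ⁻¹ᵁ U₀) le_rfl).hom t) = _
    rw [h1, hc]
    change theta a (π ⁻¹ᵁ U₀) z hz ((π.app U₀).hom ((f.appLE ⊤ U₀ le_top).hom
        ((Scheme.ΓSpecIso (CommRingCat.of k)).inv.hom c))) =
      theta a (π ⁻¹ᵁ U₀) z hz ((str.appLE ⊤ (π ⁻¹ᵁ U₀) le_top).hom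
        ((Scheme.ΓSpecIso (CommRingCat.of K)).inv.hom l))
    rw [hl, ← h2, ← app_eq_appLE_hom]
  · rintro a' x ⟨l, hl⟩
    obtain ⟨m, rfl⟩ := hsurjK a'
    refine ⟨m * l, ?_⟩
    rw [map_mul, hl, map_mul]
    rfl
  · rintro x y ⟨l, hl⟩ ⟨m, hm⟩
    exact ⟨l + m, by rw [map_add, map_add, hl, hm]⟩

include hpb hle hFapp hF1 haF in
theorem isReduced_stalk [IsPreimmersion a] (z : Z) : _root_.IsReduced (Z.presheaf.stalk z) := by
  obtain ⟨_, ⟨U₀, hU₀, rfl⟩, hzU, -⟩ :=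
    (X₀.isBasis_affineOpens).exists_subset_of_mem_open (Set.mem_univ (π (a z))) isOpen_univ
  have hz : a z ∈ π ⁻¹ᵁ U₀ := hzU
  haveI : IsAffineHom π := MorphismProperty.of_isPullback (P := @IsAffineHom) hpb.flip inferInstance
  have hU : IsAffineOpen (π ⁻¹ᵁ U₀) := hU₀.preimage π
  refine ⟨fun r hr => ?_⟩
  obtain ⟨n, hn⟩ := hr
  obtain ⟨b, s, hs, hrs⟩ := exists_theta_frac a (π ⁻¹ᵁ U₀) hU z hz r
  obtain ⟨l, hl⟩ := theta_mem_K f π str hpb FX hle hFapp F hF1 a haF U₀ hU₀ z hz b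
  have h1 : (jK π str a U₀ z hz l) ^ n = 0 := by
    rw [← hl, ← hrs, mul_pow, hn, zero_mul]
  rw [← map_pow] at h1
  have hinj : Function.Injective (jK π str a U₀ z hz) := RingHom.injective _
  have h2 : l ^ n = 0 := hinj (by rw [h1, map_zero])
  have h3 : l = 0 := IsNilpotent.eq_zero ⟨n, h2⟩
  rw [h3, map_zero] at hl
  rw [hl] at hrs
  exact hs.mul_left_eq_zero.mp hrs

include hpb hle hFapp hF1 haF in
theorem isReduced_of_fix [IsPreimmersion a] : IsReduced Z := by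
  haveI : ∀ z : Z, _root_.IsReduced (Z.presheaf.stalk z) :=
    fun z => isReduced_stalk f π str hpb FX hle hFapp F hF1 a haF z
  exact isReduced_of_isReduced_stalk Z

end main

section wrapper

variable {k : Type u} [Field k] [Finite k] {K : Type u} [Field K] [Algebra k K]
  {X₀ : Scheme.{u}} (f : X₀ ⟶ Spec (CommRingCat.of k)) (FX : X₀ ⟶ X₀)
  (hle : ∀ U : X₀.Opens, U ≤ FX ⁻¹ᵁ U)
  (hFapp : ∀ (U : X₀.Opens) (s : Γ(X₀, U)), (FX.appLE U U (hle U)).hom s = s ^ Nat.card k)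
  (F : FinFr.ext K f ⟶ FinFr.ext K f)
  (hF1 : F ≫ FinFr.extπ K f = FinFr.extπ K f ≫ FX)
  (hF2 : F ≫ FinFr.extStr K f = FinFr.extStr K f)

/-- The inclusion of the fixed-point scheme. -/
noncomputable def fixι : FinFr.fixScheme (FinFr.extStr K f) F hF2 ⟶ FinFr.ext K f :=
  pullback.fst _ _

theorem fixι_comp : fixι f F hF2 ≫ F = fixι f F hF2 := by
  unfold fixι
  have h := pullback.condition
    (f := (pullback.lift (𝟙 _) F (by rw [hF2, Category.id_comp]) :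
      FinFr.ext K f ⟶ pullback (FinFr.extStr K f) (FinFr.extStr K f)))
    (g := (pullback.lift (𝟙 _) (𝟙 _) rfl :
      FinFr.ext K f ⟶ pullback (FinFr.extStr K f) (FinFr.extStr K f)))
  have h1 := congr($h ≫ pullback.fst _ _)
  have h2 := congr($h ≫ pullback.snd _ _)
  simp only [Category.assoc, pullback.lift_fst, pullback.lift_snd, Category.comp_id] at h1 h2
  exact h2.trans h1.symm

instance : IsPreimmersion (fixι f F hF2) := by
  unfold fixι
  haveI : IsImmersion (pullback.lift (𝟙 _) (𝟙 _) rfl :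
      FinFr.ext K f ⟶ pullback (FinFr.extStr K f) (FinFr.extStr K f)) :=
    inferInstanceAs (IsImmersion (pullback.diagonal (FinFr.extStr K f)))
  haveI : IsImmersion (pullback.fst (pullback.lift (𝟙 _) F (by rw [hF2, Category.id_comp]) :
      FinFr.ext K f ⟶ pullback (FinFr.extStr K f) (FinFr.extStr K f))
      (pullback.lift (𝟙 _) (𝟙 _) rfl :
      FinFr.ext K f ⟶ pullback (FinFr.extStr K f) (FinFr.extStr K f))) :=
    inferInstance
  exact this.toIsPreimmersion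

include hle hFapp hF1 in
theorem isReduced_fixScheme : IsReduced (FinFr.fixScheme (FinFr.extStr K f) F hF2) :=
  isReduced_of_fix f (FinFr.extπ K f) (FinFr.extStr K f)
    (IsPullback.of_hasPullback f (FinFr.specι k K)) FX hle hFapp F hF1
    (fixι f F hF2) (fixι_comp f F hF2)

end wrapper

end Groth.Agent.H19.FixFrob
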