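import Mathlib
import Groth.Prelude.Def_EtRam
import Groth.Prelude.Def_Hensel
import Groth.Agent.S2748
import Groth.Agent.S0540
import Groth.Agent.S0541
import Groth.Agent.S0539

/-!
# (SH1) The strict henselization of a DVR is a DVR (helper19, for helper14's S7162 squad)
-/

set_option autoImplicit false
universe u

namespace Groth.Agent.H19.SH_SH1

open IsLocalRing

/-- (SH1) the strict henselization of a DVR is a DVR, and `A → A'` is injective. -/
theorem isDVR_of_isStrictHenselization (A A' : Type u) [CommRing A] [IsDomain A]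
    [IsDiscreteValuationRing A] [CommRing A'] [IsLocalRing A'] [Algebra A A']
    [IsLocalHom (algebraMap A A')] [Hensel.IsStrictHenselization A A'] :
    Function.Injective (algebraMap A A') ∧ ∃ (_ : IsDomain A'), IsDiscreteValuationRing A' := by
  have hff : Module.FaithfullyFlat A A' := Groth.Agent.S0539.result A A'
  have hinj : Function.Injective (algebraMap A A') := FaithfulSMul.algebraMap_injective A A'
  obtain ⟨hdom, hic⟩ := (Groth.Agent.S2748.result A A').mpr ⟨inferInstance, inferInstance⟩
  have hnoeth : IsNoetherianRing A' := (Groth.Agent.S0540.result A A').mp inferInstance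
  have hdim : ringKrullDim A' = 1 :=
    (Groth.Agent.S0541.result A A').trans (IsDiscreteValuationRing.ringKrullDim_eq_one A)
  refine ⟨hinj, hdom, ?_⟩
  have hK : Ring.KrullDimLE 1 A' := Ring.krullDimLE_iff.mpr hdim.le
  have hprimes : ∀ P' : Ideal A', P' ≠ ⊥ → P'.IsPrime → P' = maximalIdeal A' :=
    fun P' h0 hP' => IsLocalRing.eq_maximalIdeal (hP'.isMaximal_of_ne_bot h0)
  have h30 : (IsIntegrallyClosed A' ∧
      ∀ P' : Ideal A', P' ≠ ⊥ → P'.IsPrime → P' = maximalIdeal A') →
      IsPrincipalIdealRing A' :=
    ((tfae_of_isNoetherianRing_of_isLocalRing_of_isDomain A').out 3 0).mp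
  have hpid : IsPrincipalIdealRing A' := h30 ⟨hic, hprimes⟩
  refine { not_a_field' := ?_ }
  intro hbot
  have hfield : IsField A' := IsLocalRing.isField_iff_maximalIdeal_eq.mpr hbot
  have h0 := ringKrullDim_eq_zero_of_isField hfield
  rw [hdim] at h0
  exact one_ne_zero h0

end Groth.Agent.H19.SH_SH1
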