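import Mathlib
import Groth.Prelude.Def_CAlgX

/-!
# Regular sequences are quasi-regular (helper library, seat helper19)

`isQuasiRegular_of_isWeaklyRegular`: a weakly regular sequence in a ring is quasi-regular
(in the polynomial-coefficient formulation `CAlgX.IsQuasiRegular`), plus the intersection lemma
`inf_pow_le_step`.
-/

set_option autoImplicit false
universe u

namespace Groth.Agent.H19.QReg

open MvPolynomial

variable {A : Type u} [CommRing A]

theorem isHomogeneous_of_coeff {σ : Type*} {P : MvPolynomial σ A} {n : ℕ}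
    (h : ∀ d, coeff d P ≠ 0 → d.degree = n) : P.IsHomogeneous n := by
  intro d hd
  have h1 := h d hd
  rw [Finsupp.degree_eq_weight_one] at h1
  exact h1

theorem degree_eq_of_coeff_ne_zero {σ : Type*} {P : MvPolynomial σ A} {n : ℕ}
    (hP : P.IsHomogeneous n) {d : σ →₀ ℕ} (hd : coeff d P ≠ 0) : d.degree = n := by
  by_contra h
  exact hd (hP.coeff_eq_zero h)

theorem map_eval' {B : Type*} [CommRing B] (φ : A →+* B) {σ : Type*} (f : σ → A)
    (P : MvPolynomial σ A) : φ (eval f P) = eval (φ ∘ f) (map φ P) := by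
  induction P using MvPolynomial.induction_on with
  | C a => simp
  | add p q hp hq => simp [hp, hq]
  | mul_X p i hp => simp [hp]

/-- A homogeneous polynomial of degree `n` with coefficients in `𝔞` takes values in `𝔞 * (f)^n`. -/
theorem eval_mem_mul_pow {σ : Type*} (f : σ → A) (𝔞 : Ideal A) (n : ℕ) {H : MvPolynomial σ A}
    (hH : H.IsHomogeneous n) (hc : H ∈ 𝔞.map (C : A →+* MvPolynomial σ A)) :
    eval f H ∈ 𝔞 * Ideal.span (Set.range f) ^ n := by
  rw [MvPolynomial.mem_map_C_iff] at hc
  have hsum : eval f H = ∑ d ∈ H.support, coeff d H * eval f (monomial d (1 : A)) := by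
    calc eval f H = eval f (∑ d ∈ H.support, monomial d (coeff d H)) := by
          rw [H.support_sum_monomial_coeff]
      _ = ∑ d ∈ H.support, coeff d H * eval f (monomial d (1 : A)) := by
          rw [map_sum]
          refine Finset.sum_congr rfl fun d _ => ?_
          rw [show monomial d (coeff d H) = C (coeff d H) * monomial d (1 : A) by
            rw [C_mul_monomial, mul_one], map_mul, eval_C]
  rw [hsum]
  refine Ideal.sum_mem _ fun d hd => ?_
  refine Ideal.mul_mem_mul (hc d) ?_
  rw [Ideal.mem_span_pow_iff_exists_isHomogeneous]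
  exact ⟨monomial d 1, isHomogeneous_monomial _
    (degree_eq_of_coeff_ne_zero hH (mem_support_iff.1 hd)), rfl⟩

/-- Every element of `𝔞 * (f)^n` is the value of a homogeneous polynomial of degree `n` with
coefficients in `𝔞`. -/
theorem exists_homog_of_mem_mul_pow {σ : Type*} (f : σ → A) (𝔞 : Ideal A) (n : ℕ) {x : A}
    (hx : x ∈ 𝔞 * Ideal.span (Set.range f) ^ n) :
    ∃ H : MvPolynomial σ A, H.IsHomogeneous n ∧ H ∈ 𝔞.map (C : A →+* MvPolynomial σ A) ∧
      eval f H = x := by
  refine Submodule.smul_induction_on (show x ∈ 𝔞 • Ideal.span (Set.range f) ^ n from hx) ?_ ?_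
  · intro a ha y hy
    obtain ⟨p, hp, hpy⟩ := (Ideal.mem_span_pow_iff_exists_isHomogeneous f y).1 hy
    exact ⟨C a * p, hp.C_mul a, Ideal.mul_mem_right _ _ (Ideal.mem_map_of_mem _ ha), by
      rw [map_mul, eval_C, hpy, smul_eq_mul]⟩
  · rintro x y ⟨H1, h1, h1', rfl⟩ ⟨H2, h2, h2', rfl⟩
    exact ⟨H1 + H2, h1.add h2, Ideal.add_mem _ h1' h2', map_add _ _ _⟩

theorem rename_mem_map_C {σ τ : Type*} (k : σ → τ) (𝔞 : Ideal A) {G : MvPolynomial σ A}
    (hG : G ∈ 𝔞.map (C : A →+* MvPolynomial σ A)) :
    rename k G ∈ 𝔞.map (C : A →+* MvPolynomial τ A) := by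
  have h1 : (rename k : MvPolynomial σ A →ₐ[A] MvPolynomial τ A).toRingHom G ∈
      Ideal.map (rename k : MvPolynomial σ A →ₐ[A] MvPolynomial τ A).toRingHom
        (𝔞.map (C : A →+* MvPolynomial σ A)) := Ideal.mem_map_of_mem _ hG
  rw [Ideal.map_map] at h1
  have h2 : ((rename k : MvPolynomial σ A →ₐ[A] MvPolynomial τ A).toRingHom).comp
      (C : A →+* MvPolynomial σ A) = C := by
    ext a; simp
  rw [h2] at h1
  exact h1

/-- If `f'` is quasi-regular and `g` is a nonzerodivisor modulo `(f')`, then `g` is a nonzerodivisor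
modulo every power of `(f')`. -/
theorem mem_pow_of_mul_mem_pow {c : ℕ} (f' : Fin c → A) (hq : CAlgX.IsQuasiRegular f') (g : A)
    (hreg : ∀ x, g * x ∈ Ideal.span (Set.range f') → x ∈ Ideal.span (Set.range f')) :
    ∀ (k : ℕ) (x : A), g * x ∈ Ideal.span (Set.range f') ^ k →
      x ∈ Ideal.span (Set.range f') ^ k := by
  intro k
  induction k with
  | zero => intro x _; simp
  | succ k ih =>
    intro x hx
    have hxk : x ∈ Ideal.span (Set.range f') ^ k :=
      ih x (Ideal.pow_le_pow_right (Nat.le_succ k) hx)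
    obtain ⟨P, hP, hPx⟩ := (Ideal.mem_span_pow_iff_exists_isHomogeneous f' x).1 hxk
    have hcoef : ∀ d, coeff d P ∈ Ideal.span (Set.range f') := by
      intro d
      apply hreg
      have h1 := hq k (C g * P) (hP.C_mul g) (by rw [map_mul, eval_C, hPx]; exact hx) d
      rwa [coeff_C_mul] at h1
    have hPm : P ∈ (Ideal.span (Set.range f')).map (C : A →+* MvPolynomial (Fin c) A) := by
      rw [MvPolynomial.mem_map_C_iff]; exact hcoef
    have h2 := eval_mem_mul_pow f' _ k hP hPm
    rw [hPx] at h2
    rw [pow_succ']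
    exact h2

/-- Splitting off the last variable from a homogeneous polynomial. -/
theorem exists_decomp {c : ℕ} (F : MvPolynomial (Fin (c + 1)) A) {n : ℕ}
    (hF : F.IsHomogeneous (n + 1)) :
    ∃ (G : MvPolynomial (Fin c) A) (H : MvPolynomial (Fin (c + 1)) A),
      G.IsHomogeneous (n + 1) ∧ H.IsHomogeneous n ∧
      F = X (Fin.last c) * H + rename Fin.castSucc G := by
  classical
  have hdecomp : X (Fin.last c) * F.divMonomial (Finsupp.single (Fin.last c) 1) +
      F.modMonomial (Finsupp.single (Fin.last c) 1) = F :=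
    divMonomial_add_modMonomial_single F (Fin.last c)
  have hH : (F.divMonomial (Finsupp.single (Fin.last c) 1)).IsHomogeneous n := by
    apply isHomogeneous_of_coeff
    intro d hd
    rw [coeff_divMonomial] at hd
    have h1 := degree_eq_of_coeff_ne_zero hF hd
    rw [map_add, Finsupp.degree_single] at h1
    omega
  have hR : (F.modMonomial (Finsupp.single (Fin.last c) 1)).IsHomogeneous (n + 1) := by
    apply isHomogeneous_of_coeff
    intro d hd
    by_cases hle : Finsupp.single (Fin.last c) 1 ≤ d
    · exact absurd (coeff_modMonomial_of_le F hle) hd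
    · rw [coeff_modMonomial_of_not_le F hle] at hd
      exact degree_eq_of_coeff_ne_zero hF hd
  have hvars : (↑(F.modMonomial (Finsupp.single (Fin.last c) 1)).vars : Set (Fin (c + 1))) ⊆
      Set.range (Fin.castSucc : Fin c → Fin (c + 1)) := by
    intro i hi
    rw [Finset.mem_coe, mem_vars_iff_mem_support] at hi
    obtain ⟨d, hd, hid⟩ := hi
    rw [Set.mem_range, Fin.exists_castSucc_eq]
    rintro rfl
    rw [mem_support_iff] at hd
    apply hd
    apply coeff_modMonomial_of_le
    rw [Finsupp.single_le_iff]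
    exact Nat.one_le_iff_ne_zero.2 (Finsupp.mem_support_iff.1 hid)
  obtain ⟨G, hG⟩ := exists_rename_eq_of_vars_subset_range
    (F.modMonomial (Finsupp.single (Fin.last c) 1)) Fin.castSucc (Fin.castSucc_injective c) hvars
  refine ⟨G, F.divMonomial (Finsupp.single (Fin.last c) 1), ?_, hH, ?_⟩
  · rw [← MvPolynomial.IsHomogeneous.rename_isHomogeneous_iff (Fin.castSucc_injective c), hG]
    exact hR
  · rw [hG]; exact hdecomp.symm

/-- Inductive step: adjoining to a quasi-regular sequence an element which is a nonzerodivisor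
modulo the ideal it generates gives a quasi-regular sequence. -/
theorem isQuasiRegular_succ {c : ℕ} (f : Fin (c + 1) → A) (f' : Fin c → A)
    (hf' : f ∘ Fin.castSucc = f') (hq : CAlgX.IsQuasiRegular f')
    (hreg : ∀ x, f (Fin.last c) * x ∈ Ideal.span (Set.range f') →
      x ∈ Ideal.span (Set.range f')) :
    CAlgX.IsQuasiRegular f := by
  have hJ'J : Ideal.span (Set.range f') ≤ Ideal.span (Set.range f) := by
    refine Ideal.span_mono ?_
    rintro _ ⟨i, rfl⟩
    exact ⟨i.castSucc, by rw [← hf']; rfl⟩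
  have hgJ : f (Fin.last c) ∈ Ideal.span (Set.range f) := Ideal.subset_span ⟨_, rfl⟩
  have key : ∀ (n : ℕ) (F : MvPolynomial (Fin (c + 1)) A), F.IsHomogeneous n →
      eval f F ∈ Ideal.span (Set.range f) ^ (n + 1) →
      F ∈ (Ideal.span (Set.range f)).map (C : A →+* MvPolynomial (Fin (c + 1)) A) := by
    have red : ∀ (n : ℕ), (∀ F : MvPolynomial (Fin (c + 1)) A, F.IsHomogeneous n →
        eval f F = 0 →
        F ∈ (Ideal.span (Set.range f)).map (C : A →+* MvPolynomial (Fin (c + 1)) A)) →
        ∀ F : MvPolynomial (Fin (c + 1)) A, F.IsHomogeneous n →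
        eval f F ∈ Ideal.span (Set.range f) ^ (n + 1) →
        F ∈ (Ideal.span (Set.range f)).map (C : A →+* MvPolynomial (Fin (c + 1)) A) := by
      intro n h0 F hF hev
      rw [pow_succ'] at hev
      obtain ⟨H, hH, hHc, hHe⟩ := exists_homog_of_mem_mul_pow f _ n hev
      have h1 := h0 (F - H) (hF.sub hH) (by rw [map_sub, hHe, sub_self])
      have h2 : F = (F - H) + H := by ring
      rw [h2]
      exact Ideal.add_mem _ h1 hHc
    intro n
    induction n with
    | zero =>
      apply red
      intro F hF hev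
      have htd : F.totalDegree = 0 := (totalDegree_zero_iff_isHomogeneous (p := F)).2 hF
      rw [totalDegree_eq_zero_iff_eq_C] at htd
      have hc0 : coeff 0 F = 0 := by
        rw [htd, eval_C] at hev
        exact hev
      have hF0 : F = 0 := by
        rw [htd, hc0, map_zero]
      rw [hF0]
      exact Ideal.zero_mem _
    | succ n ih =>
      apply red
      intro F hF hev
      obtain ⟨G, H, hG, hH, hdec⟩ := exists_decomp F hF
      have hevF : f (Fin.last c) * eval f H + eval f' G = 0 := by
        have h2 : eval f F = f (Fin.last c) * eval f H + eval f' G := by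
          rw [hdec, map_add, map_mul, eval_X, eval_rename, hf']
        rw [← h2]
        exact hev
      have hG_mem : eval f' G ∈ Ideal.span (Set.range f') ^ (n + 1) :=
        (Ideal.mem_span_pow_iff_exists_isHomogeneous f' _).2 ⟨G, hG, rfl⟩
      have h3 : f (Fin.last c) * eval f H ∈ Ideal.span (Set.range f') ^ (n + 1) := by
        have h3' : f (Fin.last c) * eval f H = - eval f' G := eq_neg_of_add_eq_zero_left hevF
        rw [h3']
        exact neg_mem hG_mem
      have h4 : eval f H ∈ Ideal.span (Set.range f') ^ (n + 1) :=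
        mem_pow_of_mul_mem_pow f' hq _ hreg (n + 1) _ h3
      have hHc : H ∈ (Ideal.span (Set.range f)).map (C : A →+* MvPolynomial (Fin (c + 1)) A) :=
        ih H hH (Ideal.pow_right_mono hJ'J (n + 1) h4)
      obtain ⟨h, hh, hhe⟩ := (Ideal.mem_span_pow_iff_exists_isHomogeneous f' _).1 h4
      have h5 : ∀ d, coeff d (G + C (f (Fin.last c)) * h) ∈ Ideal.span (Set.range f') := by
        apply hq (n + 1) (G + C (f (Fin.last c)) * h) (hG.add (hh.C_mul _))
        have h5' : eval f' (G + C (f (Fin.last c)) * h) = 0 := by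
          rw [map_add, map_mul, eval_C, hhe]
          exact (add_comm _ _).trans hevF
        rw [h5']
        exact Ideal.zero_mem _
      have hGc : G ∈ (Ideal.span (Set.range f)).map (C : A →+* MvPolynomial (Fin c) A) := by
        rw [MvPolynomial.mem_map_C_iff]
        intro d
        have h6 := hJ'J (h5 d)
        rw [coeff_add, coeff_C_mul] at h6
        have h7 : f (Fin.last c) * coeff d h ∈ Ideal.span (Set.range f) :=
          Ideal.mul_mem_right _ _ hgJ
        have h8 : coeff d G = (coeff d G + f (Fin.last c) * coeff d h) -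
            f (Fin.last c) * coeff d h := by ring
        rw [h8]
        exact sub_mem h6 h7
      rw [hdec]
      exact Ideal.add_mem _ (Ideal.mul_mem_left _ _ hHc) (rename_mem_map_C _ _ hGc)
  intro n P hP hmem d
  have h9 := key n P hP hmem
  rw [MvPolynomial.mem_map_C_iff] at h9
  exact h9 d

theorem ofList_ofFn_smul_top {c : ℕ} (f : Fin c → A) :
    (Ideal.ofList (List.ofFn f) • (⊤ : Submodule A A)) = Ideal.span (Set.range f) := by
  have h1 : Ideal.ofList (List.ofFn f) = Ideal.span (Set.range f) := by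
    show Ideal.span {r | r ∈ List.ofFn f} = Ideal.span (Set.range f)
    congr 1
    ext x
    simp only [Set.mem_ofPred_eq, List.mem_ofFn']
  rw [h1]
  exact Ideal.mul_top _

/-- A weakly regular sequence in a ring is quasi-regular. -/
theorem isQuasiRegular_of_isWeaklyRegular : ∀ (c : ℕ) (f : Fin c → A),
    RingTheory.Sequence.IsWeaklyRegular A (List.ofFn f) → CAlgX.IsQuasiRegular f := by
  intro c
  induction c with
  | zero =>
    intro f _ n P hP hmem d
    have hP' : P = C (coeff 0 P) := MvPolynomial.eq_C_of_isEmpty P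
    have hrange : Ideal.span (Set.range f) = ⊥ := by
      rw [Set.range_eq_empty, Ideal.span_empty]
    have hbot : (⊥ : Ideal A) ^ (n + 1) = ⊥ := by
      rw [← Ideal.zero_eq_bot]; exact zero_pow (Nat.succ_ne_zero n)
    rw [hrange] at hmem ⊢
    rw [hbot, Ideal.mem_bot] at hmem
    rw [Ideal.mem_bot]
    have hd : d = 0 := Subsingleton.elim _ _
    rw [hd]
    rw [hP', eval_C] at hmem
    exact hmem
  | succ c ih =>
    intro f hf
    rw [List.ofFn_succ', List.concat_eq_append, RingTheory.Sequence.isWeaklyRegular_append_iff,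
      RingTheory.Sequence.isWeaklyRegular_singleton_iff,
      isSMulRegular_quotient_iff_mem_of_smul_mem, ofList_ofFn_smul_top] at hf
    obtain ⟨hf1, hf2⟩ := hf
    exact isQuasiRegular_succ f (fun i => f i.castSucc) rfl (ih _ hf1) (fun x hx => hf2 x hx)

/-- For a sequence `f` weakly regular on `A ⧸ J`, with `R = (f)`:
`J ∩ R^m ⊆ J R^m + J ∩ R^(m+1)`. -/
theorem inf_pow_le_step (J : Ideal A) {r : ℕ} (f : Fin r → A)
    (hf : RingTheory.Sequence.IsWeaklyRegular (A ⧸ J) (List.ofFn f)) (m : ℕ) :
    J ⊓ Ideal.span (Set.range f) ^ m ≤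
      J * Ideal.span (Set.range f) ^ m ⊔ J ⊓ Ideal.span (Set.range f) ^ (m + 1) := by
  have hfbar : RingTheory.Sequence.IsWeaklyRegular (A ⧸ J)
      (List.ofFn ((algebraMap A (A ⧸ J)) ∘ f)) := by
    rw [← List.map_ofFn]
    exact (RingTheory.Sequence.isWeaklyRegular_map_algebraMap_iff (R := A) (S := A ⧸ J)
      (M := A ⧸ J) (List.ofFn f)).2 hf
  have hq := isQuasiRegular_of_isWeaklyRegular r _ hfbar
  intro x hx
  obtain ⟨hxJ, hxR⟩ := hx
  obtain ⟨P, hP, hPx⟩ := (Ideal.mem_span_pow_iff_exists_isHomogeneous f x).1 hxR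
  have hPbar : (map (algebraMap A (A ⧸ J)) P).IsHomogeneous m := hP.map _
  have hev : eval ((algebraMap A (A ⧸ J)) ∘ f) (map (algebraMap A (A ⧸ J)) P) = 0 := by
    rw [← map_eval', hPx]
    exact Ideal.Quotient.eq_zero_iff_mem.2 hxJ
  have hcoef := hq m (map (algebraMap A (A ⧸ J)) P) hPbar (by rw [hev]; exact Ideal.zero_mem _)
  have hPc : P ∈ (J ⊔ Ideal.span (Set.range f)).map (C : A →+* MvPolynomial (Fin r) A) := by
    rw [MvPolynomial.mem_map_C_iff]
    intro d
    have h1 := hcoef d
    rw [coeff_map, Set.range_comp, ← Ideal.map_span] at h1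
    obtain ⟨b, hb, hbe⟩ := (Ideal.mem_map_iff_of_surjective (algebraMap A (A ⧸ J))
      Ideal.Quotient.mk_surjective).1 h1
    have h2 : coeff d P - b ∈ J := by
      rw [← Ideal.Quotient.eq_zero_iff_mem, map_sub]
      exact sub_eq_zero.2 hbe.symm
    have h3 : coeff d P = (coeff d P - b) + b := by ring
    rw [h3]
    exact Ideal.add_mem _ (Ideal.mem_sup_left h2) (Ideal.mem_sup_right hb)
  have h3 := eval_mem_mul_pow f _ m hP hPc
  rw [hPx, Ideal.sup_mul, ← pow_succ'] at h3
  obtain ⟨a, ha, b, hb, hab⟩ := Submodule.mem_sup.1 h3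
  refine Submodule.mem_sup.2 ⟨a, ha, b, ⟨?_, hb⟩, hab⟩
  have haJ : a ∈ J := Ideal.mul_le_left ha
  have hbx : b = x - a := by rw [← hab]; ring
  rw [hbx]
  exact sub_mem hxJ haJ

end Groth.Agent.H19.QReg
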