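import Mathlib
import Groth.Prelude.Def_LambdaRing
import Groth.Agent.H43.SeriesAdams
import Groth.Agent.H41.LambdaBasic
import Groth.Agent.S3287

/-!
# Adams operations of a λ-ring with positive structure and the splitting property
(helper library, seat helper19)

`adams P j` is additive, natural for extensions, equals `u ↦ u^j` on line elements; with the
splitting property it is a ring homomorphism (`adamsRingHom`) and `ψ^i ψ^j = ψ^{ij}`.
-/

set_option autoImplicit false
universe u

namespace Groth.Agent.H19.Adams

open LambdaRing PowerSeries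

variable {K : Type u} [CommRing K] [LambdaOps K]

/-- `λ_{-t}(x)`. -/
noncomputable def negSeries (x : K) : PowerSeries K := rescale (-1 : K) (lamSeries x)

theorem constantCoeff_negSeries (x : K) : constantCoeff (negSeries x) = 1 := by
  unfold negSeries
  rw [← coeff_zero_eq_constantCoeff_apply, coeff_rescale, pow_zero, one_mul,
    coeff_zero_eq_constantCoeff_apply]
  exact Groth.Agent.H43.constantCoeff_lamSeries x

theorem negSeries_add (x y : K) : negSeries (x + y) = negSeries x * negSeries y := by
  unfold negSeries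
  rw [Groth.Agent.H43.lamSeries_add, map_mul]

theorem adamsSeries_eq (P : PosStructure K) (x : K) :
    adamsSeries P x = C (P.aug x : K) - X * Groth.Agent.H43.ld (negSeries x) := by
  unfold adamsSeries Groth.Agent.H43.ld negSeries
  rw [mul_assoc]

theorem adams_add (P : PosStructure K) (j : ℕ) (x y : K) :
    adams P j (x + y) = adams P j x + adams P j y := by
  unfold adams
  rw [adamsSeries_eq, adamsSeries_eq, adamsSeries_eq, negSeries_add,
    Groth.Agent.H43.ld_mul (constantCoeff_negSeries x) (constantCoeff_negSeries y)]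
  simp only [map_add, map_sub, Int.cast_add, mul_add]
  ring

theorem adams_zero (P : PosStructure K) (j : ℕ) : adams P j (0 : K) = 0 := by
  have h := adams_add P j 0 0
  rw [add_zero] at h
  have h2 : adams P j (0 : K) + adams P j 0 = adams P j 0 + 0 := by
    rw [add_zero]; exact h.symm
  exact add_left_cancel h2

/-- `ψ^j` as an additive map. -/
noncomputable def adamsAddHom (P : PosStructure K) (j : ℕ) : K →+ K where
  toFun := adams P j
  map_zero' := adams_zero P j
  map_add' := adams_add P j

theorem adams_neg (P : PosStructure K) (j : ℕ) (x : K) : adams P j (-x) = - adams P j x :=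
  map_neg (adamsAddHom P j) x

theorem adams_sub (P : PosStructure K) (j : ℕ) (x y : K) :
    adams P j (x - y) = adams P j x - adams P j y :=
  map_sub (adamsAddHom P j) x y

theorem adams_sum (P : PosStructure K) (j : ℕ) {ι : Type*} (s : Finset ι) (a : ι → K) :
    adams P j (∑ i ∈ s, a i) = ∑ i ∈ s, adams P j (a i) :=
  map_sum (adamsAddHom P j) a s

theorem map_negSeries {K' : Type u} [CommRing K'] [LambdaOps K'] (f : K →+* K')
    (hf : IsLambdaHom f) (x : K) : PowerSeries.map f (negSeries x) = negSeries (f x) := by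
  ext n
  unfold negSeries
  rw [coeff_map, coeff_rescale, coeff_rescale, map_mul, map_pow, map_neg, map_one,
    Groth.Agent.H43.coeff_lamSeries, Groth.Agent.H43.coeff_lamSeries, hf n x]

/-- Naturality of the Adams operations for extensions. -/
theorem adams_map {K' : Type u} [CommRing K'] [LambdaOps K'] (P : PosStructure K)
    (P' : PosStructure K') (f : K →+* K') (hf : IsExtension P P' f) (j : ℕ) (x : K) :
    f (adams P j x) = adams P' j (f x) := by
  unfold adams
  rw [adamsSeries_eq, adamsSeries_eq, ← coeff_map, map_sub, map_mul, PowerSeries.map_X,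
    Groth.Agent.H43.map_ld f (constantCoeff_negSeries x), map_negSeries f hf.isLambdaHom,
    PowerSeries.map_C, map_intCast, hf.aug_comp]

theorem IsExtension.comp' {K' K'' : Type u} [CommRing K'] [LambdaOps K'] [CommRing K'']
    [LambdaOps K''] {P : PosStructure K} {P' : PosStructure K'} {P'' : PosStructure K''}
    {f : K →+* K'} {g : K' →+* K''} (hf : IsExtension P P' f) (hg : IsExtension P' P'' g) :
    IsExtension P P'' (g.comp f) where
  isLambdaHom := fun i x => by
    show g (f (LambdaOps.lam i x)) = LambdaOps.lam i (g (f x))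
    rw [hf.isLambdaHom, hg.isLambdaHom]
  injective := by
    rw [RingHom.coe_comp]
    exact hg.injective.comp hf.injective
  aug_comp := fun x => by
    show P''.aug (g (f x)) = P.aug x
    rw [hg.aug_comp, hf.aug_comp]
  pos_subset := fun e he => hg.pos_subset _ (hf.pos_subset e he)

theorem isLine_map {K' : Type u} [CommRing K'] [LambdaOps K'] {P : PosStructure K}
    {P' : PosStructure K'} {f : K →+* K'} (hf : IsExtension P P' f) {u : K} (hu : P.IsLine u) :
    P'.IsLine (f u) :=
  ⟨hf.pos_subset u hu.1, by rw [hf.aug_comp, hu.2]⟩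

theorem isLine_mul (P : PosStructure K) {u v : K} (hu : P.IsLine u) (hv : P.IsLine v) :
    P.IsLine (u * v) :=
  ⟨P.mul_mem u v hu.1 hv.1, by rw [map_mul, hu.2, hv.2, mul_one]⟩

theorem isLine_one (P : PosStructure K) : P.IsLine (1 : K) := by
  refine ⟨?_, map_one _⟩
  have h := P.natCast_mem 1 Nat.one_pos
  rwa [Nat.cast_one] at h

theorem isLine_pow (P : PosStructure K) {u : K} (hu : P.IsLine u) (n : ℕ) : P.IsLine (u ^ n) := by
  induction n with
  | zero => rw [pow_zero]; exact isLine_one P
  | succ n ih => rw [pow_succ]; exact isLine_mul P ih hu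

theorem adams_line (P : PosStructure K) {u : K} (hu : P.IsLine u) (j : ℕ) :
    adams P j u = u ^ j :=
  Groth.Agent.S3287.result K P u hu j

theorem adams_one (P : PosStructure K) (j : ℕ) : adams P j (1 : K) = 1 := by
  rw [adams_line P (isLine_one P), one_pow]

/-- Splitting a positive element, with the line elements indexed by `Fin n`. -/
theorem exists_split (P : PosStructure K) (hK : HasSplitting K P) (e : K) (he : e ∈ P.pos) :
    ∃ (L : PosLambdaRing.{u}) (_ : HasSplitting L.carrier L.posStr) (f : K →+* L.carrier),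
      IsExtension P L.posStr f ∧ ∃ (n : ℕ) (y : Fin n → L.carrier),
        (∀ i, L.posStr.IsLine (y i)) ∧ ∑ i, y i = f e := by
  obtain ⟨C, hKC, hC⟩ := hK
  obtain ⟨L', hL', f, hf, s, hs, hsum⟩ := hC ⟨K, P⟩ hKC e he
  refine ⟨L', ⟨C, hL', hC⟩, f, hf, s.toList.length, fun i => s.toList.get i, ?_, ?_⟩
  · intro i
    apply hs
    rw [← Multiset.mem_toList]
    exact List.get_mem _ _
  · rw [← hsum]
    have h1 : s.sum = s.toList.sum := by
      conv_lhs => rw [← Multiset.coe_toList s]
      rw [Multiset.sum_coe]
    rw [h1, ← List.sum_ofFn, List.ofFn_get]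

theorem aug_sum_lines (P : PosStructure K) {n : ℕ} (y : Fin n → K) (hy : ∀ i, P.IsLine (y i)) :
    P.aug (∑ i, y i) = (n : ℤ) := by
  rw [map_sum, Finset.sum_congr rfl (fun i _ => (hy i).2)]
  simp

theorem lamSeries_sum_lines (P : PosStructure K) {n : ℕ} (y : Fin n → K)
    (hy : ∀ i, P.IsLine (y i)) :
    lamSeries (∑ i, y i) = Groth.Agent.H43.lineProd Finset.univ y := by
  unfold Groth.Agent.H43.lineProd
  have hgen : ∀ s : Finset (Fin n),
      lamSeries (∑ i ∈ s, y i) = ∏ i ∈ s, (1 + C (y i) * X : PowerSeries K) := by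
    intro s
    induction s using Finset.induction_on with
    | empty => simp [Groth.Agent.H43.lamSeries_zero]
    | insert a s ha ih =>
      rw [Finset.sum_insert ha, Finset.prod_insert ha, Groth.Agent.H43.lamSeries_add, ih,
        Groth.Agent.H41.lamSeries_of_isLine P (y a) (hy a)]
  exact hgen Finset.univ

theorem lam_sum_lines (P : PosStructure K) {n : ℕ} (y : Fin n → K) (hy : ∀ i, P.IsLine (y i))
    (k : ℕ) :
    LambdaOps.lam k (∑ i, y i) =
      ∑ t ∈ (Finset.univ : Finset (Fin n)).powersetCard k, ∏ i ∈ t, y i := by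
  rw [← Groth.Agent.H43.coeff_lamSeries, lamSeries_sum_lines P y hy,
    Groth.Agent.H43.coeff_lineProd]

theorem adams_mul_of_lines (P : PosStructure K) (j : ℕ) {n m : ℕ} (y : Fin n → K)
    (z : Fin m → K) (hy : ∀ i, P.IsLine (y i)) (hz : ∀ k, P.IsLine (z k)) :
    adams P j ((∑ i, y i) * (∑ k, z k)) = adams P j (∑ i, y i) * adams P j (∑ k, z k) := by
  rw [Finset.sum_mul_sum, adams_sum, adams_sum, adams_sum, Finset.sum_mul_sum]
  refine Finset.sum_congr rfl fun i _ => ?_
  rw [adams_sum]
  refine Finset.sum_congr rfl fun k _ => ?_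
  rw [adams_line P (isLine_mul P (hy i) (hz k)), adams_line P (hy i), adams_line P (hz k),
    mul_pow]

theorem adams_mul_pos (P : PosStructure K) (hK : HasSplitting K P) (j : ℕ) (e e' : K)
    (he : e ∈ P.pos) (he' : e' ∈ P.pos) :
    adams P j (e * e') = adams P j e * adams P j e' := by
  obtain ⟨L, hL, f, hf, n, y, hy, hysum⟩ := exists_split P hK e he
  obtain ⟨L', _, g, hg, m, z, hz, hzsum⟩ :=
    exists_split L.posStr hL (f e') (hf.pos_subset e' he')
  have hgf := IsExtension.comp' hf hg
  apply hgf.injective
  rw [adams_map P L'.posStr _ hgf, map_mul, map_mul, adams_map P L'.posStr _ hgf,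
    adams_map P L'.posStr _ hgf]
  show adams L'.posStr j (g (f e) * g (f e')) =
    adams L'.posStr j (g (f e)) * adams L'.posStr j (g (f e'))
  rw [← hysum, ← hzsum, map_sum]
  exact adams_mul_of_lines L'.posStr j (fun i => g (y i)) z (fun i => isLine_map hg (hy i)) hz

theorem adams_mul (P : PosStructure K) (hK : HasSplitting K P) (j : ℕ) (x y : K) :
    adams P j (x * y) = adams P j x * adams P j y := by
  obtain ⟨e1, e2, h1, h2, rfl⟩ := P.exists_sub x
  obtain ⟨e3, e4, h3, h4, rfl⟩ := P.exists_sub y
  have hm := adams_mul_pos P hK j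
  have e : (e1 - e2) * (e3 - e4) = e1 * e3 - e1 * e4 - e2 * e3 + e2 * e4 := by ring
  rw [e, adams_add, adams_sub, adams_sub, adams_sub, adams_sub, hm _ _ h1 h3, hm _ _ h1 h4,
    hm _ _ h2 h3, hm _ _ h2 h4]
  ring

/-- With the splitting property, `ψ^j` is a ring homomorphism. -/
noncomputable def adamsRingHom (P : PosStructure K) (hK : HasSplitting K P) (j : ℕ) : K →+* K where
  toFun := adams P j
  map_one' := adams_one P j
  map_mul' := adams_mul P hK j
  map_zero' := adams_zero P j
  map_add' := adams_add P j

theorem adamsRingHom_apply (P : PosStructure K) (hK : HasSplitting K P) (j : ℕ) (x : K) :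
    adamsRingHom P hK j x = adams P j x := rfl

theorem adams_adams (P : PosStructure K) (hK : HasSplitting K P) (i j : ℕ) (x : K) :
    adams P i (adams P j x) = adams P (i * j) x := by
  obtain ⟨e1, e2, h1, h2, rfl⟩ := P.exists_sub x
  have key : ∀ e ∈ P.pos, adams P i (adams P j e) = adams P (i * j) e := by
    intro e he
    obtain ⟨L, _, f, hf, n, y, hy, hysum⟩ := exists_split P hK e he
    apply hf.injective
    rw [adams_map P L.posStr f hf, adams_map P L.posStr f hf, adams_map P L.posStr f hf, ← hysum,
      adams_sum, adams_sum, adams_sum]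
    refine Finset.sum_congr rfl fun t _ => ?_
    rw [adams_line L.posStr (hy t), adams_line L.posStr (isLine_pow L.posStr (hy t) j),
      adams_line L.posStr (hy t), ← pow_mul, mul_comm]
  rw [adams_sub, adams_sub, adams_sub, key e1 h1, key e2 h2]

/-- `∏ (1 - y_i)` as the alternating sum of elementary symmetric functions. -/
theorem prod_one_sub_eq {R : Type*} [CommRing R] {n : ℕ} (y : Fin n → R) :
    ∏ i, (1 - y i) = ∑ k ∈ Finset.range (n + 1),
      (-1 : R) ^ k * ∑ t ∈ (Finset.univ : Finset (Fin n)).powersetCard k, ∏ i ∈ t, y i := by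
  classical
  have h1 : ∏ i, (1 - y i) = ∑ t ∈ (Finset.univ : Finset (Fin n)).powerset, ∏ i ∈ t, (- y i) := by
    rw [← Finset.prod_one_add]
    exact Finset.prod_congr rfl fun i _ => by ring
  rw [h1, Finset.powerset_card_disjiUnion, Finset.sum_disjiUnion, Finset.card_univ,
    Fintype.card_fin]
  refine Finset.sum_congr rfl fun k _ => ?_
  rw [Finset.mul_sum]
  refine Finset.sum_congr rfl fun t ht => ?_
  have h2 : ∀ i, - y i = (-1) * y i := fun i => by ring
  rw [Finset.prod_congr rfl (fun i _ => h2 i), Finset.prod_mul_distrib, Finset.prod_const,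
    (Finset.mem_powersetCard.1 ht).2]

end Groth.Agent.H19.Adams
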