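import Mathlib
import Groth.Agent.H19.Adams
import Groth.Agent.H43.SymmExist
import Groth.Agent.S3289
import Groth.Agent.S3291
import Groth.Agent.S8651

/-!
# Adams operations and the γ-filtration (helper library, seat helper19)

`adams_sub_pow_mem`: for `x ∈ F^n`, `ψ^j x - j^n x ∈ F^(n+1)`.
-/

set_option autoImplicit false
universe u

namespace Groth.Agent.H19.AdamsGamma

open MvPolynomial LambdaRing Groth.Agent.H19.Adams

section Poly

variable {n : ℕ}

/-- All monomials of `p` have degree at least `d`. -/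
def LowDeg (d : ℕ) (p : MvPolynomial (Fin n) ℤ) : Prop :=
  ∀ μ : Fin n →₀ ℕ, μ.degree < d → coeff μ p = 0

theorem lowDeg_zero (d : ℕ) : LowDeg d (0 : MvPolynomial (Fin n) ℤ) := fun μ _ => coeff_zero μ

theorem lowDeg_any (p : MvPolynomial (Fin n) ℤ) : LowDeg 0 p :=
  fun _ h => absurd h (Nat.not_lt_zero _)

theorem LowDeg.add {d : ℕ} {p q : MvPolynomial (Fin n) ℤ} (hp : LowDeg d p) (hq : LowDeg d q) :
    LowDeg d (p + q) := fun μ h => by rw [coeff_add, hp μ h, hq μ h, add_zero]

theorem LowDeg.mul {a b : ℕ} {p q : MvPolynomial (Fin n) ℤ} (hp : LowDeg a p) (hq : LowDeg b q) :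
    LowDeg (a + b) (p * q) := by
  classical
  intro μ hμ
  rw [coeff_mul]
  refine Finset.sum_eq_zero fun x hx => ?_
  have hx := Finset.HasAntidiagonal.mem_antidiagonal.1 hx
  have hdeg : x.1.degree + x.2.degree = μ.degree := by rw [← hx, map_add]
  by_cases h1 : x.1.degree < a
  · rw [hp _ h1, zero_mul]
  · have h2 : x.2.degree < b := by omega
    rw [hq _ h2, mul_zero]

theorem lowDeg_X (i : Fin n) : LowDeg 1 (X i : MvPolynomial (Fin n) ℤ) := by
  intro μ hμ
  have hμ0 : μ = 0 := by
    rw [← Finsupp.degree_eq_zero_iff]; omega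
  rw [hμ0, coeff_zero_X]

theorem lowDeg_sum {ι : Type*} (s : Finset ι) (f : ι → MvPolynomial (Fin n) ℤ) (d : ℕ)
    (h : ∀ i ∈ s, LowDeg d (f i)) : LowDeg d (∑ i ∈ s, f i) := by
  intro μ hμ
  rw [coeff_sum]
  exact Finset.sum_eq_zero fun i hi => h i hi μ hμ

/-- `(1 + X_i)^j - 1`. -/
noncomputable def Apoly (j : ℕ) (i : Fin n) : MvPolynomial (Fin n) ℤ := (1 + X i) ^ j - 1

theorem lowDeg_Apoly (j : ℕ) (i : Fin n) : LowDeg 1 (Apoly j i) := by
  have h : Apoly j i =
      (∑ l ∈ Finset.range j, (1 + X i : MvPolynomial (Fin n) ℤ) ^ l) * X i := by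
    unfold Apoly
    have h0 := geom_sum_mul (1 + X i : MvPolynomial (Fin n) ℤ) j
    rw [← h0]; ring
  rw [h]
  have h1 := (lowDeg_any (∑ l ∈ Finset.range j, (1 + X i : MvPolynomial (Fin n) ℤ) ^ l)).mul
    (lowDeg_X i)
  rwa [Nat.zero_add] at h1

theorem lowDeg_Bpoly (j : ℕ) (i : Fin n) :
    LowDeg 2 (Apoly j i - (j : MvPolynomial (Fin n) ℤ) * X i) := by
  induction j with
  | zero =>
    have h : Apoly 0 i - ((0 : ℕ) : MvPolynomial (Fin n) ℤ) * X i = 0 := by
      unfold Apoly; simp
    rw [h]; exact lowDeg_zero 2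
  | succ j ih =>
    have h : Apoly (j + 1) i - ((j + 1 : ℕ) : MvPolynomial (Fin n) ℤ) * X i =
        (1 + X i) * (Apoly j i - (j : MvPolynomial (Fin n) ℤ) * X i) +
          (j : MvPolynomial (Fin n) ℤ) * (X i * X i) := by
      unfold Apoly; push_cast; ring
    rw [h]
    have h1 : LowDeg 2 ((1 + X i) * (Apoly j i - (j : MvPolynomial (Fin n) ℤ) * X i)) := by
      have h1' := (lowDeg_any (1 + X i : MvPolynomial (Fin n) ℤ)).mul ih
      rwa [Nat.zero_add] at h1'
    have h2 : LowDeg 2 ((j : MvPolynomial (Fin n) ℤ) * (X i * X i)) := by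
      have h2' := (lowDeg_any (j : MvPolynomial (Fin n) ℤ)).mul ((lowDeg_X i).mul (lowDeg_X i))
      exact h2'
    exact h1.add h2

theorem lowDeg_prod (j : ℕ) (T : Finset (Fin n)) :
    LowDeg T.card (∏ i ∈ T, Apoly j i) ∧
    LowDeg T.card (∏ i ∈ T, ((j : MvPolynomial (Fin n) ℤ) * X i)) ∧
    LowDeg (T.card + 1)
      (∏ i ∈ T, Apoly j i - ∏ i ∈ T, ((j : MvPolynomial (Fin n) ℤ) * X i)) := by
  induction T using Finset.induction_on with
  | empty =>
    refine ⟨lowDeg_any _, lowDeg_any _, ?_⟩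
    simp only [Finset.prod_empty, sub_self]
    exact lowDeg_zero _
  | insert a T ha ih =>
    obtain ⟨hU, hV, hUV⟩ := ih
    rw [Finset.card_insert_of_notMem ha, Finset.prod_insert ha, Finset.prod_insert ha]
    have hA := lowDeg_Apoly j a
    have hJX : LowDeg 1 ((j : MvPolynomial (Fin n) ℤ) * X a) := by
      have h0 := (lowDeg_any (j : MvPolynomial (Fin n) ℤ)).mul (lowDeg_X a)
      rwa [Nat.zero_add] at h0
    refine ⟨?_, ?_, ?_⟩
    · have h0 := hA.mul hU
      rwa [Nat.add_comm 1 T.card] at h0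
    · have h0 := hJX.mul hV
      rwa [Nat.add_comm 1 T.card] at h0
    · have h : Apoly j a * ∏ i ∈ T, Apoly j i -
          (j : MvPolynomial (Fin n) ℤ) * X a * ∏ i ∈ T, ((j : MvPolynomial (Fin n) ℤ) * X i) =
          Apoly j a * (∏ i ∈ T, Apoly j i - ∏ i ∈ T, ((j : MvPolynomial (Fin n) ℤ) * X i)) +
          (Apoly j a - (j : MvPolynomial (Fin n) ℤ) * X a) *
            ∏ i ∈ T, ((j : MvPolynomial (Fin n) ℤ) * X i) := by ring
      rw [h]
      have h1 := hA.mul hUV
      have h2 := (lowDeg_Bpoly j a).mul hV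
      have e1 : 1 + (T.card + 1) = T.card + 1 + 1 := by omega
      have e2 : 2 + T.card = T.card + 1 + 1 := by omega
      rw [e1] at h1
      rw [e2] at h2
      exact h1.add h2

/-- `e_k((1+Y)^j - 1) - j^k e_k(Y)`. -/
noncomputable def Spoly (j n k : ℕ) : MvPolynomial (Fin n) ℤ :=
  aeval (Apoly j) (esymm (Fin n) ℤ k) - (j : MvPolynomial (Fin n) ℤ) ^ k * esymm (Fin n) ℤ k

theorem Spoly_eq (j n k : ℕ) :
    Spoly j n k = ∑ t ∈ (Finset.univ : Finset (Fin n)).powersetCard k,
      (∏ i ∈ t, Apoly j i - ∏ i ∈ t, ((j : MvPolynomial (Fin n) ℤ) * X i)) := by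
  unfold Spoly
  rw [Finset.sum_sub_distrib]
  congr 1
  · simp only [esymm, map_sum, map_prod, aeval_X]
  · rw [esymm, Finset.mul_sum]
    refine Finset.sum_congr rfl fun t ht => ?_
    rw [Finset.prod_mul_distrib, Finset.prod_const, (Finset.mem_powersetCard.1 ht).2]

theorem lowDeg_Spoly (j n k : ℕ) : LowDeg (k + 1) (Spoly j n k) := by
  rw [Spoly_eq]
  apply lowDeg_sum
  intro t ht
  have h := (lowDeg_prod j t).2.2
  rwa [(Finset.mem_powersetCard.1 ht).2] at h

theorem Spoly_isSymmetric (j n k : ℕ) : (Spoly j n k).IsSymmetric := by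
  intro e
  unfold Spoly
  rw [map_sub, map_mul, map_pow, map_natCast, rename_esymm, comp_aeval_apply]
  have h : (fun i => rename e (Apoly j i)) = (Apoly j) ∘ e := by
    funext i
    unfold Apoly
    simp only [map_sub, map_pow, map_add, map_one, rename_X, Function.comp]
  rw [h, ← aeval_rename, rename_esymm]

/-- The universal polynomial expressing `Spoly` in the elementary symmetric functions. -/
noncomputable def Qpoly (j n k : ℕ) : MvPolynomial (Fin n) ℤ :=
  (esymmAlgEquiv (Fin n) ℤ (Fintype.card_fin n)).symm ⟨Spoly j n k, Spoly_isSymmetric j n k⟩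

theorem aeval_esymm_Qpoly (j n k : ℕ) :
    aeval (fun i : Fin n => esymm (Fin n) ℤ ((i : ℕ) + 1)) (Qpoly j n k) = Spoly j n k := by
  unfold Qpoly
  rw [← esymmAlgHom_apply, ← esymmAlgEquiv_apply (Fin n) ℤ (Fintype.card_fin n),
    AlgEquiv.apply_symm_apply]

theorem aeval_esymm_injective (n : ℕ) (p : MvPolynomial (Fin n) ℤ)
    (h : aeval (fun i : Fin n => esymm (Fin n) ℤ ((i : ℕ) + 1)) p = 0) : p = 0 := by
  rw [← esymmAlgHom_apply] at h
  have h2 : esymmAlgHom (Fin n) ℤ n p = 0 := Subtype.ext (by rw [h]; rfl)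
  exact (esymmAlgHom_fin_injective ℤ (le_refl n)) (h2.trans (map_zero _).symm)

theorem esymm_isWH_one (n m : ℕ) :
    IsWeightedHomogeneous (fun _ : Fin n => (1 : ℕ)) (esymm (Fin n) ℤ m) m := by
  have h := Groth.Agent.H43.esymm_isWH (R := ℤ) (fun _ : Fin n => (1 : ℕ)) 1 (fun _ => rfl) m
  rwa [smul_eq_mul, mul_one] at h

theorem weight_Qpoly (j n k : ℕ) : ∀ μ ∈ (Qpoly j n k).support,
    k + 1 ≤ Finsupp.weight (fun i : Fin n => (i : ℕ) + 1) μ := by
  classical
  intro μ hμ
  by_contra hlt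
  obtain ⟨d, hd⟩ : ∃ d : ℕ, Finsupp.weight (fun i : Fin n => (i : ℕ) + 1) μ = d := ⟨_, rfl⟩
  rw [hd] at hlt
  have hcomp := Groth.Agent.H43.whComponent_aeval (R := ℤ) (fun i : Fin n => (i : ℕ) + 1)
    (fun _ : Fin n => (1 : ℕ)) (fun i : Fin n => esymm (Fin n) ℤ ((i : ℕ) + 1))
    (fun s => esymm_isWH_one n ((s : ℕ) + 1)) d (Qpoly j n k)
  rw [aeval_esymm_Qpoly] at hcomp
  have hz : weightedHomogeneousComponent (fun _ : Fin n => (1 : ℕ)) d (Spoly j n k) = 0 := by
    ext ν
    rw [coeff_weightedHomogeneousComponent, coeff_zero]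
    split_ifs with hν
    · apply lowDeg_Spoly j n k ν
      have hdeg : ν.degree = d := by rw [Finsupp.degree_eq_weight_one]; exact hν
      omega
    · rfl
  rw [hz] at hcomp
  have h0 := aeval_esymm_injective n _ hcomp.symm
  have h1 := congrArg (coeff μ) h0
  rw [coeff_weightedHomogeneousComponent, if_pos hd, coeff_zero] at h1
  exact (mem_support_iff.1 hμ) h1

end Poly

section Filtration

variable {K : Type u} [CommRing K] [LambdaOps K]

theorem gamma_zero' (x : K) : gamma 0 x = 1 := by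
  unfold gamma; rw [if_pos rfl]

theorem gamma_one' (x : K) : gamma 1 x = x := by
  unfold gamma
  rw [if_neg one_ne_zero]
  simp [Finset.sum_range_succ, LambdaOps.lam_one]

theorem gamma_arg_zero (k : ℕ) (hk : k ≠ 0) : gamma k (0 : K) = 0 := by
  unfold gamma
  rw [if_neg hk]
  refine Finset.sum_eq_zero fun j _ => ?_
  by_cases hj : j = 0
  · rw [if_pos hj, mul_zero]
  · rw [if_neg hj, Groth.Agent.H43.lam_zero_arg, if_neg hj, mul_zero]

theorem map_gamma {K' : Type u} [CommRing K'] [LambdaOps K'] (f : K →+* K')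
    (hf : IsLambdaHom f) (k : ℕ) (x : K) : f (gamma k x) = gamma k (f x) := by
  unfold gamma
  by_cases hk : k = 0
  · rw [if_pos hk, if_pos hk, map_one]
  · rw [if_neg hk, if_neg hk, map_sum]
    refine Finset.sum_congr rfl fun j _ => ?_
    rw [map_mul, map_natCast]
    by_cases hj : j = 0
    · rw [if_pos hj, if_pos hj, map_zero]
    · rw [if_neg hj, if_neg hj, hf j x]

theorem filtration_zero (P : PosStructure K) : gammaFiltration P 0 = ⊤ := by
  unfold gammaFiltration; rw [if_pos rfl]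

theorem gamma_mem (P : PosStructure K) {x : K} (hx : P.aug x = 0) {n r : ℕ} (h : n ≤ r) :
    gamma r x ∈ gammaFiltration P n := by
  unfold gammaFiltration
  split_ifs with hn
  · exact AddSubgroup.mem_top _
  · apply AddSubgroup.subset_closure
    refine ⟨[(r, x)], ?_, ?_, ?_⟩
    · intro p hp
      rw [List.mem_singleton] at hp
      rw [hp]; exact hx
    · simpa using h
    · simp

theorem filtration_antitone (P : PosStructure K) {n N : ℕ} (h : n ≤ N) :
    gammaFiltration P N ≤ gammaFiltration P n := by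
  unfold gammaFiltration
  by_cases hn : n = 0
  · rw [if_pos hn]; exact le_top
  · have hN : N ≠ 0 := by omega
    rw [if_neg hn, if_neg hN]
    apply AddSubgroup.closure_mono
    rintro y ⟨l, h1, h2, h3⟩
    exact ⟨l, h1, h.trans h2, h3⟩

theorem smul_mem (P : PosStructure K) (n : ℕ) (a x : K) (hx : x ∈ gammaFiltration P n) :
    a * x ∈ gammaFiltration P n := (Groth.Agent.S3291.result K P).1 n a x hx

theorem mul_mem (P : PosStructure K) (m n : ℕ) (x y : K) (hx : x ∈ gammaFiltration P m)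
    (hy : y ∈ gammaFiltration P n) : x * y ∈ gammaFiltration P (m + n) :=
  (Groth.Agent.S3291.result K P).2 m n x y hx hy

/-- `z ∈ F^n` and `ψ z ≡ c^n z` modulo `F^(n+1)`. -/
def Good (P : PosStructure K) (ψ : K →+* K) (c : K) (n : ℕ) (z : K) : Prop :=
  z ∈ gammaFiltration P n ∧ ψ z - c ^ n * z ∈ gammaFiltration P (n + 1)

variable {P : PosStructure K} {ψ : K →+* K} {c : K}

theorem Good.psi_mem {n : ℕ} {z : K} (h : Good P ψ c n z) : ψ z ∈ gammaFiltration P n := by
  have h1 : ψ z = (ψ z - c ^ n * z) + c ^ n * z := by ring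
  rw [h1]
  exact (gammaFiltration P n).add_mem (filtration_antitone P (Nat.le_succ n) h.2)
    (smul_mem P n _ _ h.1)

theorem Good.mul {a b : ℕ} {z w : K} (hz : Good P ψ c a z) (hw : Good P ψ c b w) :
    Good P ψ c (a + b) (z * w) := by
  refine ⟨mul_mem P a b z w hz.1 hw.1, ?_⟩
  have h1 : ψ (z * w) - c ^ (a + b) * (z * w) =
      (ψ z - c ^ a * z) * ψ w + (c ^ a * z) * (ψ w - c ^ b * w) := by
    rw [map_mul, pow_add]; ring
  rw [h1]
  apply (gammaFiltration P (a + b + 1)).add_mem
  · have h2 := mul_mem P (a + 1) b _ _ hz.2 hw.psi_mem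
    have e : a + 1 + b = a + b + 1 := by omega
    rwa [e] at h2
  · exact mul_mem P a (b + 1) _ _ (smul_mem P a (c ^ a) z hz.1) hw.2

theorem Good.add {n : ℕ} {z w : K} (hz : Good P ψ c n z) (hw : Good P ψ c n w) :
    Good P ψ c n (z + w) := by
  refine ⟨(gammaFiltration P n).add_mem hz.1 hw.1, ?_⟩
  have h1 : ψ (z + w) - c ^ n * (z + w) = (ψ z - c ^ n * z) + (ψ w - c ^ n * w) := by
    rw [map_add]; ring
  rw [h1]
  exact (gammaFiltration P (n + 1)).add_mem hz.2 hw.2

theorem Good.neg {n : ℕ} {z : K} (hz : Good P ψ c n z) : Good P ψ c n (-z) := by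
  refine ⟨(gammaFiltration P n).neg_mem hz.1, ?_⟩
  have h1 : ψ (-z) - c ^ n * (-z) = -(ψ z - c ^ n * z) := by
    rw [map_neg]; ring
  rw [h1]
  exact (gammaFiltration P (n + 1)).neg_mem hz.2

theorem good_zero (P : PosStructure K) (ψ : K →+* K) (c : K) (n : ℕ) : Good P ψ c n 0 := by
  refine ⟨(gammaFiltration P n).zero_mem, ?_⟩
  rw [map_zero, mul_zero, sub_zero]
  exact (gammaFiltration P (n + 1)).zero_mem

theorem good_one (P : PosStructure K) (ψ : K →+* K) (c : K) : Good P ψ c 0 1 := by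
  refine ⟨by rw [filtration_zero]; exact AddSubgroup.mem_top _, ?_⟩
  rw [map_one, pow_zero, one_mul, sub_self]
  exact (gammaFiltration P (0 + 1)).zero_mem

theorem good_sum {ι : Type*} (s : Finset ι) (f : ι → K) (n : ℕ)
    (h : ∀ i ∈ s, Good P ψ c n (f i)) : Good P ψ c n (∑ i ∈ s, f i) :=
  Finset.sum_induction f (Good P ψ c n) (fun _ _ => Good.add) (good_zero P ψ c n) h

theorem good_gamma_neg (b : K) (hb : ∀ i, Good P ψ c i (gamma i b)) :
    ∀ k, Good P ψ c k (gamma k (-b)) := by
  intro k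
  induction k using Nat.strong_induction_on with
  | _ k ih =>
    rcases Nat.eq_zero_or_pos k with hk | hk
    · subst hk
      rw [gamma_zero']
      exact good_one P ψ c
    · have hsum : ∑ i ∈ Finset.range (k + 1), gamma i b * gamma (k - i) (-b) = 0 := by
        rw [← Groth.Agent.S3289.result K k b (-b), add_neg_cancel, gamma_arg_zero k (by omega)]
      rw [Finset.sum_range_succ', gamma_zero', one_mul, Nat.sub_zero] at hsum
      have h2 : gamma k (-b) =
          - ∑ i ∈ Finset.range k, gamma (i + 1) b * gamma (k - (i + 1)) (-b) :=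
        eq_neg_of_add_eq_zero_right hsum
      rw [h2]
      apply Good.neg
      apply good_sum
      intro i hi
      rw [Finset.mem_range] at hi
      have h3 := (hb (i + 1)).mul (ih (k - (i + 1)) (by omega))
      have e : i + 1 + (k - (i + 1)) = k := by omega
      rw [e] at h3
      exact h3

theorem gamma_pow_mem (P : PosStructure K) {a : K} (ha : P.aug a = 0) (r t : ℕ) :
    gamma r a ^ t ∈ gammaFiltration P (t * r) := by
  induction t with
  | zero =>
    rw [pow_zero, Nat.zero_mul, filtration_zero]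
    exact AddSubgroup.mem_top _
  | succ t ih =>
    rw [pow_succ, Nat.succ_mul]
    exact mul_mem P (t * r) r _ _ ih (gamma_mem P ha le_rfl)

theorem prod_gamma_pow_mem (P : PosStructure K) {a : K} (ha : P.aug a = 0) {n : ℕ}
    (μ : Fin n →₀ ℕ) (s : Finset (Fin n)) :
    ∏ i ∈ s, gamma ((i : ℕ) + 1) a ^ μ i ∈
      gammaFiltration P (∑ i ∈ s, μ i * ((i : ℕ) + 1)) := by
  induction s using Finset.induction_on with
  | empty =>
    rw [Finset.prod_empty, Finset.sum_empty, filtration_zero]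
    exact AddSubgroup.mem_top _
  | insert b s hb ih =>
    rw [Finset.prod_insert hb, Finset.sum_insert hb]
    exact mul_mem P _ _ _ _ (gamma_pow_mem P ha _ _) ih

theorem aeval_gamma_mem (P : PosStructure K) {a : K} (ha : P.aug a = 0) {n : ℕ}
    (Q : MvPolynomial (Fin n) ℤ) (N : ℕ)
    (hQ : ∀ μ ∈ Q.support, N ≤ Finsupp.weight (fun i : Fin n => (i : ℕ) + 1) μ) :
    aeval (fun i : Fin n => gamma ((i : ℕ) + 1) a) Q ∈ gammaFiltration P N := by
  rw [aeval_def, eval₂_eq']
  refine (gammaFiltration P N).sum_mem fun μ hμ => ?_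
  apply smul_mem
  apply filtration_antitone P (hQ μ hμ)
  have hw : Finsupp.weight (fun i : Fin n => (i : ℕ) + 1) μ = ∑ i, μ i * ((i : ℕ) + 1) := by
    rw [Finsupp.weight_apply, Finsupp.sum_fintype _ _ (fun i => by simp)]
    simp only [smul_eq_mul]
  rw [hw]
  exact prod_gamma_pow_mem P ha μ Finset.univ

theorem core_lines (P : PosStructure K) (hK : HasSplitting K P) (j : ℕ) {n : ℕ} (y : Fin n → K)
    (hy : ∀ i, P.IsLine (y i)) (k : ℕ) :
    adams P j (gamma k (∑ i, y i - (n : K))) - (j : K) ^ k * gamma k (∑ i, y i - (n : K)) =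
      aeval (fun i : Fin n => gamma ((i : ℕ) + 1) (∑ i, y i - (n : K))) (Qpoly j n k) := by
  have h1 : ∀ m : ℕ, 2 ≤ m → LambdaOps.lam m (1 : K) = 0 := fun m hm =>
    P.lam_eq_zero 1 (isLine_one P).1 m (by rw [(isLine_one P).2]; exact_mod_cast hm)
  have hyl : ∀ (i : Fin n) (m : ℕ), 2 ≤ m → LambdaOps.lam m (y i) = 0 := fun i m hm =>
    P.lam_eq_zero _ (hy i).1 m (by rw [(hy i).2]; exact_mod_cast hm)
  have hgam : ∀ m : ℕ, gamma m (∑ i, y i - (n : K)) =
      aeval (fun i => y i - 1) (esymm (Fin n) ℤ m) := by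
    intro m
    rw [Groth.Agent.S8651.result K h1 n y hyl m]
    simp only [esymm, map_sum, map_prod, aeval_X]
  have hfun : (fun i : Fin n => gamma ((i : ℕ) + 1) (∑ i, y i - (n : K))) =
      fun i : Fin n => aeval (fun i => y i - 1) (esymm (Fin n) ℤ ((i : ℕ) + 1)) :=
    funext fun i => hgam _
  have hR : aeval (fun i : Fin n => gamma ((i : ℕ) + 1) (∑ i, y i - (n : K))) (Qpoly j n k) =
      aeval (fun i => y i - 1) (Spoly j n k) := by
    rw [hfun, ← comp_aeval_apply, aeval_esymm_Qpoly]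
  have hA : (fun i : Fin n => aeval (fun i => y i - 1) (Apoly j i)) =
      fun i : Fin n => y i ^ j - 1 := by
    funext i
    unfold Apoly
    rw [map_sub, map_pow, map_add, map_one, aeval_X, show (1 : K) + (y i - 1) = y i by ring]
  have hS : aeval (fun i => y i - 1) (Spoly j n k) =
      aeval (fun i => y i ^ j - 1) (esymm (Fin n) ℤ k) -
        (j : K) ^ k * aeval (fun i => y i - 1) (esymm (Fin n) ℤ k) := by
    unfold Spoly
    rw [map_sub, map_mul, map_pow, map_natCast, comp_aeval_apply, hA]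
  have hL : adams P j (gamma k (∑ i, y i - (n : K))) =
      aeval (fun i => y i ^ j - 1) (esymm (Fin n) ℤ k) := by
    rw [hgam k]
    simp only [esymm, map_sum, map_prod, aeval_X]
    have h := map_sum (adamsRingHom P hK j) (fun t => ∏ i ∈ t, (y i - 1))
      ((Finset.univ : Finset (Fin n)).powersetCard k)
    refine h.trans (Finset.sum_congr rfl fun t _ => ?_)
    have h' := map_prod (adamsRingHom P hK j) (fun i => y i - 1) t
    refine h'.trans (Finset.prod_congr rfl fun i _ => ?_)
    show adams P j (y i - 1) = y i ^ j - 1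
    rw [adams_sub, adams_one, adams_line P (hy i)]
  rw [hR, hS, hL, hgam k]

theorem core_pos (P : PosStructure K) (hK : HasSplitting K P) (j : ℕ) (e : K) (he : e ∈ P.pos) :
    ∃ n : ℕ, P.aug e = (n : ℤ) ∧ ∀ k,
      adams P j (gamma k (e - (n : K))) - (j : K) ^ k * gamma k (e - (n : K)) =
        aeval (fun i : Fin n => gamma ((i : ℕ) + 1) (e - (n : K))) (Qpoly j n k) := by
  obtain ⟨L, hL, f, hf, n, y, hy, hysum⟩ := exists_split P hK e he
  have haug : P.aug e = (n : ℤ) := by
    rw [← hf.aug_comp e, ← hysum, aug_sum_lines L.posStr y hy]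
  refine ⟨n, haug, fun k => ?_⟩
  apply hf.injective
  have hfa : f (e - (n : K)) = ∑ i, y i - (n : L.carrier) := by
    rw [map_sub, map_natCast, hysum]
  rw [map_sub, map_mul, map_pow, map_natCast, adams_map P L.posStr f hf,
    map_gamma f hf.isLambdaHom, hfa]
  have h4 : f ((aeval fun i : Fin n => gamma ((i : ℕ) + 1) (e - (n : K))) (Qpoly j n k)) =
      (aeval fun i : Fin n => f (gamma ((i : ℕ) + 1) (e - (n : K)))) (Qpoly j n k) :=
    comp_aeval_apply _ f.toIntAlgHom _
  rw [h4]
  have h5 : (fun i : Fin n => f (gamma ((i : ℕ) + 1) (e - (n : K)))) =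
      fun i : Fin n => gamma ((i : ℕ) + 1) (∑ i, y i - (n : L.carrier)) := by
    funext i
    rw [map_gamma f hf.isLambdaHom, hfa]
  rw [h5]
  exact core_lines L.posStr hL j y hy k

theorem good_gamma_pos (P : PosStructure K) (hK : HasSplitting K P) (j : ℕ) (e : K)
    (he : e ∈ P.pos) :
    ∃ n : ℕ, P.aug e = (n : ℤ) ∧
      ∀ k, Good P (adamsRingHom P hK j) (j : K) k (gamma k (e - (n : K))) := by
  obtain ⟨n, hn, hcore⟩ := core_pos P hK j e he
  have ha : P.aug (e - (n : K)) = 0 := by
    rw [map_sub, hn, map_natCast]; simp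
  refine ⟨n, hn, fun k => ⟨gamma_mem P ha le_rfl, ?_⟩⟩
  show adams P j (gamma k (e - (n : K))) - (j : K) ^ k * gamma k (e - (n : K)) ∈
    gammaFiltration P (k + 1)
  rw [hcore k]
  exact aeval_gamma_mem P ha _ (k + 1) (weight_Qpoly j n k)

theorem good_gamma (P : PosStructure K) (hK : HasSplitting K P) (j : ℕ) (x : K)
    (hx : P.aug x = 0) (r : ℕ) : Good P (adamsRingHom P hK j) (j : K) r (gamma r x) := by
  obtain ⟨e, e', he, he', rfl⟩ := P.exists_sub x
  obtain ⟨n, hn, hgood⟩ := good_gamma_pos P hK j e he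
  obtain ⟨n', hn', hgood'⟩ := good_gamma_pos P hK j e' he'
  have hnn : n = n' := by
    have h0 : P.aug e = P.aug e' := by
      rw [map_sub] at hx; exact sub_eq_zero.1 hx
    rw [hn, hn'] at h0
    exact_mod_cast h0
  subst hnn
  have hxe : e - e' = (e - (n : K)) + -(e' - (n : K)) := by ring
  rw [hxe, Groth.Agent.S3289.result K r]
  apply good_sum
  intro i hi
  rw [Finset.mem_range] at hi
  have h3 := (hgood i).mul (good_gamma_neg _ hgood' (r - i))
  have e1 : i + (r - i) = r := by omega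
  rw [e1] at h3
  exact h3

/-- For `x ∈ F^n`, `ψ^j x - j^n x ∈ F^(n+1)`. -/
theorem adams_sub_pow_mem (P : PosStructure K) (hK : HasSplitting K P) (j n : ℕ) (x : K)
    (hx : x ∈ gammaFiltration P n) :
    adams P j x - (j : K) ^ n * x ∈ gammaFiltration P (n + 1) := by
  have hgen : ∀ (l : List (ℕ × K)), (∀ p ∈ l, P.aug p.2 = 0) →
      Good P (adamsRingHom P hK j) (j : K) (l.map Prod.fst).sum
        ((l.map fun p => gamma p.1 p.2).prod) := by
    intro l
    induction l with
    | nil =>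
      intro _
      simp only [List.map_nil, List.sum_nil, List.prod_nil]
      exact good_one _ _ _
    | cons p l ih =>
      intro h
      simp only [List.map_cons, List.sum_cons, List.prod_cons]
      exact (good_gamma P hK j p.2 (h p List.mem_cons_self) p.1).mul
        (ih fun q hq => h q (List.mem_cons_of_mem _ hq))
  have hfin : ∀ (N : ℕ) (y : K), n ≤ N → Good P (adamsRingHom P hK j) (j : K) N y →
      adams P j y - (j : K) ^ n * y ∈ gammaFiltration P (n + 1) := by
    intro N y hN hg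
    rcases Nat.eq_or_lt_of_le hN with h | h
    · subst h
      exact hg.2
    · have h1 : adams P j y ∈ gammaFiltration P (n + 1) := filtration_antitone P h hg.psi_mem
      have h2 : (j : K) ^ n * y ∈ gammaFiltration P (n + 1) :=
        smul_mem P _ _ _ (filtration_antitone P h hg.1)
      exact (gammaFiltration P (n + 1)).sub_mem h1 h2
  by_cases hn : n = 0
  · subst hn
    rw [pow_zero, one_mul, Nat.zero_add]
    have hy : P.aug (x - ((P.aug x : ℤ) : K)) = 0 := by
      rw [map_sub, map_intCast]; simp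
    have hg := good_gamma P hK j _ hy 1
    rw [gamma_one'] at hg
    have h1 : adams P j (x - ((P.aug x : ℤ) : K)) ∈ gammaFiltration P 1 := hg.psi_mem
    have h2 : adams P j x - x =
        adams P j (x - ((P.aug x : ℤ) : K)) - (x - ((P.aug x : ℤ) : K)) := by
      rw [adams_sub]
      have h3 : adams P j (((P.aug x : ℤ)) : K) = ((P.aug x : ℤ) : K) :=
        map_intCast (adamsRingHom P hK j) _
      rw [h3]; ring
    rw [h2]
    exact (gammaFiltration P 1).sub_mem h1 hg.1
  · have hx' : x ∈ AddSubgroup.closure {y | ∃ (l : List (ℕ × K)), (∀ p ∈ l, P.aug p.2 = 0) ∧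
        n ≤ (l.map Prod.fst).sum ∧ y = (l.map fun p => gamma p.1 p.2).prod} := by
      unfold gammaFiltration at hx
      rwa [if_neg hn] at hx
    refine AddSubgroup.closure_induction
      (p := fun y _ => adams P j y - (j : K) ^ n * y ∈ gammaFiltration P (n + 1)) ?_ ?_ ?_ ?_ hx'
    · rintro y ⟨l, h1, h2, rfl⟩
      exact hfin _ _ h2 (hgen l h1)
    · rw [adams_zero, mul_zero, sub_zero]
      exact (gammaFiltration P (n + 1)).zero_mem
    · intro y z _ _ hy hz
      have h4 : adams P j (y + z) - (j : K) ^ n * (y + z) =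
          (adams P j y - (j : K) ^ n * y) + (adams P j z - (j : K) ^ n * z) := by
        rw [adams_add]; ring
      rw [h4]
      exact (gammaFiltration P (n + 1)).add_mem hy hz
    · intro y _ hy
      have h4 : adams P j (-y) - (j : K) ^ n * (-y) = -(adams P j y - (j : K) ^ n * y) := by
        rw [adams_neg]; ring
      rw [h4]
      exact (gammaFiltration P (n + 1)).neg_mem hy

end Filtration

end Groth.Agent.H19.AdamsGamma
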