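import Mathlib
import Groth.Agent.H46.BD0

/-!
# (QIS) for helper46's S1819 squad (helper19)

The biduality map is a quasi-isomorphism in degree `n` for `X` iff for `Y`, when `X ⟶ Y` is a
quasi-isomorphism and `J` is K-injective.
-/

set_option autoImplicit false
universe u
open CategoryTheory CategoryTheory.Limits HomologicalComplex CochainComplex
open CochainComplex.HomComplex
attribute [local instance] HasDerivedCategory.standard
open Groth.Agent.H33.TensorHom Groth.Agent.H33.Bidual Groth.Agent.H46.BD

namespace Groth.Agent.H19.BD_QIS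

variable {A : Type u} [CommRing A]

/-- (QIS) -/
theorem quasiIsoAt_bidual_iff_of_quasiIso {X Y : DRing.Cx A} (f : X ⟶ Y) [QuasiIso f]
    (J : DRing.Cx A) [J.IsKInjective] (n : ℤ) :
    QuasiIsoAt (bidual X J) n ↔ QuasiIsoAt (bidual Y J) n := by
  have h1 : QuasiIso (homCxPre f J) := Groth.Agent.H33.HomQis.quasiIso_homCxPre f J
  have h2 : QuasiIso (homCxPre (homCxPre f J) J) :=
    Groth.Agent.H33.HomQis.quasiIso_homCxPre (homCxPre f J) J
  rw [← quasiIsoAt_iff_comp_left f (bidual Y J) (i := n), bidual_naturality,
    quasiIsoAt_iff_comp_right]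

end Groth.Agent.H19.BD_QIS
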