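import Mathlib
import Groth.Agent.H33.Bidual

/-!
# (TRUNC) for helper46's S1819 squad (helper19)

The canonical truncation short exact sequence `0 → τ_{≤ t} X → X → X₃ → 0` with its degreewise and
homological properties.
-/

set_option autoImplicit false
universe u
open CategoryTheory CategoryTheory.Limits HomologicalComplex CochainComplex
open CochainComplex.HomComplex
attribute [local instance] HasDerivedCategory.standard
open Groth.Agent.H33.TensorHom Groth.Agent.H33.Bidual

namespace Groth.Agent.H19.BD_TRUNC

section General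

variable {C : Type*} [Category C] [HasZeroMorphisms C] [HasZeroObject C]
  {ι ι' : Type*} {c : ComplexShape ι} {c' : ComplexShape ι'}

set_option backward.isDefEq.respectTransparency false in
theorem isIso_πTruncGE_f (L : HomologicalComplex C c') (e : c.Embedding c') [e.IsTruncGE]
    [∀ i', L.HasHomology i'] {i : ι} {i' : ι'} (hi : e.f i = i') (hb : ¬ e.BoundaryGE i) :
    IsIso ((L.πTruncGE e).f i') := by
  dsimp [HomologicalComplex.πTruncGE]
  rw [e.isIso_liftExtend_f_iff _ _ hi]
  exact L.isIso_restrictionToTruncGE' e i hb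

theorem isIso_ιTruncLE_f (K : HomologicalComplex C c') (e : c.Embedding c') [e.IsTruncLE]
    [∀ i', K.HasHomology i'] {i : ι} {i' : ι'} (hi : e.f i = i') (hb : ¬ e.BoundaryLE i) :
    IsIso ((K.ιTruncLE e).f i') := by
  have := isIso_πTruncGE_f K.op e.op hi (by simpa using hb)
  exact inferInstanceAs (IsIso ((K.op.πTruncGE e.op).f i').unop)

end General

variable {A : Type u} [CommRing A]

/-- (TRUNC) -/
theorem exists_truncLE_ses (X : DRing.Cx A) (t : ℤ) :
    ∃ (X₁ X₃ : DRing.Cx A) (f : X₁ ⟶ X) (g : X ⟶ X₃) (w : f ≫ g = 0),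
      (ShortComplex.mk f g w).ShortExact ∧ (∀ p : ℤ, t < p → IsZero (X₁.X p)) ∧
      (∀ p : ℤ, p < t → IsZero (X₃.X p)) ∧ (∀ i : ℤ, i ≤ t → QuasiIsoAt f i) ∧
      (∀ i : ℤ, i ≤ t → X₃.ExactAt i) ∧ (∀ i : ℤ, t < i → QuasiIsoAt g i) := by
  have hS := CochainComplex.shortComplexTruncLE_shortExact X t
  refine ⟨CochainComplex.truncLE X t, (CochainComplex.shortComplexTruncLE X t).X₃,
    CochainComplex.ιTruncLE X t, (CochainComplex.shortComplexTruncLE X t).g,
    (CochainComplex.shortComplexTruncLE X t).zero, hS, ?_, ?_, ?_, ?_, ?_⟩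
  · intro p hp
    exact CochainComplex.isZero_of_isStrictlyLE (CochainComplex.truncLE X t) t p hp
  · intro p hp
    have hSp := (HomologicalComplex.shortExact_iff_degreewise_shortExact _).mp hS p
    have hiso : IsIso ((CochainComplex.ιTruncLE X t).f p) := by
      apply isIso_ιTruncLE_f X (ComplexShape.embeddingUpIntLE t) (i := (t - p).natAbs)
      · change t - ((t - p).natAbs : ℤ) = p
        omega
      · rw [ComplexShape.boundaryLE_embeddingUpIntLE_iff]
        omega
    exact (hSp.isIso_f_iff).mp hiso
  · intro i hi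
    exact CochainComplex.quasiIsoAt_ιTruncLE X t i hi
  · intro i hi
    have h := (HomologicalComplex.shortComplexTruncLE_X₃_isSupportedOutside X
      (ComplexShape.embeddingUpIntLE t)).exactAt (t - i).natAbs
    have he : (ComplexShape.embeddingUpIntLE t).f (t - i).natAbs = i := by
      change t - ((t - i).natAbs : ℤ) = i
      omega
    rw [he] at h
    exact h
  · intro i hi
    apply HomologicalComplex.quasiIsoAt_shortComplexTruncLE_g X (ComplexShape.embeddingUpIntLE t) i
    intro k hk
    change t - (k : ℤ) = i at hk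
    omega

end Groth.Agent.H19.BD_TRUNC
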