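import Mathlib
import Groth.Agent.H46.BD0
import Groth.Agent.H19.BD_TRUNC
import Groth.Agent.H19.BD_QIS

/-!
# (IND), hypothesis-style on (TWO), for helper46's S1819 squad (helper19)

Biduality for bounded complexes with finite cohomology from the case of a single finite module,
by induction on the amplitude (canonical truncation + two-out-of-three).
-/

set_option autoImplicit false
universe u
open CategoryTheory CategoryTheory.Limits HomologicalComplex CochainComplex
open CochainComplex.HomComplex
attribute [local instance] HasDerivedCategory.standard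
open Groth.Agent.H33.TensorHom Groth.Agent.H33.Bidual Groth.Agent.H46.BD

namespace Groth.Agent.H19.BD_IND

variable {A : Type u} [CommRing A]

/-- A complex strictly concentrated in one degree with finite homology there. -/
theorem quasiIso_bidual_of_single (J : DRing.Cx A) [J.IsKInjective]
    (hsingle : ∀ (N : Type u) [AddCommGroup N] [Module A N] [Module.Finite A N] (t : ℤ),
      QuasiIso (bidual ((HomologicalComplex.single (ModuleCat.{u} A) (ComplexShape.up ℤ) t).obj
        (ModuleCat.of A N)) J))
    (X : DRing.Cx A) (s : ℤ) [X.IsStrictlyGE s] [X.IsStrictlyLE s]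
    (hfin : Module.Finite A (X.homology s)) : QuasiIso (bidual X J) := by
  obtain ⟨M, ⟨e⟩⟩ := CochainComplex.exists_iso_single X s
  have eh : X.homology s ≅ M :=
    (HomologicalComplex.homologyFunctor _ _ s).mapIso e ≪≫
      HomologicalComplex.singleObjHomologySelfIso _ s M
  have : Module.Finite A M := Module.Finite.equiv eh.toLinearEquiv
  have h := hsingle M s
  rw [quasiIso_iff] at h ⊢
  intro n
  exact (Groth.Agent.H19.BD_QIS.quasiIsoAt_bidual_iff_of_quasiIso e.hom J n).mpr (h n)

/-- (IND), with (TWO) as a hypothesis. -/
theorem quasiIso_bidual_of_bounded_core [IsNoetherianRing A] (J : DRing.Cx A) [J.IsKInjective]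
    (hTwo : ∀ S : ShortComplex (DRing.Cx A), S.ShortExact → QuasiIso (bidual S.X₁ J) →
      QuasiIso (bidual S.X₃ J) → QuasiIso (bidual S.X₂ J))
    (hsingle : ∀ (N : Type u) [AddCommGroup N] [Module A N] [Module.Finite A N] (t : ℤ),
      QuasiIso (bidual ((HomologicalComplex.single (ModuleCat.{u} A) (ComplexShape.up ℤ) t).obj
        (ModuleCat.of A N)) J))
    (k : ℕ) : ∀ (X : DRing.Cx A) (s : ℤ)
      (_ : ∀ p : ℤ, p < s ∨ s + k < p → IsZero (X.X p))
      (_ : ∀ i : ℤ, Module.Finite A (X.homology i)), QuasiIso (bidual X J) := by
  induction k with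
  | zero =>
    intro X s hX hfin
    have : X.IsStrictlyGE s := by
      rw [isStrictlyGE_iff]; intro i hi; exact hX i (Or.inl hi)
    have : X.IsStrictlyLE s := by
      rw [isStrictlyLE_iff]; intro i hi; exact hX i (Or.inr (by simpa using hi))
    exact quasiIso_bidual_of_single J hsingle X s (hfin s)
  | succ k ih =>
    intro X s hX hfin
    obtain ⟨X₁, X₃, f, g, w, hS, h1, h3, hqf, hex3, hqg⟩ :=
      Groth.Agent.H19.BD_TRUNC.exists_truncLE_ses X (s + k)
    have hSp := fun p => (HomologicalComplex.shortExact_iff_degreewise_shortExact _).mp hS p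
    have hq1 : QuasiIso (bidual X₁ J) := by
      apply ih X₁ s
      · rintro p (hp | hp)
        · have : Mono (f.f p) := (hSp p).mono_f
          exact IsZero.of_mono (f.f p) (hX p (Or.inl hp))
        · exact h1 p hp
      · intro i
        by_cases hi : i ≤ s + k
        · have := hqf i hi
          have := hfin i
          exact Module.Finite.equiv (isoOfQuasiIsoAt f i).symm.toLinearEquiv
        · have hz : IsZero (X₁.homology i) := by
            rw [← exactAt_iff_isZero_homology]
            exact ShortComplex.exact_of_isZero_X₂ _ (h1 i (by omega))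
          have := ModuleCat.subsingleton_of_isZero hz
          infer_instance
    have hq3 : QuasiIso (bidual X₃ J) := by
      have hGE : X₃.IsGE (s + k + 1) := by
        rw [isGE_iff]; intro i hi; exact hex3 i (by omega)
      have : X₃.IsStrictlyLE (s + k + 1) := by
        rw [isStrictlyLE_iff]; intro i hi
        have : Epi (g.f i) := (hSp i).epi_g
        exact IsZero.of_epi (g.f i) (hX i (Or.inr (by push_cast; omega)))
      have hfin3 : Module.Finite A ((X₃.truncGE (s + k + 1)).homology (s + k + 1)) := by
        have := hqg (s + k + 1) (by omega)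
        have := hfin (s + k + 1)
        exact Module.Finite.equiv ((isoOfQuasiIsoAt g (s + k + 1)) ≪≫
          (isoOfQuasiIsoAt (X₃.πTruncGE (s + k + 1)) (s + k + 1))).toLinearEquiv
      have h := quasiIso_bidual_of_single J hsingle (X₃.truncGE (s + k + 1)) (s + k + 1) hfin3
      rw [quasiIso_iff] at h ⊢
      intro n
      exact (Groth.Agent.H19.BD_QIS.quasiIsoAt_bidual_iff_of_quasiIso
        (X₃.πTruncGE (s + k + 1)) J n).mpr (h n)
    exact hTwo (ShortComplex.mk f g w) hS hq1 hq3

end Groth.Agent.H19.BD_IND
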