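import Mathlib
import Groth.Agent.H46.BD0
import Groth.Agent.H89.BD_TWO
import Groth.Agent.H19.BD_INDcore

/-!
# (IND), exact statement, for helper46's S1819 squad (helper19)
-/

set_option autoImplicit false
universe u
open CategoryTheory CategoryTheory.Limits HomologicalComplex CochainComplex
open CochainComplex.HomComplex
attribute [local instance] HasDerivedCategory.standard
open Groth.Agent.H33.TensorHom Groth.Agent.H33.Bidual Groth.Agent.H46.BD

namespace Groth.Agent.H19.BD_IND

variable {A : Type u} [CommRing A]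

/-- (IND) -/
theorem quasiIso_bidual_of_bounded [IsNoetherianRing A] (J : DRing.Cx A) [J.IsKInjective]
    (hJ : ∀ q, Injective (J.X q))
    (hsingle : ∀ (N : Type u) [AddCommGroup N] [Module A N] [Module.Finite A N] (t : ℤ),
      QuasiIso (bidual ((HomologicalComplex.single (ModuleCat.{u} A) (ComplexShape.up ℤ) t).obj
        (ModuleCat.of A N)) J))
    (k : ℕ) (X : DRing.Cx A) (s : ℤ) (hX : ∀ p : ℤ, p < s ∨ s + k < p → IsZero (X.X p))
    (hfin : ∀ i : ℤ, Module.Finite A (X.homology i)) : QuasiIso (bidual X J) :=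
  quasiIso_bidual_of_bounded_core J
    (fun S hS h₁ h₃ => Groth.Agent.H89.BD_TWO.quasiIso_bidual_X₂ S hS J hJ h₁ h₃)
    hsingle k X s hX hfin

end Groth.Agent.H19.BD_IND
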