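import Groth.Agent.H53.ClosedImmHom

/-!
# Closed immersions: `ι_* ι^! ℋom(ι_* E, N) ⟶ ℋom(ι_* E, N)` is an isomorphism
(helper19, requested by helper53 as (K2)/(R1) for S11920/21/22)
-/

set_option autoImplicit false
set_option backward.isDefEq.respectTransparency false
universe u
open CategoryTheory CategoryTheory.Limits Opposite TopologicalSpace AlgebraicGeometry

namespace Groth.Agent.H19.CICounit

open Groth.Agent.H31 Groth.Agent.H31.Stalk Groth.Agent.H31.Mate Groth.Agent.H31.PullTensor
  Groth.Agent.H31.ProjCI Groth.Agent.H53.ClosedImmHom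

variable {X P : Scheme.{u}} (ι : X ⟶ P) [IsClosedImmersion ι]

section General

universe v₁ v₂ u₁ u₂

variable {C : Type u₁} [Category.{v₁} C] {D : Type u₂} [Category.{v₂} D]

/-- If `F ⊣ G` and `F.map η` is an isomorphism, precomposition with `η` is bijective on
`Hom(-, G N)`. -/
theorem bijective_precomp_of_isIso_map {F : C ⥤ D} {G : D ⥤ C} (adj : F ⊣ G) {A B : C}
    (η : A ⟶ B) [IsIso (F.map η)] (N : D) :
    Function.Bijective (fun x : B ⟶ G.obj N => η ≫ x) := by
  have hnat : ∀ x : B ⟶ G.obj N,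
      η ≫ x = adj.homEquiv A N (F.map η ≫ (adj.homEquiv B N).symm x) := by
    intro x
    rw [adj.homEquiv_naturality_left, Equiv.apply_symm_apply]
  constructor
  · intro x y hxy
    simp only at hxy
    rw [hnat x, hnat y] at hxy
    have h4 := (adj.homEquiv A N).injective hxy
    have h5 : (adj.homEquiv B N).symm x = (adj.homEquiv B N).symm y := by
      have := congrArg (inv (F.map η) ≫ ·) h4
      simpa using this
    exact (adj.homEquiv B N).symm.injective h5
  · intro z
    refine ⟨adj.homEquiv B N (inv (F.map η) ≫ (adj.homEquiv A N).symm z), ?_⟩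
    simp only
    rw [hnat, Equiv.symm_apply_apply, IsIso.hom_inv_id_assoc, Equiv.apply_symm_apply]

/-- For adjunctions `L ⊣ R ⊣ S`: if precomposition with the unit of `L ⊣ R` is bijective on
`Hom(-, H)`, the counit of `R ⊣ S` at `H` is an isomorphism. -/
theorem isIso_counit_of_bijective {L : C ⥤ D} {R : D ⥤ C} {S : C ⥤ D} (adj1 : L ⊣ R)
    (adj2 : R ⊣ S) (H : C)
    (h : ∀ A : C, Function.Bijective (fun x : R.obj (L.obj A) ⟶ H => adj1.unit.app A ≫ x)) :
    IsIso (adj2.counit.app H) := by
  rw [isIso_iff_yoneda_map_bijective]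
  intro A
  have hrel : ∀ g2 : R.obj (L.obj A) ⟶ H,
      (adj1.homEquiv _ _ (adj2.homEquiv _ _ g2)) ≫ adj2.counit.app H = adj1.unit.app A ≫ g2 := by
    intro g2
    rw [Adjunction.homEquiv_unit, Adjunction.homEquiv_unit, Functor.map_comp, Category.assoc,
      Category.assoc]
    have e1 : R.map (S.map g2) ≫ adj2.counit.app H = adj2.counit.app _ ≫ g2 :=
      adj2.counit_naturality g2
    rw [e1, ← Category.assoc (R.map _), adj2.left_triangle_components, Category.id_comp]
  constructor
  · intro x y hxy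
    simp only at hxy
    obtain ⟨x1, rfl⟩ := (adj1.homEquiv _ _).surjective x
    obtain ⟨y1, rfl⟩ := (adj1.homEquiv _ _).surjective y
    obtain ⟨x2, rfl⟩ := (adj2.homEquiv _ _).surjective x1
    obtain ⟨y2, rfl⟩ := (adj2.homEquiv _ _).surjective y1
    rw [hrel, hrel] at hxy
    rw [(h A).1 hxy]
  · intro z
    obtain ⟨g2, hg2⟩ := (h A).2 z
    exact ⟨adj1.homEquiv _ _ (adj2.homEquiv _ _ g2), (hrel g2).trans hg2⟩

end General

/-- (K2) `η_A ⊗ ι_* E` is an isomorphism. -/
theorem isIso_unit_tensor (E : ModSite.Mod (shX X)) (A : ModSite.Mod (shX P)) :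
    IsIso (((ModSite.tensorBi (shX P)).flip.obj ((ps ι).obj E)).map ((ad ι).unit.app A)) := by
  have h1 := pfCI_natural ι ((ad ι).unit.app A) (𝟙 E)
  rw [CategoryTheory.Functor.map_id, bimap_id_right', bimap_id_right'] at h1
  haveI hpb : IsIso ((pb ι).map ((ad ι).unit.app A)) := by
    have h2 := (ad ι).left_triangle_components A
    haveI : IsIso ((ad ι).counit.app ((pb ι).obj A)) := isIso_counit ι _
    haveI : IsIso ((pb ι).map ((ad ι).unit.app A) ≫ (ad ι).counit.app ((pb ι).obj A)) := by
      rw [h2]; infer_instance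
    exact IsIso.of_isIso_comp_right _ ((ad ι).counit.app ((pb ι).obj A))
  have h3 := (Iso.eq_comp_inv (pfCI ι _ E)).mpr h1
  show IsIso (((ModSite.tensorBi (shX P)).map ((ad ι).unit.app A)).app ((ps ι).obj E))
  rw [h3]
  infer_instance

/-- (R1) `ι_* ι^! ℋom(ι_* E, N) ⟶ ℋom(ι_* E, N)` is an isomorphism. -/
theorem isIso_shAdj_counit_sheafHom (E : ModSite.Mod (shX X)) (N : ModSite.Mod (shX P)) :
    IsIso ((shAdj ι).counit.app ((ModSite.sheafHom ((ps ι).obj E)).obj N)) := by
  refine isIso_counit_of_bijective (ad ι) (shAdj ι) _ (fun A => ?_)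
  have := isIso_unit_tensor ι E A
  exact bijective_precomp_of_isIso_map (ModSite.sheafHomAdj ((ps ι).obj E))
    ((ad ι).unit.app A) N

end Groth.Agent.H19.CICounit
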