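import Mathlib
import Groth.Agent.H71.CMQuot
import Groth.Agent.H29.CM

/-! A scheme locally of finite type over an Artinian ring has a closed point with CM local ring. -/

set_option autoImplicit false
set_option linter.style.haveILetI false
universe u
open AlgebraicGeometry CategoryTheory

namespace Groth.Agent.H19.CMPoint

/-- A zero-dimensional Noetherian local ring is Cohen–Macaulay. -/
theorem isCM_of_dim_zero (R : Type u) [CommRing R] [IsLocalRing R] [IsNoetherianRing R]
    (h : ringKrullDim R = 0) : LocCoh.IsCohenMacaulayLocalRing R := by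
  refine ⟨?_⟩
  have h1 : Module.supportDim R R = 0 := by rw [Module.supportDim_self_eq_ringKrullDim, h]
  have h2 := Groth.Agent.H29.CM.depth_le_supportDim (A := R) (M := R)
  rw [h1] at h2 ⊢
  have h3 : LocCoh.depth R R = 0 := by
    have h4 : ((LocCoh.depth R R : ℕ∞) : WithBot ℕ∞) ≤ ((0 : ℕ∞) : WithBot ℕ∞) := h2
    exact le_antisymm (WithBot.coe_le_coe.mp h4) zero_le
  rw [h3]
  rfl

theorem exists_max_CM_aux (B₀ : Type u) [CommRing B₀] [IsNoetherianRing B₀] [IsJacobsonRing B₀]
    (I : Ideal B₀) :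
    ∀ (C : Type u) [CommRing C] (φ : B₀ →+* C), Function.Surjective φ →
      RingHom.ker φ = I → Nontrivial C →
      ∃ (m : Ideal C) (hm : m.IsMaximal),
        @LocCoh.IsCohenMacaulayLocalRing (@Localization.AtPrime C _ m hm.isPrime) _ := by
  refine IsNoetherian.induction (P := fun I : Ideal B₀ =>
    ∀ (C : Type u) [CommRing C] (φ : B₀ →+* C), Function.Surjective φ →
      RingHom.ker φ = I → Nontrivial C →
      ∃ (m : Ideal C) (hm : m.IsMaximal),
        @LocCoh.IsCohenMacaulayLocalRing (@Localization.AtPrime C _ m hm.isPrime) _) ?_ I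
  intro I IH C _ φ hφ hker hnt
  haveI : IsNoetherianRing C := isNoetherianRing_of_surjective B₀ C φ hφ
  haveI : IsJacobsonRing C := isJacobsonRing_of_surjective ⟨φ, hφ⟩
  have hfin := associatedPrimes.finite C C
  by_cases hA : ∃ m : Ideal C, m.IsMaximal ∧ m ∉ associatedPrimes C C
  · obtain ⟨m, hm, hmA⟩ := hA
    obtain ⟨f, hfm, hf⟩ : ∃ f ∈ m, ∀ p ∈ associatedPrimes C C, f ∉ p := by
      by_contra hcon
      push Not at hcon
      have hsub : (m : Set C) ⊆ ⋃ p ∈ (↑hfin.toFinset : Set (Ideal C)), ((id p : Ideal C) : Set C) := by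
        intro f hf
        obtain ⟨p, hp, hfp⟩ := hcon f hf
        exact Set.mem_iUnion₂.mpr ⟨p, Finset.mem_coe.mpr (hfin.mem_toFinset.mpr hp), hfp⟩
      obtain ⟨p, hp, hmp⟩ := (Ideal.subset_union_prime (⊥ : Ideal C) ⊥
        (fun i hi _ _ => (hfin.mem_toFinset.mp hi).isPrime)).mp hsub
      have hp' := hfin.mem_toFinset.mp hp
      have : m = p := hm.eq_of_le hp'.isPrime.ne_top hmp
      exact hmA (this ▸ hp')
    have hreg : IsSMulRegular C f := by
      by_contra h
      have h1 : f ∈ ⋃ p ∈ associatedPrimes C C, (p : Set C) := by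
        rw [biUnion_associatedPrimes_eq_compl_regular]
        exact h
      obtain ⟨p, hp, hfp⟩ := Set.mem_iUnion₂.mp h1
      exact hf p hp hfp
    have hnzd : f ∈ nonZeroDivisors C := by
      rw [mem_nonZeroDivisors_iff_right]
      intro x hx
      apply hreg
      change f * x = f * 0
      rw [mul_zero, mul_comm, hx]
    have hf0 : f ≠ 0 := by
      rintro rfl
      obtain ⟨p, hp⟩ := associatedPrimes.nonempty C C
      exact hf p hp p.zero_mem
    have hne : Ideal.span {f} ≠ ⊤ := by
      intro h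
      apply hm.ne_top
      rw [eq_top_iff, ← h]
      exact (Ideal.span_singleton_le_iff_mem _).mpr hfm
    haveI : Nontrivial (C ⧸ Ideal.span {f}) := Ideal.Quotient.nontrivial_iff.mpr hne
    let φ' : B₀ →+* C ⧸ Ideal.span {f} := (Ideal.Quotient.mk _).comp φ
    have hφ' : Function.Surjective φ' := Ideal.Quotient.mk_surjective.comp hφ
    have hlt : I < RingHom.ker φ' := by
      rw [← hker, SetLike.lt_iff_le_and_exists]
      refine ⟨fun x hx => ?_, ?_⟩
      · rw [RingHom.mem_ker] at hx ⊢
        change Ideal.Quotient.mk _ (φ x) = 0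
        rw [hx, map_zero]
      · obtain ⟨b, hb⟩ := hφ f
        refine ⟨b, ?_, ?_⟩
        · rw [RingHom.mem_ker]
          change Ideal.Quotient.mk _ (φ b) = 0
          rw [hb]
          exact Ideal.Quotient.eq_zero_iff_mem.mpr (Ideal.mem_span_singleton_self f)
        · rw [RingHom.mem_ker, hb]
          exact hf0
    obtain ⟨m', hm', hCM⟩ := IH _ hlt (C ⧸ Ideal.span {f}) φ' hφ' rfl inferInstance
    haveI := hm'
    have hP : (m'.comap (Ideal.Quotient.mk (Ideal.span {f}))).IsMaximal :=
      Ideal.comap_isMaximal_of_surjective _ Ideal.Quotient.mk_surjective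
    refine ⟨m'.comap (Ideal.Quotient.mk (Ideal.span {f})), hP, ?_⟩
    haveI := hm'.isPrime
    haveI := hP.isPrime
    exact (Groth.Agent.H71.CMQuot.isCM_atPrime_iff_of_surjective (Ideal.Quotient.mk _)
      Ideal.Quotient.mk_surjective f hnzd Ideal.mk_ker m' _ rfl).mpr hCM
  · push Not at hA
    obtain ⟨m, hm⟩ := Ideal.exists_maximal C
    refine ⟨m, hm, ?_⟩
    haveI := hm.isPrime
    apply isCM_of_dim_zero
    rw [IsLocalization.AtPrime.ringKrullDim_eq_height m (Localization.AtPrime m)]
    have hmin : m ∈ minimalPrimes C := by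
      refine ⟨⟨hm.isPrime, bot_le⟩, fun q hq hqm => ?_⟩
      have hqp : q.IsPrime := hq.1
      let S : Set (Ideal C) := {J | q ≤ J ∧ J.IsMaximal}
      have hS : S.Finite := hfin.subset (fun J hJ => hA J hJ.2)
      have hjac : q.jacobson = q := IsJacobsonRing.out inferInstance hqp.isRadical
      have hle : hS.toFinset.inf id ≤ q := by
        rw [Finset.inf_id_eq_sInf, Set.Finite.coe_toFinset]
        exact hjac.le
      obtain ⟨J, hJ, hJq⟩ := (Ideal.IsPrime.inf_le' hqp).mp hle
      have hJS : J ∈ S := hS.mem_toFinset.mp hJ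
      have hJm : J = m := hJS.2.eq_of_le hm.ne_top (hJq.trans hqm)
      rw [← hJm]
      exact hJq
    rw [Ideal.height_eq_zero_iff.mpr hmin]
    rfl

theorem exists_max_CM (B : Type u) [CommRing B] [IsNoetherianRing B] [IsJacobsonRing B]
    [Nontrivial B] :
    ∃ (m : Ideal B) (hm : m.IsMaximal),
      @LocCoh.IsCohenMacaulayLocalRing (@Localization.AtPrime B _ m hm.isPrime) _ :=
  exists_max_CM_aux B ⊥ B (RingHom.id B) Function.surjective_id
    ((RingHom.injective_iff_ker_eq_bot _).mp Function.injective_id) inferInstance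

theorem main (A : Type u) [CommRing A] [IsArtinianRing A] (X : Scheme.{u})
    (f : X ⟶ Spec (CommRingCat.of A)) [LocallyOfFiniteType f] [Nonempty X] :
    ∃ x : X, IsClosed ({x} : Set X) ∧ LocCoh.IsCohenMacaulayLocalRing (X.presheaf.stalk x) := by
  haveI : JacobsonSpace X := LocallyOfFiniteType.jacobsonSpace f
  obtain ⟨x₀⟩ := ‹Nonempty X›
  obtain ⟨U, hU, hx₀U⟩ : ∃ U : X.Opens, IsAffineOpen U ∧ x₀ ∈ U := by
    obtain ⟨_, ⟨U, hU, rfl⟩, hxU, -⟩ :=
      (X.isBasis_affineOpens).exists_subset_of_mem_open (Set.mem_univ x₀) isOpen_univ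
    exact ⟨U, hU, hxU⟩
  have hft := f.finiteType_appLE (isAffineOpen_top (Spec (CommRingCat.of A))) hU le_top
  have hft2 : ((f.appLE ⊤ U le_top).hom.comp
      (Scheme.ΓSpecIso (CommRingCat.of A)).inv.hom).FiniteType :=
    hft.comp (RingHom.FiniteType.of_surjective _
      (ConcreteCategory.bijective_of_isIso (Scheme.ΓSpecIso (CommRingCat.of A)).inv).2)
  letI : Algebra A Γ(X, U) := ((f.appLE ⊤ U le_top).hom.comp
      (Scheme.ΓSpecIso (CommRingCat.of A)).inv.hom).toAlgebra
  haveI : Algebra.FiniteType A Γ(X, U) := hft2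
  haveI : IsNoetherianRing Γ(X, U) := Algebra.FiniteType.isNoetherianRing A Γ(X, U)
  haveI : IsJacobsonRing Γ(X, U) := isJacobsonRing_of_finiteType (A := A)
  haveI : Nontrivial Γ(X, U) := by
    let y := hU.primeIdealOf ⟨x₀, hx₀U⟩
    refine ⟨⟨0, 1, fun h => y.2.ne_top ?_⟩⟩
    exact (Ideal.eq_top_iff_one _).mpr (h ▸ y.asIdeal.zero_mem)
  obtain ⟨m, hm, hCM⟩ := exists_max_CM Γ(X, U)
  let y : PrimeSpectrum Γ(X, U) := ⟨m, hm.isPrime⟩
  have hy : hU.fromSpec y ∈ U := by
    have : hU.fromSpec y ∈ Set.range hU.fromSpec := Set.mem_range_self y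
    rw [hU.range_fromSpec] at this
    exact this
  refine ⟨hU.fromSpec y, ?_, ?_⟩
  · have hcl : IsClosed ({y} : Set (PrimeSpectrum Γ(X, U))) :=
      (PrimeSpectrum.isClosed_singleton_iff_isMaximal y).mpr hm
    have hemb : Topology.IsOpenEmbedding hU.fromSpec := hU.fromSpec.isOpenEmbedding
    have h1 := hcl.isLocallyClosed.image hemb.isInducing hemb.isOpen_range.isLocallyClosed
    have h2 : IsLocallyClosed ({hU.fromSpec y} : Set X) := by
      convert h1 using 1
      exact Set.image_singleton.symm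
    exact isClosed_singleton_of_isLocallyClosed_singleton h2
  · letI := TopCat.Presheaf.algebra_section_stalk X.presheaf ⟨hU.fromSpec y, hy⟩
    haveI := hm.isPrime
    haveI hloc : IsLocalization.AtPrime (X.presheaf.stalk (hU.fromSpec y)) m :=
      hU.isLocalization_stalk' y hy
    let e : X.presheaf.stalk (hU.fromSpec y) ≃+* Localization.AtPrime m :=
      (IsLocalization.algEquiv m.primeCompl (X.presheaf.stalk (hU.fromSpec y))
        (Localization.AtPrime m)).toRingEquiv
    exact Groth.Agent.H71.StalkLoc.isCM_of_ringEquiv e hCM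

end Groth.Agent.H19.CMPoint
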