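import Mathlib

/-! The residue field of a closed point of a scheme locally of finite type over an algebraically
closed field `k` is (isomorphic to) `k`, hence separably closed. -/

set_option autoImplicit false
set_option linter.style.haveILetI false
set_option linter.unusedSectionVars false
universe u
open AlgebraicGeometry CategoryTheory TopologicalSpace Opposite

namespace Groth.Agent.H19.ClosedPtRes

theorem isMaximal_primeIdealOf {X : Scheme.{u}} {U : X.Opens} (hU : IsAffineOpen U) (p : X)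
    (hpU : p ∈ U) (hp : IsClosed ({p} : Set X)) :
    (hU.primeIdealOf ⟨p, hpU⟩).asIdeal.IsMaximal := by
  rw [← PrimeSpectrum.isClosed_singleton_iff_isMaximal]
  have hcont : Continuous hU.fromSpec := hU.fromSpec.continuous
  have : ({hU.primeIdealOf ⟨p, hpU⟩} : Set (PrimeSpectrum Γ(X, U))) = hU.fromSpec ⁻¹' {p} := by
    ext y
    simp only [Set.mem_singleton_iff, Set.mem_preimage]
    constructor
    · rintro rfl
      exact hU.fromSpec_primeIdealOf ⟨p, hpU⟩
    · intro h
      apply hU.fromSpec.isOpenEmbedding.injective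
      rw [h]
      exact (hU.fromSpec_primeIdealOf ⟨p, hpU⟩).symm
  rw [this]
  exact hp.preimage hcont

theorem isSepClosed_residueField {k : Type u} [Field k] [IsAlgClosed k] {X : Scheme.{u}}
    (f : X ⟶ Spec (CommRingCat.of k)) [LocallyOfFiniteType f] (p : X)
    (hp : IsClosed ({p} : Set X)) :
    IsSepClosed (IsLocalRing.ResidueField (X.presheaf.stalk p)) := by
  obtain ⟨_, ⟨U, hU, rfl⟩, hpU, -⟩ :=
    X.isBasis_affineOpens.exists_subset_of_mem_open (Set.mem_univ p) isOpen_univ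
  have hU : IsAffineOpen U := hU
  let φ₀ : k →+* Γ(X, U) :=
    (f.appLE ⊤ U le_top).hom.comp (Scheme.ΓSpecIso (CommRingCat.of k)).inv.hom
  have hft : φ₀.FiniteType := by
    refine RingHom.FiniteType.comp (f.finiteType_appLE (isAffineOpen_top _) hU le_top) ?_
    exact RingHom.FiniteType.of_surjective _
      (ConcreteCategory.bijective_of_isIso (Scheme.ΓSpecIso (CommRingCat.of k)).inv).2
  letI : Algebra k Γ(X, U) := φ₀.toAlgebra
  haveI : Algebra.FiniteType k Γ(X, U) := hft
  haveI hmax := isMaximal_primeIdealOf hU p hpU hp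
  letI : Algebra Γ(X, U) (X.presheaf.stalk p) := (X.presheaf.germ U p hpU).hom.toAlgebra
  haveI : IsLocalization.AtPrime (X.presheaf.stalk p) (hU.primeIdealOf ⟨p, hpU⟩).asIdeal :=
    hU.isLocalization_stalk ⟨p, hpU⟩
  let e1 : Γ(X, U) ⧸ (hU.primeIdealOf ⟨p, hpU⟩).asIdeal ≃+*
      X.presheaf.stalk p ⧸ IsLocalRing.maximalIdeal (X.presheaf.stalk p) :=
    IsLocalization.AtPrime.equivQuotMaximalIdeal (hU.primeIdealOf ⟨p, hpU⟩).asIdeal
      (X.presheaf.stalk p)
  letI : Field (Γ(X, U) ⧸ (hU.primeIdealOf ⟨p, hpU⟩).asIdeal) :=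
    Ideal.Quotient.field (hU.primeIdealOf ⟨p, hpU⟩).asIdeal
  haveI : Algebra.FiniteType k (Γ(X, U) ⧸ (hU.primeIdealOf ⟨p, hpU⟩).asIdeal) :=
    Algebra.FiniteType.of_surjective
      (Ideal.Quotient.mkₐ k (hU.primeIdealOf ⟨p, hpU⟩).asIdeal)
      (Ideal.Quotient.mkₐ_surjective k _)
  haveI : Module.Finite k (Γ(X, U) ⧸ (hU.primeIdealOf ⟨p, hpU⟩).asIdeal) :=
    finite_of_finite_type_of_isJacobsonRing k _
  haveI : Algebra.IsIntegral k (Γ(X, U) ⧸ (hU.primeIdealOf ⟨p, hpU⟩).asIdeal) :=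
    Algebra.IsIntegral.of_finite k _
  have hbij : Function.Bijective
      (algebraMap k (Γ(X, U) ⧸ (hU.primeIdealOf ⟨p, hpU⟩).asIdeal)) :=
    IsAlgClosed.algebraMap_bijective_of_isIntegral
  let e0 : k ≃+* Γ(X, U) ⧸ (hU.primeIdealOf ⟨p, hpU⟩).asIdeal := RingEquiv.ofBijective _ hbij
  haveI : IsAlgClosed (IsLocalRing.ResidueField (X.presheaf.stalk p)) :=
    IsAlgClosed.of_ringEquiv k _ (e0.trans e1)
  infer_instance

end Groth.Agent.H19.ClosedPtRes
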