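import Mathlib
import Groth.Prelude.Def_CurvBase

/-!
# Local ring of a smooth curve at a point with separable residue field (S6555)
-/

set_option autoImplicit false
set_option linter.style.haveILetI false
universe u
open AlgebraicGeometry CategoryTheory IsLocalRing KaehlerDifferential TensorProduct

namespace Groth.Agent.H19.CurveStalk

/-- Ring-level statement: `B` a Noetherian local `k`-algebra, formally smooth over `k`, with
residue field separable over `k` and `Ω[B⁄k]` free of rank one on `ω`; then `d s` is a basis of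
`Ω[B⁄k]` for every irreducible `s`. -/
theorem ring_main' {k B : Type u} [Field k] [CommRing B] [IsLocalRing B] [Algebra k B]
    [IsNoetherianRing B] [Algebra.FormallySmooth k B]
    [Algebra.IsSeparable k (ResidueField B)]
    (ω : Ω[B⁄k]) (hω : Submodule.span B {ω} = ⊤) (hfree : ∀ b : B, b • ω = 0 → b = 0)
    (s : B) (hs : Irreducible s) :
    Function.Bijective (fun a : B => a • D k B s) := by
  haveI : Algebra.FormallyEtale k (ResidueField B) := Algebra.FormallyEtale.of_isSeparable _ _
  haveI : Algebra.FormallySmooth k (ResidueField B) := inferInstance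
  haveI : Algebra.FormallyUnramified k (ResidueField B) := inferInstance
  have hsurjBK : Function.Surjective (algebraMap B (ResidueField B)) := residue_surjective
  have hinj : Function.Injective (kerCotangentToTensor k B (ResidueField B)) :=
    (Algebra.FormallySmooth.kerCotangentToTensor_injective_iff hsurjBK).mpr inferInstance
  have hex := exact_kerCotangentToTensor_mapBaseChange k B (ResidueField B) hsurjBK
  have hsurj : Function.Surjective (kerCotangentToTensor k B (ResidueField B)) := fun z =>
    (hex z).mp (Subsingleton.elim _ _)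
  have hI : RingHom.ker (algebraMap B (ResidueField B)) = maximalIdeal B := by
    rw [ResidueField.algebraMap_eq]; exact ker_residue
  -- coefficient map
  have hspan : ∀ y : Ω[B⁄k], ∃ c : B, c • ω = y := fun y =>
    Submodule.mem_span_singleton.mp (hω ▸ Submodule.mem_top)
  let eΩ : B ≃ₗ[B] Ω[B⁄k] := LinearEquiv.ofBijective (LinearMap.toSpanSingleton B _ ω)
    ⟨by
      rw [injective_iff_map_eq_zero]
      intro b hb
      exact hfree b (by simpa using hb),
     fun y => by obtain ⟨c, hc⟩ := hspan y; exact ⟨c, by simpa using hc⟩⟩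
  let ψ : (ResidueField B) ⊗[B] Ω[B⁄k] ≃ₗ[B] ResidueField B :=
    (TensorProduct.congr (LinearEquiv.refl B (ResidueField B)) eΩ.symm).trans
      (TensorProduct.rid B (ResidueField B))
  have hψ : ∀ z : Ω[B⁄k], ψ ((1 : ResidueField B) ⊗ₜ z) = residue B (eΩ.symm z) := by
    intro z
    simp only [ψ, LinearEquiv.trans_apply, TensorProduct.congr_tmul, LinearEquiv.refl_apply,
      TensorProduct.rid_tmul]
    rw [Algebra.smul_def, mul_one]; rfl
  have heΩ : ∀ b : B, eΩ b = b • ω := fun b => rfl
  have heω : eΩ.symm ω = 1 := by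
    rw [LinearEquiv.symm_apply_eq, heΩ, one_smul]
  -- (a) injectivity in elementary form
  have ha : ∀ y ∈ maximalIdeal B, eΩ.symm (D k B y) ∈ maximalIdeal B → y ∈ maximalIdeal B ^ 2 := by
    intro y hy hDy
    have hy' : y ∈ RingHom.ker (algebraMap B (ResidueField B)) := hI ▸ hy
    have h0 : kerCotangentToTensor k B (ResidueField B) (Ideal.toCotangent _ ⟨y, hy'⟩) = 0 := by
      rw [kerCotangentToTensor_toCotangent]
      apply ψ.injective
      rw [hψ, map_zero]
      exact (residue_eq_zero_iff _).mpr hDy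
    have h1 := hinj (h0.trans (map_zero _).symm)
    rw [Ideal.toCotangent_eq_zero] at h1
    rw [← hI]; exact h1
  -- (b) a uniformiser
  obtain ⟨t, ht, hDt⟩ : ∃ t ∈ maximalIdeal B, eΩ.symm (D k B t) - 1 ∈ maximalIdeal B := by
    obtain ⟨c, hc⟩ := hsurj ((1 : ResidueField B) ⊗ₜ ω)
    obtain ⟨⟨t, ht⟩, rfl⟩ := Ideal.toCotangent_surjective _ c
    rw [kerCotangentToTensor_toCotangent] at hc
    refine ⟨t, hI ▸ ht, ?_⟩
    have := congrArg ψ hc
    rw [hψ, hψ, heω] at this
    rw [← residue_eq_zero_iff, map_sub, this, map_one, sub_self]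
  -- (c) the maximal ideal is generated by t
  have hmt : maximalIdeal B = Ideal.span {t} := by
    apply le_antisymm
    · apply Submodule.le_of_le_smul_of_le_jacobson_bot (I := maximalIdeal B)
        (IsNoetherian.noetherian _) (maximalIdeal_le_jacobson ⊥)
      intro y hy
      set c := eΩ.symm (D k B y) with hc
      have h1 : y - c * t ∈ maximalIdeal B ^ 2 := by
        apply ha _ (Ideal.sub_mem _ hy (Ideal.mul_mem_left _ _ ht))
        rw [map_sub, Derivation.leibniz, map_sub, map_add, map_smul, map_smul, ← hc]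
        have : c - (c • eΩ.symm (D k B t) + t • eΩ.symm (D k B c)) =
            -(c * (eΩ.symm (D k B t) - 1)) - t * eΩ.symm (D k B c) := by
          simp only [smul_eq_mul]; ring
        rw [this]
        exact Ideal.sub_mem _ (Ideal.neg_mem_iff _ |>.mpr (Ideal.mul_mem_left _ _ hDt))
          (Ideal.mul_mem_right _ _ ht)
      rw [smul_eq_mul, ← pow_two]
      have : y = c * t + (y - c * t) := by ring
      rw [this]
      exact Submodule.add_mem_sup (Ideal.mem_span_singleton'.mpr ⟨c, rfl⟩) h1
    · rw [Ideal.span_le]; simpa using ht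
  -- (d) s = t * unit
  have hsm : s ∈ maximalIdeal B := hs.not_isUnit
  rw [hmt, Ideal.mem_span_singleton'] at hsm
  obtain ⟨u, hu⟩ := hsm
  have htnu : ¬ IsUnit t := ht
  have huu : IsUnit u := (hs.isUnit_or_isUnit hu.symm).resolve_right htnu
  -- (e) coefficient of d s is a unit
  have hv : IsUnit (eΩ.symm (D k B s)) := by
    rw [← hu, Derivation.leibniz, map_add, map_smul, map_smul, smul_eq_mul, smul_eq_mul]
    by_contra hnu
    have hmem : u * eΩ.symm (D k B t) + t * eΩ.symm (D k B u) ∈ maximalIdeal B := hnu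
    have h3 : u * eΩ.symm (D k B t) ∈ maximalIdeal B := by
      have := Ideal.sub_mem _ hmem (Ideal.mul_mem_right (eΩ.symm (D k B u)) _ ht)
      simpa using this
    have h4 : u * 1 ∈ maximalIdeal B := by
      have := Ideal.sub_mem _ h3 (Ideal.mul_mem_left _ u hDt)
      have h5 : u * eΩ.symm (D k B t) - u * (eΩ.symm (D k B t) - 1) = u * 1 := by ring
      rwa [h5] at this
    rw [mul_one] at h4
    exact h4 huu
  have hDs : D k B s = eΩ.symm (D k B s) • ω := by
    have := eΩ.apply_symm_apply (D k B s)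
    rw [heΩ] at this
    exact this.symm
  have hfun : (fun a : B => a • D k B s) = fun a => eΩ (a * eΩ.symm (D k B s)) := by
    funext a
    conv_lhs => rw [hDs]
    rw [heΩ, mul_smul]
  rw [hfun]
  exact eΩ.bijective.comp (hv.unit.mulRight_bijective)


/-- Version with an arbitrary compatible algebra structure on the residue field. -/
theorem ring_main {k B : Type u} [Field k] [CommRing B] [IsLocalRing B] [Algebra k B]
    [IsNoetherianRing B] [Algebra.FormallySmooth k B]
    (algkK : Algebra k (ResidueField B))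
    (hkK : ∀ c : k, @algebraMap k (ResidueField B) _ _ algkK c = residue B (algebraMap k B c))
    (hsep : @Algebra.IsSeparable k (ResidueField B) _ _ algkK)
    (ω : Ω[B⁄k]) (hω : Submodule.span B {ω} = ⊤) (hfree : ∀ b : B, b • ω = 0 → b = 0)
    (s : B) (hs : Irreducible s) :
    Function.Bijective (fun a : B => a • D k B s) := by
  have e1 : algkK = ResidueField.algebra B := Algebra.algebra_ext _ _ (fun c => by
    rw [hkK]; rfl)
  subst e1
  exact ring_main' ω hω hfree s hs

/-- A standard smooth chart of relative dimension one around a point near which the structure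
morphism is smooth of relative dimension one. -/
theorem exists_chart {k : Type u} [Field k] {X : Scheme.{u}} (g : X ⟶ Spec (CommRingCat.of k))
    (x : X) (hsm : ∃ U : X.Opens, x ∈ U ∧ SmoothOfRelativeDimension 1 (U.ι ≫ g)) :
    ∃ (V : X.Opens) (_ : IsAffineOpen V) (_ : x ∈ V) (e : V ≤ g ⁻¹ᵁ ⊤),
      RingHom.IsStandardSmoothOfRelativeDimension 1 (g.appLE ⊤ V e).hom := by
  obtain ⟨U, hxU, hU⟩ := hsm
  obtain ⟨W, hW, V', hV', hxV', e', hs⟩ :=
    SmoothOfRelativeDimension.exists_isStandardSmoothOfRelativeDimension (n := 1)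
      (f := U.ι ≫ g) ⟨x, hxU⟩
  haveI : Subsingleton (Spec (CommRingCat.of k)) :=
    inferInstanceAs (Subsingleton (PrimeSpectrum k))
  have hWtop : W = ⊤ := by
    ext y
    simp only [TopologicalSpace.Opens.coe_top, Set.mem_univ, iff_true, SetLike.mem_coe]
    rw [Subsingleton.elim y ((U.ι ≫ g) ⟨x, hxU⟩)]
    exact e' hxV'
  subst hWtop
  have hle : V' ≤ U.ι ⁻¹ᵁ (U.ι ''ᵁ V') := (U.ι.preimage_image_eq V').ge
  refine ⟨U.ι ''ᵁ V', hV'.image_of_isOpenImmersion U.ι, ⟨⟨x, hxU⟩, hxV', rfl⟩,
    fun _ _ => trivial, ?_⟩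
  have h2 : g.appLE ⊤ (U.ι ''ᵁ V') (fun _ _ => trivial) ≫ U.ι.appLE (U.ι ''ᵁ V') V' hle =
      (U.ι ≫ g).appLE ⊤ V' e' := Scheme.Hom.appLE_comp_appLE _ _ _ _ _ _ _
  haveI : IsIso (U.ι.appLE (U.ι ''ᵁ V') V' hle) := by
    rw [← Scheme.Hom.appIso_hom']
    infer_instance
  rw [← h2] at hs
  exact (RingHom.isStandardSmoothOfRelativeDimension_respectsIso.cancel_right_isIso _ _).mp hs

set_option maxHeartbeats 800000 in
/-- Stalk-level facts at a point near which `X → Spec k` is smooth of relative dimension one. -/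
theorem stalk_facts {k : Type u} [Field k] {X : Scheme.{u}} (g : X ⟶ Spec (CommRingCat.of k))
    (x : X) (hsm : ∃ U : X.Opens, x ∈ U ∧ SmoothOfRelativeDimension 1 (U.ι ≫ g)) :
    letI : Algebra k (X.presheaf.stalk x) :=
      ((X.presheaf.germ ⊤ x trivial).hom.comp (Coh.toGlobal g)).toAlgebra
    Algebra.FormallySmooth k (X.presheaf.stalk x) ∧
      IsNoetherianRing (X.presheaf.stalk x) ∧
      ∃ ω : Ω[X.presheaf.stalk x⁄k], Submodule.span (X.presheaf.stalk x) {ω} = ⊤ ∧
        ∀ b : X.presheaf.stalk x, b • ω = 0 → b = 0 := by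
  classical
  obtain ⟨V, hV, hxV, e, hs⟩ := exists_chart g x hsm
  letI algR : Algebra k Γ(X, V) :=
    ((g.appLE ⊤ V e).hom.comp (Scheme.ΓSpecIso (CommRingCat.of k)).inv.hom).toAlgebra
  haveI hss : Algebra.IsStandardSmoothOfRelativeDimension 1 k Γ(X, V) := by
    have := RingHom.isStandardSmoothOfRelativeDimension_respectsIso.2 (g.appLE ⊤ V e).hom
      (Scheme.ΓSpecIso (CommRingCat.of k)).symm.commRingCatIsoToRingEquiv hs
    exact this
  letI algB : Algebra k (X.presheaf.stalk x) :=
      ((X.presheaf.germ ⊤ x trivial).hom.comp (Coh.toGlobal g)).toAlgebra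
  letI algRB : Algebra Γ(X, V) (X.presheaf.stalk x) :=
    TopCat.Presheaf.algebra_section_stalk X.presheaf ⟨x, hxV⟩
  haveI : IsScalarTower k Γ(X, V) (X.presheaf.stalk x) := by
    refine IsScalarTower.of_algebraMap_eq' ?_
    ext c
    simp only [RingHom.algebraMap_toAlgebra, RingHom.comp_apply, Coh.toGlobal]
    change _ = (X.presheaf.germ V x hxV).hom _
    unfold Scheme.Hom.appLE
    simp only [CommRingCat.hom_comp, RingHom.comp_apply]
    erw [TopCat.Presheaf.germ_res_apply]
    rfl
  haveI hloc := hV.isLocalization_stalk ⟨x, hxV⟩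
  haveI : Algebra.FormallySmooth Γ(X, V) (X.presheaf.stalk x) :=
    Algebra.FormallySmooth.of_isLocalization (hV.primeIdealOf ⟨x, hxV⟩).asIdeal.primeCompl
  haveI : Algebra.IsStandardSmooth k Γ(X, V) :=
    Algebra.IsStandardSmoothOfRelativeDimension.isStandardSmooth 1
  haveI : Algebra.FinitePresentation k Γ(X, V) := inferInstance
  haveI : Algebra.FormallySmooth k Γ(X, V) := inferInstance
  haveI : IsNoetherianRing Γ(X, V) := Algebra.FiniteType.isNoetherianRing k _
  refine ⟨Algebra.FormallySmooth.comp k Γ(X, V) _,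
    IsLocalization.isNoetherianRing (hV.primeIdealOf ⟨x, hxV⟩).asIdeal.primeCompl _ inferInstance,
    ?_⟩
  obtain ⟨ι', σ, _, _, P, e⟩ :=
    Algebra.IsStandardSmoothOfRelativeDimension.out (R := k) (S := Γ(X, V)) (n := 1)
  have hcard : Nat.card ((Set.range P.map)ᶜ : Set ι') = 1 := by
    rw [Nat.card_coe_set_eq, Set.ncard_compl, Set.ncard_range_of_injective P.map_inj, ← e,
      Algebra.Presentation.dimension]
  obtain ⟨i₀, hi₀⟩ := Nat.card_eq_one_iff_exists.mp hcard
  let b' := P.basisKaehler.ofIsLocalizedModule (X.presheaf.stalk x)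
    (hV.primeIdealOf ⟨x, hxV⟩).asIdeal.primeCompl
    (KaehlerDifferential.map k k Γ(X, V) (X.presheaf.stalk x))
  refine ⟨b' i₀, ?_, ?_⟩
  · rw [eq_top_iff, ← b'.span_eq]
    apply Submodule.span_mono
    rintro _ ⟨i, rfl⟩
    rw [hi₀ i]
    exact Set.mem_singleton _
  · intro c hc
    have := congrArg (fun z => b'.repr z i₀) hc
    simpa using this

attribute [local instance] Curv2.resAlgebra Curv2.stalkAlgebra in
/-- Statement of S6555. -/
theorem main (k : Type u) [Field k] (X : Scheme.{u}) [X.Over (Spec (CommRingCat.of k))]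
    (x : X)
    (hsm : ∃ U : X.Opens, x ∈ U ∧
      SmoothOfRelativeDimension 1 (U.ι ≫ (X ↘ (Spec (CommRingCat.of k)))))
    (hsep : Algebra.IsSeparable k (X.residueField x))
    (s : X.presheaf.stalk x) (hs : Irreducible s) :
    Function.Bijective
      (fun a : X.presheaf.stalk x => a • KaehlerDifferential.D k (X.presheaf.stalk x) s) := by
  obtain ⟨hfs, hnoe, ω, hω, hfree⟩ := stalk_facts (X ↘ Spec (CommRingCat.of k)) x hsm
  haveI : Algebra.FormallySmooth k (X.presheaf.stalk x) := hfs
  haveI : IsNoetherianRing (X.presheaf.stalk x) := hnoe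
  exact ring_main (k := k) (B := X.presheaf.stalk x) (Curv2.resAlgebra k X x) (fun c => rfl) hsep
    ω hω hfree s hs

end Groth.Agent.H19.CurveStalk
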