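import Groth.Agent.S18887
import Mathlib.RingTheory.Localization.NormTrace
import Mathlib.RingTheory.Flat.LocallyFree
import Mathlib.RingTheory.LocalProperties.Projective
import Mathlib.Algebra.Module.LocalizedModule.IsLocalization
import Mathlib.RingTheory.RingHom.Flat
import Mathlib.RingTheory.RingHom.Finite

/-!
# Ring-level theory of double covers: the trace involution `b ↦ tr(b) - b`
-/

set_option autoImplicit false
set_option linter.style.haveILetI false
universe u

namespace Groth.Agent.H19.DblRing

open Module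

section R1

variable {A B : Type u} [CommRing A] [CommRing B] [Algebra A B]

theorem tr_alg [Module.Free A B] [Module.Finite A B]
    (hrk : Module.finrank A B = 2) (a : A) :
    Algebra.trace A B (algebraMap A B a) = 2 * a := by
  have := Groth.Agent.S18887.nontriv_of_finrank hrk
  rw [Algebra.trace_algebraMap, hrk, two_mul, two_nsmul]

theorem tr_mul_aux (h2 : IsUnit (2 : A)) [Module.Free A B] [Module.Finite A B]
    (hrk : Module.finrank A B = 2) (b c : B) :
    algebraMap A B (Algebra.trace A B (b * c)) - b * c =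
      (algebraMap A B (Algebra.trace A B b) - b) * (algebraMap A B (Algebra.trace A B c) - c) := by
  obtain ⟨u, hu⟩ := h2
  have htr_alg := tr_alg (A := A) (B := B) hrk
  have htr_smul : ∀ (a : A) (b : B),
      Algebra.trace A B (algebraMap A B a * b) = a * Algebra.trace A B b := by
    intro a b
    rw [← Algebra.smul_def, map_smul, smul_eq_mul]
  have hCH := Groth.Agent.S18887.ch2 (A := A) (B := B) hrk
  have hcancel : ∀ a a' : A, 2 * a = 2 * a' → a = a' := by
    intro a a' h
    rw [← hu] at h
    exact u.isUnit.mul_left_cancel h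
  obtain ⟨cb, hb⟩ := hCH b
  obtain ⟨cc, hc⟩ := hCH c
  obtain ⟨cbc, hbc⟩ := hCH (b + c)
  have hx : algebraMap A B (Algebra.trace A B b) * c + algebraMap A B (Algebra.trace A B c) * b
      - 2 * (b * c) = algebraMap A B (cb + cc - cbc) := by
    simp only [map_add, map_sub] at hbc ⊢
    linear_combination hb + hc - hbc
  have ht := congrArg (Algebra.trace A B) hx
  rw [map_sub, map_add, htr_smul, htr_smul, htr_alg] at ht
  have ht2 : Algebra.trace A B (2 * (b * c)) = 2 * Algebra.trace A B (b * c) := by
    rw [two_mul, map_add, two_mul]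
  rw [ht2] at ht
  have hval : cb + cc - cbc =
      Algebra.trace A B b * Algebra.trace A B c - Algebra.trace A B (b * c) := by
    apply hcancel
    linear_combination -ht
  rw [hval] at hx
  simp only [map_sub, map_mul] at hx
  linear_combination hx

theorem exists_invol (h2 : IsUnit (2 : A)) [Module.Free A B] [Module.Finite A B]
    (hrk : Module.finrank A B = 2) :
    ∃ σ : B →+* B, (∀ b, σ b = algebraMap A B (Algebra.trace A B b) - b) ∧
      (∀ b, σ (σ b) = b) ∧ (∀ a, σ (algebraMap A B a) = algebraMap A B a) ∧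
      Function.Injective (algebraMap A B) ∧
      ∀ b, σ b = b ↔ b ∈ Set.range (algebraMap A B) := by
  have htr_alg := tr_alg (A := A) (B := B) hrk
  have hmul := tr_mul_aux (A := A) (B := B) h2 hrk
  obtain ⟨u, hu⟩ := h2
  have hcancel : ∀ a a' : A, 2 * a = 2 * a' → a = a' := by
    intro a a' h
    rw [← hu] at h
    exact u.isUnit.mul_left_cancel h
  have hcancelB : ∀ b b' : B, 2 * b = 2 * b' → b = b' := by
    intro b b' h
    have h2B : IsUnit (2 : B) := by
      have := u.isUnit.map (algebraMap A B)
      rwa [hu, map_ofNat] at this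
    exact h2B.mul_left_cancel h
  have h1 : Algebra.trace A B (1 : B) = 2 := by
    have := htr_alg 1
    rwa [map_one, mul_one] at this
  let σ : B →+* B :=
    { toFun := fun b => algebraMap A B (Algebra.trace A B b) - b
      map_one' := by
        rw [h1, map_ofNat]
        norm_num
      map_mul' := fun b c => hmul b c
      map_zero' := by simp
      map_add' := fun b c => by
        simp only [map_add]
        ring }
  have hσ : ∀ b, σ b = algebraMap A B (Algebra.trace A B b) - b := fun b => rfl
  refine ⟨σ, hσ, ?_, ?_, ?_, ?_⟩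
  · intro b
    rw [hσ, hσ, map_sub, htr_alg, map_sub, map_mul, map_ofNat]
    ring
  · intro a
    rw [hσ, htr_alg, map_mul, map_ofNat]
    ring
  · rw [injective_iff_map_eq_zero]
    intro a ha
    have := htr_alg a
    rw [ha, map_zero] at this
    apply hcancel
    rw [mul_zero, ← this]
  · intro b
    rw [hσ]
    constructor
    · intro h
      refine ⟨(↑u⁻¹ : A) * Algebra.trace A B b, ?_⟩
      apply hcancelB
      rw [map_mul, ← mul_assoc]
      have : (2 : B) * algebraMap A B (↑u⁻¹ : A) = 1 := by
        rw [← map_ofNat (algebraMap A B) 2, ← map_mul, ← hu, Units.mul_inv, map_one]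
      rw [this, one_mul]
      linear_combination h
    · rintro ⟨a, rfl⟩
      rw [htr_alg, map_mul, map_ofNat]
      ring

end R1

section Good

variable {A B : Type u} [CommRing A] [CommRing B]

/-- The trace of a ring hom regarded as an algebra. -/
noncomputable def trOf (φ : A →+* B) : B → A :=
  letI := φ.toAlgebra
  Algebra.trace A B

/-- `φ` makes `B` a free `A`-module of rank two, with `2` invertible in `A`. -/
def Good (φ : A →+* B) : Prop :=
  letI := φ.toAlgebra
  Module.Free A B ∧ Module.Finite A B ∧ Module.finrank A B = 2 ∧ IsUnit (2 : A)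

theorem exists_sig (φ : A →+* B) (h : Good φ) :
    ∃ σ : B →+* B, (∀ b, σ b = φ (trOf φ b) - b) ∧ (∀ b, σ (σ b) = b) ∧
      (∀ a, σ (φ a) = φ a) ∧ Function.Injective φ ∧ ∀ b, σ b = b ↔ b ∈ Set.range φ := by
  letI := φ.toAlgebra
  obtain ⟨h1, h2, h3, h4⟩ := h
  exact exists_invol h4 h3

open Classical in
/-- The trace involution attached to a good ring hom (identity otherwise). -/
noncomputable def sig (φ : A →+* B) : B →+* B :=
  if h : Good φ then Classical.choose (exists_sig φ h) else RingHom.id B

theorem sig_spec (φ : A →+* B) (h : Good φ) :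
    (∀ b, sig φ b = φ (trOf φ b) - b) ∧ (∀ b, sig φ (sig φ b) = b) ∧
      (∀ a, sig φ (φ a) = φ a) ∧ Function.Injective φ ∧
      ∀ b, sig φ b = b ↔ b ∈ Set.range φ := by
  unfold sig
  rw [dif_pos h]
  exact Classical.choose_spec (exists_sig φ h)

end Good

section R2

theorem compat_loc {A B A' B' : Type u} [CommRing A] [CommRing B] [CommRing A'] [CommRing B']
    [Algebra A B] [Algebra A A'] [Algebra B B'] [Algebra A' B'] [Algebra A B']
    [IsScalarTower A A' B'] [IsScalarTower A B B'] (s : A)
    [IsLocalization.Away s A'] [IsLocalization.Away (algebraMap A B s) B']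
    [Module.Free A B] [Module.Finite A B] (hrk : Module.finrank A B = 2) [Nontrivial A'] :
    Module.Free A' B' ∧ Module.Finite A' B' ∧ Module.finrank A' B' = 2 ∧
      ∀ b : B, Algebra.trace A' B' (algebraMap B B' b) =
        algebraMap A A' (Algebra.trace A B b) := by
  have hloc : IsLocalization (Algebra.algebraMapSubmonoid B (Submonoid.powers s)) B' := by
    have : Algebra.algebraMapSubmonoid B (Submonoid.powers s) =
        Submonoid.powers (algebraMap A B s) := by
      simp [Algebra.algebraMapSubmonoid, Submonoid.map_powers]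
    rw [this]
    infer_instance
  have hfree : Module.Free A' B' :=
    Module.free_of_isLocalizedModule (Submonoid.powers s)
      (IsScalarTower.toAlgHom A B B').toLinearMap
  have hrk' : Module.finrank A' B' = 2 := by
    rw [Module.finrank_of_isLocalizedModule_of_free A' (Submonoid.powers s)
      (IsScalarTower.toAlgHom A B B').toLinearMap, hrk]
  have hfin : Module.Finite A' B' := Module.finite_of_finrank_pos (by omega)
  exact ⟨hfree, hfin, hrk', fun b => Algebra.trace_localization A (Submonoid.powers s) b⟩

theorem good_of_loc {A B A' B' : Type u} [CommRing A] [CommRing B] [CommRing A'] [CommRing B']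
    (φ : A →+* B) (φ' : A' →+* B') (α : A →+* A') (β : B →+* B')
    (hsq : β.comp φ = φ'.comp α) (h : Good φ) (s : A)
    (hA : @IsLocalization.Away A _ s A' _ α.toAlgebra)
    (hB : @IsLocalization.Away B _ (φ s) B' _ β.toAlgebra) [Nontrivial A'] :
    Good φ' ∧ ∀ b, β (sig φ b) = sig φ' (β b) := by
  have hG := h
  letI := φ.toAlgebra
  letI := φ'.toAlgebra
  letI := α.toAlgebra
  letI := β.toAlgebra
  letI : Algebra A B' := (β.comp φ).toAlgebra
  haveI : IsScalarTower A B B' := .of_algebraMap_eq' rfl
  haveI : IsScalarTower A A' B' := .of_algebraMap_eq' hsq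
  obtain ⟨h1, h2, h3, h4⟩ := h
  haveI := h1
  haveI := h2
  haveI : IsLocalization.Away s A' := hA
  haveI : IsLocalization.Away (algebraMap A B s) B' := hB
  obtain ⟨g1, g2, g3, g4⟩ := compat_loc (A := A) (B := B) (A' := A') (B' := B') s h3
  have hG' : Good φ' := ⟨g1, g2, g3, by have := h4.map α; rwa [map_ofNat] at this⟩
  refine ⟨hG', fun b => ?_⟩
  rw [(sig_spec φ hG).1, (sig_spec φ' hG').1, map_sub]
  congr 1
  have h5 := g4 b
  change β (φ (Algebra.trace A B b)) = φ' (Algebra.trace A' B' (β b))
  rw [show (β b) = algebraMap B B' b from rfl, h5]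
  exact congrFun (congrArg DFunLike.coe hsq) _

end R2

section Transport

theorem free_transport {A : Type u} [CommRing A] (S : Submonoid A)
    {A₁ A₂ M M₁ M₂ : Type u} [CommRing A₁] [CommRing A₂] [Algebra A A₁] [Algebra A A₂]
    [IsLocalization S A₁] [IsLocalization S A₂]
    [AddCommGroup M] [Module A M] [AddCommGroup M₁] [Module A M₁] [Module A₁ M₁]
    [IsScalarTower A A₁ M₁]
    [AddCommGroup M₂] [Module A M₂] [Module A₂ M₂] [IsScalarTower A A₂ M₂]
    (f₁ : M →ₗ[A] M₁) (f₂ : M →ₗ[A] M₂) [IsLocalizedModule S f₁] [IsLocalizedModule S f₂]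
    [Module.Free A₁ M₁] : Module.Free A₂ M₂ := by
  let e₁ : A₁ ≃ₐ[A] A₂ := IsLocalization.algEquiv S A₁ A₂
  let e₂ : M₁ ≃ₗ[A] M₂ := IsLocalizedModule.linearEquiv S f₁ f₂
  let e₁r : A₁ ≃+* A₂ := e₁.toRingEquiv
  let σ₁₂ : A₁ →+* A₂ := (e₁r : A₁ →+* A₂)
  let σ₂₁ : A₂ →+* A₁ := (e₁r.symm : A₂ →+* A₁)
  haveI : RingHomInvPair σ₁₂ σ₂₁ := RingHomInvPair.of_ringEquiv e₁r
  haveI : RingHomInvPair σ₂₁ σ₁₂ := RingHomInvPair.symm σ₁₂ σ₂₁
  have hsl : ∀ (c : A₁) (m : M₁), e₂ (c • m) = σ₁₂ c • e₂ m := by
    intro c m
    obtain ⟨⟨a, s⟩, hc⟩ := IsLocalization.surj S c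
    have h1 : (s : A) • c = algebraMap A A₁ a := by
      rw [Algebra.smul_def, mul_comm]
      exact hc
    apply IsLocalizedModule.smul_injective f₂ s
    change (s : A) • e₂ (c • m) = (s : A) • (e₁ c • e₂ m)
    rw [← map_smul e₂, ← smul_assoc, h1, algebraMap_smul, map_smul, ← smul_assoc,
      ← map_smul e₁, h1, e₁.commutes, algebraMap_smul]
  let e : M₁ ≃ₛₗ[σ₁₂] M₂ :=
    { toFun := e₂
      map_add' := map_add e₂
      map_smul' := hsl
      invFun := e₂.symm
      left_inv := e₂.left_inv
      right_inv := e₂.right_inv }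
  exact Module.Free.of_equiv e

theorem exists_good_away {A B : Type u} [CommRing A] [CommRing B] (φ : A →+* B)
    (hfin : φ.Finite) (hflat : φ.Flat)
    (hrk : ∀ p : PrimeSpectrum A, (letI := φ.toAlgebra; Module.rankAtStalk B p) = 2)
    (h2 : IsUnit (2 : A)) (p : Ideal A) [p.IsPrime] :
    ∃ r ∉ p, ∀ {A' B' : Type u} [CommRing A'] [CommRing B'] (φ' : A' →+* B')
      (α : A →+* A') (β : B →+* B'), β.comp φ = φ'.comp α →
      @IsLocalization.Away A _ r A' _ α.toAlgebra →
      @IsLocalization.Away B _ (φ r) B' _ β.toAlgebra → Good φ' := by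
  letI := φ.toAlgebra
  haveI : Module.Finite A B := hfin
  haveI : Module.Flat A B := hflat
  obtain ⟨r, hr, hfree⟩ := Module.Free.away_of_finite_of_flat_of_rankAtStalk_constant B p
    (fun m _ => by rw [hrk, hrk])
  refine ⟨r, hr, ?_⟩
  intro A' B' _ _ φ' α β hsq hA hB
  letI := φ'.toAlgebra
  letI := α.toAlgebra
  letI := β.toAlgebra
  letI : Algebra A B' := (β.comp φ).toAlgebra
  haveI : IsScalarTower A B B' := .of_algebraMap_eq' rfl
  haveI : IsScalarTower A A' B' := .of_algebraMap_eq' hsq
  haveI : IsLocalization.Away r A' := hA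
  haveI : IsLocalization.Away (algebraMap A B r) B' := hB
  have hloc : IsLocalization (Algebra.algebraMapSubmonoid B (Submonoid.powers r)) B' := by
    have : Algebra.algebraMapSubmonoid B (Submonoid.powers r) =
        Submonoid.powers (algebraMap A B r) := by
      simp [Algebra.algebraMapSubmonoid, Submonoid.map_powers]
    rw [this]
    infer_instance
  have hfree' : Module.Free A' B' :=
    free_transport (Submonoid.powers r) (A₁ := Localization.Away r) (A₂ := A')
      (LocalizedModule.mkLinearMap (Submonoid.powers r) B)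
      (IsScalarTower.toAlgHom A B B').toLinearMap
  have hnt : Nontrivial A' := by
    have hu : IsUnit (algebraMap A (Localization.AtPrime p) r) :=
      IsLocalization.map_units (Localization.AtPrime p) (⟨r, hr⟩ : p.primeCompl)
    exact (IsLocalization.Away.lift (S := A') r hu).domain_nontrivial
  obtain ⟨q⟩ : Nonempty (PrimeSpectrum A') := inferInstance
  have hbc : IsBaseChange A' (IsScalarTower.toAlgHom A B B').toLinearMap :=
    IsLocalizedModule.isBaseChange (Submonoid.powers r) A' _
  have h3 := Module.rankAtStalk_isBaseChange hbc q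
  rw [hrk] at h3
  have h4 := congrFun (Module.rankAtStalk_eq_finrank_of_free (R := A') (M := B')) q
  have hrk' : Module.finrank A' B' = 2 := by
    rw [h3] at h4
    simpa using h4.symm
  have hfin' : Module.Finite A' B' := Module.finite_of_finrank_pos (by omega)
  exact ⟨hfree', hfin', hrk', by have := h2.map α; rwa [map_ofNat] at this⟩

end Transport

end Groth.Agent.H19.DblRing
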