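import Groth.Agent.H19.DblRing
import Groth.Agent.H41.GlueOpens
import Groth.Prelude.Def_SGA1
import Mathlib.AlgebraicGeometry.Morphisms.FlatRank

/-!
# Double covers: the involution on a finite flat morphism of rank two
-/

set_option autoImplicit false
set_option linter.style.haveILetI false
universe u

open CategoryTheory CategoryTheory.Limits AlgebraicGeometry TopologicalSpace Opposite

namespace Groth.Agent.H19.DblSch

open Groth.Agent.H19.DblRing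

variable {X Y : Scheme.{u}} (f : X ⟶ Y)

/-- An affine open of the base over which the cover is free of rank two (with 2 invertible). -/
def GoodOpen (V : Y.Opens) : Prop := IsAffineOpen V ∧ Good (f.app V).hom

theorem loc_data [IsAffineHom f] {V D : Y.Opens} (hV : IsAffineOpen V) (r : Γ(Y, V))
    (hD : D = Y.basicOpen r) (hDV : D ≤ V) :
    (X.presheaf.map (homOfLE (f.preimage_mono hDV)).op).hom.comp (f.app V).hom =
        (f.app D).hom.comp (Y.presheaf.map (homOfLE hDV).op).hom ∧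
    @IsLocalization.Away _ _ r Γ(Y, D) _ (Y.presheaf.map (homOfLE hDV).op).hom.toAlgebra ∧
    @IsLocalization.Away _ _ ((f.app V).hom r) Γ(X, f ⁻¹ᵁ D) _
      (X.presheaf.map (homOfLE (f.preimage_mono hDV)).op).hom.toAlgebra := by
  refine ⟨?_, ?_, ?_⟩
  · rw [← CommRingCat.hom_comp, ← CommRingCat.hom_comp]
    exact congrArg CommRingCat.Hom.hom (f.naturality (homOfLE hDV).op).symm
  · exact hV.isLocalization_of_eq_basicOpen r (homOfLE hDV) hD
  · exact (hV.preimage f).isLocalization_of_eq_basicOpen ((f.app V).hom r)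
      (homOfLE (f.preimage_mono hDV)) (by rw [hD, Scheme.preimage_basicOpen])

theorem good_basicOpen [IsAffineHom f] {V D : Y.Opens} (hV : GoodOpen f V) (r : Γ(Y, V))
    (hD : D = Y.basicOpen r) (hne : Nonempty D) (hDV : D ≤ V) :
    GoodOpen f D ∧ ∀ b : Γ(X, f ⁻¹ᵁ V),
      (X.presheaf.map (homOfLE (f.preimage_mono hDV)).op).hom (sig (f.app V).hom b) =
        sig (f.app D).hom ((X.presheaf.map (homOfLE (f.preimage_mono hDV)).op).hom b) := by
  obtain ⟨hsq, hA, hB⟩ := loc_data f hV.1 r hD hDV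
  haveI : Nontrivial Γ(Y, D) := Scheme.component_nontrivial Y D
  obtain ⟨h1, h2⟩ := good_of_loc (f.app V).hom (f.app D).hom _ _ hsq hV.2 r hA hB
  exact ⟨⟨hD ▸ hV.1.basicOpen r, h1⟩, h2⟩

theorem exists_goodOpen [IsFinite f] [Flat f] (hrk : ∀ y : Y, f.finrank y = 2)
    (h2 : IsUnit (2 : Γ(Y, ⊤))) (U : Y.Opens) (y : Y) (hy : y ∈ U) :
    ∃ D : Y.Opens, GoodOpen f D ∧ y ∈ D ∧ D ≤ U := by
  obtain ⟨V, (hV : IsAffineOpen V), hyV, hVU⟩ := Opens.isBasis_iff_nbhd.mp Y.isBasis_affineOpens hy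
  have hV' : IsAffineOpen (f ⁻¹ᵁ V) := IsAffineOpen.preimage hV f
  have hpb : IsPullback (Spec.map (f.app V)) hV'.fromSpec hV.fromSpec f := by
    refine IsOpenImmersion.isPullback _ _ _ _ ?_ ?_
    · rw [Scheme.Hom.app_eq_appLE]
      exact (IsAffineOpen.SpecMap_appLE_fromSpec f hV hV' le_rfl).symm
    · rw [hV.opensRange_fromSpec, hV'.opensRange_fromSpec]
  have hfin : IsFinite (Spec.map (f.app V)) :=
    MorphismProperty.of_isPullback (P := @IsFinite) hpb.flip inferInstance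
  have hflat : Flat (Spec.map (f.app V)) :=
    MorphismProperty.of_isPullback (P := @Flat) hpb.flip inferInstance
  rw [IsFinite.SpecMap_iff] at hfin
  rw [Flat.SpecMap_iff] at hflat
  have hrk' : ∀ p : PrimeSpectrum Γ(Y, V),
      (letI := (f.app V).hom.toAlgebra; Module.rankAtStalk Γ(X, f ⁻¹ᵁ V) p) = 2 := by
    intro p
    letI := (f.app V).hom.toAlgebra
    haveI : Module.Finite Γ(Y, V) Γ(X, f ⁻¹ᵁ V) := hfin
    haveI : Module.Flat Γ(Y, V) Γ(X, f ⁻¹ᵁ V) := hflat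
    have h1 := Scheme.Hom.finrank_of_isPullback _ _ _ _ hpb.flip p
    have h3 := Scheme.Hom.finrank_SpecMap_algebraMap Γ(Y, V) Γ(X, f ⁻¹ᵁ V) p
    rw [← h3]
    exact h1.trans (hrk _)
  have h2V : IsUnit (2 : Γ(Y, V)) := by
    have := h2.map (Y.presheaf.map (homOfLE (le_top : V ≤ ⊤)).op).hom
    rwa [map_ofNat] at this
  obtain ⟨r, hr, hgood⟩ := exists_good_away (f.app V).hom hfin hflat hrk' h2V
    (hV.primeIdealOf ⟨y, hyV⟩).asIdeal
  obtain ⟨hsq, hA, hB⟩ := loc_data f hV r rfl (Y.basicOpen_le r)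
  refine ⟨Y.basicOpen r, ⟨hV.basicOpen r, hgood (f.app (Y.basicOpen r)).hom _ _ hsq hA hB⟩, ?_,
    (Y.basicOpen_le r).trans hVU⟩
  have h4 : hV.fromSpec (hV.primeIdealOf ⟨y, hyV⟩) = y := hV.fromSpec_primeIdealOf ⟨y, hyV⟩
  rw [← h4]
  change _ ∈ hV.fromSpec ⁻¹ᵁ Y.basicOpen r
  rw [hV.fromSpec_preimage_basicOpen]
  exact hr

/-- The local involution over a (good) affine open of the base. -/
noncomputable def gMor {V : Y.Opens} (hV : IsAffineOpen (f ⁻¹ᵁ V)) : (f ⁻¹ᵁ V : Scheme.{u}) ⟶ X :=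
  hV.isoSpec.hom ≫ Spec.map (CommRingCat.ofHom (sig (f.app V).hom)) ≫ hV.fromSpec

theorem gMor_restrict [IsAffineHom f] {V D : Y.Opens} (hV : GoodOpen f V) (r : Γ(Y, V))
    (hD : D = Y.basicOpen r) (hne : Nonempty D) (hDV : D ≤ V)
    (hV' : IsAffineOpen (f ⁻¹ᵁ V)) (hD' : IsAffineOpen (f ⁻¹ᵁ D)) :
    X.homOfLE (f.preimage_mono hDV) ≫ gMor f hV' = gMor f hD' := by
  have key : X.homOfLE (f.preimage_mono hDV) ≫ hV'.isoSpec.hom =
      hD'.isoSpec.hom ≫ Spec.map (X.presheaf.map (homOfLE (f.preimage_mono hDV)).op) := by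
    rw [← cancel_mono hV'.fromSpec]
    simp only [Category.assoc, IsAffineOpen.isoSpec_hom_fromSpec, Scheme.homOfLE_ι]
    rw [hV'.map_fromSpec hD', hD'.isoSpec_hom_fromSpec]
  have hcomm : CommRingCat.ofHom (sig (f.app V).hom) ≫
      X.presheaf.map (homOfLE (f.preimage_mono hDV)).op =
      X.presheaf.map (homOfLE (f.preimage_mono hDV)).op ≫
        CommRingCat.ofHom (sig (f.app D).hom) := by
    ext b
    exact (good_basicOpen f hV r hD hne hDV).2 b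
  unfold gMor
  rw [reassoc_of% key, ← Spec.map_comp_assoc, hcomm, Spec.map_comp_assoc,
    IsAffineOpen.map_fromSpec]

theorem gMor_comp [IsAffineHom f] {V : Y.Opens} (hV : GoodOpen f V)
    (hV' : IsAffineOpen (f ⁻¹ᵁ V)) : gMor f hV' ≫ f = (f ⁻¹ᵁ V).ι ≫ f := by
  have hVa : IsAffineOpen V := hV.1
  have h1 : hV'.fromSpec ≫ f = Spec.map (f.app V) ≫ hVa.fromSpec := by
    rw [Scheme.Hom.app_eq_appLE]
    exact (IsAffineOpen.SpecMap_appLE_fromSpec f hVa hV' le_rfl).symm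
  have h2 : f.app V ≫ CommRingCat.ofHom (sig (f.app V).hom) = f.app V := by
    ext a
    exact (sig_spec _ hV.2).2.2.1 a
  unfold gMor
  rw [Category.assoc, Category.assoc, h1, ← Spec.map_comp_assoc, h2, ← h1,
    IsAffineOpen.isoSpec_hom_fromSpec_assoc]

theorem gMor_gMor {V : Y.Opens} (hV : GoodOpen f V)
    (hV' : IsAffineOpen (f ⁻¹ᵁ V)) (σh : X ⟶ X) (hσ : (f ⁻¹ᵁ V).ι ≫ σh = gMor f hV') :
    gMor f hV' ≫ σh = (f ⁻¹ᵁ V).ι := by
  have h2 : CommRingCat.ofHom (sig (f.app V).hom) ≫ CommRingCat.ofHom (sig (f.app V).hom) =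
      𝟙 _ := by
    ext a
    exact (sig_spec _ hV.2).2.1 a
  have h3 : gMor f hV' ≫ σh = hV'.isoSpec.hom ≫ Spec.map (CommRingCat.ofHom (sig (f.app V).hom)) ≫
      hV'.isoSpec.inv ≫ (f ⁻¹ᵁ V).ι ≫ σh := by
    unfold gMor
    simp only [Category.assoc, IsAffineOpen.isoSpec_inv_ι_assoc]
  rw [h3, hσ]
  unfold gMor
  rw [Iso.inv_hom_id_assoc, ← Spec.map_comp_assoc, h2, Spec.map_id]
  erw [Category.id_comp]
  rw [IsAffineOpen.isoSpec_hom_fromSpec]

theorem appLE_eq {V : Y.Opens} (hV' : IsAffineOpen (f ⁻¹ᵁ V)) (σh : X ⟶ X)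
    (hσ : (f ⁻¹ᵁ V).ι ≫ σh = gMor f hV') (h : f ⁻¹ᵁ V ≤ σh ⁻¹ᵁ (f ⁻¹ᵁ V)) :
    σh.appLE (f ⁻¹ᵁ V) (f ⁻¹ᵁ V) h = CommRingCat.ofHom (sig (f.app V).hom) := by
  apply Spec.map_injective
  rw [← cancel_mono hV'.fromSpec, IsAffineOpen.SpecMap_appLE_fromSpec σh hV' hV' h,
    ← hV'.isoSpec_inv_ι, Category.assoc, hσ]
  unfold gMor
  rw [Iso.inv_hom_id_assoc]
  rfl

/-- The index type of good opens. -/
abbrev GI : Type u := {V : Y.Opens // GoodOpen f V}

theorem isOpenCover_good [IsFinite f] [Flat f] (hrk : ∀ y : Y, f.finrank y = 2)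
    (h2 : IsUnit (2 : Γ(Y, ⊤))) : IsOpenCover (fun V : GI f => f ⁻¹ᵁ V.1) := by
  refine eq_top_iff.mpr fun x _ => ?_
  obtain ⟨D, hD, hxD, -⟩ := exists_goodOpen f hrk h2 ⊤ (f x) trivial
  exact Opens.mem_iSup.mpr ⟨⟨D, hD⟩, hxD⟩

theorem exists_glue [IsFinite f] [Flat f] (hrk : ∀ y : Y, f.finrank y = 2)
    (h2 : IsUnit (2 : Γ(Y, ⊤))) :
    ∃ σh : X ⟶ X, ∀ V : GI f, (f ⁻¹ᵁ V.1).ι ≫ σh = gMor f (IsAffineOpen.preimage V.2.1 f) := by
  obtain ⟨σh, hσh, -⟩ := Groth.Agent.H41.GlueOpens.existsUnique_glue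
    (fun V : GI f => f ⁻¹ᵁ V.1) (isOpenCover_good f hrk h2)
    (fun V => gMor f (IsAffineOpen.preimage V.2.1 f)) (by
      rintro ⟨V₁, hV₁⟩ ⟨V₂, hV₂⟩ x ⟨hx1, hx2⟩
      obtain ⟨r₁, r₂, heq, hy⟩ := exists_basicOpen_le_affine_inter hV₁.1 hV₂.1 (f x) ⟨hx1, hx2⟩
      have hne : Nonempty (Y.basicOpen r₁) := ⟨⟨f x, hy⟩⟩
      have hD' : IsAffineOpen (f ⁻¹ᵁ Y.basicOpen r₁) :=
        IsAffineOpen.preimage (hV₁.1.basicOpen r₁) f
      have hle₂ : Y.basicOpen r₁ ≤ V₂ := heq ▸ Y.basicOpen_le r₂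
      refine ⟨f ⁻¹ᵁ Y.basicOpen r₁, f.preimage_mono (Y.basicOpen_le r₁), f.preimage_mono hle₂,
        hy, ?_⟩
      rw [gMor_restrict f hV₁ r₁ rfl hne (Y.basicOpen_le r₁) _ hD',
        gMor_restrict f hV₂ r₂ heq hne hle₂ _ hD'])
  exact ⟨σh, hσh⟩

theorem app_res {U D : Y.Opens} (h : D ≤ U) (c : Γ(Y, U)) :
    (f.app D).hom ((Y.presheaf.map (homOfLE h).op).hom c) =
      (X.presheaf.map (homOfLE (f.preimage_mono h)).op).hom ((f.app U).hom c) :=
  congrArg (fun ψ : Γ(Y, U) ⟶ Γ(X, f ⁻¹ᵁ D) => ψ.hom c) (f.naturality (homOfLE h).op)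

theorem res_res {Z : Scheme.{u}} {U V W : Z.Opens} (h1 : V ≤ U) (h2 : W ≤ V) (s : Γ(Z, U)) :
    (Z.presheaf.map (homOfLE h2).op).hom ((Z.presheaf.map (homOfLE h1).op).hom s) =
      (Z.presheaf.map (homOfLE (h2.trans h1)).op).hom s := by
  change (Z.presheaf.map (homOfLE h1).op ≫ Z.presheaf.map (homOfLE h2).op).hom s = _
  rw [← Functor.map_comp]
  rfl

theorem app_appLE_of_comp {h : X ⟶ X} (hh : h ≫ f = f) (U : Y.Opens)
    (e : f ⁻¹ᵁ U ≤ h ⁻¹ᵁ (f ⁻¹ᵁ U)) :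
    f.app U ≫ h.appLE (f ⁻¹ᵁ U) (f ⁻¹ᵁ U) e = f.app U := by
  have key : ∀ (k : X ⟶ Y) (_ : k = f) (e' : f ⁻¹ᵁ U ≤ k ⁻¹ᵁ U),
      k.appLE U (f ⁻¹ᵁ U) e' = f.app U := by
    rintro k rfl e'
    exact (Scheme.Hom.app_eq_appLE k).symm
  have e' : f ⁻¹ᵁ U ≤ (h ≫ f) ⁻¹ᵁ U := by
    rw [hh]
  exact (Scheme.Hom.comp_appLE h f U (f ⁻¹ᵁ U) e').symm.trans (key _ hh _)

theorem main [IsFinite f] [Flat f] (hrk : ∀ y : Y, f.finrank y = 2)
    (h2 : IsUnit (2 : Γ(Y, ⊤))) :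
    ∃ σ : Aut X, σ.hom ≫ f = f ∧ σ * σ = 1 ∧
      SGA1.IsQuot (Subgroup.zpowers σ).subtype f := by
  obtain ⟨σh, hσh⟩ := exists_glue f hrk h2
  have hcov := isOpenCover_good f hrk h2
  have hσf : σh ≫ f = f := by
    refine (X.openCoverOfIsOpenCover _ hcov).hom_ext _ _ fun V => ?_
    change (f ⁻¹ᵁ V.1).ι ≫ σh ≫ f = (f ⁻¹ᵁ V.1).ι ≫ f
    rw [← Category.assoc, hσh V, gMor_comp f V.2]
  have hσσ : σh ≫ σh = 𝟙 X := by
    refine (X.openCoverOfIsOpenCover _ hcov).hom_ext _ _ fun V => ?_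
    change (f ⁻¹ᵁ V.1).ι ≫ σh ≫ σh = (f ⁻¹ᵁ V.1).ι ≫ 𝟙 X
    rw [← Category.assoc, hσh V, gMor_gMor f V.2 _ σh (hσh V), Category.comp_id]
  let σ : Aut X := ⟨σh, σh, hσσ, hσσ⟩
  have hinvG : ∀ g : Subgroup.zpowers σ, ((Subgroup.zpowers σ).subtype g).hom ≫ f = f := by
    let H : Subgroup (Aut X) :=
      { carrier := {g | g.hom ≫ f = f}
        mul_mem' := fun {a b} ha hb => by
          have ha' : a.hom ≫ f = f := ha
          have hb' : b.hom ≫ f = f := hb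
          change (b.hom ≫ a.hom) ≫ f = f
          rw [Category.assoc, ha', hb']
        one_mem' := by
          change 𝟙 X ≫ f = f
          simp
        inv_mem' := fun {a} ha => by
          have ha' : a.hom ≫ f = f := ha
          change a.inv ≫ f = f
          exact (Iso.inv_comp_eq a).mpr ha'.symm }
    have hle : Subgroup.zpowers σ ≤ H := (Subgroup.zpowers_le).mpr hσf
    intro g
    exact hle g.2
  have hinj : ∀ U : Y.Opens, Function.Injective (f.app U).hom := by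
    intro U a a' haa
    let J : Type u := {D : Y.Opens // GoodOpen f D ∧ D ≤ U}
    refine TopCat.Sheaf.eq_of_locally_eq' (C := CommRingCat.{u}) Y.sheaf (fun i : J => i.1) U
      (fun i => homOfLE i.2.2) ?_ a a' ?_
    · intro y hy
      obtain ⟨D, hD, hyD, hDU⟩ := exists_goodOpen f hrk h2 U y hy
      exact Opens.mem_iSup.mpr ⟨⟨D, hD, hDU⟩, hyD⟩
    · intro i
      apply (sig_spec _ i.2.1.2).2.2.2.1
      change (f.app i.1).hom ((Y.presheaf.map (homOfLE i.2.2).op).hom a) =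
        (f.app i.1).hom ((Y.presheaf.map (homOfLE i.2.2).op).hom a')
      rw [app_res, app_res, haa]
  have hrange : ∀ (U : Y.Opens) (s : Γ(X, f ⁻¹ᵁ U)), s ∈ Set.range (f.app U).hom ↔
      ∀ g : Subgroup.zpowers σ,
        (((Subgroup.zpowers σ).subtype g).hom.appLE (f ⁻¹ᵁ U) (f ⁻¹ᵁ U)
          (SGA1.preimage_le_of_inv _ f hinvG g U)).hom s = s := by
    intro U s
    constructor
    · rintro ⟨a, rfl⟩ g
      exact congrArg (fun ψ : Γ(Y, U) ⟶ Γ(X, f ⁻¹ᵁ U) => ψ.hom a)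
        (app_appLE_of_comp f (hinvG g) U _)
    · intro hs
      have hs1 := hs ⟨σ, Subgroup.mem_zpowers σ⟩
      change (σh.appLE (f ⁻¹ᵁ U) (f ⁻¹ᵁ U) _).hom s = s at hs1
      let J : Type u := {D : Y.Opens // GoodOpen f D ∧ D ≤ U}
      have hcover : U ≤ ⨆ i : J, i.1 := by
        intro y hy
        obtain ⟨D, hD, hyD, hDU⟩ := exists_goodOpen f hrk h2 U y hy
        exact Opens.mem_iSup.mpr ⟨⟨D, hD, hDU⟩, hyD⟩
      have heD : ∀ D : Y.Opens, f ⁻¹ᵁ D ≤ σh ⁻¹ᵁ (f ⁻¹ᵁ D) := by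
        intro D
        rw [← Scheme.Hom.comp_preimage, hσf]
      have hfix : ∀ i : J, sig (f.app i.1).hom
          ((X.presheaf.map (homOfLE (f.preimage_mono i.2.2)).op).hom s) =
          (X.presheaf.map (homOfLE (f.preimage_mono i.2.2)).op).hom s := by
        intro i
        have h3 := appLE_eq f (IsAffineOpen.preimage i.2.1.1 f) σh (hσh ⟨i.1, i.2.1⟩) (heD i.1)
        have h4 : σh.appLE (f ⁻¹ᵁ U) (f ⁻¹ᵁ U) (heD U) ≫
            X.presheaf.map (homOfLE (f.preimage_mono i.2.2)).op =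
            X.presheaf.map (homOfLE (f.preimage_mono i.2.2)).op ≫
              σh.appLE (f ⁻¹ᵁ i.1) (f ⁻¹ᵁ i.1) (heD i.1) := by
          rw [Scheme.Hom.appLE_map, Scheme.Hom.map_appLE]
        have h5 := congrArg (fun ψ : Γ(X, f ⁻¹ᵁ U) ⟶ Γ(X, f ⁻¹ᵁ i.1) => ψ.hom s) h4
        rw [h3] at h5
        change (X.presheaf.map (homOfLE (f.preimage_mono i.2.2)).op).hom
          ((σh.appLE (f ⁻¹ᵁ U) (f ⁻¹ᵁ U) (heD U)).hom s) =
          sig (f.app i.1).hom ((X.presheaf.map (homOfLE (f.preimage_mono i.2.2)).op).hom s) at h5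
        rw [← h5, hs1]
      have hex : ∀ i : J, ∃ a : Γ(Y, i.1), (f.app i.1).hom a =
          (X.presheaf.map (homOfLE (f.preimage_mono i.2.2)).op).hom s := fun i =>
        ((sig_spec _ i.2.1.2).2.2.2.2 _).mp (hfix i)
      choose a ha using hex
      have hcompat : TopCat.Presheaf.IsCompatible Y.sheaf.1 (fun i : J => i.1) a := by
        intro i j
        apply hinj (i.1 ⊓ j.1)
        change (f.app (i.1 ⊓ j.1)).hom ((Y.presheaf.map (homOfLE inf_le_left).op).hom (a i)) =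
          (f.app (i.1 ⊓ j.1)).hom ((Y.presheaf.map (homOfLE inf_le_right).op).hom (a j))
        rw [app_res, app_res, ha, ha, res_res, res_res]
      obtain ⟨a0, ha0, -⟩ := TopCat.Sheaf.existsUnique_gluing' (C := CommRingCat.{u}) Y.sheaf
        (fun i : J => i.1) U (fun i => homOfLE i.2.2) hcover a hcompat
      refine ⟨a0, ?_⟩
      refine TopCat.Sheaf.eq_of_locally_eq' (C := CommRingCat.{u}) X.sheaf
        (fun i : J => f ⁻¹ᵁ i.1) (f ⁻¹ᵁ U) (fun i => homOfLE (f.preimage_mono i.2.2)) ?_ _ _ ?_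
      · intro x hx
        obtain ⟨D, hD, hyD, hDU⟩ := exists_goodOpen f hrk h2 U (f x) hx
        exact Opens.mem_iSup.mpr ⟨⟨D, hD, hDU⟩, hyD⟩
      · intro i
        change (X.presheaf.map (homOfLE (f.preimage_mono i.2.2)).op).hom ((f.app U).hom a0) =
          (X.presheaf.map (homOfLE (f.preimage_mono i.2.2)).op).hom s
        exact ((app_res f i.2.2 a0).symm.trans
          (congrArg (f.app i.1).hom (ha0 i))).trans (ha i)
  refine ⟨σ, hσf, ?_, ?_⟩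
  · exact Iso.ext hσσ
  · exact { affine := inferInstance, inv := hinvG, injective := hinj, range_iff := hrange }

end Groth.Agent.H19.DblSch
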