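import Groth.Prelude.Def_LambdaRing
import Groth.Agent.H43.LambdaBasic
import Mathlib.Tactic.Ring
import Mathlib.Tactic.Linarith
import Mathlib.RingTheory.Nilpotent.Basic
import Mathlib.Data.Nat.Choose.Sum

set_option autoImplicit false
universe u

namespace Groth.Agent.H19

open LambdaRing Finset

variable {K : Type u} [CommRing K] [LambdaOps K]

/-- In a λ-ring with positive structure, `λ^k(1) = 0` for `k ≥ 2`. -/
theorem lam_one_eq_zero (P : PosStructure K) (k : ℕ) (hk : 2 ≤ k) :
    LambdaOps.lam k (1 : K) = 0 := by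
  have h1 : (1 : K) ∈ P.pos := by simpa using P.natCast_mem 1 Nat.one_pos
  apply P.lam_eq_zero 1 h1 k
  rw [map_one]
  exact_mod_cast hk

theorem lam_line_eq_zero (P : PosStructure K) {v : K} (hv : P.IsLine v) (k : ℕ) (hk : 2 ≤ k) :
    LambdaOps.lam k v = 0 := by
  apply P.lam_eq_zero v hv.1 k
  rw [hv.2]
  exact_mod_cast hk

/-- `λ^j(-v) = (-v)^j` for a line element `v`. -/
theorem lam_neg_line (P : PosStructure K) {v : K} (hv : P.IsLine v) (j : ℕ) :
    LambdaOps.lam j (-v) = (-v) ^ j := by
  induction j with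
  | zero => rw [LambdaOps.lam_zero, pow_zero]
  | succ j ih =>
    have h0 : LambdaOps.lam (j + 1) (v + -v) = 0 := by
      rw [add_neg_cancel, Groth.Agent.H43.lam_zero_arg, if_neg (Nat.succ_ne_zero j)]
    rw [LambdaOps.lam_add, Finset.sum_range_succ', Finset.sum_range_succ'] at h0
    have hz : ∑ i ∈ range j, LambdaOps.lam (i + 1 + 1) v * LambdaOps.lam (j + 1 - (i + 1 + 1)) (-v) = 0 := by
      apply Finset.sum_eq_zero
      intro i _
      rw [lam_line_eq_zero P hv _ (by omega), zero_mul]
    rw [hz, zero_add, LambdaOps.lam_one, LambdaOps.lam_zero] at h0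
    simp only [zero_add, Nat.add_sub_cancel, Nat.sub_zero, one_mul] at h0
    rw [ih] at h0
    rw [pow_succ]
    linear_combination h0

/-- if `e = m - v` is positive with `v` a line element, then `(1 - v)^m = 0`. -/
theorem one_sub_line_pow_eq_zero (P : PosStructure K) {v e : K} (hv : P.IsLine v) (he : e ∈ P.pos)
    (m : ℕ) (hem : e = (m : K) - v) : (1 - v) ^ m = 0 := by
  have haug : P.aug e = (m : ℤ) - 1 := by
    rw [hem, map_sub, map_natCast, hv.2]
  have hlam : LambdaOps.lam m e = 0 := by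
    apply P.lam_eq_zero e he m
    rw [haug]
    omega
  have h1 : ∀ k : ℕ, 2 ≤ k → LambdaOps.lam k (1 : K) = 0 := lam_one_eq_zero P
  rw [hem, sub_eq_add_neg, LambdaOps.lam_add] at hlam
  rw [sub_eq_add_neg, add_pow, ← hlam]
  apply Finset.sum_congr rfl
  intro i _
  rw [Groth.Agent.H43.lam_natCast h1, lam_neg_line P hv, one_pow, one_mul, mul_comm]

theorem isLine_one (P : PosStructure K) : P.IsLine (1 : K) :=
  ⟨by simpa using P.natCast_mem 1 Nat.one_pos, map_one _⟩

theorem isLine_mul (P : PosStructure K) {a b : K} (ha : P.IsLine a) (hb : P.IsLine b) :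
    P.IsLine (a * b) :=
  ⟨P.mul_mem a b ha.1 hb.1, by rw [map_mul, ha.2, hb.2, mul_one]⟩

theorem isLine_pow (P : PosStructure K) {a : K} (ha : P.IsLine a) (n : ℕ) : P.IsLine (a ^ n) := by
  induction n with
  | zero => rw [pow_zero]; exact isLine_one P
  | succ n ih => rw [pow_succ]; exact isLine_mul P ih ha

end Groth.Agent.H19
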