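import Mathlib
import Groth.Agent.H19.LambdaLine
import Groth.Agent.H19.AdamsGamma

/-!
# Determinant on a λ-ring with positive structure (helper library, seat helper19)

`det P : K → Kˣ` with `det (e - f) = λ^top e / λ^top f`; additive → multiplicative, natural for
extensions, identity on line elements, and trivial on `F^2` of the γ-filtration
(`det_F2`, needs the splitting property).  Also `aug_F1`, `topLam_sub_mem`.
-/

set_option autoImplicit false
universe u

namespace Groth.Agent.H19.Det

open LambdaRing Groth.Agent.H19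

variable {K : Type u} [CommRing K] [LambdaOps K]

/-- top exterior power `λ^{ε(e)}(e)` -/
def topLam (P : PosStructure K) (e : K) : K := LambdaOps.lam (P.aug e).toNat e

theorem topLam_add (P : PosStructure K) {e f : K} (he : e ∈ P.pos) (hf : f ∈ P.pos) :
    topLam P (e + f) = topLam P e * topLam P f := by
  have h1 := P.aug_pos e he
  have h2 := P.aug_pos f hf
  have hmn : (P.aug (e + f)).toNat = (P.aug e).toNat + (P.aug f).toNat := by
    rw [map_add]; omega
  unfold topLam
  rw [hmn, LambdaOps.lam_add, Finset.sum_eq_single (P.aug e).toNat]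
  · rw [Nat.add_sub_cancel_left]
  · intro i hi hne
    have hi' := Finset.mem_range.1 hi
    rcases Nat.lt_or_gt_of_ne hne with h | h
    · rw [P.lam_eq_zero f hf _ (by omega), mul_zero]
    · rw [P.lam_eq_zero e he i (by omega), zero_mul]
  · intro h
    exact absurd (Finset.mem_range.2 (by omega)) h

theorem topLam_map {K' : Type u} [CommRing K'] [LambdaOps K'] {P : PosStructure K}
    {P' : PosStructure K'} {f : K →+* K'} (hf : IsExtension P P' f) (e : K) :
    f (topLam P e) = topLam P' (f e) := by
  unfold topLam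
  rw [hf.isLambdaHom, hf.aug_comp]

/-- `λ^top e` as a unit -/
noncomputable def tU (P : PosStructure K) (e : K) (he : e ∈ P.pos) : Kˣ := (P.isUnit_lam e he).unit

theorem tU_val (P : PosStructure K) (e : K) (he : e ∈ P.pos) :
    ((tU P e he : Kˣ) : K) = topLam P e := IsUnit.unit_spec _

theorem tU_add (P : PosStructure K) {e f : K} (he : e ∈ P.pos) (hf : f ∈ P.pos)
    (hef : e + f ∈ P.pos) : tU P (e + f) hef = tU P e he * tU P f hf :=
  Units.ext (by rw [Units.val_mul, tU_val, tU_val, tU_val, topLam_add P he hf])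

theorem tU_congr (P : PosStructure K) {e e' : K} (h : e = e') (he : e ∈ P.pos) (he' : e' ∈ P.pos) :
    tU P e he = tU P e' he' := by
  subst h; rfl

/-- the determinant `K → Kˣ` -/
noncomputable def det (P : PosStructure K) (x : K) : Kˣ :=
  tU P (P.exists_sub x).choose (P.exists_sub x).choose_spec.choose_spec.1 *
    (tU P (P.exists_sub x).choose_spec.choose (P.exists_sub x).choose_spec.choose_spec.2.1)⁻¹

theorem det_eq (P : PosStructure K) (x e f : K) (he : e ∈ P.pos) (hf : f ∈ P.pos)
    (hx : x = e - f) : det P x = tU P e he * (tU P f hf)⁻¹ := by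
  have h0 := (P.exists_sub x).choose_spec.choose_spec
  have key : tU P (P.exists_sub x).choose h0.1 * tU P f hf =
      tU P e he * tU P (P.exists_sub x).choose_spec.choose h0.2.1 := by
    rw [← tU_add P h0.1 hf (P.add_mem _ _ h0.1 hf), ← tU_add P he h0.2.1 (P.add_mem _ _ he h0.2.1)]
    apply tU_congr
    have h3 := hx.symm.trans h0.2.2
    linear_combination (-1 : K) * h3
  unfold det
  rw [mul_inv_eq_iff_eq_mul, mul_right_comm, eq_mul_inv_iff_mul_eq]
  exact key

theorem det_add (P : PosStructure K) (x y : K) : det P (x + y) = det P x * det P y := by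
  obtain ⟨e, f, he, hf, hx⟩ := P.exists_sub x
  obtain ⟨e', f', he', hf', hy⟩ := P.exists_sub y
  rw [det_eq P x e f he hf hx, det_eq P y e' f' he' hf' hy,
    det_eq P (x + y) (e + e') (f + f') (P.add_mem _ _ he he') (P.add_mem _ _ hf hf')
      (by rw [hx, hy]; ring),
    tU_add P he he', tU_add P hf hf', mul_inv]
  exact mul_mul_mul_comm _ _ _ _

theorem det_zero (P : PosStructure K) : det P (0 : K) = 1 := by
  have h := det_add P 0 0
  rw [add_zero] at h
  exact (mul_left_cancel (a := det P 0) (by rw [mul_one]; exact h)).symm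

theorem det_neg (P : PosStructure K) (x : K) : det P (-x) = (det P x)⁻¹ := by
  have h := det_add P x (-x)
  rw [add_neg_cancel, det_zero] at h
  exact eq_inv_of_mul_eq_one_right h.symm

theorem det_sub (P : PosStructure K) (x y : K) : det P (x - y) = det P x * (det P y)⁻¹ := by
  rw [sub_eq_add_neg, det_add, det_neg]

/-- `det` as an additive homomorphism to `Additive Kˣ` -/
noncomputable def detHom (P : PosStructure K) : K →+ Additive Kˣ :=
  AddMonoidHom.mk' (fun x => Additive.ofMul (det P x)) (fun x y => by rw [det_add]; rfl)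

theorem detHom_apply (P : PosStructure K) (x : K) : detHom P x = Additive.ofMul (det P x) := rfl

theorem mem_ker_iff (P : PosStructure K) (x : K) : x ∈ (detHom P).ker ↔ det P x = 1 := by
  rw [AddMonoidHom.mem_ker, detHom_apply]
  exact Iff.rfl

theorem one_mem_pos (P : PosStructure K) : (1 : K) ∈ P.pos := (Adams.isLine_one P).1

theorem det_pos (P : PosStructure K) {e : K} (he : e ∈ P.pos) : det P e = tU P e he := by
  rw [det_eq P e (e + 1) 1 (P.add_mem _ _ he (one_mem_pos P)) (one_mem_pos P) (by ring),
    tU_add P he (one_mem_pos P), mul_inv_cancel_right]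

theorem det_line (P : PosStructure K) {u : K} (hu : P.IsLine u) : ((det P u : Kˣ) : K) = u := by
  rw [det_pos P hu.1, tU_val]
  unfold topLam
  rw [hu.2]
  exact LambdaOps.lam_one u

theorem tU_map {K' : Type u} [CommRing K'] [LambdaOps K'] {P : PosStructure K}
    {P' : PosStructure K'} {f : K →+* K'} (hf : IsExtension P P' f) {e : K} (he : e ∈ P.pos) :
    Units.map (f : K →* K') (tU P e he) = tU P' (f e) (hf.pos_subset e he) :=
  Units.ext (by
    rw [Units.coe_map, tU_val, tU_val]
    exact topLam_map hf e)

theorem det_map {K' : Type u} [CommRing K'] [LambdaOps K'] {P : PosStructure K}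
    {P' : PosStructure K'} {f : K →+* K'} (hf : IsExtension P P' f) (x : K) :
    det P' (f x) = Units.map (f : K →* K') (det P x) := by
  obtain ⟨e, g, he, hg, hx⟩ := P.exists_sub x
  rw [det_eq P x e g he hg hx,
    det_eq P' (f x) (f e) (f g) (hf.pos_subset e he) (hf.pos_subset g hg) (by rw [hx, map_sub]),
    map_mul, map_inv, tU_map hf he, tU_map hf hg]

/-! ### the filtration by products of `(line - 1)` -/

/-- additive span of `(w₁ - 1)⋯(w_d - 1)·(line)` -/
def M (P : PosStructure K) : ℕ → AddSubgroup K
  | 0 => AddSubgroup.closure {w | P.IsLine w}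
  | (d + 1) => AddSubgroup.closure {y | ∃ w z, P.IsLine w ∧ z ∈ M P d ∧ y = (w - 1) * z}

theorem M_zero (P : PosStructure K) : M P 0 = AddSubgroup.closure {w | P.IsLine w} := rfl

theorem M_succ (P : PosStructure K) (d : ℕ) :
    M P (d + 1) = AddSubgroup.closure {y | ∃ w z, P.IsLine w ∧ z ∈ M P d ∧ y = (w - 1) * z} := rfl

theorem closure_mul_mem {S T : Set K} {U : AddSubgroup K} (h : ∀ s ∈ S, ∀ t ∈ T, s * t ∈ U)
    {x y : K} (hx : x ∈ AddSubgroup.closure S) (hy : y ∈ AddSubgroup.closure T) : x * y ∈ U := by
  induction hx using AddSubgroup.closure_induction with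
  | mem s hs =>
    induction hy using AddSubgroup.closure_induction with
    | mem t ht => exact h s hs t ht
    | zero => rw [mul_zero]; exact zero_mem _
    | add a b _ _ ha hb => rw [mul_add]; exact add_mem ha hb
    | neg a _ ha => rw [mul_neg]; exact neg_mem ha
  | zero => rw [zero_mul]; exact zero_mem _
  | add a b _ _ ha hb => rw [add_mul]; exact add_mem ha hb
  | neg a _ ha => rw [neg_mul]; exact neg_mem ha

theorem line_mem_M0 (P : PosStructure K) {w : K} (hw : P.IsLine w) : w ∈ M P 0 :=
  AddSubgroup.subset_closure hw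

theorem gen_mem (P : PosStructure K) {d : ℕ} {w z : K} (hw : P.IsLine w) (hz : z ∈ M P d) :
    (w - 1) * z ∈ M P (d + 1) :=
  AddSubgroup.subset_closure ⟨w, z, hw, hz, rfl⟩

theorem M0_mul (P : PosStructure K) (b : ℕ) {z : K} (hz : z ∈ M P 0) :
    ∀ {y : K}, y ∈ M P b → z * y ∈ M P b := by
  induction b with
  | zero =>
    intro y hy
    rw [M_zero] at hz hy ⊢
    exact closure_mul_mem
      (fun s hs t ht => AddSubgroup.subset_closure (Adams.isLine_mul P hs ht)) hz hy
  | succ b ih =>
    intro y hy
    rw [M_succ] at hy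
    induction hy using AddSubgroup.closure_induction with
    | mem t ht =>
      obtain ⟨w, z', hw, hz', rfl⟩ := ht
      have := gen_mem P hw (ih hz')
      rwa [mul_left_comm] at this
    | zero => rw [mul_zero]; exact zero_mem _
    | add a c _ _ ha hc => rw [mul_add]; exact add_mem ha hc
    | neg a _ ha => rw [mul_neg]; exact neg_mem ha

theorem M_mul (P : PosStructure K) (a b : ℕ) :
    ∀ {x y : K}, x ∈ M P a → y ∈ M P b → x * y ∈ M P (a + b) := by
  induction a with
  | zero =>
    intro x y hx hy
    rw [Nat.zero_add]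
    exact M0_mul P b hx hy
  | succ a ih =>
    intro x y hx hy
    rw [M_succ] at hx
    have e : a + 1 + b = (a + b) + 1 := by omega
    rw [e]
    induction hx using AddSubgroup.closure_induction with
    | mem t ht =>
      obtain ⟨w, z, hw, hz, rfl⟩ := ht
      rw [mul_assoc]
      exact gen_mem P hw (ih hz hy)
    | zero => rw [zero_mul]; exact zero_mem _
    | add c d _ _ hc hd => rw [add_mul]; exact add_mem hc hd
    | neg c _ hc => rw [neg_mul]; exact neg_mem hc

theorem M_succ_le (P : PosStructure K) (d : ℕ) : M P (d + 1) ≤ M P d := by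
  rw [M_succ, AddSubgroup.closure_le]
  rintro y ⟨w, z, hw, hz, rfl⟩
  show (w - 1) * z ∈ M P d
  rw [sub_mul, one_mul]
  exact sub_mem (M0_mul P d (line_mem_M0 P hw) hz) hz

theorem M_antitone (P : PosStructure K) : Antitone (M P) := antitone_nat_of_succ_le (M_succ_le P)

theorem one_mem_M0 (P : PosStructure K) : (1 : K) ∈ M P 0 := line_mem_M0 P (Adams.isLine_one P)

theorem prod_mem_M (P : PosStructure K) {ι : Type*} [DecidableEq ι] (y : ι → K) (s : Finset ι)
    (hy : ∀ i ∈ s, P.IsLine (y i)) : ∏ i ∈ s, (y i - 1) ∈ M P s.card := by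
  induction s using Finset.induction_on with
  | empty => simpa using one_mem_M0 P
  | insert a s ha ih =>
    rw [Finset.prod_insert ha, Finset.card_insert_of_notMem ha]
    exact gen_mem P (hy a (Finset.mem_insert_self a s))
      (ih fun i hi => hy i (Finset.mem_insert_of_mem hi))

theorem M_map {K' : Type u} [CommRing K'] [LambdaOps K'] {P : PosStructure K}
    {P' : PosStructure K'} {f : K →+* K'} (hf : IsExtension P P' f) (d : ℕ) :
    ∀ {z : K}, z ∈ M P d → f z ∈ M P' d := by
  induction d with
  | zero =>
    intro z hz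
    rw [M_zero] at hz
    induction hz using AddSubgroup.closure_induction with
    | mem w hw => exact line_mem_M0 P' (Adams.isLine_map hf hw)
    | zero => rw [map_zero]; exact zero_mem _
    | add a b _ _ ha hb => rw [map_add]; exact add_mem ha hb
    | neg a _ ha => rw [map_neg]; exact neg_mem ha
  | succ d ih =>
    intro z hz
    rw [M_succ] at hz
    induction hz using AddSubgroup.closure_induction with
    | mem t ht =>
      obtain ⟨w, z', hw, hz', rfl⟩ := ht
      rw [map_mul, map_sub, map_one]
      exact gen_mem P' (Adams.isLine_map hf hw) (ih hz')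
    | zero => rw [map_zero]; exact zero_mem _
    | add a b _ _ ha hb => rw [map_add]; exact add_mem ha hb
    | neg a _ ha => rw [map_neg]; exact neg_mem ha

/-- all `γ^r(x)` lie in `M_r` -/
def GM (P : PosStructure K) (x : K) : Prop := ∀ r, gamma r x ∈ M P r

theorem lam_one' (P : PosStructure K) : ∀ k : ℕ, 2 ≤ k → LambdaOps.lam k (1 : K) = 0 :=
  fun k hk => Groth.Agent.H19.lam_one_eq_zero P k hk

theorem GM_lines (P : PosStructure K) {n : ℕ} (y : Fin n → K) (hy : ∀ i, P.IsLine (y i)) :
    GM P (∑ i, y i - (n : K)) := by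
  classical
  intro r
  rw [Groth.Agent.S8651.result K (lam_one' P) n y
    (fun i j hj => Groth.Agent.H19.lam_line_eq_zero P (hy i) j hj) r]
  refine sum_mem fun s hs => ?_
  have := prod_mem_M P y s (fun i _ => hy i)
  rwa [(Finset.mem_powersetCard.1 hs).2] at this

theorem GM_neg (P : PosStructure K) {b : K} (hb : GM P b) : GM P (-b) := by
  intro k
  induction k using Nat.strong_induction_on with
  | _ k ih =>
    rcases Nat.eq_zero_or_pos k with hk | hk
    · subst hk
      rw [AdamsGamma.gamma_zero']
      exact one_mem_M0 P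
    · have hsum : ∑ i ∈ Finset.range (k + 1), gamma i b * gamma (k - i) (-b) = 0 := by
        rw [← Groth.Agent.S3289.result K k b (-b), add_neg_cancel,
          AdamsGamma.gamma_arg_zero k (by omega)]
      rw [Finset.sum_range_succ', AdamsGamma.gamma_zero', one_mul, Nat.sub_zero] at hsum
      have h2 : gamma k (-b) =
          - ∑ i ∈ Finset.range k, gamma (i + 1) b * gamma (k - (i + 1)) (-b) :=
        eq_neg_of_add_eq_zero_right hsum
      rw [h2]
      refine neg_mem (sum_mem fun i hi => ?_)
      rw [Finset.mem_range] at hi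
      have h3 := M_mul P (i + 1) (k - (i + 1)) (hb (i + 1)) (ih (k - (i + 1)) (by omega))
      have e : i + 1 + (k - (i + 1)) = k := by omega
      rwa [e] at h3

theorem GM_add (P : PosStructure K) {a b : K} (ha : GM P a) (hb : GM P b) : GM P (a + b) := by
  intro k
  rw [Groth.Agent.S3289.result K k a b]
  refine sum_mem fun i hi => ?_
  have hi' := Finset.mem_range.1 hi
  have h3 := M_mul P i (k - i) (ha i) (hb (k - i))
  have e : i + (k - i) = k := by omega
  rwa [e] at h3

theorem isExtension_id (P : PosStructure K) : IsExtension P P (RingHom.id K) where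
  isLambdaHom := fun _ _ => rfl
  injective := fun _ _ h => h
  aug_comp := fun _ => rfl
  pos_subset := fun _ he => he

theorem exists_ext_GM (P : PosStructure K) (hK : HasSplitting K P) (x : K) (hx : P.aug x = 0) :
    ∃ (L : PosLambdaRing.{u}) (_ : HasSplitting L.carrier L.posStr) (f : K →+* L.carrier),
      IsExtension P L.posStr f ∧ GM L.posStr (f x) := by
  obtain ⟨e, g, he, hg, hxe⟩ := P.exists_sub x
  obtain ⟨L1, hL1, f1, hf1, n, y, hy, hsum⟩ := Adams.exists_split P hK e he
  obtain ⟨L2, hL2, f2, hf2, n', y', hy', hsum'⟩ :=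
    Adams.exists_split L1.posStr hL1 (f1 g) (hf1.pos_subset g hg)
  refine ⟨L2, hL2, f2.comp f1, Adams.IsExtension.comp' hf1 hf2, ?_⟩
  have hn : (n : ℤ) = n' := by
    have h1 : L1.posStr.aug (f1 e) = n := by
      rw [← hsum]; exact Adams.aug_sum_lines L1.posStr y hy
    have h2 : L2.posStr.aug (f2 (f1 g)) = n' := by
      rw [← hsum']; exact Adams.aug_sum_lines L2.posStr y' hy'
    rw [hf1.aug_comp] at h1
    rw [hf2.aug_comp, hf1.aug_comp] at h2
    rw [hxe, map_sub, h1, h2] at hx
    omega
  have hnn : n = n' := by exact_mod_cast hn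
  subst hnn
  have hdecomp : (f2.comp f1) x =
      (∑ i, f2 (y i) - (n : L2.carrier)) + -(∑ i, y' i - (n : L2.carrier)) := by
    rw [RingHom.comp_apply, hxe, map_sub, map_sub, ← hsum, ← hsum', map_sum]
    ring
  rw [hdecomp]
  exact GM_add L2.posStr (GM_lines L2.posStr _ (fun i => Adams.isLine_map hf2 (hy i)))
    (GM_neg L2.posStr (GM_lines L2.posStr y' hy'))

theorem exists_ext_prod (n : ℕ) : ∀ (L : PosLambdaRing.{u}) (_ : HasSplitting L.carrier L.posStr)
    (l : List (ℕ × L.carrier)), l.length = n → (∀ p ∈ l, L.posStr.aug p.2 = 0) →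
    ∃ (L' : PosLambdaRing.{u}) (f : L.carrier →+* L'.carrier), IsExtension L.posStr L'.posStr f ∧
      f ((l.map fun p => gamma p.1 p.2).prod) ∈ M L'.posStr (l.map Prod.fst).sum := by
  induction n with
  | zero =>
    intro L hL l hl hl0
    rw [List.length_eq_zero_iff] at hl
    subst hl
    refine ⟨L, RingHom.id _, isExtension_id L.posStr, ?_⟩
    simpa using one_mem_M0 L.posStr
  | succ n ih =>
    intro L hL l hl hl0
    cases l with
    | nil => simp at hl
    | cons p t =>
      obtain ⟨L1, hL1, f1, hf1, hGM⟩ :=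
        exists_ext_GM L.posStr hL p.2 (hl0 p List.mem_cons_self)
      have ht : (t.map fun q => ((q.1, f1 q.2) : ℕ × L1.carrier)).length = n := by
        simpa using hl
      obtain ⟨L2, f2, hf2, hmem⟩ := ih L1 hL1 (t.map fun q => ((q.1, f1 q.2) : ℕ × L1.carrier)) ht
        (by
          intro q hq
          obtain ⟨q0, hq0, rfl⟩ := List.mem_map.1 hq
          show L1.posStr.aug (f1 q0.2) = 0
          rw [hf1.aug_comp]
          exact hl0 q0 (List.mem_cons_of_mem _ hq0))
      refine ⟨L2, f2.comp f1, Adams.IsExtension.comp' hf1 hf2, ?_⟩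
      simp only [List.map_cons, List.prod_cons, List.sum_cons, map_mul]
      refine M_mul L2.posStr _ _ ?_ ?_
      · show f2 (f1 (gamma p.1 p.2)) ∈ _
        rw [AdamsGamma.map_gamma f1 hf1.isLambdaHom]
        exact M_map hf2 _ (hGM p.1)
      · have h1 : (f2.comp f1) (t.map fun q => gamma q.1 q.2).prod =
            f2 (((t.map fun q => ((q.1, f1 q.2) : ℕ × L1.carrier)).map
              fun p => gamma p.1 p.2).prod) := by
          show f2 (f1 _) = _
          rw [map_list_prod f1, List.map_map, List.map_map]
          congr 2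
          apply List.map_congr_left
          intro q _
          simp only [Function.comp_apply]
          exact AdamsGamma.map_gamma f1 hf1.isLambdaHom q.1 q.2
        have hs : ((t.map fun q => ((q.1, f1 q.2) : ℕ × L1.carrier)).map Prod.fst).sum =
            (t.map Prod.fst).sum := by
          rw [List.map_map]
          rfl
        rw [h1, ← hs]
        exact hmem

/-! ### `det` is trivial on `M_2`, hence on `F^2` -/

theorem stepA (P : PosStructure K) {w w' : K} (hw : P.IsLine w) (hw' : P.IsLine w') {z : K}
    (hz : z ∈ M P 0) : (w - 1) * ((w' - 1) * z) ∈ (detHom P).ker := by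
  rw [M_zero] at hz
  induction hz using AddSubgroup.closure_induction with
  | mem v hv =>
    rw [AddMonoidHom.mem_ker]
    have e : (w - 1) * ((w' - 1) * v) = w * w' * v - w * v - w' * v + v := by ring
    rw [e, map_add, map_sub, map_sub]
    have h : detHom P (w * w' * v) + detHom P v = detHom P (w * v) + detHom P (w' * v) := by
      have hu : det P (w * w' * v) * det P v = det P (w * v) * det P (w' * v) := by
        apply Units.ext
        rw [Units.val_mul, Units.val_mul,
          det_line P (Adams.isLine_mul P (Adams.isLine_mul P hw hw') hv), det_line P hv,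
          det_line P (Adams.isLine_mul P hw hv), det_line P (Adams.isLine_mul P hw' hv)]
        ring
      exact congrArg Additive.ofMul hu
    rw [eq_sub_of_add_eq h]
    abel
  | zero => rw [mul_zero, mul_zero]; exact zero_mem _
  | add a b _ _ ha hb => rw [mul_add, mul_add]; exact add_mem ha hb
  | neg a _ ha => rw [mul_neg, mul_neg]; exact neg_mem ha

theorem M2_le_ker (P : PosStructure K) : M P 2 ≤ (detHom P).ker := by
  show M P (1 + 1) ≤ _
  rw [M_succ, AddSubgroup.closure_le]
  rintro y ⟨w, z, hw, hz, rfl⟩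
  show (w - 1) * z ∈ (detHom P).ker
  rw [show (1 : ℕ) = 0 + 1 from rfl, M_succ] at hz
  induction hz using AddSubgroup.closure_induction with
  | mem t ht =>
    obtain ⟨w', z', hw', hz', rfl⟩ := ht
    exact stepA P hw hw' hz'
  | zero => rw [mul_zero]; exact zero_mem _
  | add a b _ _ ha hb => rw [mul_add]; exact add_mem ha hb
  | neg a _ ha => rw [mul_neg]; exact neg_mem ha

theorem det_F2 (P : PosStructure K) (hK : HasSplitting K P) {x : K}
    (hx : x ∈ gammaFiltration P 2) : det P x = 1 := by
  have hker : gammaFiltration P 2 ≤ (detHom P).ker := by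
    unfold gammaFiltration
    rw [if_neg (by norm_num), AddSubgroup.closure_le]
    rintro y ⟨l, hl0, hl2, rfl⟩
    obtain ⟨L', f, hf, hmem⟩ := exists_ext_prod l.length ⟨K, P⟩ hK l rfl hl0
    have h2 : f ((l.map fun p => gamma p.1 p.2).prod) ∈ M L'.posStr 2 :=
      M_antitone L'.posStr hl2 hmem
    have h3 := (mem_ker_iff L'.posStr _).1 (M2_le_ker L'.posStr h2)
    rw [det_map hf] at h3
    show _ ∈ (detHom P).ker
    rw [mem_ker_iff]
    apply Units.ext
    have h4 := congrArg Units.val h3
    rw [Units.coe_map, Units.val_one] at h4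
    apply hf.injective
    rw [Units.val_one, map_one]
    exact h4
  exact (mem_ker_iff P x).1 (hker hx)

/-! ### augmentation of `F^1`, and `det e ≡ 1 + (e - m)` modulo `F^2` -/

theorem aug_M1 (P : PosStructure K) {z : K} (hz : z ∈ M P 1) : P.aug z = 0 := by
  rw [show (1 : ℕ) = 0 + 1 from rfl, M_succ] at hz
  induction hz using AddSubgroup.closure_induction with
  | mem t ht =>
    obtain ⟨w, z', hw, _, rfl⟩ := ht
    rw [map_mul, map_sub, hw.2, map_one, sub_self, zero_mul]
  | zero => exact map_zero _
  | add a b _ _ ha hb => rw [map_add, ha, hb, add_zero]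
  | neg a _ ha => rw [map_neg, ha, neg_zero]

theorem aug_gamma (P : PosStructure K) (hK : HasSplitting K P) {x : K} (hx : P.aug x = 0)
    {k : ℕ} (hk : 1 ≤ k) : P.aug (gamma k x) = 0 := by
  obtain ⟨L, _, f, hf, hGM⟩ := exists_ext_GM P hK x hx
  rw [← hf.aug_comp, AdamsGamma.map_gamma f hf.isLambdaHom]
  exact aug_M1 L.posStr (M_antitone L.posStr hk (hGM k))

theorem aug_F1 (P : PosStructure K) (hK : HasSplitting K P) {x : K}
    (hx : x ∈ gammaFiltration P 1) : P.aug x = 0 := by
  unfold gammaFiltration at hx
  rw [if_neg one_ne_zero] at hx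
  induction hx using AddSubgroup.closure_induction with
  | mem y hy =>
    obtain ⟨l, hl0, hl1, rfl⟩ := hy
    rw [map_list_prod, List.map_map]
    apply List.prod_eq_zero
    have hex : ∃ p ∈ l, 1 ≤ p.1 := by
      by_contra hcon
      simp only [not_exists, not_and, not_le, Nat.lt_one_iff] at hcon
      have h0 : (l.map Prod.fst).sum = 0 := by
        apply List.sum_eq_zero
        intro a ha
        obtain ⟨p, hp, rfl⟩ := List.mem_map.1 ha
        exact hcon p hp
      omega
    obtain ⟨p, hp, hp1⟩ := hex
    rw [List.mem_map]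
    exact ⟨p, hp, (aug_gamma P hK (hl0 p hp) hp1).symm ▸ rfl⟩
  | zero => exact map_zero _
  | add a b _ _ ha hb => rw [map_add, ha, hb, add_zero]
  | neg a _ ha => rw [map_neg, ha, neg_zero]

theorem prod_one_add_eq {R : Type*} [CommRing R] {n : ℕ} (z : Fin n → R) :
    ∏ i, (1 + z i) = ∑ k ∈ Finset.range (n + 1),
      ∑ t ∈ (Finset.univ : Finset (Fin n)).powersetCard k, ∏ i ∈ t, z i := by
  classical
  rw [Finset.prod_one_add, Finset.powerset_card_disjiUnion, Finset.sum_disjiUnion,
    Finset.card_univ, Fintype.card_fin]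

theorem sum_gamma_eq_topLam (P : PosStructure K) (hK : HasSplitting K P) {e : K}
    (he : e ∈ P.pos) :
    ∑ k ∈ Finset.range ((P.aug e).toNat + 1), gamma k (e - ((P.aug e).toNat : K)) =
      topLam P e := by
  classical
  obtain ⟨L, _, f, hf, n, y, hy, hsum⟩ := Adams.exists_split P hK e he
  apply hf.injective
  have hn : (P.aug e).toNat = n := by
    have h1 : L.posStr.aug (f e) = n := by
      rw [← hsum]; exact Adams.aug_sum_lines L.posStr y hy
    rw [hf.aug_comp] at h1
    rw [h1]
    exact Int.toNat_natCast n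
  unfold topLam
  rw [hn, map_sum, hf.isLambdaHom, ← hsum, Adams.lam_sum_lines L.posStr y hy n]
  have hR : ∑ t ∈ (Finset.univ : Finset (Fin n)).powersetCard n, ∏ i ∈ t, y i = ∏ i, y i := by
    have h := Finset.powersetCard_self (Finset.univ : Finset (Fin n))
    rw [Finset.card_univ, Fintype.card_fin] at h
    rw [h, Finset.sum_singleton]
  rw [hR]
  have hLk : ∀ k ∈ Finset.range (n + 1), f (gamma k (e - (n : K))) =
      ∑ t ∈ (Finset.univ : Finset (Fin n)).powersetCard k, ∏ i ∈ t, (y i - 1) := by
    intro k _
    rw [AdamsGamma.map_gamma f hf.isLambdaHom, map_sub, map_natCast, ← hsum]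
    exact Groth.Agent.S8651.result L.carrier (lam_one' L.posStr) n y
      (fun i j hj => Groth.Agent.H19.lam_line_eq_zero L.posStr (hy i) j hj) k
  rw [Finset.sum_congr rfl hLk, ← prod_one_add_eq]
  exact Finset.prod_congr rfl fun i _ => by ring

theorem topLam_sub_mem (P : PosStructure K) (hK : HasSplitting K P) {e : K} (he : e ∈ P.pos) :
    topLam P e - 1 - (e - ((P.aug e).toNat : K)) ∈ gammaFiltration P 2 := by
  have hpos := P.aug_pos e he
  obtain ⟨m', hm'⟩ : ∃ m', (P.aug e).toNat = m' + 1 := ⟨(P.aug e).toNat - 1, by omega⟩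
  have h := sum_gamma_eq_topLam P hK he
  have haug : P.aug (e - ((P.aug e).toNat : K)) = 0 := by
    rw [map_sub, map_natCast]; omega
  obtain ⟨a, ha⟩ : ∃ a, a = e - ((P.aug e).toNat : K) := ⟨_, rfl⟩
  rw [← ha] at h haug ⊢
  rw [hm', Finset.sum_range_succ', Finset.sum_range_succ'] at h
  simp only [zero_add, AdamsGamma.gamma_zero', AdamsGamma.gamma_one'] at h
  have h2 : topLam P e - 1 - a = ∑ k ∈ Finset.range m', gamma (k + 1 + 1) a := by
    rw [← h]; ring
  rw [h2]
  exact sum_mem fun k _ => AdamsGamma.gamma_mem P haug (by omega)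

theorem isLine_topLam (P : PosStructure K) (hK : HasSplitting K P)
    (hdet : ∀ e : K, e ∈ P.pos → LambdaOps.lam (P.aug e).toNat e ∈ P.pos) {e : K}
    (he : e ∈ P.pos) : P.IsLine (topLam P e) :=
  ⟨hdet e he, by
    unfold topLam
    rw [Groth.Agent.H41.aug_lam_eq_choose P hK e he, Nat.choose_self, Nat.cast_one]⟩

theorem line_sub_one_mem (P : PosStructure K) {u : K} (hu : P.IsLine u) :
    u - 1 ∈ gammaFiltration P 1 := by
  have h : P.aug (u - 1) = 0 := by rw [map_sub, hu.2, map_one, sub_self]
  have := AdamsGamma.gamma_mem P h (n := 1) (r := 1) le_rfl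
  rwa [AdamsGamma.gamma_one'] at this

end Groth.Agent.H19.Det
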