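import Mathlib
import Groth.Agent.H19.Det

/-!
# γ-filtration of an elementary extension `K[ℓ]` (helper library, seat helper19)

`main`: for an extension `φ : K → A` of λ-rings with positive structures (both with the splitting
property), `A` generated over `K` by a line element `ℓ` which is a root of `p_e`
(`e` positive of augmentation `r+1`), `F^k A = Σ_{i ≤ r} F^{k-i} K · (ℓ-1)^i`.
-/

set_option autoImplicit false
universe u

namespace Groth.Agent.H19.ElemExt

open LambdaRing Groth.Agent.H19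

/-! ### an abstract filtration -/

section G

variable {K A : Type*} [CommRing K] [CommRing A]

/-- the candidate filtration `Σ_{i ≤ r} φ(F^{k-i}) z^i` -/
def Gc (φ : K →+* A) (z : A) (r : ℕ) (F : ℕ → AddSubgroup K) (k : ℕ) : AddSubgroup A :=
  AddSubgroup.closure {y | ∃ i a, i ≤ r ∧ a ∈ F (k - i) ∧ y = φ a * z ^ i}

theorem Gc_eq (φ : K →+* A) (z : A) (r : ℕ) (F : ℕ → AddSubgroup K) (k : ℕ) :
    Gc φ z r F k = ⨆ i ∈ Finset.range (r + 1), AddSubgroup.map
      ((AddMonoidHom.mulRight (z ^ i)).comp φ.toAddMonoidHom) (F (k - i)) := by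
  apply le_antisymm
  · rw [Gc, AddSubgroup.closure_le]
    rintro y ⟨i, a, hi, ha, rfl⟩
    show φ a * z ^ i ∈ (⨆ i ∈ Finset.range (r + 1), AddSubgroup.map
      ((AddMonoidHom.mulRight (z ^ i)).comp φ.toAddMonoidHom) (F (k - i)))
    refine AddSubgroup.mem_iSup_of_mem i
      (AddSubgroup.mem_iSup_of_mem (Finset.mem_range.2 (by omega)) ?_)
    exact AddSubgroup.mem_map.2 ⟨a, ha, rfl⟩
  · refine iSup₂_le fun i hi => ?_
    intro y hy
    obtain ⟨a, ha, rfl⟩ := AddSubgroup.mem_map.1 hy
    exact AddSubgroup.subset_closure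
      ⟨i, a, by have := Finset.mem_range.1 hi; omega, ha, rfl⟩

/-- hypotheses on the filtration `F` of `K` and the relation satisfied by `z` -/
structure GData (φ : K →+* A) (z : A) (r : ℕ) (F : ℕ → AddSubgroup K) : Prop where
  F0 : F 0 = ⊤
  anti : Antitone F
  mul : ∀ a b x y, x ∈ F a → y ∈ F b → x * y ∈ F (a + b)
  rel : ∃ c : ℕ → K, (∀ i, i ≤ r → c i ∈ F (r + 1 - i)) ∧
    z ^ (r + 1) = ∑ i ∈ Finset.range (r + 1), φ (c i) * z ^ i

variable {φ : K →+* A} {z : A} {r : ℕ} {F : ℕ → AddSubgroup K}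

theorem gen_mem {k i : ℕ} {a : K} (hi : i ≤ r) (ha : a ∈ F (k - i)) :
    φ a * z ^ i ∈ Gc φ z r F k :=
  AddSubgroup.subset_closure ⟨i, a, hi, ha, rfl⟩

theorem Gc_antitone (h : GData φ z r F) : Antitone (Gc φ z r F) := by
  intro k k' hkk'
  rw [Gc, AddSubgroup.closure_le]
  rintro y ⟨i, a, hi, ha, rfl⟩
  exact gen_mem hi (h.anti (by omega) ha)

theorem phi_mul_mem (h : GData φ z r F) {j k : ℕ} {b : K} (hb : b ∈ F j) {y : A}
    (hy : y ∈ Gc φ z r F k) : φ b * y ∈ Gc φ z r F (k + j) := by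
  rw [Gc] at hy
  induction hy using AddSubgroup.closure_induction with
  | mem y hy =>
    obtain ⟨i, a, hi, ha, rfl⟩ := hy
    rw [← mul_assoc, ← map_mul]
    exact gen_mem hi (h.anti (by omega) (h.mul j (k - i) b a hb ha))
  | zero => rw [mul_zero]; exact zero_mem _
  | add x y _ _ hx hy => rw [mul_add]; exact add_mem hx hy
  | neg x _ hx => rw [mul_neg]; exact neg_mem hx

theorem z_mul_mem (h : GData φ z r F) {k : ℕ} {y : A} (hy : y ∈ Gc φ z r F k) :
    z * y ∈ Gc φ z r F (k + 1) := by
  obtain ⟨c, hc, hz⟩ := h.rel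
  rw [Gc] at hy
  induction hy using AddSubgroup.closure_induction with
  | mem y hy =>
    obtain ⟨i, a, hi, ha, rfl⟩ := hy
    have e0 : z * (φ a * z ^ i) = φ a * z ^ (i + 1) := by rw [pow_succ]; ring
    rcases Nat.lt_or_ge i r with hlt | hge
    · rw [e0]
      refine gen_mem (by omega) ?_
      rwa [show k + 1 - (i + 1) = k - i by omega]
    · have hir : i = r := by omega
      have e1 : z * (φ a * z ^ i) = ∑ i' ∈ Finset.range (r + 1), φ (a * c i') * z ^ i' := by
        rw [e0, hir, hz, Finset.mul_sum]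
        refine Finset.sum_congr rfl fun i' _ => ?_
        rw [map_mul]; ring
      rw [e1]
      refine sum_mem fun i' hi' => ?_
      have hi'' := Finset.mem_range.1 hi'
      refine gen_mem (by omega) (h.anti ?_ (h.mul (k - i) (r + 1 - i') a (c i') ha (hc i' (by omega))))
      omega
  | zero => rw [mul_zero]; exact zero_mem _
  | add x y _ _ hx hy => rw [mul_add]; exact add_mem hx hy
  | neg x _ hx => rw [mul_neg]; exact neg_mem hx

theorem zpow_mul_mem (h : GData φ z r F) (s : ℕ) {k : ℕ} {y : A} (hy : y ∈ Gc φ z r F k) :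
    z ^ s * y ∈ Gc φ z r F (k + s) := by
  induction s with
  | zero => simpa using hy
  | succ s ih =>
    rw [pow_succ', mul_assoc]
    exact z_mul_mem h ih

theorem Gc_mul (h : GData φ z r F) {a b : ℕ} {x y : A} (hx : x ∈ Gc φ z r F a)
    (hy : y ∈ Gc φ z r F b) : x * y ∈ Gc φ z r F (a + b) := by
  rw [Gc] at hx
  induction hx using AddSubgroup.closure_induction with
  | mem x hx =>
    obtain ⟨i, a', hi, ha', rfl⟩ := hx
    have h1 := zpow_mul_mem h i hy
    have h2 := phi_mul_mem h ha' h1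
    rw [mul_assoc]
    exact Gc_antitone h (by omega) h2
  | zero => rw [zero_mul]; exact zero_mem _
  | add x y _ _ hx hy => rw [add_mul]; exact add_mem hx hy
  | neg x _ hx => rw [neg_mul]; exact neg_mem hx

theorem phi_mem_Gc {a : K} {k : ℕ} (ha : a ∈ F k) : φ a ∈ Gc φ z r F k := by
  have := gen_mem (φ := φ) (z := z) (r := r) (F := F) (k := k) (i := 0) (a := a)
    (Nat.zero_le r) (by rwa [Nat.sub_zero])
  simpa using this

theorem one_mem_Gc (h : GData φ z r F) : (1 : A) ∈ Gc φ z r F 0 := by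
  have := phi_mem_Gc (φ := φ) (z := z) (r := r) (F := F) (a := 1) (k := 0)
    (by rw [h.F0]; exact AddSubgroup.mem_top _)
  simpa using this

theorem z_mem_Gc (h : GData φ z r F) : z ∈ Gc φ z r F 1 := by
  have := z_mul_mem h (one_mem_Gc h)
  simpa using this

theorem pow_mem_Gc (h : GData φ z r F) {y : A} {a : ℕ} (hy : y ∈ Gc φ z r F a) (t : ℕ) :
    y ^ t ∈ Gc φ z r F (t * a) := by
  induction t with
  | zero => rw [pow_zero, Nat.zero_mul]; exact one_mem_Gc h
  | succ t ih =>
    rw [pow_succ, Nat.succ_mul]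
    exact Gc_mul h ih hy

theorem rel_solve {R : Type*} [CommRing R] (G : ℕ → R) (hG0 : G 0 = 1) (z : R) (m : ℕ)
    (H : ∑ i ∈ Finset.range (m + 1), G i * (-z) ^ (m - i) = 0) :
    z ^ m = ∑ j ∈ Finset.range m, ((-1) ^ (m + 1 + j) * G (m - j)) * z ^ j := by
  have H1 : ∑ j ∈ Finset.range (m + 1), G (m - j) * (-z) ^ j = 0 := by
    rw [← H, ← Finset.sum_range_reflect (fun i => G i * (-z) ^ (m - i)) (m + 1)]
    refine Finset.sum_congr rfl fun j hj => ?_
    have hj' := Finset.mem_range.1 hj
    show G (m - j) * (-z) ^ j = G (m + 1 - 1 - j) * (-z) ^ (m - (m + 1 - 1 - j))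
    rw [show m + 1 - 1 - j = m - j by omega, show m - (m - j) = j by omega]
  rw [Finset.sum_range_succ, Nat.sub_self, hG0, one_mul] at H1
  have hsq : ((-1 : R) ^ m) * (-1) ^ m = 1 := by
    rw [← mul_pow]; simp
  have e1 : ∑ j ∈ Finset.range m, ((-1) ^ (m + 1 + j) * G (m - j)) * z ^ j =
      (-1) ^ (m + 1) * ∑ j ∈ Finset.range m, G (m - j) * (-z) ^ j := by
    rw [Finset.mul_sum]
    refine Finset.sum_congr rfl fun j _ => ?_
    rw [neg_pow z j, pow_add (-1 : R) (m + 1) j]
    ring
  rw [e1, eq_neg_of_add_eq_zero_left H1, neg_pow z m, pow_succ]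
  linear_combination (-(z ^ m)) * hsq

end G

/-! ### combinatorial identities -/

section Comb

theorem prod_add_eq {R : Type*} [CommRing R] {n : ℕ} (a : R) (b : Fin n → R) :
    ∏ q, (a + b q) = ∑ k ∈ Finset.range (n + 1),
      a ^ (n - k) * ∑ t ∈ (Finset.univ : Finset (Fin n)).powersetCard k, ∏ q ∈ t, b q := by
  classical
  have h1 : ∏ q, (a + b q) = ∑ t ∈ (Finset.univ : Finset (Fin n)).powerset,
      (∏ q ∈ t, b q) * a ^ (n - t.card) := by
    rw [Finset.prod_congr rfl (fun q _ => add_comm a (b q)), Finset.prod_add]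
    refine Finset.sum_congr rfl fun t _ => ?_
    rw [Finset.prod_const, Finset.card_univ_sdiff, Fintype.card_fin]
  rw [h1, Finset.powerset_card_disjiUnion, Finset.sum_disjiUnion, Finset.card_univ,
    Fintype.card_fin]
  refine Finset.sum_congr rfl fun k _ => ?_
  rw [Finset.mul_sum]
  refine Finset.sum_congr rfl fun t ht => ?_
  rw [(Finset.mem_powersetCard.1 ht).2, mul_comm]

open PowerSeries in
theorem coeff_one_add_CX_pow {R : Type*} [CommRing R] (β : R) (N j : ℕ) :
    PowerSeries.coeff j ((1 + PowerSeries.C β * PowerSeries.X : PowerSeries R) ^ N) =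
      (N.choose j : R) * β ^ j := by
  have h1 : (1 + PowerSeries.C β * PowerSeries.X : PowerSeries R) =
      PowerSeries.rescale β (1 + PowerSeries.X) := by
    rw [map_add, map_one, PowerSeries.rescale_X]
  have h2 : ((1 + PowerSeries.X : PowerSeries R)) =
      ((1 + Polynomial.X : Polynomial R) : PowerSeries R) := by simp
  rw [h1, ← map_pow, PowerSeries.coeff_rescale, h2, ← Polynomial.coe_pow, Polynomial.coeff_coe,
    Polynomial.coeff_one_add_X_pow, mul_comm]

theorem esymm_expand {R : Type*} [CommRing R] {s : ℕ} (α : Fin s → R) (β : R) (n : ℕ) :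
    ∑ t ∈ (Finset.univ : Finset (Fin s)).powersetCard n, ∏ q ∈ t, (α q * (1 + β) + β) =
      ∑ k ∈ Finset.range (n + 1),
        (∑ t ∈ (Finset.univ : Finset (Fin s)).powersetCard k, ∏ q ∈ t, α q) *
          ((1 + β) ^ k * ((s - k).choose (n - k) : R) * β ^ (n - k)) := by
  classical
  -- abbreviations
  have hfac : ∀ q : Fin s, (PowerSeries.C (α q * (1 + β) + β) * PowerSeries.X + 1 : PowerSeries R) =
      (1 + PowerSeries.C β * PowerSeries.X) +
        PowerSeries.C (α q) * (PowerSeries.C (1 + β) * PowerSeries.X) := by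
    intro q
    simp only [map_add, map_mul, map_one]
    ring
  have hL := Groth.Agent.S8651.coeff_prod (fun q : Fin s => α q * (1 + β) + β) Finset.univ n
  rw [← hL, Finset.prod_congr rfl (fun q _ => hfac q), prod_add_eq, map_sum]
  -- the k-th term
  have hterm : ∀ k ∈ Finset.range (s + 1),
      PowerSeries.coeff n ((1 + PowerSeries.C β * PowerSeries.X : PowerSeries R) ^ (s - k) *
        ∑ t ∈ (Finset.univ : Finset (Fin s)).powersetCard k,
          ∏ q ∈ t, PowerSeries.C (α q) * (PowerSeries.C (1 + β) * PowerSeries.X)) =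
      if k ≤ n then (∑ t ∈ (Finset.univ : Finset (Fin s)).powersetCard k, ∏ q ∈ t, α q) *
          ((1 + β) ^ k * ((s - k).choose (n - k) : R) * β ^ (n - k)) else 0 := by
    intro k _
    have h1 : ∑ t ∈ (Finset.univ : Finset (Fin s)).powersetCard k,
        ∏ q ∈ t, PowerSeries.C (α q) * (PowerSeries.C (1 + β) * PowerSeries.X) =
        PowerSeries.C ((∑ t ∈ (Finset.univ : Finset (Fin s)).powersetCard k, ∏ q ∈ t, α q) *
          (1 + β) ^ k) * PowerSeries.X ^ k := by
      rw [map_mul, map_sum, Finset.sum_mul, Finset.sum_mul]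
      refine Finset.sum_congr rfl fun t ht => ?_
      rw [Finset.prod_mul_distrib, Finset.prod_const, (Finset.mem_powersetCard.1 ht).2, mul_pow,
        map_prod, map_pow]
      ring
    rw [h1, mul_left_comm, PowerSeries.coeff_C_mul, PowerSeries.coeff_mul_X_pow']
    split_ifs with hk
    · rw [coeff_one_add_CX_pow]; ring
    · rw [mul_zero]
  rw [Finset.sum_congr rfl hterm]
  -- compare the two ranges
  have hz : ∀ k, s < k →
      (∑ t ∈ (Finset.univ : Finset (Fin s)).powersetCard k, ∏ q ∈ t, α q) = 0 := by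
    intro k hk
    rw [Finset.powersetCard_eq_empty.2 (by rw [Finset.card_univ, Fintype.card_fin]; exact hk),
      Finset.sum_empty]
  have hA : ∑ k ∈ Finset.range (s + 1),
      (if k ≤ n then (∑ t ∈ (Finset.univ : Finset (Fin s)).powersetCard k, ∏ q ∈ t, α q) *
          ((1 + β) ^ k * ((s - k).choose (n - k) : R) * β ^ (n - k)) else 0) =
      ∑ k ∈ Finset.range (n + s + 1),
      (if k ≤ n then (∑ t ∈ (Finset.univ : Finset (Fin s)).powersetCard k, ∏ q ∈ t, α q) *
          ((1 + β) ^ k * ((s - k).choose (n - k) : R) * β ^ (n - k)) else 0) := by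
    apply Finset.sum_subset
    · intro k hk
      simp only [Finset.mem_range] at hk ⊢
      omega
    · intro k _ hk
      simp only [Finset.mem_range, not_lt] at hk
      rw [hz k (by omega), zero_mul, ite_self]
  have hB : ∑ k ∈ Finset.range (n + 1),
      (∑ t ∈ (Finset.univ : Finset (Fin s)).powersetCard k, ∏ q ∈ t, α q) *
          ((1 + β) ^ k * ((s - k).choose (n - k) : R) * β ^ (n - k)) =
      ∑ k ∈ Finset.range (n + s + 1),
      (if k ≤ n then (∑ t ∈ (Finset.univ : Finset (Fin s)).powersetCard k, ∏ q ∈ t, α q) *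
          ((1 + β) ^ k * ((s - k).choose (n - k) : R) * β ^ (n - k)) else 0) := by
    rw [← Finset.sum_subset (s₁ := Finset.range (n + 1)) (s₂ := Finset.range (n + s + 1))]
    · refine Finset.sum_congr rfl fun k hk => ?_
      rw [if_pos (by have := Finset.mem_range.1 hk; omega)]
    · intro k hk
      simp only [Finset.mem_range] at hk ⊢
      omega
    · intro k _ hk
      simp only [Finset.mem_range, not_lt] at hk
      rw [if_neg (by omega)]
  rw [hA, hB]

end Comb

/-! ### λ-ring side -/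

section Lam

variable {A : Type u} [CommRing A] [LambdaOps A]

/-- a multiplicative filtration -/
structure MulFil (G : ℕ → AddSubgroup A) : Prop where
  one : (1 : A) ∈ G 0
  mul : ∀ a b x y, x ∈ G a → y ∈ G b → x * y ∈ G (a + b)
  anti : Antitone G

/-- all `γ^n(x)` lie in `G n` -/
def GG (G : ℕ → AddSubgroup A) (x : A) : Prop := ∀ n, gamma n x ∈ G n

variable {G : ℕ → AddSubgroup A}

theorem GG_zero (h : MulFil G) : GG G 0 := by
  intro n
  rcases Nat.eq_zero_or_pos n with rfl | hn
  · rw [AdamsGamma.gamma_zero']; exact h.one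
  · rw [AdamsGamma.gamma_arg_zero n (by omega)]; exact zero_mem _

theorem GG_add (h : MulFil G) {a b : A} (ha : GG G a) (hb : GG G b) : GG G (a + b) := by
  intro k
  rw [Groth.Agent.S3289.result A k a b]
  refine sum_mem fun i hi => ?_
  have hi' := Finset.mem_range.1 hi
  have h3 := h.mul i (k - i) _ _ (ha i) (hb (k - i))
  have e : i + (k - i) = k := by omega
  rwa [e] at h3

theorem GG_neg (h : MulFil G) {b : A} (hb : GG G b) : GG G (-b) := by
  intro k
  induction k using Nat.strong_induction_on with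
  | _ k ih =>
    rcases Nat.eq_zero_or_pos k with hk | hk
    · subst hk
      rw [AdamsGamma.gamma_zero']
      exact h.one
    · have hsum : ∑ i ∈ Finset.range (k + 1), gamma i b * gamma (k - i) (-b) = 0 := by
        rw [← Groth.Agent.S3289.result A k b (-b), add_neg_cancel,
          AdamsGamma.gamma_arg_zero k (by omega)]
      rw [Finset.sum_range_succ', AdamsGamma.gamma_zero', one_mul, Nat.sub_zero] at hsum
      have h2 : gamma k (-b) =
          - ∑ i ∈ Finset.range k, gamma (i + 1) b * gamma (k - (i + 1)) (-b) :=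
        eq_neg_of_add_eq_zero_right hsum
      rw [h2]
      refine neg_mem (sum_mem fun i hi => ?_)
      rw [Finset.mem_range] at hi
      have h3 := h.mul (i + 1) (k - (i + 1)) _ _ (hb (i + 1)) (ih (k - (i + 1)) (by omega))
      have e : i + 1 + (k - (i + 1)) = k := by omega
      rwa [e] at h3

theorem GG_sub (h : MulFil G) {a b : A} (ha : GG G a) (hb : GG G b) : GG G (a - b) := by
  rw [sub_eq_add_neg]
  exact GG_add h ha (GG_neg h hb)

theorem GG_sum (h : MulFil G) {ι : Type*} (s : Finset ι) (f : ι → A)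
    (hf : ∀ i ∈ s, GG G (f i)) : GG G (∑ i ∈ s, f i) :=
  Finset.sum_induction f (GG G) (fun _ _ => GG_add h) (GG_zero h) hf

theorem prod_gamma_mem (h : MulFil G) (Pe : PosStructure A)
    (hall : ∀ x, Pe.aug x = 0 → GG G x) :
    ∀ l : List (ℕ × A), (∀ p ∈ l, Pe.aug p.2 = 0) →
      (l.map fun p => gamma p.1 p.2).prod ∈ G (l.map Prod.fst).sum := by
  intro l
  induction l with
  | nil =>
    intro _
    simpa using h.one
  | cons p t ih =>
    intro hl
    simp only [List.map_cons, List.prod_cons, List.sum_cons]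
    exact h.mul _ _ _ _ (hall p.2 (hl p List.mem_cons_self) p.1)
      (ih fun q hq => hl q (List.mem_cons_of_mem _ hq))

theorem filtration_le (h : MulFil G) (Pe : PosStructure A)
    (hall : ∀ x, Pe.aug x = 0 → GG G x) (k : ℕ) (hk : k ≠ 0) : gammaFiltration Pe k ≤ G k := by
  unfold gammaFiltration
  rw [if_neg hk, AddSubgroup.closure_le]
  rintro y ⟨l, hl0, hlk, rfl⟩
  exact h.anti hlk (prod_gamma_mem h Pe hall l hl0)

theorem map_filtration {K : Type u} [CommRing K] [LambdaOps K] {P : PosStructure K}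
    {Pe : PosStructure A} {φ : K →+* A} (hext : IsExtension P Pe φ) (j : ℕ) {x : K}
    (hx : x ∈ gammaFiltration P j) : φ x ∈ gammaFiltration Pe j := by
  rcases Nat.eq_zero_or_pos j with rfl | hj
  · rw [AdamsGamma.filtration_zero]; exact AddSubgroup.mem_top _
  · unfold gammaFiltration at hx ⊢
    rw [if_neg (by omega)] at hx ⊢
    induction hx using AddSubgroup.closure_induction with
    | mem y hy =>
      obtain ⟨l, hl0, hlj, rfl⟩ := hy
      apply AddSubgroup.subset_closure
      refine ⟨l.map fun q => ((q.1, φ q.2) : ℕ × A), ?_, ?_, ?_⟩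
      · intro q hq
        obtain ⟨q0, hq0, rfl⟩ := List.mem_map.1 hq
        show Pe.aug (φ q0.2) = 0
        rw [hext.aug_comp]
        exact hl0 q0 hq0
      · have hs : ((l.map fun q => ((q.1, φ q.2) : ℕ × A)).map Prod.fst).sum =
            (l.map Prod.fst).sum := by
          rw [List.map_map]; rfl
        rw [hs]; exact hlj
      · rw [map_list_prod φ, List.map_map, List.map_map]
        congr 1
        apply List.map_congr_left
        intro q _
        simp only [Function.comp_apply]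
        exact AdamsGamma.map_gamma φ hext.isLambdaHom q.1 q.2
    | zero => rw [map_zero]; exact zero_mem _
    | add a b _ _ ha hb => rw [map_add]; exact add_mem ha hb
    | neg a _ ha => rw [map_neg]; exact neg_mem ha

/-- the relation `Σ γ^i(E - m) (1 - ℓ)^{m-i} = 0` for a root `ℓ` of `p_E` -/
theorem rel_gamma (Pe : PosStructure A) (hsplit : HasSplitting A Pe) {E : A} (hE : E ∈ Pe.pos)
    (m : ℕ) (hm : (Pe.aug E).toNat = m) (ℓ : A)
    (hrel : ∑ i ∈ Finset.range (m + 1), ((-1) ^ i * LambdaOps.lam i E) * ℓ ^ (m - i) = 0) :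
    ∑ i ∈ Finset.range (m + 1), gamma i (E - (m : A)) * (1 - ℓ) ^ (m - i) = 0 := by
  classical
  obtain ⟨L, _, f, hf, n, y, hy, hsum⟩ := Adams.exists_split Pe hsplit E hE
  have hn : m = n := by
    have h1 : L.posStr.aug (f E) = n := by
      rw [← hsum]; exact Adams.aug_sum_lines L.posStr y hy
    rw [hf.aug_comp] at h1
    rw [← hm, h1]
    exact Int.toNat_natCast n
  subst hn
  apply hf.injective
  rw [map_zero, map_sum]
  have hterm : ∀ i ∈ Finset.range (m + 1), f (gamma i (E - (m : A)) * (1 - ℓ) ^ (m - i)) =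
      (1 - f ℓ) ^ (m - i) *
        ∑ t ∈ (Finset.univ : Finset (Fin m)).powersetCard i, ∏ q ∈ t, (y q - 1) := by
    intro i _
    rw [map_mul, map_pow, map_sub, map_one, AdamsGamma.map_gamma f hf.isLambdaHom, map_sub,
      map_natCast, ← hsum,
      Groth.Agent.S8651.result L.carrier (Det.lam_one' L.posStr) m y
        (fun q j hj => lam_line_eq_zero L.posStr (hy q) j hj) i, mul_comm]
  rw [Finset.sum_congr rfl hterm, ← prod_add_eq]
  have hrel' : ∏ q, (f ℓ + (- y q)) = 0 := by
    rw [prod_add_eq]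
    have h0 := congrArg f hrel
    rw [map_zero, map_sum] at h0
    rw [← h0]
    refine Finset.sum_congr rfl fun i _ => ?_
    have hA : ∑ t ∈ (Finset.univ : Finset (Fin m)).powersetCard i, ∏ q ∈ t, (- y q) =
        (-1) ^ i * ∑ t ∈ (Finset.univ : Finset (Fin m)).powersetCard i, ∏ q ∈ t, y q := by
      rw [Finset.mul_sum]
      refine Finset.sum_congr rfl fun t ht => ?_
      rw [Finset.prod_neg, (Finset.mem_powersetCard.1 ht).2]
    have hB : f (LambdaOps.lam i E) =
        ∑ t ∈ (Finset.univ : Finset (Fin m)).powersetCard i, ∏ q ∈ t, y q := by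
      rw [hf.isLambdaHom, ← hsum]
      exact Adams.lam_sum_lines L.posStr y hy i
    rw [hA, map_mul, map_mul, map_pow, map_pow, map_neg, map_one, hB]
    ring
  have hq : ∀ q, (1 - f ℓ + (y q - 1)) = (-1) * (f ℓ + - y q) := fun q => by ring
  rw [Finset.prod_congr rfl (fun q _ => hq q), Finset.prod_mul_distrib, hrel', mul_zero]

/-- `γ^n(B·L - s)` for `B` positive of augmentation `s` and `L` a line element -/
theorem gamma_pos_mul_line (Pe : PosStructure A) (hsplit : HasSplitting A Pe) {B L : A}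
    (hB : B ∈ Pe.pos) (hL : Pe.IsLine L) (s : ℕ) (hs : (Pe.aug B).toNat = s) (n : ℕ) :
    gamma n (B * L - (s : A)) = ∑ k ∈ Finset.range (n + 1),
      gamma k (B - (s : A)) *
        ((1 + (L - 1)) ^ k * ((s - k).choose (n - k) : A) * (L - 1) ^ (n - k)) := by
  classical
  obtain ⟨M, _, f, hf, s', u, hu, hsum⟩ := Adams.exists_split Pe hsplit B hB
  have hn : s = s' := by
    have h1 : M.posStr.aug (f B) = s' := by
      rw [← hsum]; exact Adams.aug_sum_lines M.posStr u hu
    rw [hf.aug_comp] at h1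
    rw [← hs, h1]
    exact Int.toNat_natCast s'
  subst hn
  apply hf.injective
  have hL' := Adams.isLine_map hf hL
  have hL1 : f (gamma n (B * L - (s : A))) =
      ∑ t ∈ (Finset.univ : Finset (Fin s)).powersetCard n, ∏ q ∈ t, (u q * f L - 1) := by
    rw [AdamsGamma.map_gamma f hf.isLambdaHom, map_sub, map_mul, map_natCast, ← hsum,
      Finset.sum_mul]
    exact Groth.Agent.S8651.result M.carrier (Det.lam_one' M.posStr) s (fun q => u q * f L)
      (fun q j hj => lam_line_eq_zero M.posStr (Adams.isLine_mul M.posStr (hu q) hL') j hj) n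
  have hRk : ∀ k, f (gamma k (B - (s : A))) =
      ∑ t ∈ (Finset.univ : Finset (Fin s)).powersetCard k, ∏ q ∈ t, (u q - 1) := by
    intro k
    rw [AdamsGamma.map_gamma f hf.isLambdaHom, map_sub, map_natCast, ← hsum]
    exact Groth.Agent.S8651.result M.carrier (Det.lam_one' M.posStr) s u
      (fun q j hj => lam_line_eq_zero M.posStr (hu q) j hj) k
  have e1 : ∀ q, u q * f L - 1 = (u q - 1) * (1 + (f L - 1)) + (f L - 1) := fun q => by ring
  rw [hL1, map_sum]
  simp only [map_mul, map_pow, map_add, map_sub, map_one, map_natCast, hRk]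
  rw [Finset.sum_congr rfl (fun t _ => Finset.prod_congr rfl (fun q _ => e1 q))]
  exact esymm_expand (fun q => u q - 1) (f L - 1) n

end Lam

/-! ### the main theorem -/

theorem main {K A : Type u} [CommRing K] [LambdaOps K] [CommRing A] [LambdaOps A]
    (P : PosStructure K) (Pe : PosStructure A)
    (hsplit : HasSplitting A Pe) (φ : K →+* A) (hext : IsExtension P Pe φ) (ℓ : A)
    (hline : Pe.IsLine ℓ)
    (hgen : ∀ x : A, ∃ q : Polynomial K, x = Polynomial.eval₂ φ ℓ q)
    (e : K) (he : e ∈ P.pos) (r : ℕ) (hr : P.aug e = r + 1)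
    (hrel : ∑ i ∈ Finset.range (r + 1 + 1),
      φ ((-1) ^ i * LambdaOps.lam i e) * ℓ ^ (r + 1 - i) = 0)
    (k : ℕ) :
    gammaFiltration Pe k = ⨆ i ∈ Finset.range (r + 1), AddSubgroup.map
      ((AddMonoidHom.mulRight ((ℓ - 1) ^ i)).comp φ.toAddMonoidHom)
      (gammaFiltration P (k - i)) := by
  classical
  have hm : (P.aug e).toNat = r + 1 := by rw [hr]; omega
  have hmE : (Pe.aug (φ e)).toNat = r + 1 := by rw [hext.aug_comp]; exact hm
  have haug0 : P.aug (e - ((r + 1 : ℕ) : K)) = 0 := by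
    rw [map_sub, map_natCast, hr]; push_cast; ring
  -- the relation for z = ℓ - 1
  have hrelE : ∑ i ∈ Finset.range (r + 1 + 1),
      ((-1) ^ i * LambdaOps.lam i (φ e)) * ℓ ^ (r + 1 - i) = 0 := by
    rw [← hrel]
    refine Finset.sum_congr rfl fun i _ => ?_
    rw [map_mul, map_pow, map_neg, map_one, hext.isLambdaHom]
  have Hg := rel_gamma Pe hsplit (hext.pos_subset e he) (r + 1) hmE ℓ hrelE
  have Hg' : ∑ i ∈ Finset.range (r + 1 + 1),
      φ (gamma i (e - ((r + 1 : ℕ) : K))) * (-(ℓ - 1)) ^ (r + 1 - i) = 0 := by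
    rw [← Hg]
    refine Finset.sum_congr rfl fun i _ => ?_
    rw [AdamsGamma.map_gamma φ hext.isLambdaHom, map_sub, map_natCast, neg_sub]
  have hz := rel_solve (fun i => φ (gamma i (e - ((r + 1 : ℕ) : K))))
    (by simp only [AdamsGamma.gamma_zero', map_one]) (ℓ - 1) (r + 1) Hg'
  have hGD : GData φ (ℓ - 1) r (gammaFiltration P) := by
    refine ⟨AdamsGamma.filtration_zero P, fun a b hab => AdamsGamma.filtration_antitone P hab,
      fun a b x y hx hy => AdamsGamma.mul_mem P a b x y hx hy, ?_⟩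
    refine ⟨fun j => (-1) ^ (r + 1 + 1 + j) * gamma (r + 1 - j) (e - ((r + 1 : ℕ) : K)), ?_, ?_⟩
    · intro i _
      exact AdamsGamma.smul_mem P _ _ _ (AdamsGamma.gamma_mem P haug0 le_rfl)
    · rw [hz]
      refine Finset.sum_congr rfl fun j _ => ?_
      rw [map_mul, map_pow, map_neg, map_one]
  have hMF : MulFil (Gc φ (ℓ - 1) r (gammaFiltration P)) :=
    ⟨one_mem_Gc hGD, fun a b x y hx hy => Gc_mul hGD hx hy, Gc_antitone hGD⟩
  -- basic memberships
  have hℓ0 : ℓ ∈ Gc φ (ℓ - 1) r (gammaFiltration P) 0 := by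
    have h1 := Gc_antitone hGD (Nat.zero_le 1) (z_mem_Gc hGD)
    have h2 := add_mem h1 (one_mem_Gc hGD)
    rwa [sub_add_cancel] at h2
  have hℓpow : ∀ j : ℕ, ℓ ^ j ∈ Gc φ (ℓ - 1) r (gammaFiltration P) 0 := by
    intro j
    have := pow_mem_Gc hGD hℓ0 j
    rwa [Nat.mul_zero] at this
  have hℓsub : ∀ j : ℕ, ℓ ^ j - 1 ∈ Gc φ (ℓ - 1) r (gammaFiltration P) 1 := by
    intro j
    have h1 : ∑ i ∈ Finset.range j, ℓ ^ i ∈ Gc φ (ℓ - 1) r (gammaFiltration P) 0 :=
      sum_mem fun i _ => hℓpow i
    have h2 := Gc_mul hGD h1 (z_mem_Gc hGD)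
    rwa [geom_sum_mul, Nat.zero_add] at h2
  have hnat : ∀ c : ℕ, (c : A) ∈ Gc φ (ℓ - 1) r (gammaFiltration P) 0 := by
    intro c
    have := nsmul_mem (one_mem_Gc hGD) c
    rwa [nsmul_eq_mul, mul_one] at this
  have hphi : ∀ a : K, P.aug a = 0 → GG (Gc φ (ℓ - 1) r (gammaFiltration P)) (φ a) := by
    intro a ha n
    rw [← AdamsGamma.map_gamma φ hext.isLambdaHom]
    exact phi_mem_Gc (AdamsGamma.gamma_mem P ha le_rfl)
  have hposline : ∀ b : K, b ∈ P.pos → ∀ j : ℕ,
      GG (Gc φ (ℓ - 1) r (gammaFiltration P)) (φ b * ℓ ^ j - ((P.aug b).toNat : A)) := by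
    intro b hb j n
    have hs : (Pe.aug (φ b)).toNat = (P.aug b).toNat := by rw [hext.aug_comp]
    rw [gamma_pos_mul_line Pe hsplit (hext.pos_subset b hb) (Adams.isLine_pow Pe hline j)
      (P.aug b).toNat hs n]
    refine sum_mem fun k hk => ?_
    have hk' := Finset.mem_range.1 hk
    have hb0 : P.aug (b - ((P.aug b).toNat : K)) = 0 := by
      have := P.aug_pos b hb
      rw [map_sub, map_natCast]; omega
    have g1 : gamma k (φ b - ((P.aug b).toNat : A)) ∈ Gc φ (ℓ - 1) r (gammaFiltration P) k := by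
      have := hphi _ hb0 k
      rwa [map_sub, map_natCast] at this
    have g2 : (1 + (ℓ ^ j - 1)) ^ k ∈ Gc φ (ℓ - 1) r (gammaFiltration P) 0 := by
      rw [add_sub_cancel, ← pow_mul]
      exact hℓpow _
    have g3 : (ℓ ^ j - 1) ^ (n - k) ∈ Gc φ (ℓ - 1) r (gammaFiltration P) (n - k) := by
      have := pow_mem_Gc hGD (hℓsub j) (n - k)
      rwa [Nat.mul_one] at this
    have g4 := Gc_mul hGD (Gc_mul hGD g2 (hnat (((P.aug b).toNat - k).choose (n - k)))) g3
    have g5 := Gc_mul hGD g1 g4
    have e5 : k + (0 + 0 + (n - k)) = n := by omega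
    rwa [e5] at g5
  have hall : ∀ x : A, Pe.aug x = 0 → GG (Gc φ (ℓ - 1) r (gammaFiltration P)) x := by
    intro x hx
    obtain ⟨q, rfl⟩ := hgen x
    choose b b' hb hb' hq using fun j => P.exists_sub (q.coeff j)
    have hdec : Polynomial.eval₂ φ ℓ q = φ (∑ j ∈ q.support, q.coeff j) + ∑ j ∈ q.support,
        ((φ (b j) * ℓ ^ j - ((P.aug (b j)).toNat : A)) - φ (b j - ((P.aug (b j)).toNat : K))
          - (φ (b' j) * ℓ ^ j - ((P.aug (b' j)).toNat : A))
          + φ (b' j - ((P.aug (b' j)).toNat : K))) := by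
      rw [Polynomial.eval₂_eq_sum, Polynomial.sum_def, map_sum, ← Finset.sum_add_distrib]
      refine Finset.sum_congr rfl fun j _ => ?_
      rw [hq j]
      simp only [map_sub, map_natCast]
      ring
    have haugs : P.aug (∑ j ∈ q.support, q.coeff j) = 0 := by
      rw [← hx, Polynomial.eval₂_eq_sum, Polynomial.sum_def, map_sum, map_sum]
      refine Finset.sum_congr rfl fun j _ => ?_
      rw [map_mul, map_pow, hline.2, one_pow, mul_one, hext.aug_comp]
    have hb0 : ∀ c : K, c ∈ P.pos → P.aug (c - ((P.aug c).toNat : K)) = 0 := by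
      intro c hc
      have := P.aug_pos c hc
      rw [map_sub, map_natCast]; omega
    rw [hdec]
    refine GG_add hMF (hphi _ haugs) (GG_sum hMF _ _ fun j _ => ?_)
    exact GG_add hMF (GG_sub hMF (GG_sub hMF (hposline (b j) (hb j) j) (hphi _ (hb0 _ (hb j))))
      (hposline (b' j) (hb' j) j)) (hphi _ (hb0 _ (hb' j)))
  -- conclusion
  rw [← Gc_eq]
  apply le_antisymm
  · rcases Nat.eq_zero_or_pos k with rfl | hk
    · intro x _
      obtain ⟨q, rfl⟩ := hgen x
      rw [Polynomial.eval₂_eq_sum, Polynomial.sum_def]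
      refine sum_mem fun j _ => ?_
      have h1 : φ (q.coeff j) ∈ Gc φ (ℓ - 1) r (gammaFiltration P) 0 :=
        phi_mem_Gc (by rw [AdamsGamma.filtration_zero]; exact AddSubgroup.mem_top _)
      have := Gc_mul hGD h1 (hℓpow j)
      rwa [Nat.add_zero] at this
    · exact filtration_le hMF Pe hall k (by omega)
  · rw [Gc, AddSubgroup.closure_le]
    rintro y ⟨i, a, hi, ha, rfl⟩
    have h1 := map_filtration hext (k - i) ha
    have haz : Pe.aug (ℓ - 1) = 0 := by rw [map_sub, hline.2, map_one, sub_self]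
    have h2 := AdamsGamma.gamma_pow_mem Pe haz 1 i
    rw [AdamsGamma.gamma_one'] at h2
    have h3 := AdamsGamma.mul_mem Pe _ _ _ _ h1 h2
    exact AdamsGamma.filtration_antitone Pe (by omega) h3

end Groth.Agent.H19.ElemExt
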