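import Mathlib

/-!
# (P7) for helper22's S2115 squad (helper19)

Pure algebra: if `M_f` is finitely presented over `R_f` for finitely many `f`, there is a finitely
presented `R`-module `N` with a map `g : N → M` such that every `g_f` is bijective.
-/

set_option autoImplicit false
universe u

namespace Groth.Agent.H19.FPExt_P7

/-- Generators of a finitely generated submodule of a localized module can be chosen with numerators in
a given submodule `W` (when all its elements have numerators in `W`). -/
theorem exists_fg_le {R : Type*} [CommRing R] (S : Submonoid R) {P : Type*} [AddCommGroup P]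
    [Module R P] (W : Submodule R P) (Q : Submodule (Localization S) (LocalizedModule S P))
    (hQ : Q.FG) (hW : ∀ x ∈ Q, ∃ p ∈ W, ∃ u : S, x = LocalizedModule.mk p u) :
    ∃ P' : Submodule R P, P'.FG ∧ P' ≤ W ∧
      ∀ x ∈ Q, ∃ p ∈ P', ∃ u : S, x = LocalizedModule.mk p u := by
  classical
  obtain ⟨G, hG⟩ := hQ
  have hGQ : ∀ x ∈ G, x ∈ Q := fun x hx => hG ▸ Submodule.subset_span hx
  choose! rp hrp using hW
  refine ⟨Submodule.span R (rp '' (G : Set (LocalizedModule S P))),
    Submodule.fg_span ((G.finite_toSet).image rp), ?_, ?_⟩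
  · rw [Submodule.span_le]
    rintro _ ⟨x, hx, rfl⟩
    exact (hrp x (hGQ x hx)).1
  · intro x hx
    rw [← hG] at hx
    induction hx using Submodule.span_induction with
    | mem x hx =>
      obtain ⟨u, hu⟩ := (hrp x (hGQ x hx)).2
      exact ⟨rp x, Submodule.subset_span ⟨x, hx, rfl⟩, u, hu⟩
    | zero => exact ⟨0, Submodule.zero_mem _, 1, (LocalizedModule.zero_mk 1).symm⟩
    | add x y _ _ hx hy =>
      obtain ⟨p, hp, u, rfl⟩ := hx
      obtain ⟨p', hp', u', rfl⟩ := hy
      refine ⟨u' • p + u • p', add_mem ?_ ?_, u * u', LocalizedModule.mk_add_mk⟩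
      · rw [Submonoid.smul_def]; exact Submodule.smul_mem _ _ hp
      · rw [Submonoid.smul_def]; exact Submodule.smul_mem _ _ hp'
    | smul c x _ hx =>
      obtain ⟨p, hp, u, rfl⟩ := hx
      induction c using Localization.induction_on with
      | H y =>
        exact ⟨y.1 • p, Submodule.smul_mem _ _ hp, y.2 * u, LocalizedModule.mk_smul_mk y.1 p y.2 u⟩

/-- (P7) -/
theorem exists_fp_map_localized_bijective {R : Type u} [CommRing R] (M : Type u) [AddCommGroup M]
    [Module R M] (s : Finset R)
    (h : ∀ f ∈ s, Module.FinitePresentation (Localization.Away f)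
      (LocalizedModule (Submonoid.powers f) M)) :
    ∃ (N : Type u) (_ : AddCommGroup N) (_ : Module R N) (g : N →ₗ[R] M),
      Module.FinitePresentation R N ∧
        ∀ f ∈ s, Function.Bijective (LocalizedModule.map (Submonoid.powers f) g) := by
  classical
  -- Step 1: a finitely generated submodule `M₀` generating every `M_f`
  have h1 : ∀ f ∈ s, ∃ P' : Submodule R M, P'.FG ∧
      ∀ x : LocalizedModule (Submonoid.powers f) M, ∃ p ∈ P', ∃ u : Submonoid.powers f,
        x = LocalizedModule.mk p u := by
    intro f hf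
    have := h f hf
    have hfin : Module.Finite (Localization (Submonoid.powers f))
        (LocalizedModule (Submonoid.powers f) M) := inferInstance
    obtain ⟨P', hP', -, hP'2⟩ := exists_fg_le (Submonoid.powers f) (⊤ : Submodule R M) ⊤
      hfin.fg_top (fun x _ => by
        induction x using LocalizedModule.induction_on with
        | h m u => exact ⟨m, trivial, u, rfl⟩)
    exact ⟨P', hP', fun x => hP'2 x trivial⟩
  choose! Pf hPf using h1
  obtain ⟨M₀, hM₀⟩ : ∃ M₀ : Submodule R M, M₀ = s.sup Pf := ⟨_, rfl⟩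
  have hM₀le : ∀ f ∈ s, Pf f ≤ M₀ := fun f hf => hM₀ ▸ Finset.le_sup hf
  have hM₀fg : M₀.FG := hM₀ ▸ Submodule.fg_finset_sup s Pf (fun f hf => (hPf f hf).1)
  have : Module.Finite R M₀ := Module.Finite.of_fg hM₀fg
  obtain ⟨n, g₀', hg₀'⟩ := Module.Finite.exists_fin' R M₀
  obtain ⟨g₀, hg₀⟩ : ∃ g₀ : (Fin n → R) →ₗ[R] M, g₀ = M₀.subtype ∘ₗ g₀' := ⟨_, rfl⟩
  have hrange : ∀ p ∈ M₀, ∃ y, g₀ y = p := by
    intro p hp
    obtain ⟨y, hy⟩ := hg₀' ⟨p, hp⟩
    exact ⟨y, by rw [hg₀, LinearMap.comp_apply, hy]; rfl⟩
  have hsurj : ∀ f ∈ s, Function.Surjective (LocalizedModule.map (Submonoid.powers f) g₀) := by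
    intro f hf x
    obtain ⟨p, hp, u, rfl⟩ := (hPf f hf).2 x
    obtain ⟨y, rfl⟩ := hrange p (hM₀le f hf hp)
    exact ⟨LocalizedModule.mk y u, LocalizedModule.map_mk _ _ _ _⟩
  -- Step 2: a finitely generated submodule of the kernel generating every kernel
  have h2 : ∀ f ∈ s, ∃ K' : Submodule R (Fin n → R), K'.FG ∧ K' ≤ LinearMap.ker g₀ ∧
      ∀ x ∈ LinearMap.ker (LocalizedModule.map (Submonoid.powers f) g₀), ∃ p ∈ K',
        ∃ u : Submonoid.powers f, x = LocalizedModule.mk p u := by
    intro f hf
    have := h f hf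
    have hker : (LinearMap.ker (LocalizedModule.map (Submonoid.powers f) g₀)).FG :=
      Module.FinitePresentation.fg_ker _ (hsurj f hf)
    refine exists_fg_le (Submonoid.powers f) (LinearMap.ker g₀) _ hker (fun x hx => ?_)
    induction x using LocalizedModule.induction_on with
    | h p u =>
      rw [LinearMap.mem_ker, LocalizedModule.map_mk, ← LocalizedModule.zero_mk 1,
        LocalizedModule.mk_eq] at hx
      obtain ⟨v, hv⟩ := hx
      rw [one_smul, smul_zero, smul_zero] at hv
      refine ⟨v • p, ?_, v * u, (LocalizedModule.mk_cancel_common_left v u p).symm⟩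
      rw [LinearMap.mem_ker, Submonoid.smul_def, map_smul, ← Submonoid.smul_def]
      exact hv
  choose! Kf hKf using h2
  obtain ⟨K', hK'⟩ : ∃ K' : Submodule R (Fin n → R), K' = s.sup Kf := ⟨_, rfl⟩
  have hKfle : ∀ f ∈ s, Kf f ≤ K' := fun f hf => hK' ▸ Finset.le_sup hf
  have hK'fg : K'.FG := hK' ▸ Submodule.fg_finset_sup s Kf (fun f hf => (hKf f hf).1)
  have hK'le : K' ≤ LinearMap.ker g₀ := hK' ▸ Finset.sup_le (fun f hf => (hKf f hf).2.1)
  refine ⟨(Fin n → R) ⧸ K', inferInstance, inferInstance, K'.liftQ g₀ hK'le, ?_, ?_⟩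
  · exact Module.finitePresentation_of_surjective K'.mkQ (Submodule.mkQ_surjective _)
      (by rw [Submodule.ker_mkQ]; exact hK'fg)
  · intro f hf
    constructor
    · rw [injective_iff_map_eq_zero]
      intro x hx
      induction x using LocalizedModule.induction_on with
      | h nq u =>
        obtain ⟨p, rfl⟩ := Submodule.mkQ_surjective _ nq
        rw [LocalizedModule.map_mk, Submodule.mkQ_apply, Submodule.liftQ_apply] at hx
        have hy : LocalizedModule.mk p u ∈
            LinearMap.ker (LocalizedModule.map (Submonoid.powers f) g₀) := by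
          rw [LinearMap.mem_ker, LocalizedModule.map_mk]; exact hx
        obtain ⟨p', hp', u', hpu⟩ := (hKf f hf).2.2 _ hy
        have h3 := congrArg (LocalizedModule.map (Submonoid.powers f) K'.mkQ) hpu
        rw [LocalizedModule.map_mk, LocalizedModule.map_mk] at h3
        rw [h3, Submodule.mkQ_apply, (Submodule.Quotient.mk_eq_zero _).mpr (hKfle f hf hp'),
          LocalizedModule.zero_mk]
    · intro x
      obtain ⟨y, rfl⟩ := hsurj f hf x
      induction y using LocalizedModule.induction_on with
      | h p u =>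
        refine ⟨LocalizedModule.mk (K'.mkQ p) u, ?_⟩
        rw [LocalizedModule.map_mk, LocalizedModule.map_mk, Submodule.mkQ_apply,
          Submodule.liftQ_apply]

end Groth.Agent.H19.FPExt_P7
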