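import Mathlib
import Groth.Prelude.Def_CohB1
import Groth.Agent.H22.FPExt.Defs
import Groth.Agent.H77.FPExt_P1
import Groth.Agent.H8.FPAffine

/-!
# (P9) for helper22's S2115 squad (helper19, second provider)
-/

set_option autoImplicit false
universe u
open CategoryTheory CategoryTheory.Limits AlgebraicGeometry TopologicalSpace Opposite
open AlgebraicGeometry.Scheme.Modules
open Groth.Agent.H22.FPExt

namespace Groth.Agent.H19.FPExt_P9

/-- Finite presentation does not depend on the chosen model of the localization. -/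
theorem fp_of_two_localizations {R : Type*} [CommRing R] (S : Submonoid R)
    (B : Type*) [CommRing B] [Algebra R B] [IsLocalization S B]
    (B' : Type*) [CommRing B'] [Algebra R B'] [IsLocalization S B']
    {M N N' : Type*} [AddCommGroup M] [Module R M] [AddCommGroup N] [Module R N] [Module B N]
    [IsScalarTower R B N] [AddCommGroup N'] [Module R N'] [Module B' N'] [IsScalarTower R B' N']
    (ℓ : M →ₗ[R] N) (hℓ : IsLocalizedModule S ℓ) (ℓ' : M →ₗ[R] N') (hℓ' : IsLocalizedModule S ℓ')
    [Module.FinitePresentation B N] : Module.FinitePresentation B' N' := by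
  refine Groth.Agent.H77.FPExt_P1.fp_of_semilinear
    (IsLocalization.algEquiv S B B').toRingEquiv
    (IsLocalizedModule.linearEquiv S ℓ ℓ').toAddEquiv ?_
  intro b n
  obtain ⟨⟨a, s⟩, hb⟩ := IsLocalization.surj S b
  apply IsLocalizedModule.smul_injective ℓ' s
  change (s : R) • (IsLocalizedModule.linearEquiv S ℓ ℓ') (b • n) =
    (s : R) • ((IsLocalization.algEquiv S B B') b • (IsLocalizedModule.linearEquiv S ℓ ℓ') n)
  have h1 : (s : R) • (b • n) = a • n := by
    rw [← algebraMap_smul B (s : R) (b • n), ← mul_smul, mul_comm, hb, algebraMap_smul]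
  have h2 : (s : R) • ((IsLocalization.algEquiv S B B') b •
      (IsLocalizedModule.linearEquiv S ℓ ℓ') n) = a • (IsLocalizedModule.linearEquiv S ℓ ℓ') n := by
    rw [← algebraMap_smul B' (s : R), ← mul_smul,
      ← (IsLocalization.algEquiv S B B').commutes (s : R), ← map_mul, mul_comm, hb,
      (IsLocalization.algEquiv S B B').commutes, algebraMap_smul]
  rw [← (IsLocalizedModule.linearEquiv S ℓ ℓ').map_smul, h1,
    (IsLocalizedModule.linearEquiv S ℓ ℓ').map_smul, h2]

set_option backward.isDefEq.respectTransparency.types false in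
/-- (P9) -/
theorem exists_finset_fp_localized (R : CommRingCat.{u}) (F : (Spec R).Modules)
    [F.IsQuasicoherent] (W : (Spec R).Opens) (hW : IsCompact (W : Set (Spec R)))
    (hF : FPOn F W) :
    ∃ s : Finset R, (⨆ f ∈ s, (PrimeSpectrum.basicOpen f : (Spec R).Opens)) = W ∧
      ∀ f ∈ s, Module.FinitePresentation (Localization.Away f)
        (LocalizedModule (Submonoid.powers f) ((moduleSpecΓFunctor (R := R)).obj F)) := by
  classical
  -- Step 1: basic opens inside `W` over which the sections are finitely presented cover `W`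
  have h1 : ∀ x ∈ W, ∃ g : R, x ∈ (PrimeSpectrum.basicOpen g : (Spec R).Opens) ∧
      (PrimeSpectrum.basicOpen g : (Spec R).Opens) ≤ W ∧
      Module.FinitePresentation Γ(Spec R, (PrimeSpectrum.basicOpen g : (Spec R).Opens))
        Γ(F, (PrimeSpectrum.basicOpen g : (Spec R).Opens)) := by
    intro x hx
    obtain ⟨O, hO, hxO, hOW, hfp⟩ := hF x hx
    obtain ⟨_, ⟨g, rfl⟩, hxg, hgO⟩ :=
      (PrimeSpectrum.isTopologicalBasis_basic_opens (R := R)).exists_subset_of_mem_open hxO O.isOpen
    refine ⟨g, hxg, le_trans hgO hOW, ?_⟩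
    have heq : (Spec R).basicOpen ((Spec R).presheaf.map (homOfLE (le_top : O ≤ ⊤)).op
        ((Scheme.ΓSpecIso R).inv g)) = (PrimeSpectrum.basicOpen g : (Spec R).Opens) := by
      rw [Scheme.basicOpen_res, basicOpen_eq_of_affine]
      exact inf_eq_right.mpr hgO
    have h := Groth.Agent.H8.finitePresentation_basicOpen F hO
      ((Spec R).presheaf.map (homOfLE (le_top : O ≤ ⊤)).op ((Scheme.ΓSpecIso R).inv g)) hfp
    rw [heq] at h
    exact h
  -- Step 2: finite subcover
  obtain ⟨b', hb'G, hb'fin, hcov⟩ := hW.elim_finite_subcover_image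
    (b := {g : R | (PrimeSpectrum.basicOpen g : (Spec R).Opens) ≤ W ∧
      Module.FinitePresentation Γ(Spec R, (PrimeSpectrum.basicOpen g : (Spec R).Opens))
        Γ(F, (PrimeSpectrum.basicOpen g : (Spec R).Opens))})
    (c := fun g : R => (SetLike.coe (PrimeSpectrum.basicOpen g) : Set (PrimeSpectrum R)))
    (fun g _ => (PrimeSpectrum.basicOpen g).2)
    (fun x hx => by
      obtain ⟨g, hxg, hgW, hfp⟩ := h1 x hx
      exact Set.mem_iUnion₂.mpr ⟨g, ⟨hgW, hfp⟩, hxg⟩)
  refine ⟨hb'fin.toFinset, ?_, ?_⟩
  · apply le_antisymm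
    · refine iSup₂_le (fun f hf => ?_)
      exact (hb'G (hb'fin.mem_toFinset.mp hf)).1
    · intro x hx
      obtain ⟨g, hg, hxg⟩ := Set.mem_iUnion₂.mp (hcov hx)
      exact Opens.mem_iSup.mpr ⟨g, Opens.mem_iSup.mpr ⟨hb'fin.mem_toFinset.mpr hg, hxg⟩⟩
  · intro f hf
    have hfp := (hb'G (hb'fin.mem_toFinset.mp hf)).2
    have hloc := (isIso_fromTildeΓ_iff_isLocalizing F).mp inferInstance f
    exact fp_of_two_localizations (Submonoid.powers f)
      Γ(Spec R, (PrimeSpectrum.basicOpen f : (Spec R).Opens)) (Localization.Away f)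
      (M := ((moduleSpecΓFunctor (R := R)).obj F))
      (N := Γ(F, (PrimeSpectrum.basicOpen f : (Spec R).Opens)))
      _ hloc
      (LocalizedModule.mkLinearMap (Submonoid.powers f) ((moduleSpecΓFunctor (R := R)).obj F))
      (localizedModuleIsLocalizedModule (Submonoid.powers f))

end Groth.Agent.H19.FPExt_P9
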