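import Mathlib

/-!
# (Q6) for helper22's S9828 squad (helper19)

Pure category theory: an epimorphism `φ : G ⟶ F` in an abelian category whose kernel is "generated" by a
family `i a : Kc a ⟶ G` is the directed colimit, over finite sets `j` of indices, of the cokernels of
`⨁_{a ∈ j} Kc a ⟶ G`, with epimorphic transition maps.
-/

set_option autoImplicit false
universe u v w
open CategoryTheory CategoryTheory.Limits

namespace Groth.Agent.H19.FPExt_Q6

variable {C : Type v} [Category.{w} C] [Abelian C] [HasFiniteBiproducts C] {G F : C} (φ : G ⟶ F)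
  {A : Type u} (Kc : A → C) (i : ∀ a, Kc a ⟶ G)

/-- `⨁_{a ∈ j} Kc a ⟶ G`. -/
noncomputable abbrev dsc (j : Finset A) : (⨁ fun a : j => Kc a.1) ⟶ G :=
  biproduct.desc (fun a : j => i a.1)

lemma i_π (j : Finset A) (a : A) (ha : a ∈ j) : i a ≫ cokernel.π (dsc Kc i j) = 0 := by
  have h : i a = biproduct.ι (fun a : j => Kc a.1) ⟨a, ha⟩ ≫ dsc Kc i j :=
    (biproduct.ι_desc (fun a : j => i a.1) ⟨a, ha⟩).symm
  rw [h, Category.assoc, cokernel.condition, comp_zero]

lemma dsc_π {j j' : Finset A} (h : j ≤ j') : dsc Kc i j ≫ cokernel.π (dsc Kc i j') = 0 := by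
  refine biproduct.hom_ext' _ _ (fun a => ?_)
  rw [biproduct.ι_desc_assoc, comp_zero]
  exact i_π Kc i j' a.1 (h a.2)

/-- The directed system of cokernels. -/
@[reducible] noncomputable def Dfun : Finset A ⥤ C where
  obj j := cokernel (dsc Kc i j)
  map {j j'} h := cokernel.desc (dsc Kc i j) (cokernel.π (dsc Kc i j')) (dsc_π Kc i (leOfHom h))
  map_id j := by
    apply coequalizer.hom_ext
    simp
  map_comp h h' := by
    apply coequalizer.hom_ext
    simp

lemma dsc_φ (hi : ∀ a, i a ≫ φ = 0) (j : Finset A) : dsc Kc i j ≫ φ = 0 := by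
  refine biproduct.hom_ext' _ _ (fun a => ?_)
  rw [biproduct.ι_desc_assoc, comp_zero]
  exact hi a.1

/-- The cocone legs. -/
noncomputable def legs (hi : ∀ a, i a ≫ φ = 0) :
    Dfun Kc i ⟶ (Functor.const (Finset A)).obj F where
  app j := cokernel.desc (dsc Kc i j) φ (dsc_φ φ Kc i hi j)
  naturality j j' h := by
    apply coequalizer.hom_ext
    simp [Dfun]

/-- The map `G ⟶ s.pt` induced by a cocone. -/
noncomputable def tOf (s : Cocone (Dfun Kc i)) : G ⟶ s.pt :=
  cokernel.π (dsc Kc i ∅) ≫ s.ι.app ∅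

lemma π_app (s : Cocone (Dfun Kc i)) (j : Finset A) :
    cokernel.π (dsc Kc i j) ≫ s.ι.app j = tOf Kc i s := by
  have h := s.w (homOfLE (Finset.empty_subset j))
  rw [tOf, ← h]
  simp [Dfun]

lemma i_tOf (s : Cocone (Dfun Kc i)) (a : A) : i a ≫ tOf Kc i s = 0 := by
  rw [← π_app Kc i s {a}, ← Category.assoc, i_π Kc i {a} a (Finset.mem_singleton_self a),
    zero_comp]

variable [Epi φ]

/-- The descended map `F ⟶ s.pt`. -/
noncomputable def lOf
    (hgen : ∀ (T : C) (t : G ⟶ T), (∀ a, i a ≫ t = 0) → kernel.ι φ ≫ t = 0)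
    (s : Cocone (Dfun Kc i)) : F ⟶ s.pt :=
  (Abelian.epiIsCokernelOfKernel _ (kernelIsKernel φ)).desc
    (CokernelCofork.ofπ (tOf Kc i s) (hgen _ _ (i_tOf Kc i s)))

lemma φ_lOf (hgen : ∀ (T : C) (t : G ⟶ T), (∀ a, i a ≫ t = 0) → kernel.ι φ ≫ t = 0)
    (s : Cocone (Dfun Kc i)) : φ ≫ lOf φ Kc i hgen s = tOf Kc i s :=
  (Abelian.epiIsCokernelOfKernel _ (kernelIsKernel φ)).fac
    (CokernelCofork.ofπ (tOf Kc i s) (hgen _ _ (i_tOf Kc i s))) WalkingParallelPair.one

/-- (Q6) -/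
theorem exists_directed_colimit_of_generated {C : Type v} [Category.{w} C] [Abelian C]
    [HasFiniteBiproducts C] {G F : C} (φ : G ⟶ F) [Epi φ] {A : Type u} (Kc : A → C)
    (i : ∀ a, Kc a ⟶ G) (hi : ∀ a, i a ≫ φ = 0)
    (hgen : ∀ (T : C) (t : G ⟶ T), (∀ a, i a ≫ t = 0) → kernel.ι φ ≫ t = 0) (P : C → Prop)
    (hP : ∀ j : Finset A, P (cokernel (biproduct.desc (fun a : j => i a.1)))) :
    ∃ (D : Finset A ⥤ C) (ι : D ⟶ (Functor.const (Finset A)).obj F),
      Nonempty (IsColimit (Cocone.mk F ι)) ∧ (∀ j, P (D.obj j)) ∧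
        ∀ (j j' : Finset A) (h : j ⟶ j'), Epi (D.map h) := by
  refine ⟨Dfun Kc i, legs φ Kc i hi, ⟨?_⟩, fun j => hP j, fun j j' h => ?_⟩
  · refine
      { desc := fun s => lOf φ Kc i hgen s
        fac := fun s j => ?_
        uniq := fun s m hm => ?_ }
    · apply coequalizer.hom_ext
      change cokernel.π (dsc Kc i j) ≫ cokernel.desc (dsc Kc i j) φ _ ≫ lOf φ Kc i hgen s =
        cokernel.π (dsc Kc i j) ≫ s.ι.app j
      rw [cokernel.π_desc_assoc, φ_lOf, π_app]
    · rw [← cancel_epi φ, φ_lOf]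
      have h0 := hm ∅
      change cokernel.desc (dsc Kc i ∅) φ _ ≫ m = s.ι.app ∅ at h0
      rw [tOf, ← h0, cokernel.π_desc_assoc]
  · exact epi_of_epi_fac (cokernel.π_desc (dsc Kc i j) (cokernel.π (dsc Kc i j'))
      (dsc_π Kc i (leOfHom h)))

end Groth.Agent.H19.FPExt_Q6
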