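import Mathlib

/-!
# Algebra for gluing infinitesimal lifts (Zariski H¹ vanishing, finitely presented case)

* `exists_algHom_of_retraction`: for `π : B →ₐ[A] A ⧸ I` with `I² = 0`, `(ker π)² = 0`, an `A`-linear
  retraction `ker π → I` of `I → ker π` gives an `A`-algebra section `B → A` lifting `π`.
* `exists_retraction_of_local`: a complex `N → K → C` (exact, `K → C` onto, `C` finitely presented)
  with local retractions of `N → K` at all maximal ideals has a global retraction.
* `finitePresentation_ker_of_section`: the augmentation ideal (of square zero) of a finitely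
  presented augmented algebra is a finitely presented module.
-/

set_option autoImplicit false
universe u

namespace Groth.Agent.H19.H1Alg

open TensorProduct KaehlerDifferential

section lift

variable {A B : Type u} [CommRing A] [CommRing B] [Algebra A B] (I : Ideal A)
  (π : B →ₐ[A] A ⧸ I)

theorem sub_algebraMap_mem (b : B) (a : A) (h : π b = Ideal.Quotient.mk I a) :
    b - algebraMap A B a ∈ LinearMap.ker π.toLinearMap := by
  rw [LinearMap.mem_ker]
  show π (b - algebraMap A B a) = 0
  rw [map_sub, AlgHom.commutes, h, Ideal.Quotient.algebraMap_eq, sub_self]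

theorem exists_algHom_of_retraction (hI : I ^ 2 = ⊥)
    (hK : ∀ x y : B, π x = 0 → π y = 0 → x * y = 0)
    (r : LinearMap.ker π.toLinearMap →ₗ[A] A) (hrI : ∀ k, r k ∈ I)
    (hr : ∀ (x : A) (_ : x ∈ I) (h : algebraMap A B x ∈ LinearMap.ker π.toLinearMap),
      r ⟨algebraMap A B x, h⟩ = x) :
    ∃ σ : B →ₐ[A] A, ∀ b, Ideal.Quotient.mk I (σ b) = π b := by
  classical
  have hsurj := Ideal.Quotient.mk_surjective (I := I)
  let c : B → A := fun b => (hsurj (π b)).choose
  have hc : ∀ b, Ideal.Quotient.mk I (c b) = π b := fun b => (hsurj (π b)).choose_spec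
  have hmem := sub_algebraMap_mem I π
  have hπk : ∀ k : LinearMap.ker π.toLinearMap, π (k : B) = 0 := fun k => k.2
  let s : B → A := fun b => c b + r ⟨b - algebraMap A B (c b), hmem b (c b) (hc b).symm⟩
  have key : ∀ (b : B) (a : A) (h : π b = Ideal.Quotient.mk I a),
      s b = a + r ⟨b - algebraMap A B a, hmem b a h⟩ := by
    intro b a h
    have hx : a - c b ∈ I := by
      rw [← Ideal.Quotient.eq, ← h, hc]
    have hmem3 : algebraMap A B (a - c b) ∈ LinearMap.ker π.toLinearMap := by
      rw [LinearMap.mem_ker]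
      show π (algebraMap A B (a - c b)) = 0
      rw [AlgHom.commutes, Ideal.Quotient.algebraMap_eq, Ideal.Quotient.eq_zero_iff_mem]
      exact hx
    have e : (⟨b - algebraMap A B (c b), hmem b (c b) (hc b).symm⟩ :
        LinearMap.ker π.toLinearMap) =
        ⟨b - algebraMap A B a, hmem b a h⟩ + ⟨algebraMap A B (a - c b), hmem3⟩ := by
      ext
      simp only [Submodule.coe_add, map_sub]
      ring
    show c b + r _ = _
    rw [e, map_add, hr _ hx]
    ring
  have hadd : ∀ b b', s (b + b') = s b + s b' := by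
    intro b b'
    have h : π (b + b') = Ideal.Quotient.mk I (c b + c b') := by
      rw [map_add, map_add, hc, hc]
    rw [key (b + b') (c b + c b') h]
    have e : (⟨b + b' - algebraMap A B (c b + c b'), hmem _ _ h⟩ :
        LinearMap.ker π.toLinearMap) =
        ⟨b - algebraMap A B (c b), hmem b (c b) (hc b).symm⟩ +
          ⟨b' - algebraMap A B (c b'), hmem b' (c b') (hc b').symm⟩ := by
      ext
      simp only [Submodule.coe_add, map_add]
      ring
    rw [e, map_add]
    show _ = (c b + r _) + (c b' + r _)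
    ring
  have hsmul : ∀ (a : A) b, s (a • b) = a • s b := by
    intro a b
    have h : π (a • b) = Ideal.Quotient.mk I (a * c b) := by
      rw [map_smul, map_mul, hc, Algebra.smul_def, Ideal.Quotient.algebraMap_eq]
    rw [key (a • b) (a * c b) h]
    have e : (⟨a • b - algebraMap A B (a * c b), hmem _ _ h⟩ :
        LinearMap.ker π.toLinearMap) =
        a • ⟨b - algebraMap A B (c b), hmem b (c b) (hc b).symm⟩ := by
      ext
      simp only [Submodule.coe_smul, map_mul, Algebra.smul_def]
      ring
    rw [e, map_smul]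
    show _ = a • (c b + r _)
    simp only [smul_eq_mul]
    ring
  have hone : s 1 = 1 := by
    have h : π 1 = Ideal.Quotient.mk I 1 := by rw [map_one, map_one]
    rw [key 1 1 h]
    have e : (⟨1 - algebraMap A B 1, hmem _ _ h⟩ : LinearMap.ker π.toLinearMap) = 0 := by
      ext
      simp
    rw [e, map_zero, add_zero]
  have hmul : ∀ b b', s (b * b') = s b * s b' := by
    intro b b'
    have h : π (b * b') = Ideal.Quotient.mk I (c b * c b') := by
      rw [map_mul, map_mul, hc, hc]
    rw [key (b * b') (c b * c b') h]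
    have hkk : (b - algebraMap A B (c b)) * (b' - algebraMap A B (c b')) = 0 :=
      hK _ _ (hmem b (c b) (hc b).symm) (hmem b' (c b') (hc b').symm)
    have e : (⟨b * b' - algebraMap A B (c b * c b'), hmem _ _ h⟩ :
        LinearMap.ker π.toLinearMap) =
        c b • ⟨b' - algebraMap A B (c b'), hmem b' (c b') (hc b').symm⟩ +
          c b' • ⟨b - algebraMap A B (c b), hmem b (c b) (hc b).symm⟩ := by
      ext
      simp only [Submodule.coe_add, Submodule.coe_smul, map_mul, Algebra.smul_def]
      linear_combination hkk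
    rw [e, map_add, map_smul, map_smul]
    have hrr : r ⟨b - algebraMap A B (c b), hmem b (c b) (hc b).symm⟩ *
        r ⟨b' - algebraMap A B (c b'), hmem b' (c b') (hc b').symm⟩ = 0 := by
      have : r ⟨b - algebraMap A B (c b), hmem b (c b) (hc b).symm⟩ *
          r ⟨b' - algebraMap A B (c b'), hmem b' (c b') (hc b').symm⟩ ∈ I ^ 2 := by
        rw [pow_two]
        exact Ideal.mul_mem_mul (hrI _) (hrI _)
      rw [hI] at this
      exact Ideal.mem_bot.mp this
    show _ = (c b + r _) * (c b' + r _)
    simp only [smul_eq_mul]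
    linear_combination -hrr
  let f : B →ₗ[A] A :=
    { toFun := s
      map_add' := hadd
      map_smul' := fun a b => by simpa using hsmul a b }
  refine ⟨AlgHom.ofLinearMap f hone hmul, fun b => ?_⟩
  show Ideal.Quotient.mk I (c b + r _) = π b
  rw [map_add, Ideal.Quotient.eq_zero_iff_mem.mpr (hrI _), add_zero]
  exact hc b

end lift

section split

variable {R : Type u} [CommRing R] {N K C : Type u} [AddCommGroup N] [Module R N]
  [AddCommGroup K] [Module R K] [AddCommGroup C] [Module R C]

theorem exists_retraction_of_local (ι : N →ₗ[R] K) (p : K →ₗ[R] C)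
    (hp : Function.Surjective p) (hex : LinearMap.ker p = LinearMap.range ι)
    [Module.FinitePresentation R C]
    (H : ∀ (𝔪 : Ideal R) [𝔪.IsMaximal], ∃ (N' : Type u) (_ : AddCommGroup N') (_ : Module R N')
      (l : N →ₗ[R] N') (_ : IsLocalizedModule 𝔪.primeCompl l) (r : K →ₗ[R] N'), r ∘ₗ ι = l) :
    ∃ r : K →ₗ[R] N, r ∘ₗ ι = LinearMap.id := by
  -- canonical form of the local retractions
  have H' : ∀ (𝔪 : Ideal R) [𝔪.IsMaximal], ∃ r : K →ₗ[R] LocalizedModule 𝔪.primeCompl N,
      r ∘ₗ ι = LocalizedModule.mkLinearMap 𝔪.primeCompl N := by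
    intro 𝔪 _
    obtain ⟨N', _, _, l, _, r, hr⟩ := H 𝔪
    refine ⟨(IsLocalizedModule.iso 𝔪.primeCompl l).symm.toLinearMap ∘ₗ r, ?_⟩
    rw [LinearMap.comp_assoc, hr, IsLocalizedModule.iso_symm_comp]
  have hpι : ∀ n, p (ι n) = 0 := by
    intro n
    have : ι n ∈ LinearMap.ker p := by rw [hex]; exact ⟨n, rfl⟩
    exact this
  -- injectivity of ι
  have hinj : Function.Injective ι := by
    rw [← LinearMap.ker_eq_bot, LinearMap.ker_eq_bot']
    intro x hx
    refine Module.eq_zero_of_localization_maximal
      (fun (P : Ideal R) _ => LocalizedModule P.primeCompl N)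
      (fun (P : Ideal R) _ => LocalizedModule.mkLinearMap P.primeCompl N) x ?_
    intro P _
    obtain ⟨r, hr⟩ := H' P
    rw [← hr, LinearMap.comp_apply, hx, map_zero]
  -- a global section of p
  obtain ⟨s, hs⟩ := LinearMap.split_surjective_of_localization_maximal p (by
    intro 𝔪 h𝔪
    haveI := h𝔪
    obtain ⟨r, hr⟩ := H' 𝔪
    let D : K →ₗ[R] LocalizedModule 𝔪.primeCompl K :=
      LocalizedModule.mkLinearMap 𝔪.primeCompl K - ((LocalizedModule.map 𝔪.primeCompl ι).restrictScalars R) ∘ₗ r
    have hDι : ∀ n, D (ι n) = 0 := by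
      intro n
      have h1 : r (ι n) = LocalizedModule.mkLinearMap 𝔪.primeCompl N n := by
        rw [← LinearMap.comp_apply, hr]
      show LocalizedModule.mkLinearMap 𝔪.primeCompl K (ι n) - (LocalizedModule.map 𝔪.primeCompl ι) (r (ι n)) = 0
      rw [h1, LocalizedModule.mkLinearMap_apply, LocalizedModule.mkLinearMap_apply,
        LocalizedModule.map_mk, sub_self]
    have hle : LinearMap.ker p ≤ LinearMap.ker D := by
      rw [hex]
      rintro _ ⟨n, rfl⟩
      exact hDι n
    let e := LinearMap.quotKerEquivOfSurjective p hp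
    let Dbar : C →ₗ[R] LocalizedModule 𝔪.primeCompl K :=
      (LinearMap.ker p).liftQ D hle ∘ₗ e.symm.toLinearMap
    have hDbar : ∀ k, Dbar (p k) = D k := by
      intro k
      have : e.symm (p k) = Submodule.Quotient.mk k := by
        rw [LinearEquiv.symm_apply_eq]
        rfl
      show (LinearMap.ker p).liftQ D hle (e.symm (p k)) = D k
      rw [this, Submodule.liftQ_apply]
    have hunits := IsLocalizedModule.map_units (S := 𝔪.primeCompl) (LocalizedModule.mkLinearMap 𝔪.primeCompl K)
    let g₀ : LocalizedModule 𝔪.primeCompl C →ₗ[R] LocalizedModule 𝔪.primeCompl K :=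
      IsLocalizedModule.lift 𝔪.primeCompl (LocalizedModule.mkLinearMap 𝔪.primeCompl C) Dbar hunits
    have hg₀ : g₀ ∘ₗ LocalizedModule.mkLinearMap 𝔪.primeCompl C = Dbar :=
      IsLocalizedModule.lift_comp 𝔪.primeCompl (LocalizedModule.mkLinearMap 𝔪.primeCompl C) Dbar hunits
    refine ⟨g₀.extendScalarsOfIsLocalization 𝔪.primeCompl (Localization 𝔪.primeCompl), ?_⟩
    apply LinearMap.restrictScalars_injective R
    apply IsLocalizedModule.ext 𝔪.primeCompl (LocalizedModule.mkLinearMap 𝔪.primeCompl C)
      (IsLocalizedModule.map_units (S := 𝔪.primeCompl) (LocalizedModule.mkLinearMap 𝔪.primeCompl C))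
    ext c
    obtain ⟨k, rfl⟩ := hp c
    have hzero : ∀ y : LocalizedModule 𝔪.primeCompl N,
        (LocalizedModule.map 𝔪.primeCompl p) ((LocalizedModule.map 𝔪.primeCompl ι) y) = 0 := by
      intro y
      induction y using LocalizedModule.induction_on with
      | h n t =>
        rw [LocalizedModule.map_mk, LocalizedModule.map_mk, hpι, LocalizedModule.zero_mk]
    have h2 : g₀ (LocalizedModule.mkLinearMap 𝔪.primeCompl C (p k)) = D k := by
      rw [← LinearMap.comp_apply, hg₀, hDbar]
    show (LocalizedModule.map 𝔪.primeCompl p) (g₀ (LocalizedModule.mkLinearMap 𝔪.primeCompl C (p k))) =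
      LocalizedModule.mkLinearMap 𝔪.primeCompl C (p k)
    rw [h2]
    show (LocalizedModule.map 𝔪.primeCompl p)
      (LocalizedModule.mkLinearMap 𝔪.primeCompl K k - (LocalizedModule.map 𝔪.primeCompl ι) (r k)) = _
    rw [map_sub, hzero, sub_zero, LocalizedModule.mkLinearMap_apply, LocalizedModule.map_mk,
      LocalizedModule.mkLinearMap_apply])
  -- the retraction
  have hs' : ∀ c, p (s c) = c := fun c => by
    rw [← LinearMap.comp_apply, hs, LinearMap.id_apply]
  let q : K →ₗ[R] K := LinearMap.id - s ∘ₗ p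
  have hq : ∀ k, q k ∈ LinearMap.range ι := by
    intro k
    rw [← hex, LinearMap.mem_ker]
    show p (k - s (p k)) = 0
    rw [map_sub, hs', sub_self]
  let ιe := LinearEquiv.ofInjective ι hinj
  refine ⟨ιe.symm.toLinearMap ∘ₗ q.codRestrict (LinearMap.range ι) hq, ?_⟩
  ext n
  show ιe.symm (q.codRestrict (LinearMap.range ι) hq (ι n)) = n
  rw [LinearEquiv.symm_apply_eq]
  ext
  show ι n - s (p (ι n)) = ι n
  rw [hpι, map_zero, sub_zero]

end split

section conormal

variable {R P : Type u} [CommRing R] [CommRing P] [Algebra R P]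

/-- The augmentation ideal (of square zero) of a finitely presented augmented algebra is a
finitely presented module over the base. -/
theorem finitePresentation_ker_of_section [Algebra.FinitePresentation R P]
    (ε : P →ₐ[R] R) (hε : RingHom.ker ε.toRingHom ^ 2 = ⊥) :
    Module.FinitePresentation R (RingHom.ker ε.toRingHom) := by
  letI : Algebra P R := ε.toRingHom.toAlgebra
  haveI : IsScalarTower R P R := IsScalarTower.of_algebraMap_eq (fun x => by
    show x = ε (algebraMap R P x)
    rw [AlgHom.commutes]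
    rfl)
  let g : R →ₐ[R] P := Algebra.ofId R P
  have hg : (IsScalarTower.toAlgHom R P R).comp g = AlgHom.id R R := by
    ext
  have hf' : RingHom.ker (algebraMap P R) ^ 2 = ⊥ := hε
  let l := retractionOfSectionOfKerSqZero g hf' hg
  have hl : l.comp (KaehlerDifferential.kerToTensor R P R) = LinearMap.id :=
    retractionOfSectionOfKerSqZero_comp_kerToTensor g hf' hg
  have hl' : ∀ x, l (KaehlerDifferential.kerToTensor R P R x) = x := fun x => by
    rw [← LinearMap.comp_apply, hl, LinearMap.id_apply]
  let l' : R ⊗[P] Ω[P⁄R] →ₗ[R] RingHom.ker (algebraMap P R) := l.restrictScalars R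
  let k' : RingHom.ker (algebraMap P R) →ₗ[R] R ⊗[P] Ω[P⁄R] :=
    (KaehlerDifferential.kerToTensor R P R).restrictScalars R
  have hsurj : Function.Surjective l' := fun x => ⟨k' x, hl' x⟩
  have hker : (LinearMap.ker l').FG := by
    have : LinearMap.ker l' = LinearMap.range (LinearMap.id - k' ∘ₗ l') := by
      ext x
      constructor
      · intro hx
        refine ⟨x, ?_⟩
        show x - k' (l' x) = x
        rw [LinearMap.mem_ker.mp hx, map_zero, sub_zero]
      · rintro ⟨y, rfl⟩
        rw [LinearMap.mem_ker]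
        show l' (y - k' (l' y)) = 0
        rw [map_sub]
        show l y - l (KaehlerDifferential.kerToTensor R P R (l y)) = 0
        rw [hl', sub_self]
    rw [this]
    exact Submodule.fg_range _
  exact Module.finitePresentation_of_surjective l' hsurj hker

end conormal

section main

variable {A B : Type u} [CommRing A] [CommRing B] [Algebra A B] (I : Ideal A)
  (π : B →ₐ[A] A ⧸ I)

/-- Elements of the extended ideal `I B` are images of elements of `I`, when `(ker π)² = 0`. -/
theorem exists_of_mem_map (hK : ∀ x y : B, π x = 0 → π y = 0 → x * y = 0) :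
    ∀ y ∈ I.map (algebraMap A B), ∃ x ∈ I, algebraMap A B x = y := by
  have hπρ : ∀ x ∈ I, π (algebraMap A B x) = 0 := by
    intro x hx
    rw [AlgHom.commutes, Ideal.Quotient.algebraMap_eq, Ideal.Quotient.eq_zero_iff_mem]
    exact hx
  intro y hy
  refine Submodule.span_induction (p := fun y _ => ∃ x ∈ I, algebraMap A B x = y)
    ?_ ?_ ?_ ?_ hy
  · rintro _ ⟨x, hx, rfl⟩
    exact ⟨x, hx, rfl⟩
  · exact ⟨0, I.zero_mem, map_zero _⟩
  · rintro _ _ _ _ ⟨x, hx, rfl⟩ ⟨x', hx', rfl⟩
    exact ⟨x + x', I.add_mem hx hx', map_add _ _ _⟩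
  · rintro b _ _ ⟨x, hx, rfl⟩
    obtain ⟨a, ha⟩ := Ideal.Quotient.mk_surjective (π b)
    have hk := sub_algebraMap_mem I π b a ha.symm
    have hzero : (b - algebraMap A B a) * algebraMap A B x = 0 := hK _ _ hk (hπρ x hx)
    refine ⟨a * x, I.mul_mem_left a hx, ?_⟩
    rw [map_mul, smul_eq_mul]
    linear_combination -hzero

theorem exists_algHom_lift (hI : I ^ 2 = ⊥)
    (hK : ∀ x y : B, π x = 0 → π y = 0 → x * y = 0)
    [Algebra.FinitePresentation (A ⧸ I) (B ⧸ I.map (algebraMap A B))]
    (Hloc : ∀ (𝔪 : Ideal A) [𝔪.IsMaximal], ∃ σ : B →ₐ[A] Localization.AtPrime 𝔪,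
      ∀ k : B, π k = 0 → σ k ∈ I.map (algebraMap A (Localization.AtPrime 𝔪))) :
    ∃ σ : B →ₐ[A] A, ∀ b, Ideal.Quotient.mk I (σ b) = π b := by
  have hII : ∀ x ∈ I, ∀ y ∈ I, x * y = 0 := fun x hx y hy => by
    have : x * y ∈ I ^ 2 := by rw [pow_two]; exact Ideal.mul_mem_mul hx hy
    rw [hI] at this
    exact Ideal.mem_bot.mp this
  have hπρ : ∀ x ∈ I, π (algebraMap A B x) = 0 := by
    intro x hx
    rw [AlgHom.commutes, Ideal.Quotient.algebraMap_eq, Ideal.Quotient.eq_zero_iff_mem]
    exact hx
  -- module structures over `A ⧸ I`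
  have hTI : Module.IsTorsionBySet A I (I : Set A) := by
    intro m a
    ext
    exact hII _ a.2 _ m.2
  have hTK : Module.IsTorsionBySet A (LinearMap.ker π.toLinearMap) (I : Set A) := by
    intro k a
    ext
    show (a : A) • (k : B) = 0
    rw [Algebra.smul_def]
    exact hK _ _ (hπρ _ a.2) k.2
  letI modI : Module (A ⧸ I) I := hTI.module
  letI modK : Module (A ⧸ I) (LinearMap.ker π.toLinearMap) := hTK.module
  haveI towI : IsScalarTower A (A ⧸ I) I := hTI.isScalarTower
  haveI towK : IsScalarTower A (A ⧸ I) (LinearMap.ker π.toLinearMap) := hTK.isScalarTower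
  have hmk : Function.Surjective (algebraMap A (A ⧸ I)) := Ideal.Quotient.mk_surjective
  -- the augmentation of `B ⧸ I B`
  have hle : I.map (algebraMap A B) ≤ RingHom.ker π.toRingHom := by
    rw [Ideal.map_le_iff_le_comap]
    intro y hy
    exact hπρ y hy
  let π₀r : B ⧸ I.map (algebraMap A B) →+* A ⧸ I :=
    Ideal.Quotient.lift _ π.toRingHom (fun x hx => hle hx)
  have hπ₀r : ∀ b, π₀r (Ideal.Quotient.mk _ b) = π b := fun b => rfl
  let π₀ : B ⧸ I.map (algebraMap A B) →ₐ[A ⧸ I] A ⧸ I :=
    { π₀r with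
      commutes' := by
        intro r
        obtain ⟨a, rfl⟩ := Ideal.Quotient.mk_surjective r
        show π₀r (algebraMap (A ⧸ I) (B ⧸ I.map (algebraMap A B)) (Ideal.Quotient.mk I a)) = _
        rw [Ideal.Quotient.algebraMap_quotient_map_quotient, hπ₀r, AlgHom.commutes]
        rfl }
  have hπ₀ : ∀ b, π₀ (Ideal.Quotient.mk _ b) = π b := fun b => rfl
  have hε : RingHom.ker π₀.toRingHom ^ 2 = ⊥ := by
    rw [eq_bot_iff, pow_two, Ideal.mul_le]
    intro x hx y hy
    obtain ⟨b, rfl⟩ := Ideal.Quotient.mk_surjective x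
    obtain ⟨b', rfl⟩ := Ideal.Quotient.mk_surjective y
    rw [Ideal.mem_bot, ← map_mul, hK b b' hx hy, map_zero]
  haveI : Module.FinitePresentation (A ⧸ I) (RingHom.ker π₀.toRingHom) :=
    finitePresentation_ker_of_section π₀ hε
  -- the complex `I → K → C`
  let ιA : I →ₗ[A] LinearMap.ker π.toLinearMap :=
    { toFun := fun x => ⟨algebraMap A B x, hπρ x x.2⟩
      map_add' := fun x y => by ext; simp
      map_smul' := fun a x => by ext; simp [Algebra.smul_def] }
  let ι : I →ₗ[A ⧸ I] LinearMap.ker π.toLinearMap := ιA.extendScalarsOfSurjective hmk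
  have hι : ∀ x : I, ((ι x : LinearMap.ker π.toLinearMap) : B) = algebraMap A B x := fun x => rfl
  let p : LinearMap.ker π.toLinearMap →ₗ[A ⧸ I] RingHom.ker π₀.toRingHom :=
    { toFun := fun k => ⟨Ideal.Quotient.mk _ (k : B), k.2⟩
      map_add' := fun k k' => Subtype.ext (map_add (Ideal.Quotient.mk _) (k : B) (k' : B))
      map_smul' := fun a k => by
        obtain ⟨a, rfl⟩ := Ideal.Quotient.mk_surjective a
        ext
        show Ideal.Quotient.mk _ (((Ideal.Quotient.mk I a) • k : LinearMap.ker π.toLinearMap) : B)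
          = (Ideal.Quotient.mk I a) • (Ideal.Quotient.mk (I.map (algebraMap A B)) (k : B))
        rw [Ideal.Quotient.mk_smul_mk_quotient_map_quotient]
        have : ((Ideal.Quotient.mk I a) • k : LinearMap.ker π.toLinearMap) = a • k := rfl
        rw [this, Submodule.coe_smul, Algebra.smul_def] }
  have hp_apply : ∀ k, ((p k : RingHom.ker π₀.toRingHom) : B ⧸ I.map (algebraMap A B)) =
      Ideal.Quotient.mk _ (k : B) := fun k => rfl
  have hp : Function.Surjective p := by
    rintro ⟨c, hc⟩
    obtain ⟨b, rfl⟩ := Ideal.Quotient.mk_surjective c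
    exact ⟨⟨b, hc⟩, rfl⟩
  have hex : LinearMap.ker p = LinearMap.range ι := by
    ext k
    constructor
    · intro hk
      have h0 : Ideal.Quotient.mk (I.map (algebraMap A B)) (k : B) = 0 := by
        have := congrArg Subtype.val (LinearMap.mem_ker.mp hk)
        exact this
      rw [Ideal.Quotient.eq_zero_iff_mem] at h0
      obtain ⟨x, hx, hxk⟩ := exists_of_mem_map I π hK _ h0
      exact ⟨⟨x, hx⟩, Subtype.ext hxk⟩
    · rintro ⟨x, rfl⟩
      rw [LinearMap.mem_ker]
      ext
      show Ideal.Quotient.mk (I.map (algebraMap A B)) (algebraMap A B x) = 0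
      rw [Ideal.Quotient.eq_zero_iff_mem]
      exact Ideal.mem_map_of_mem _ x.2
  -- local retractions
  obtain ⟨r₀, hr₀⟩ := exists_retraction_of_local ι p hp hex (by
    intro 𝔪₀ h𝔪₀
    obtain ⟨𝔪, h𝔪⟩ : ∃ 𝔪 : Ideal A, 𝔪 = 𝔪₀.comap (Ideal.Quotient.mk I) := ⟨_, rfl⟩
    haveI : 𝔪.IsMaximal := by
      rw [h𝔪]
      exact Ideal.comap_isMaximal_of_surjective _ Ideal.Quotient.mk_surjective
    obtain ⟨σ, hσ⟩ := Hloc 𝔪
    have hmem𝔪 : ∀ s : A, s ∈ 𝔪 ↔ Ideal.Quotient.mk I s ∈ 𝔪₀ := fun s => by
      rw [h𝔪]; exact Ideal.mem_comap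
    have hsq : ∀ n ∈ I.map (algebraMap A (Localization.AtPrime 𝔪)),
        ∀ n' ∈ I.map (algebraMap A (Localization.AtPrime 𝔪)), n * n' = 0 := by
      intro n hn n' hn'
      have : n * n' ∈ (I.map (algebraMap A (Localization.AtPrime 𝔪))) ^ 2 := by
        rw [pow_two]; exact Ideal.mul_mem_mul hn hn'
      rw [← Ideal.map_pow, hI, Ideal.map_bot] at this
      exact Ideal.mem_bot.mp this
    have hTN : Module.IsTorsionBySet A (I.map (algebraMap A (Localization.AtPrime 𝔪)))
        (I : Set A) := by
      intro n a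
      ext
      show (a : A) • (n : Localization.AtPrime 𝔪) = 0
      rw [Algebra.smul_def]
      exact hsq _ (Ideal.mem_map_of_mem _ a.2) _ n.2
    letI modN : Module (A ⧸ I) (I.map (algebraMap A (Localization.AtPrime 𝔪))) := hTN.module
    haveI towN : IsScalarTower A (A ⧸ I) (I.map (algebraMap A (Localization.AtPrime 𝔪))) :=
      hTN.isScalarTower
    let lA : I →ₗ[A] I.map (algebraMap A (Localization.AtPrime 𝔪)) :=
      { toFun := fun x => ⟨algebraMap A _ x, Ideal.mem_map_of_mem _ x.2⟩
        map_add' := fun x y => by ext; simp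
        map_smul' := fun a x => by ext; simp [Algebra.smul_def] }
    let rA : LinearMap.ker π.toLinearMap →ₗ[A] I.map (algebraMap A (Localization.AtPrime 𝔪)) :=
      { toFun := fun k => ⟨σ k, hσ k k.2⟩
        map_add' := fun x y => by ext; simp
        map_smul' := fun a x => by ext; simp [Algebra.smul_def] }
    refine ⟨I.map (algebraMap A (Localization.AtPrime 𝔪)), inferInstance, modN,
      lA.extendScalarsOfSurjective hmk, ?_, rA.extendScalarsOfSurjective hmk, ?_⟩
    · refine ⟨?_, ?_, ?_⟩
      · rintro ⟨s₀, hs₀⟩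
        obtain ⟨s, rfl⟩ := Ideal.Quotient.mk_surjective s₀
        have hs : s ∈ 𝔪.primeCompl := fun h => hs₀ ((hmem𝔪 s).mp h)
        have hu : IsUnit (algebraMap A (Localization.AtPrime 𝔪) s) :=
          IsLocalization.map_units (Localization.AtPrime 𝔪) ⟨s, hs⟩
        rw [Module.End.isUnit_iff]
        have happ : ∀ n : I.map (algebraMap A (Localization.AtPrime 𝔪)),
            ((algebraMap (A ⧸ I) (Module.End (A ⧸ I) _) (Ideal.Quotient.mk I s) n :
              I.map (algebraMap A (Localization.AtPrime 𝔪))) : Localization.AtPrime 𝔪) =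
              algebraMap A _ s * n := by
          intro n
          show ((Ideal.Quotient.mk I s • n : I.map (algebraMap A (Localization.AtPrime 𝔪))) :
            Localization.AtPrime 𝔪) = _
          have : (Ideal.Quotient.mk I s • n : I.map (algebraMap A (Localization.AtPrime 𝔪))) =
            s • n := rfl
          rw [this, Submodule.coe_smul_of_tower, Algebra.smul_def]
        constructor
        · intro n n' hnn'
          have := congrArg Subtype.val hnn'
          rw [happ, happ] at this
          exact Subtype.ext (hu.mul_left_cancel this)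
        · intro n
          obtain ⟨v, hv⟩ := hu.exists_left_inv
          refine ⟨⟨v * n, Ideal.mul_mem_left _ v n.2⟩, Subtype.ext ?_⟩
          rw [happ]
          show algebraMap A _ s * (v * (n : Localization.AtPrime 𝔪)) = n
          rw [← mul_assoc, mul_comm _ v, hv, one_mul]
      · intro y
        obtain ⟨⟨x, s⟩, hxs⟩ := (IsLocalization.mem_map_algebraMap_iff 𝔪.primeCompl
          (Localization.AtPrime 𝔪)).mp y.2
        have hs₀ : Ideal.Quotient.mk I (s : A) ∈ 𝔪₀.primeCompl := fun h => s.2 ((hmem𝔪 _).mpr h)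
        refine ⟨(x, ⟨Ideal.Quotient.mk I (s : A), hs₀⟩), Subtype.ext ?_⟩
        show ((Ideal.Quotient.mk I (s : A) • y : I.map (algebraMap A (Localization.AtPrime 𝔪))) :
          Localization.AtPrime 𝔪) = algebraMap A _ (x : A)
        have : (Ideal.Quotient.mk I (s : A) • y :
          I.map (algebraMap A (Localization.AtPrime 𝔪))) = (s : A) • y := rfl
        rw [this, Submodule.coe_smul_of_tower, Algebra.smul_def, mul_comm]
        exact hxs
      · intro x₁ x₂ h12
        have h12' : algebraMap A (Localization.AtPrime 𝔪) (x₁ : A) = algebraMap A _ (x₂ : A) :=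
          congrArg Subtype.val h12
        obtain ⟨c, hc⟩ := (IsLocalization.eq_iff_exists 𝔪.primeCompl
          (Localization.AtPrime 𝔪)).mp h12'
        have hc₀ : Ideal.Quotient.mk I (c : A) ∈ 𝔪₀.primeCompl := fun h => c.2 ((hmem𝔪 _).mpr h)
        refine ⟨⟨Ideal.Quotient.mk I (c : A), hc₀⟩, Subtype.ext ?_⟩
        show (((Ideal.Quotient.mk I (c : A)) • x₁ : I) : A) = (((Ideal.Quotient.mk I (c : A)) • x₂ : I) : A)
        have e1 : ((Ideal.Quotient.mk I (c : A)) • x₁ : I) = (c : A) • x₁ := rfl
        have e2 : ((Ideal.Quotient.mk I (c : A)) • x₂ : I) = (c : A) • x₂ := rfl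
        rw [e1, e2, Submodule.coe_smul, Submodule.coe_smul, smul_eq_mul, smul_eq_mul]
        exact hc
    · ext x
      show σ (algebraMap A B x) = algebraMap A _ (x : A)
      rw [AlgHom.commutes])
  -- the retraction over `A`
  have hr₀' : ∀ x : I, r₀ (ι x) = x := fun x => by
    rw [← LinearMap.comp_apply, hr₀, LinearMap.id_apply]
  let rA : LinearMap.ker π.toLinearMap →ₗ[A] A := I.subtype ∘ₗ (r₀.restrictScalars A)
  refine exists_algHom_of_retraction I π hI hK rA (fun k => (r₀ k).2) ?_
  intro x hx h
  have := hr₀' ⟨x, hx⟩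
  show ((r₀ ⟨algebraMap A B x, h⟩ : I) : A) = x
  have e : (⟨algebraMap A B x, h⟩ : LinearMap.ker π.toLinearMap) = ι ⟨x, hx⟩ := rfl
  rw [e, this]

end main

end Groth.Agent.H19.H1Alg
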