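import Mathlib
import Groth.Prelude.Def_Omega3
import Groth.Agent.H78.UT3

/-!
# Base change of an affine universal first order thickening along `Spec (A ⧸ I) → Spec A`

If `Spec B` is a universal first order thickening of `a₀ : Spec (A ⧸ I) → X` over `X → Spec A`,
then `Spec (B ⧸ I B)` is a universal first order thickening of the induced section of
`X ×_{Spec A} Spec (A ⧸ I) → Spec (A ⧸ I)`.
-/

set_option autoImplicit false
set_option maxHeartbeats 400000
universe u

namespace Groth.Agent.H19.H1Quot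

open AlgebraicGeometry CategoryTheory CategoryTheory.Limits TopologicalSpace

variable {A B : Type u} [CommRing A] [CommRing B] [Algebra A B] (I : Ideal A)
  (π : B →ₐ[A] A ⧸ I)

theorem π_algebraMap_eq_zero (x : A) (hx : x ∈ I) : π (algebraMap A B x) = 0 := by
  rw [AlgHom.commutes, Ideal.Quotient.algebraMap_eq, Ideal.Quotient.eq_zero_iff_mem]
  exact hx

theorem map_le_ker : I.map (algebraMap A B) ≤ RingHom.ker π.toRingHom := by
  rw [Ideal.map_le_iff_le_comap]
  intro y hy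
  exact π_algebraMap_eq_zero I π y hy

/-- The augmentation of `B ⧸ I B`. -/
noncomputable def π₀ : B ⧸ I.map (algebraMap A B) →+* A ⧸ I :=
  Ideal.Quotient.lift _ π.toRingHom (fun _ hx => map_le_ker I π hx)

theorem π₀_mk (b : B) : π₀ I π (Ideal.Quotient.mk _ b) = π b := rfl

theorem π₀_algebraMap (r : A ⧸ I) :
    π₀ I π (algebraMap (A ⧸ I) (B ⧸ I.map (algebraMap A B)) r) = r := by
  obtain ⟨a, rfl⟩ := Ideal.Quotient.mk_surjective r
  rw [Ideal.Quotient.algebraMap_quotient_map_quotient, π₀_mk, AlgHom.commutes]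
  rfl

theorem π₀_surjective : Function.Surjective (π₀ I π) := fun r => ⟨_, π₀_algebraMap I π r⟩

theorem ker_π₀_sq (hK : ∀ x y : B, π x = 0 → π y = 0 → x * y = 0) :
    RingHom.ker (π₀ I π) ^ 2 = ⊥ := by
  rw [eq_bot_iff]
  refine le_trans (le_of_eq (pow_two _)) ?_
  rw [Ideal.mul_le]
  intro x hx y hy
  obtain ⟨b, rfl⟩ := Ideal.Quotient.mk_surjective x
  obtain ⟨b', rfl⟩ := Ideal.Quotient.mk_surjective y
  rw [Ideal.mem_bot, ← map_mul, hK b b' hx hy, map_zero]

section geom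

variable {X : Scheme.{u}} (f : X ⟶ Spec (.of A)) (h' : Spec (.of B) ⟶ X)
  (hf : h' ≫ f = Spec.map (CommRingCat.ofHom (algebraMap A B)))
  (a₀ : Spec (.of (A ⧸ I)) ⟶ X)
  (hu : OmegaSh.IsUnivThickening a₀ (Spec.map (CommRingCat.ofHom π.toRingHom)) h')
  (s₀ : Spec (.of (A ⧸ I)) ⟶ pullback f (Spec.map (CommRingCat.ofHom (Ideal.Quotient.mk I))))
  (hs₁ : s₀ ≫ pullback.fst _ _ = a₀)
  (h₀ : Spec (.of (B ⧸ I.map (algebraMap A B))) ⟶
    pullback f (Spec.map (CommRingCat.ofHom (Ideal.Quotient.mk I))))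
  (hh₁ : h₀ ≫ pullback.fst _ _ =
    Spec.map (CommRingCat.ofHom (Ideal.Quotient.mk (I.map (algebraMap A B)))) ≫ h')
  (hh₂ : h₀ ≫ pullback.snd _ _ =
    Spec.map (CommRingCat.ofHom (algebraMap (A ⧸ I) (B ⧸ I.map (algebraMap A B)))))

theorem mk_comp_π₀ :
    CommRingCat.ofHom (Ideal.Quotient.mk (I.map (algebraMap A B))) ≫ CommRingCat.ofHom (π₀ I π) =
      CommRingCat.ofHom π.toRingHom := by
  ext b
  rfl

include hf hu hs₁ hh₁ hh₂ in
theorem affine_case {T T' : Scheme.{u}} [IsAffine T'] (j : T ⟶ T')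
    (hj : MoreMor.IsFirstOrderThickening j)
    (b : T' ⟶ pullback f (Spec.map (CommRingCat.ofHom (Ideal.Quotient.mk I))))
    (a : T ⟶ Spec (.of (A ⧸ I))) (hjb : j ≫ b = a ≫ s₀) :
    ∃! a' : T' ⟶ Spec (.of (B ⧸ I.map (algebraMap A B))),
      j ≫ a' = a ≫ Spec.map (CommRingCat.ofHom (π₀ I π)) ∧ a' ≫ h₀ = b := by
  haveI : IsClosedImmersion (Spec.map (CommRingCat.ofHom
      (Ideal.Quotient.mk (I.map (algebraMap A B))))) :=
    IsClosedImmersion.spec_of_surjective _ Ideal.Quotient.mk_surjective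
  haveI : IsClosedImmersion (Spec.map (CommRingCat.ofHom (Ideal.Quotient.mk I))) :=
    IsClosedImmersion.spec_of_surjective _ Ideal.Quotient.mk_surjective
  have h1 : j ≫ (b ≫ pullback.fst _ _) = a ≫ a₀ := by
    rw [← Category.assoc, hjb, Category.assoc, hs₁]
  obtain ⟨a'', ⟨ha1, ha2⟩, huniq⟩ := hu.2.2 T T' j (b ≫ pullback.fst _ _) a hj h1
  obtain ⟨β, hβ⟩ : ∃ β : CommRingCat.of B ⟶ Γ(T', ⊤), Spec.map β = T'.isoSpec.inv ≫ a'' :=
    ⟨Spec.preimage _, Spec.map_preimage _⟩
  obtain ⟨γ, hγ⟩ : ∃ γ : CommRingCat.of (A ⧸ I) ⟶ Γ(T', ⊤),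
      Spec.map γ = T'.isoSpec.inv ≫ b ≫ pullback.snd _ _ :=
    ⟨Spec.preimage _, Spec.map_preimage _⟩
  have hβγ : CommRingCat.ofHom (algebraMap A B) ≫ β =
      CommRingCat.ofHom (Ideal.Quotient.mk I) ≫ γ := by
    apply Spec.map_injective
    rw [Spec.map_comp, Spec.map_comp, hβ, hγ, Category.assoc, Category.assoc, ← hf,
      ← Category.assoc a'', ha2, Category.assoc, Category.assoc, pullback.condition]
  have hkill : ∀ x ∈ I.map (algebraMap A B), β.hom x = 0 := by
    have : I.map (algebraMap A B) ≤ RingHom.ker β.hom := by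
      rw [Ideal.map_le_iff_le_comap]
      intro y hy
      rw [Ideal.mem_comap, RingHom.mem_ker]
      have := congrArg (fun φ => φ.hom y) hβγ
      simp only [CommRingCat.hom_comp, CommRingCat.hom_ofHom, RingHom.comp_apply] at this
      rw [this, Ideal.Quotient.eq_zero_iff_mem.mpr hy, map_zero]
    exact fun x hx => this hx
  obtain ⟨βbar, hβbar⟩ : ∃ βbar : CommRingCat.of (B ⧸ I.map (algebraMap A B)) ⟶ Γ(T', ⊤),
      CommRingCat.ofHom (Ideal.Quotient.mk (I.map (algebraMap A B))) ≫ βbar = β :=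
    ⟨CommRingCat.ofHom (Ideal.Quotient.lift _ β.hom hkill), by ext x; rfl⟩
  have ha' : (T'.isoSpec.hom ≫ Spec.map βbar) ≫ Spec.map (CommRingCat.ofHom
      (Ideal.Quotient.mk (I.map (algebraMap A B)))) = a'' := by
    rw [Category.assoc, ← Spec.map_comp, hβbar, hβ, Iso.hom_inv_id_assoc]
  have hring : CommRingCat.ofHom (Ideal.Quotient.mk I) ≫
      CommRingCat.ofHom (algebraMap (A ⧸ I) (B ⧸ I.map (algebraMap A B))) =
      CommRingCat.ofHom (algebraMap A B) ≫
        CommRingCat.ofHom (Ideal.Quotient.mk (I.map (algebraMap A B))) := by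
    ext x
    rfl
  refine ⟨T'.isoSpec.hom ≫ Spec.map βbar, ⟨?_, ?_⟩, ?_⟩
  · rw [← cancel_mono (Spec.map (CommRingCat.ofHom
      (Ideal.Quotient.mk (I.map (algebraMap A B))))), Category.assoc, ha', ha1, Category.assoc,
      ← Spec.map_comp, mk_comp_π₀]
  · apply pullback.hom_ext
    · rw [Category.assoc, hh₁, ← Category.assoc, ha', ha2]
    · rw [Category.assoc, hh₂, ← cancel_mono (Spec.map (CommRingCat.ofHom (Ideal.Quotient.mk I))),
        Category.assoc, ← Spec.map_comp, hring, Spec.map_comp, ← Category.assoc, ha', ← hf,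
        ← Category.assoc, ha2, Category.assoc, Category.assoc, pullback.condition]
  · rintro a'₁ ⟨c1, c2⟩
    rw [← cancel_mono (Spec.map (CommRingCat.ofHom
      (Ideal.Quotient.mk (I.map (algebraMap A B))))), ha']
    apply huniq
    refine ⟨?_, ?_⟩
    · rw [← Category.assoc, c1, Category.assoc, ← Spec.map_comp, mk_comp_π₀]
    · rw [Category.assoc, ← hh₁, ← Category.assoc, c2]

include hf hu hs₁ hh₁ hh₂ in
theorem isUniv_quot (hK : ∀ x y : B, π x = 0 → π y = 0 → x * y = 0)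
    (hs₂ : s₀ ≫ pullback.snd _ _ = 𝟙 _) :
    OmegaSh.IsUnivThickening s₀ (Spec.map (CommRingCat.ofHom (π₀ I π))) h₀ := by
  refine ⟨?_, ?_, ?_⟩
  · haveI : IsClosedImmersion (Spec.map (CommRingCat.ofHom (π₀ I π))) :=
      IsClosedImmersion.spec_of_surjective _ (π₀_surjective I π)
    apply Groth.Agent.H78.UT2.firstOrder_of_closedImmersion
    apply Groth.Agent.H78.UT2.ker_specMap_sq
    exact ker_π₀_sq I π hK
  · apply pullback.hom_ext
    · rw [Category.assoc, hh₁, ← Category.assoc, ← Spec.map_comp, mk_comp_π₀, hu.2.1, hs₁]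
    · rw [Category.assoc, hh₂, ← Spec.map_comp, hs₂]
      have : CommRingCat.ofHom (algebraMap (A ⧸ I) (B ⧸ I.map (algebraMap A B))) ≫
          CommRingCat.ofHom (π₀ I π) = 𝟙 _ := by
        ext r
        exact π₀_algebraMap I π r
      rw [this, Spec.map_id]
  · intro T T' j b a hj hjb
    apply Groth.Agent.H78.UT1.existsUnique_of_basis _ _ j b a T'.affineOpens
      T'.isBasis_affineOpens
    intro W hW
    haveI : IsAffine W := hW
    have := affine_case I π f h' hf a₀ hu s₀ hs₁ h₀ hh₁ hh₂ (j ∣_ W)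
      (Groth.Agent.H78.UnivThick.firstOrder_of_isPullback (isPullback_morphismRestrict j W) hj)
      (W.ι ≫ b) ((j ⁻¹ᵁ W).ι ≫ a) (by rw [morphismRestrict_ι_assoc, hjb, Category.assoc])
    simpa only [Category.assoc] using this

end geom

end Groth.Agent.H19.H1Quot
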