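import Mathlib
import Groth.Agent.H19.H1Alg
import Groth.Agent.H19.H1Quot
import Groth.Agent.H99.FamDesc

/-!
# Algebra for gluing infinitesimal lifts, formally smooth case (no finiteness)

* `projective_ker_of_formallySmooth`: the conormal module of a section of a formally smooth
  algebra is projective.
* `projective_tensor_ker`: the augmentation ideal localizes.
* `projective_of_span_away`: Zariski descent of projectivity (via Raynaud–Gruson, `H99.FamDesc`).
* `exists_retraction_of_local_projective`, `exists_algHom_lift_of_projective`: the projective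
  variants of the gluing lemmas of `H1Alg`.
-/

set_option autoImplicit false
universe u

namespace Groth.Agent.H19.FSAlg

open TensorProduct

section conormal

/-- The conormal module of a section of a formally smooth algebra is projective: if `R` is formally
smooth over `A'`, `κ : R → Q` is onto with kernel `J²`, where `J` is the kernel of the
augmentation `R → Q → A'`, then the augmentation ideal of `Q` is a projective `A'`-module. -/
theorem projective_ker_of_formallySmooth {A' R Q : Type u} [CommRing A'] [CommRing R] [CommRing Q]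
    [Algebra A' R] [Algebra A' Q] [Algebra.FormallySmooth A' R]
    (κ : R →ₐ[A'] Q) (hκ : Function.Surjective κ)
    (π' : Q →+* A') (hπ' : ∀ r, π' (algebraMap A' Q r) = r)
    (J : Ideal R) (hJ : ∀ x, x ∈ J ↔ π' (κ x) = 0) (hκJ : ∀ x, κ x = 0 ↔ x ∈ J ^ 2) :
    Module.Projective A' (RingHom.ker π') := by
  classical
  have hsq : ∀ x y : Q, π' x = 0 → π' y = 0 → x * y = 0 := by
    intro x y hx hy
    obtain ⟨r, rfl⟩ := hκ x
    obtain ⟨r', rfl⟩ := hκ y
    rw [← map_mul, hκJ, pow_two]
    exact Ideal.mul_mem_mul ((hJ r).mpr hx) ((hJ r').mpr hy)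
  let q : ((RingHom.ker π') →₀ A') →ₗ[A'] (RingHom.ker π') := Finsupp.linearCombination A' id
  have hq1 : ∀ c : RingHom.ker π', q (Finsupp.single c 1) = c := fun c => by
    simp [q]
  let g : ((RingHom.ker π') →₀ A') →ₗ[A'] Q :=
    ((RingHom.ker π').subtype.restrictScalars A') ∘ₗ q
  have hg_apply : ∀ φ, g φ = ((q φ : RingHom.ker π') : Q) := fun φ => rfl
  have hgker : ∀ φ, π' (g φ) = 0 := fun φ => (q φ).2
  let G : TrivSqZeroExt A' ((RingHom.ker π') →₀ A') →ₐ[A'] Q :=
    TrivSqZeroExt.lift (Algebra.ofId A' Q) g (fun x y => hsq _ _ (hgker x) (hgker y))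
      (fun r x => by
        rw [map_smul, Algebra.smul_def]
        rfl)
      (fun r x => by
        rw [op_smul_eq_smul, map_smul, Algebra.smul_def, mul_comm]
        rfl)
  have hG : ∀ e, G e = algebraMap A' Q e.fst + g e.snd := fun e => rfl
  have hGfst : ∀ e, π' (G e) = e.fst := by
    intro e
    rw [hG, map_add, hπ', hgker, add_zero]
  have hGsurj : Function.Surjective G := by
    intro x
    have hc : x - algebraMap A' Q (π' x) ∈ RingHom.ker π' := by
      rw [RingHom.mem_ker, map_sub, hπ', sub_self]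
    refine ⟨TrivSqZeroExt.inl (π' x) + TrivSqZeroExt.inr (Finsupp.single ⟨_, hc⟩ 1), ?_⟩
    rw [hG, hg_apply, TrivSqZeroExt.fst_add, TrivSqZeroExt.snd_add, TrivSqZeroExt.fst_inl,
      TrivSqZeroExt.fst_inr, TrivSqZeroExt.snd_inl, TrivSqZeroExt.snd_inr, add_zero, zero_add, hq1]
    show algebraMap A' Q (π' x) + (x - algebraMap A' Q (π' x)) = x
    ring
  have hmulzero : ∀ e e' : TrivSqZeroExt A' ((RingHom.ker π') →₀ A'),
      e.fst = 0 → e'.fst = 0 → e * e' = 0 := by
    intro e e' he he'
    apply TrivSqZeroExt.ext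
    · rw [TrivSqZeroExt.fst_mul, he, zero_mul, TrivSqZeroExt.fst_zero]
    · rw [TrivSqZeroExt.snd_mul, he, he', zero_smul, MulOpposite.op_zero, zero_smul, add_zero,
        TrivSqZeroExt.snd_zero]
  have hGnil : IsNilpotent (RingHom.ker (G : TrivSqZeroExt A' ((RingHom.ker π') →₀ A') →+* Q)) := by
    have h2 : RingHom.ker (G : TrivSqZeroExt A' ((RingHom.ker π') →₀ A') →+* Q) ^ 2 = ⊥ := by
      rw [eq_bot_iff, pow_two, Ideal.mul_le]
      intro e he e' he'
      rw [Ideal.mem_bot]
      apply hmulzero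
      · rw [← hGfst e]
        have : G e = 0 := he
        rw [this, map_zero]
      · rw [← hGfst e']
        have : G e' = 0 := he'
        rw [this, map_zero]
    exact ⟨2, h2⟩
  obtain ⟨ψ, hψ⟩ : ∃ ψ : R →ₐ[A'] TrivSqZeroExt A' ((RingHom.ker π') →₀ A'),
      ∀ x, G (ψ x) = κ x :=
    ⟨Algebra.FormallySmooth.liftOfSurjective κ G hGsurj hGnil,
      Algebra.FormallySmooth.liftOfSurjective_apply κ G hGsurj hGnil⟩
  have hψfst : ∀ r, (ψ r).fst = π' (κ r) := fun r => by
    rw [← hψ r, hGfst]
  have hψJ2 : ∀ x ∈ J ^ 2, ψ x = 0 := by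
    have : J ^ 2 ≤ RingHom.ker ψ.toRingHom := by
      rw [pow_two, Ideal.mul_le]
      intro x hx y hy
      rw [RingHom.mem_ker]
      show ψ (x * y) = 0
      rw [map_mul]
      exact hmulzero _ _ (by rw [hψfst]; exact (hJ x).mp hx) (by rw [hψfst]; exact (hJ y).mp hy)
    intro x hx
    exact this hx
  have hψeq : ∀ r r' : R, κ r = κ r' → ψ r = ψ r' := by
    intro r r' h
    have h0 : κ (r - r') = 0 := by rw [map_sub, h, sub_self]
    have := hψJ2 _ ((hκJ _).mp h0)
    rw [map_sub, sub_eq_zero] at this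
    exact this
  -- the section
  let c₀ : RingHom.ker π' → R := fun c => (hκ (c : Q)).choose
  have hc₀ : ∀ c, κ (c₀ c) = (c : Q) := fun c => (hκ (c : Q)).choose_spec
  have key : ∀ (c : RingHom.ker π') (r : R), κ r = (c : Q) → (ψ (c₀ c)).snd = (ψ r).snd := by
    intro c r hr
    rw [hψeq (c₀ c) r ((hc₀ c).trans hr.symm)]
  let s : RingHom.ker π' →ₗ[A'] ((RingHom.ker π') →₀ A') :=
    { toFun := fun c => (ψ (c₀ c)).snd
      map_add' := fun c c' => by
        rw [key (c + c') (c₀ c + c₀ c') (by rw [map_add, hc₀, hc₀]; rfl), map_add,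
          TrivSqZeroExt.snd_add]
      map_smul' := fun a c => by
        rw [key (a • c) (algebraMap A' R a * c₀ c) (by
          rw [map_mul, AlgHom.commutes, hc₀]
          show _ = ((a • c : RingHom.ker π') : Q)
          rw [Submodule.coe_smul_of_tower, Algebra.smul_def]), map_mul, AlgHom.commutes,
          TrivSqZeroExt.snd_mul, TrivSqZeroExt.algebraMap_eq_inl, TrivSqZeroExt.fst_inl,
          TrivSqZeroExt.snd_inl, smul_zero, add_zero]
        rfl }
  rw [Module.projective_def']
  refine ⟨s, ?_⟩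
  ext c : 1
  show q (s c) = c
  apply Subtype.ext
  have h1 := hψ (c₀ c)
  rw [hG, hψfst, hc₀, (RingHom.mem_ker).mp c.2, map_zero, zero_add, hg_apply] at h1
  exact h1

end conormal

section loc

variable {A₀ B₀ A' B' : Type u} [CommRing A₀] [CommRing B₀] [CommRing A'] [CommRing B']
  [Algebra A₀ B₀] [Algebra A₀ A'] [Algebra A' B'] [Algebra B₀ B'] [Algebra A₀ B']
  [IsScalarTower A₀ B₀ B'] [IsScalarTower A₀ A' B']

/-- The augmentation ideal localizes: if `A' = A₀[1/g]`, `B' = B₀[1/g]` and the augmentation ideal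
of `B' → A'` is projective, so is the base change of the augmentation ideal of `B₀ → A₀`. -/
theorem projective_tensor_ker (g : A₀) [IsLocalization.Away g A']
    [IsLocalization.Away (algebraMap A₀ B₀ g) B']
    (π₀ : B₀ →+* A₀) (π' : B' →+* A')
    (hcomp : ∀ b, π' (algebraMap B₀ B' b) = algebraMap A₀ A' (π₀ b))
    (hπ₀ : ∀ r, π₀ (algebraMap A₀ B₀ r) = r)
    (hproj : Module.Projective A' (RingHom.ker π')) :
    Module.Projective A' (A' ⊗[A₀] (RingHom.ker π₀)) := by
  haveI : IsScalarTower A₀ A' (RingHom.ker π') :=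
    ⟨fun a a' y => Subtype.ext (smul_assoc a a' (y : B'))⟩
  let l : RingHom.ker π₀ →ₗ[A₀] RingHom.ker π' :=
    { toFun := fun c => ⟨algebraMap B₀ B' c, by
        rw [RingHom.mem_ker, hcomp, (RingHom.mem_ker).mp c.2, map_zero]⟩
      map_add' := fun x y => Subtype.ext (map_add (algebraMap B₀ B') (x : B₀) (y : B₀))
      map_smul' := fun a x => Subtype.ext (by
        show algebraMap B₀ B' (a • (x : B₀)) = a • algebraMap B₀ B' (x : B₀)
        rw [Algebra.smul_def, map_mul, ← IsScalarTower.algebraMap_apply, Algebra.smul_def]) }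
  have hl : ∀ c, ((l c : RingHom.ker π') : B') = algebraMap B₀ B' c := fun c => rfl
  have hgB : ∀ n : ℕ, algebraMap A₀ B' (g ^ n) = algebraMap B₀ B' (algebraMap A₀ B₀ g ^ n) := by
    intro n
    rw [← map_pow, ← IsScalarTower.algebraMap_apply]
  have hunitB : ∀ n : ℕ, IsUnit (algebraMap A₀ B' (g ^ n)) := by
    intro n
    rw [hgB]
    exact IsLocalization.map_units B'
      (⟨algebraMap A₀ B₀ g ^ n, n, rfl⟩ : Submonoid.powers (algebraMap A₀ B₀ g))
  haveI : IsLocalizedModule (Submonoid.powers g) l := by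
    refine ⟨?_, ?_, ?_⟩
    · rintro ⟨_, n, rfl⟩
      rw [Module.End.isUnit_iff]
      have happ : ∀ y : RingHom.ker π',
          ((algebraMap A₀ (Module.End A₀ (RingHom.ker π')) (g ^ n) y : RingHom.ker π') : B') =
            algebraMap A₀ B' (g ^ n) * y := by
        intro y
        show (((g ^ n) • y : RingHom.ker π') : B') = _
        rw [Submodule.coe_smul_of_tower, Algebra.smul_def]
      constructor
      · intro y y' h
        have := congrArg Subtype.val h
        rw [happ, happ] at this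
        exact Subtype.ext ((hunitB n).mul_left_cancel this)
      · intro y
        obtain ⟨v, hv⟩ := (hunitB n).exists_left_inv
        refine ⟨⟨v * y, Ideal.mul_mem_left _ v y.2⟩, Subtype.ext ?_⟩
        rw [happ]
        show algebraMap A₀ B' (g ^ n) * (v * (y : B')) = y
        rw [← mul_assoc, mul_comm _ v, hv, one_mul]
    · intro y
      obtain ⟨⟨b, ⟨_, n, rfl⟩⟩, hb⟩ :=
        IsLocalization.surj (Submonoid.powers (algebraMap A₀ B₀ g)) (y : B')
      have hb' : (y : B') * algebraMap B₀ B' (algebraMap A₀ B₀ g ^ n) = algebraMap B₀ B' b := hb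
      have h0 : algebraMap A₀ A' (π₀ b) = 0 := by
        rw [← hcomp, ← hb', map_mul, (RingHom.mem_ker).mp y.2, zero_mul]
      obtain ⟨⟨_, m, rfl⟩, hm⟩ :=
        (IsLocalization.map_eq_zero_iff (Submonoid.powers g) A' (π₀ b)).mp h0
      have hm' : g ^ m * π₀ b = 0 := hm
      have hc : algebraMap A₀ B₀ (g ^ m) * b ∈ RingHom.ker π₀ := by
        rw [RingHom.mem_ker, map_mul, hπ₀, hm']
      refine ⟨(⟨_, hc⟩, ⟨g ^ (m + n), m + n, rfl⟩), Subtype.ext ?_⟩
      show (((g ^ (m + n)) • y : RingHom.ker π') : B') = algebraMap B₀ B' (algebraMap A₀ B₀ (g ^ m) * b)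
      rw [Submodule.coe_smul_of_tower, Algebra.smul_def, map_mul, ← hb', pow_add, map_mul,
        ← IsScalarTower.algebraMap_apply, hgB n]
      ring
    · intro x₁ x₂ h12
      have h12' : algebraMap B₀ B' (x₁ : B₀) = algebraMap B₀ B' (x₂ : B₀) := congrArg Subtype.val h12
      obtain ⟨⟨_, n, rfl⟩, hc⟩ :=
        (IsLocalization.eq_iff_exists (Submonoid.powers (algebraMap A₀ B₀ g)) B').mp h12'
      have hc' : algebraMap A₀ B₀ g ^ n * (x₁ : B₀) = algebraMap A₀ B₀ g ^ n * (x₂ : B₀) := hc
      refine ⟨⟨g ^ n, n, rfl⟩, Subtype.ext ?_⟩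
      show (((g ^ n) • x₁ : RingHom.ker π₀) : B₀) = (((g ^ n) • x₂ : RingHom.ker π₀) : B₀)
      rw [Submodule.coe_smul_of_tower, Submodule.coe_smul_of_tower, Algebra.smul_def,
        Algebra.smul_def, map_pow]
      exact hc'
  have hbc : IsBaseChange A' l := IsLocalizedModule.isBaseChange (Submonoid.powers g) A' l
  exact Module.Projective.of_equiv hbc.equiv.symm

end loc

section cover

/-- Zariski descent of projectivity (any rank). -/
theorem projective_of_span_away {A₀ : Type u} [CommRing A₀] (C : Type u) [AddCommGroup C]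
    [Module A₀ C] (s : Set A₀) (hs : Ideal.span s = ⊤)
    (h : ∀ g ∈ s, Module.Projective (Localization.Away g) (Localization.Away g ⊗[A₀] C)) :
    Module.Projective A₀ C := by
  obtain ⟨t, hts, ht⟩ := (Ideal.span_eq_top_iff_finite s).mp hs
  refine Groth.Agent.H99.FamDesc.projective_of_family (ι := (t : Set A₀))
    (fun i => Localization.Away (i : A₀)) ?_ C (fun i => h _ (hts i.2))
  intro p
  have hex : ∃ g ∈ t, g ∉ p.asIdeal := by
    by_contra hcon
    have hcon' : ∀ g ∈ t, g ∈ p.asIdeal := fun g hg => by_contra fun h => hcon ⟨g, hg, h⟩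
    have hle : Ideal.span (t : Set A₀) ≤ p.asIdeal := Ideal.span_le.mpr fun g hg => hcon' g hg
    rw [ht] at hle
    exact p.isPrime.ne_top (top_le_iff.mp hle)
  obtain ⟨g, hgt, hgp⟩ := hex
  have hmem : p ∈ Set.range (PrimeSpectrum.comap (algebraMap A₀ (Localization.Away g))) := by
    rw [PrimeSpectrum.localization_away_comap_range (Localization.Away g) g]
    exact hgp
  obtain ⟨q, hq⟩ := hmem
  exact ⟨⟨g, hgt⟩, q, hq⟩

end cover

section split

variable {R : Type u} [CommRing R] {N K C : Type u} [AddCommGroup N] [Module R N]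
  [AddCommGroup K] [Module R K] [AddCommGroup C] [Module R C]

theorem exists_retraction_of_local_projective (ι : N →ₗ[R] K) (p : K →ₗ[R] C)
    (hp : Function.Surjective p) (hex : LinearMap.ker p = LinearMap.range ι)
    [Module.Projective R C]
    (H : ∀ (𝔪 : Ideal R) [𝔪.IsMaximal], ∃ (N' : Type u) (_ : AddCommGroup N') (_ : Module R N')
      (l : N →ₗ[R] N') (_ : IsLocalizedModule 𝔪.primeCompl l) (r : K →ₗ[R] N'), r ∘ₗ ι = l) :
    ∃ r : K →ₗ[R] N, r ∘ₗ ι = LinearMap.id := by
  -- canonical form of the local retractions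
  have H' : ∀ (𝔪 : Ideal R) [𝔪.IsMaximal], ∃ r : K →ₗ[R] LocalizedModule 𝔪.primeCompl N,
      r ∘ₗ ι = LocalizedModule.mkLinearMap 𝔪.primeCompl N := by
    intro 𝔪 _
    obtain ⟨N', _, _, l, _, r, hr⟩ := H 𝔪
    refine ⟨(IsLocalizedModule.iso 𝔪.primeCompl l).symm.toLinearMap ∘ₗ r, ?_⟩
    rw [LinearMap.comp_assoc, hr, IsLocalizedModule.iso_symm_comp]
  have hpι : ∀ n, p (ι n) = 0 := by
    intro n
    have : ι n ∈ LinearMap.ker p := by rw [hex]; exact ⟨n, rfl⟩
    exact this
  -- injectivity of ι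
  have hinj : Function.Injective ι := by
    rw [← LinearMap.ker_eq_bot, LinearMap.ker_eq_bot']
    intro x hx
    refine Module.eq_zero_of_localization_maximal
      (fun (P : Ideal R) _ => LocalizedModule P.primeCompl N)
      (fun (P : Ideal R) _ => LocalizedModule.mkLinearMap P.primeCompl N) x ?_
    intro P _
    obtain ⟨r, hr⟩ := H' P
    rw [← hr, LinearMap.comp_apply, hx, map_zero]
  -- a global section of p
  obtain ⟨s, hs⟩ := Module.projective_lifting_property p LinearMap.id hp
  -- the retraction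
  have hs' : ∀ c, p (s c) = c := fun c => by
    rw [← LinearMap.comp_apply, hs, LinearMap.id_apply]
  let q : K →ₗ[R] K := LinearMap.id - s ∘ₗ p
  have hq : ∀ k, q k ∈ LinearMap.range ι := by
    intro k
    rw [← hex, LinearMap.mem_ker]
    show p (k - s (p k)) = 0
    rw [map_sub, hs', sub_self]
  let ιe := LinearEquiv.ofInjective ι hinj
  refine ⟨ιe.symm.toLinearMap ∘ₗ q.codRestrict (LinearMap.range ι) hq, ?_⟩
  ext n
  show ιe.symm (q.codRestrict (LinearMap.range ι) hq (ι n)) = n
  rw [LinearEquiv.symm_apply_eq]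
  ext
  show ι n - s (p (ι n)) = ι n
  rw [hpι, map_zero, sub_zero]

end split

section main

variable {A B : Type u} [CommRing A] [CommRing B] [Algebra A B] (I : Ideal A)
  (π : B →ₐ[A] A ⧸ I)

theorem exists_algHom_lift_of_projective (hI : I ^ 2 = ⊥)
    (hK : ∀ x y : B, π x = 0 → π y = 0 → x * y = 0)
    (hproj : Module.Projective (A ⧸ I) (RingHom.ker (Groth.Agent.H19.H1Quot.π₀ I π)))
    (Hloc : ∀ (𝔪 : Ideal A) [𝔪.IsMaximal], ∃ σ : B →ₐ[A] Localization.AtPrime 𝔪,
      ∀ k : B, π k = 0 → σ k ∈ I.map (algebraMap A (Localization.AtPrime 𝔪))) :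
    ∃ σ : B →ₐ[A] A, ∀ b, Ideal.Quotient.mk I (σ b) = π b := by
  have hII : ∀ x ∈ I, ∀ y ∈ I, x * y = 0 := fun x hx y hy => by
    have : x * y ∈ I ^ 2 := by rw [pow_two]; exact Ideal.mul_mem_mul hx hy
    rw [hI] at this
    exact Ideal.mem_bot.mp this
  have hπρ : ∀ x ∈ I, π (algebraMap A B x) = 0 := by
    intro x hx
    rw [AlgHom.commutes, Ideal.Quotient.algebraMap_eq, Ideal.Quotient.eq_zero_iff_mem]
    exact hx
  -- module structures over `A ⧸ I`
  have hTI : Module.IsTorsionBySet A I (I : Set A) := by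
    intro m a
    ext
    exact hII _ a.2 _ m.2
  have hTK : Module.IsTorsionBySet A (LinearMap.ker π.toLinearMap) (I : Set A) := by
    intro k a
    ext
    show (a : A) • (k : B) = 0
    rw [Algebra.smul_def]
    exact hK _ _ (hπρ _ a.2) k.2
  letI modI : Module (A ⧸ I) I := hTI.module
  letI modK : Module (A ⧸ I) (LinearMap.ker π.toLinearMap) := hTK.module
  haveI towI : IsScalarTower A (A ⧸ I) I := hTI.isScalarTower
  haveI towK : IsScalarTower A (A ⧸ I) (LinearMap.ker π.toLinearMap) := hTK.isScalarTower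
  have hmk : Function.Surjective (algebraMap A (A ⧸ I)) := Ideal.Quotient.mk_surjective
  -- the augmentation of `B ⧸ I B`
  have hle : I.map (algebraMap A B) ≤ RingHom.ker π.toRingHom := by
    rw [Ideal.map_le_iff_le_comap]
    intro y hy
    exact hπρ y hy
  let π₀r : B ⧸ I.map (algebraMap A B) →+* A ⧸ I :=
    Ideal.Quotient.lift _ π.toRingHom (fun x hx => hle hx)
  have hπ₀r : ∀ b, π₀r (Ideal.Quotient.mk _ b) = π b := fun b => rfl
  let π₀ : B ⧸ I.map (algebraMap A B) →ₐ[A ⧸ I] A ⧸ I :=
    { π₀r with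
      commutes' := by
        intro r
        obtain ⟨a, rfl⟩ := Ideal.Quotient.mk_surjective r
        show π₀r (algebraMap (A ⧸ I) (B ⧸ I.map (algebraMap A B)) (Ideal.Quotient.mk I a)) = _
        rw [Ideal.Quotient.algebraMap_quotient_map_quotient, hπ₀r, AlgHom.commutes]
        rfl }
  have hπ₀ : ∀ b, π₀ (Ideal.Quotient.mk _ b) = π b := fun b => rfl
  have hε : RingHom.ker π₀.toRingHom ^ 2 = ⊥ := by
    rw [eq_bot_iff, pow_two, Ideal.mul_le]
    intro x hx y hy
    obtain ⟨b, rfl⟩ := Ideal.Quotient.mk_surjective x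
    obtain ⟨b', rfl⟩ := Ideal.Quotient.mk_surjective y
    rw [Ideal.mem_bot, ← map_mul, hK b b' hx hy, map_zero]
  haveI : Module.Projective (A ⧸ I) (RingHom.ker π₀.toRingHom) := hproj
  -- the complex `I → K → C`
  let ιA : I →ₗ[A] LinearMap.ker π.toLinearMap :=
    { toFun := fun x => ⟨algebraMap A B x, hπρ x x.2⟩
      map_add' := fun x y => by ext; simp
      map_smul' := fun a x => by ext; simp [Algebra.smul_def] }
  let ι : I →ₗ[A ⧸ I] LinearMap.ker π.toLinearMap := ιA.extendScalarsOfSurjective hmk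
  have hι : ∀ x : I, ((ι x : LinearMap.ker π.toLinearMap) : B) = algebraMap A B x := fun x => rfl
  let p : LinearMap.ker π.toLinearMap →ₗ[A ⧸ I] RingHom.ker π₀.toRingHom :=
    { toFun := fun k => ⟨Ideal.Quotient.mk _ (k : B), k.2⟩
      map_add' := fun k k' => Subtype.ext (map_add (Ideal.Quotient.mk _) (k : B) (k' : B))
      map_smul' := fun a k => by
        obtain ⟨a, rfl⟩ := Ideal.Quotient.mk_surjective a
        ext
        show Ideal.Quotient.mk _ (((Ideal.Quotient.mk I a) • k : LinearMap.ker π.toLinearMap) : B)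
          = (Ideal.Quotient.mk I a) • (Ideal.Quotient.mk (I.map (algebraMap A B)) (k : B))
        rw [Ideal.Quotient.mk_smul_mk_quotient_map_quotient]
        have : ((Ideal.Quotient.mk I a) • k : LinearMap.ker π.toLinearMap) = a • k := rfl
        rw [this, Submodule.coe_smul, Algebra.smul_def] }
  have hp_apply : ∀ k, ((p k : RingHom.ker π₀.toRingHom) : B ⧸ I.map (algebraMap A B)) =
      Ideal.Quotient.mk _ (k : B) := fun k => rfl
  have hp : Function.Surjective p := by
    rintro ⟨c, hc⟩
    obtain ⟨b, rfl⟩ := Ideal.Quotient.mk_surjective c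
    exact ⟨⟨b, hc⟩, rfl⟩
  have hex : LinearMap.ker p = LinearMap.range ι := by
    ext k
    constructor
    · intro hk
      have h0 : Ideal.Quotient.mk (I.map (algebraMap A B)) (k : B) = 0 := by
        have := congrArg Subtype.val (LinearMap.mem_ker.mp hk)
        exact this
      rw [Ideal.Quotient.eq_zero_iff_mem] at h0
      obtain ⟨x, hx, hxk⟩ := Groth.Agent.H19.H1Alg.exists_of_mem_map I π hK _ h0
      exact ⟨⟨x, hx⟩, Subtype.ext hxk⟩
    · rintro ⟨x, rfl⟩
      rw [LinearMap.mem_ker]
      ext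
      show Ideal.Quotient.mk (I.map (algebraMap A B)) (algebraMap A B x) = 0
      rw [Ideal.Quotient.eq_zero_iff_mem]
      exact Ideal.mem_map_of_mem _ x.2
  -- local retractions
  obtain ⟨r₀, hr₀⟩ := exists_retraction_of_local_projective ι p hp hex (by
    intro 𝔪₀ h𝔪₀
    obtain ⟨𝔪, h𝔪⟩ : ∃ 𝔪 : Ideal A, 𝔪 = 𝔪₀.comap (Ideal.Quotient.mk I) := ⟨_, rfl⟩
    haveI : 𝔪.IsMaximal := by
      rw [h𝔪]
      exact Ideal.comap_isMaximal_of_surjective _ Ideal.Quotient.mk_surjective
    obtain ⟨σ, hσ⟩ := Hloc 𝔪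
    have hmem𝔪 : ∀ s : A, s ∈ 𝔪 ↔ Ideal.Quotient.mk I s ∈ 𝔪₀ := fun s => by
      rw [h𝔪]; exact Ideal.mem_comap
    have hsq : ∀ n ∈ I.map (algebraMap A (Localization.AtPrime 𝔪)),
        ∀ n' ∈ I.map (algebraMap A (Localization.AtPrime 𝔪)), n * n' = 0 := by
      intro n hn n' hn'
      have : n * n' ∈ (I.map (algebraMap A (Localization.AtPrime 𝔪))) ^ 2 := by
        rw [pow_two]; exact Ideal.mul_mem_mul hn hn'
      rw [← Ideal.map_pow, hI, Ideal.map_bot] at this
      exact Ideal.mem_bot.mp this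
    have hTN : Module.IsTorsionBySet A (I.map (algebraMap A (Localization.AtPrime 𝔪)))
        (I : Set A) := by
      intro n a
      ext
      show (a : A) • (n : Localization.AtPrime 𝔪) = 0
      rw [Algebra.smul_def]
      exact hsq _ (Ideal.mem_map_of_mem _ a.2) _ n.2
    letI modN : Module (A ⧸ I) (I.map (algebraMap A (Localization.AtPrime 𝔪))) := hTN.module
    haveI towN : IsScalarTower A (A ⧸ I) (I.map (algebraMap A (Localization.AtPrime 𝔪))) :=
      hTN.isScalarTower
    let lA : I →ₗ[A] I.map (algebraMap A (Localization.AtPrime 𝔪)) :=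
      { toFun := fun x => ⟨algebraMap A _ x, Ideal.mem_map_of_mem _ x.2⟩
        map_add' := fun x y => by ext; simp
        map_smul' := fun a x => by ext; simp [Algebra.smul_def] }
    let rA : LinearMap.ker π.toLinearMap →ₗ[A] I.map (algebraMap A (Localization.AtPrime 𝔪)) :=
      { toFun := fun k => ⟨σ k, hσ k k.2⟩
        map_add' := fun x y => by ext; simp
        map_smul' := fun a x => by ext; simp [Algebra.smul_def] }
    refine ⟨I.map (algebraMap A (Localization.AtPrime 𝔪)), inferInstance, modN,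
      lA.extendScalarsOfSurjective hmk, ?_, rA.extendScalarsOfSurjective hmk, ?_⟩
    · refine ⟨?_, ?_, ?_⟩
      · rintro ⟨s₀, hs₀⟩
        obtain ⟨s, rfl⟩ := Ideal.Quotient.mk_surjective s₀
        have hs : s ∈ 𝔪.primeCompl := fun h => hs₀ ((hmem𝔪 s).mp h)
        have hu : IsUnit (algebraMap A (Localization.AtPrime 𝔪) s) :=
          IsLocalization.map_units (Localization.AtPrime 𝔪) ⟨s, hs⟩
        rw [Module.End.isUnit_iff]
        have happ : ∀ n : I.map (algebraMap A (Localization.AtPrime 𝔪)),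
            ((algebraMap (A ⧸ I) (Module.End (A ⧸ I) _) (Ideal.Quotient.mk I s) n :
              I.map (algebraMap A (Localization.AtPrime 𝔪))) : Localization.AtPrime 𝔪) =
              algebraMap A _ s * n := by
          intro n
          show ((Ideal.Quotient.mk I s • n : I.map (algebraMap A (Localization.AtPrime 𝔪))) :
            Localization.AtPrime 𝔪) = _
          have : (Ideal.Quotient.mk I s • n : I.map (algebraMap A (Localization.AtPrime 𝔪))) =
            s • n := rfl
          rw [this, Submodule.coe_smul_of_tower, Algebra.smul_def]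
        constructor
        · intro n n' hnn'
          have := congrArg Subtype.val hnn'
          rw [happ, happ] at this
          exact Subtype.ext (hu.mul_left_cancel this)
        · intro n
          obtain ⟨v, hv⟩ := hu.exists_left_inv
          refine ⟨⟨v * n, Ideal.mul_mem_left _ v n.2⟩, Subtype.ext ?_⟩
          rw [happ]
          show algebraMap A _ s * (v * (n : Localization.AtPrime 𝔪)) = n
          rw [← mul_assoc, mul_comm _ v, hv, one_mul]
      · intro y
        obtain ⟨⟨x, s⟩, hxs⟩ := (IsLocalization.mem_map_algebraMap_iff 𝔪.primeCompl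
          (Localization.AtPrime 𝔪)).mp y.2
        have hs₀ : Ideal.Quotient.mk I (s : A) ∈ 𝔪₀.primeCompl := fun h => s.2 ((hmem𝔪 _).mpr h)
        refine ⟨(x, ⟨Ideal.Quotient.mk I (s : A), hs₀⟩), Subtype.ext ?_⟩
        show ((Ideal.Quotient.mk I (s : A) • y : I.map (algebraMap A (Localization.AtPrime 𝔪))) :
          Localization.AtPrime 𝔪) = algebraMap A _ (x : A)
        have : (Ideal.Quotient.mk I (s : A) • y :
          I.map (algebraMap A (Localization.AtPrime 𝔪))) = (s : A) • y := rfl
        rw [this, Submodule.coe_smul_of_tower, Algebra.smul_def, mul_comm]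
        exact hxs
      · intro x₁ x₂ h12
        have h12' : algebraMap A (Localization.AtPrime 𝔪) (x₁ : A) = algebraMap A _ (x₂ : A) :=
          congrArg Subtype.val h12
        obtain ⟨c, hc⟩ := (IsLocalization.eq_iff_exists 𝔪.primeCompl
          (Localization.AtPrime 𝔪)).mp h12'
        have hc₀ : Ideal.Quotient.mk I (c : A) ∈ 𝔪₀.primeCompl := fun h => c.2 ((hmem𝔪 _).mpr h)
        refine ⟨⟨Ideal.Quotient.mk I (c : A), hc₀⟩, Subtype.ext ?_⟩
        show (((Ideal.Quotient.mk I (c : A)) • x₁ : I) : A) = (((Ideal.Quotient.mk I (c : A)) • x₂ : I) : A)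
        have e1 : ((Ideal.Quotient.mk I (c : A)) • x₁ : I) = (c : A) • x₁ := rfl
        have e2 : ((Ideal.Quotient.mk I (c : A)) • x₂ : I) = (c : A) • x₂ := rfl
        rw [e1, e2, Submodule.coe_smul, Submodule.coe_smul, smul_eq_mul, smul_eq_mul]
        exact hc
    · ext x
      show σ (algebraMap A B x) = algebraMap A _ (x : A)
      rw [AlgHom.commutes])
  -- the retraction over `A`
  have hr₀' : ∀ x : I, r₀ (ι x) = x := fun x => by
    rw [← LinearMap.comp_apply, hr₀, LinearMap.id_apply]
  let rA : LinearMap.ker π.toLinearMap →ₗ[A] A := I.subtype ∘ₗ (r₀.restrictScalars A)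
  refine Groth.Agent.H19.H1Alg.exists_algHom_of_retraction I π hI hK rA (fun k => (r₀ k).2) ?_
  intro x hx h
  have := hr₀' ⟨x, hx⟩
  show ((r₀ ⟨algebraMap A B x, h⟩ : I) : A) = x
  have e : (⟨algebraMap A B x, h⟩ : LinearMap.ker π.toLinearMap) = ι ⟨x, hx⟩ := rfl
  rw [e, this]

end main

end Groth.Agent.H19.FSAlg
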