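import Mathlib
import Groth.Prelude.Def_Omega3
import Groth.Agent.H78.UT3

/-!
# Explicit universal first order thickenings of closed immersions of affine schemes

For a surjection `R → S` with kernel `J`, `R ⧸ J²` is a universal first order thickening of `S`
over `R`; scheme-level versions for `Spec` and for affine opens.
-/

set_option autoImplicit false
set_option maxHeartbeats 400000
universe u

namespace Groth.Agent.H19.H1Univ

open AlgebraicGeometry CategoryTheory CategoryTheory.Limits TopologicalSpace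

/-- For a surjective algebra `R → S` with kernel `J`, `R ⧸ J²` is a universal first order
thickening. -/
theorem exists_isUnivThickeningRing_quot (R S : Type u) [CommRing R] [CommRing S] [Algebra R S]
    (hsurj : Function.Surjective (algebraMap R S)) :
    ∃ π : (R ⧸ RingHom.ker (algebraMap R S) ^ 2) →ₐ[R] S,
      OmegaSh.IsUnivThickeningRing R S (R ⧸ RingHom.ker (algebraMap R S) ^ 2) π := by
  set J := RingHom.ker (algebraMap R S) with hJ
  have hJle : J ^ 2 ≤ J := Ideal.pow_le_self two_ne_zero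
  let π : (R ⧸ J ^ 2) →ₐ[R] S := Ideal.Quotient.liftₐ (J ^ 2) (Algebra.ofId R S)
    (fun a ha => by
      have : a ∈ J := hJle ha
      exact this)
  have hπ : ∀ r : R, π (Ideal.Quotient.mk _ r) = algebraMap R S r := fun r => rfl
  refine ⟨π, ?_, ?_, ?_⟩
  · intro s
    obtain ⟨r, rfl⟩ := hsurj s
    exact ⟨Ideal.Quotient.mk _ r, hπ r⟩
  · rw [eq_bot_iff]
    refine le_trans (le_of_eq (pow_two (RingHom.ker π.toRingHom))) ?_
    rw [Ideal.mul_le]
    intro x hx y hy
    obtain ⟨a, rfl⟩ := Ideal.Quotient.mk_surjective x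
    obtain ⟨b, rfl⟩ := Ideal.Quotient.mk_surjective y
    have ha : a ∈ J := hx
    have hb : b ∈ J := hy
    rw [Ideal.mem_bot, ← map_mul, Ideal.Quotient.eq_zero_iff_mem, pow_two]
    exact Ideal.mul_mem_mul ha hb
  · intro A _ _ I' hI' a
    have hJI : ∀ x ∈ J, algebraMap R A x ∈ I' := by
      intro x hx
      rw [← Ideal.Quotient.eq_zero_iff_mem]
      have h1 : a (algebraMap R S x) = Ideal.Quotient.mk I' (algebraMap R A x) := by
        rw [AlgHom.commutes]
        rfl
      have hx0 : algebraMap R S x = 0 := hx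
      rw [← h1, hx0, map_zero]
    have hkill : ∀ x ∈ J ^ 2, (Algebra.ofId R A) x = 0 := by
      intro x hx
      have h1 : algebraMap R A x ∈ (J.map (algebraMap R A)) ^ 2 := by
        rw [← Ideal.map_pow]
        exact Ideal.mem_map_of_mem _ hx
      have h2 : J.map (algebraMap R A) ≤ I' := by
        rw [Ideal.map_le_iff_le_comap]
        intro y hy
        exact hJI y hy
      have h3 : algebraMap R A x ∈ I' ^ 2 := Ideal.pow_right_mono h2 2 h1
      rw [hI'] at h3
      exact Ideal.mem_bot.mp h3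
    have huniq : ∀ (T : Type u) [CommRing T] [Algebra R T] (φ ψ : (R ⧸ J ^ 2) →ₐ[R] T),
        φ = ψ := by
      intro T _ _ φ ψ
      ext x
      obtain ⟨r, rfl⟩ := Ideal.Quotient.mk_surjective x
      have e : Ideal.Quotient.mk (J ^ 2) r = algebraMap R (R ⧸ J ^ 2) r := rfl
      rw [e, AlgHom.commutes, AlgHom.commutes]
    refine ⟨Ideal.Quotient.liftₐ (J ^ 2) (Algebra.ofId R A) hkill, huniq _ _ _, ?_⟩
    intro a'' _
    exact huniq _ _ _

section ring

variable {R S S' : Type u} [CommRing R] [CommRing S] [CommRing S'] [Algebra R S] [Algebra R S']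
  (π : S' →ₐ[R] S) (hπ : OmegaSh.IsUnivThickeningRing R S S' π)

include hπ in
/-- Scheme-level universal thickening from a ring-level one. -/
theorem isUniv_spec :
    OmegaSh.IsUnivThickening (Spec.map (CommRingCat.ofHom (algebraMap R S)))
      (Spec.map (CommRingCat.ofHom π.toRingHom)) (Spec.map (CommRingCat.ofHom (algebraMap R S'))) := by
  refine ⟨?_, ?_, ?_⟩
  · haveI : IsClosedImmersion (Spec.map (CommRingCat.ofHom π.toRingHom)) :=
      IsClosedImmersion.spec_of_surjective _ hπ.1
    apply Groth.Agent.H78.UT2.firstOrder_of_closedImmersion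
    apply Groth.Agent.H78.UT2.ker_specMap_sq
    exact hπ.2.1
  · rw [← Spec.map_comp]
    congr 1
    ext r
    exact π.commutes r
  · intro T T' j b a hj hjb
    apply Groth.Agent.H78.UT1.existsUnique_of_basis _ _ j b a T'.affineOpens
      T'.isBasis_affineOpens
    intro W hW
    haveI : IsAffine W := hW
    have := Groth.Agent.H78.UT3.lift_affine π hπ (j ∣_ W)
      (Groth.Agent.H78.UnivThick.firstOrder_of_isPullback (isPullback_morphismRestrict j W) hj)
      (W.ι ≫ b) ((j ⁻¹ᵁ W).ι ≫ a) (by rw [morphismRestrict_ι_assoc, hjb, Category.assoc])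
    simpa only [Category.assoc] using this

end ring

/-- The explicit universal thickening of a closed immersion of an affine open into an affine open. -/
theorem exists_isUniv_affineOpen_quot {Z X : Scheme.{u}} (h : Z ⟶ X)
    (V : Z.Opens) (hV : IsAffineOpen V) (U : X.Opens) (hU : IsAffineOpen U) (e : V ≤ h ⁻¹ᵁ U)
    (hsurj : Function.Surjective (h.appLE U V e).hom) :
    ∃ i' : V.toScheme ⟶ Spec (.of (Γ(X, U) ⧸ RingHom.ker (h.appLE U V e).hom ^ 2)),
      OmegaSh.IsUnivThickening (V.ι ≫ h) i'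
        (Spec.map (CommRingCat.ofHom (Ideal.Quotient.mk
          (RingHom.ker (h.appLE U V e).hom ^ 2))) ≫ hU.fromSpec) := by
  letI : Algebra Γ(X, U) Γ(Z, V) := (h.appLE U V e).hom.toAlgebra
  obtain ⟨π, hπ⟩ := exists_isUnivThickeningRing_quot Γ(X, U) Γ(Z, V) hsurj
  have hu₀ := isUniv_spec π hπ
  have hu₁ := Groth.Agent.H78.UT2.postcomp_openImmersion hu₀ hU.fromSpec
  have hsq : IsPullback (hV.isoSpec.hom ≫ Spec.map (CommRingCat.ofHom π.toRingHom))
      hV.isoSpec.hom (𝟙 _) (Spec.map (CommRingCat.ofHom π.toRingHom)) :=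
    IsPullback.of_vert_isIso ⟨by simp⟩
  have hu₂ := Groth.Agent.H78.UT2.restrict_openImmersion hu₁ hV.isoSpec.hom (𝟙 _)
    (hV.isoSpec.hom ≫ Spec.map (CommRingCat.ofHom π.toRingHom)) hsq
  refine ⟨hV.isoSpec.hom ≫ Spec.map (CommRingCat.ofHom π.toRingHom), ?_⟩
  have key : hV.isoSpec.hom ≫ Spec.map (CommRingCat.ofHom (algebraMap Γ(X, U) Γ(Z, V))) ≫
      hU.fromSpec = V.ι ≫ h := by
    have : CommRingCat.ofHom (algebraMap Γ(X, U) Γ(Z, V)) = h.appLE U V e := rfl
    rw [this, hU.SpecMap_appLE_fromSpec h hV e, ← Category.assoc, hV.isoSpec_hom_fromSpec]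
  rw [← key]
  simpa using hu₂

end Groth.Agent.H19.H1Univ
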