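import Mathlib
import Groth.Prelude.Def_Omega3
import Groth.Agent.H8.FormallyEtale
import Groth.Agent.H78.UT4
import Groth.Agent.H19.H1Univ
import Groth.Agent.H19.FSAlg

/-!
# Local lifting property and projectivity of the conormal module of a section
-/

set_option autoImplicit false
set_option maxHeartbeats 800000
universe u

namespace Groth.Agent.H19.FSLoc

open AlgebraicGeometry CategoryTheory CategoryTheory.Limits TopologicalSpace TensorProduct

variable {X Y : Scheme.{u}}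

/-- The infinitesimal lifting property for affine first order thickenings mapping into `U`. -/
def LiftsOn (f : X ⟶ Y) (U : X.Opens) : Prop :=
  ∀ (B : Type u) [CommRing B] (I : Ideal B), I ^ 2 = ⊥ →
    ∀ (a : Spec (CommRingCat.of (B ⧸ I)) ⟶ X) (b : Spec (CommRingCat.of B) ⟶ Y),
      Set.range a ⊆ (U : Set X) →
      Spec.map (CommRingCat.ofHom (Ideal.Quotient.mk I)) ≫ b = a ≫ f →
        ∃ l : Spec (CommRingCat.of B) ⟶ X,
          Spec.map (CommRingCat.ofHom (Ideal.Quotient.mk I)) ≫ l = a ∧ l ≫ f = b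

theorem LiftsOn.mono {f : X ⟶ Y} {U U' : X.Opens} (h : LiftsOn f U') (hle : U ≤ U') :
    LiftsOn f U :=
  fun B _ I hI a b ha w => h B I hI a b (ha.trans hle) w

/-- The lifting property from formal smoothness of a ring map. -/
theorem liftsOn_of_formallySmooth (f : X ⟶ Y) {U : X.Opens} (hU : IsAffineOpen U)
    {V : Y.Opens} (hV : IsAffineOpen V) (e : U ≤ f ⁻¹ᵁ V)
    (hsm : (f.appLE V U e).hom.FormallySmooth) : LiftsOn f U := by
  intro B _ I hI a b ha w
  haveI : IsClosedImmersion (Spec.map (CommRingCat.ofHom (Ideal.Quotient.mk I))) :=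
    IsClosedImmersion.spec_of_surjective _ Ideal.Quotient.mk_surjective
  have hsurj := Groth.Agent.H8.surjective_of_isNilpotent_ker
    (Spec.map (CommRingCat.ofHom (Ideal.Quotient.mk I)))
    (Groth.Agent.H8.isNilpotent_ker_SpecMap_mk B I hI)
  -- factor `a` through `U`
  have hrange_a : Set.range a ⊆ Set.range hU.fromSpec := by
    rw [hU.range_fromSpec]
    exact ha
  obtain ⟨α, hα⟩ : ∃ α : Γ(X, U) ⟶ CommRingCat.of (B ⧸ I), Spec.map α ≫ hU.fromSpec = a :=
    ⟨Spec.preimage (IsOpenImmersion.lift hU.fromSpec a hrange_a), by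
      rw [Spec.map_preimage, IsOpenImmersion.lift_fac]⟩
  -- factor `b` through `V`
  have hrange_b : Set.range b ⊆ Set.range hV.fromSpec := by
    rw [hV.range_fromSpec]
    rintro _ ⟨p, rfl⟩
    obtain ⟨q, rfl⟩ := hsurj p
    have : b (Spec.map (CommRingCat.ofHom (Ideal.Quotient.mk I)) q) = f (a q) := by
      rw [← Scheme.Hom.comp_apply, ← Scheme.Hom.comp_apply, w]
    rw [this]
    exact e (ha ⟨q, rfl⟩)
  obtain ⟨β, hβ⟩ : ∃ β : Γ(Y, V) ⟶ CommRingCat.of B, Spec.map β ≫ hV.fromSpec = b :=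
    ⟨Spec.preimage (IsOpenImmersion.lift hV.fromSpec b hrange_b), by
      rw [Spec.map_preimage, IsOpenImmersion.lift_fac]⟩
  have hcomm : f.appLE V U e ≫ α = β ≫ CommRingCat.ofHom (Ideal.Quotient.mk I) := by
    apply Spec.map_injective
    rw [← cancel_mono hV.fromSpec, Spec.map_comp, Category.assoc,
      IsAffineOpen.SpecMap_appLE_fromSpec f hV hU e, ← Category.assoc, hα, Spec.map_comp,
      Category.assoc, hβ, w]
  letI algRA : Algebra Γ(Y, V) Γ(X, U) := (f.appLE V U e).hom.toAlgebra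
  letI algRB : Algebra Γ(Y, V) B := β.hom.toAlgebra
  haveI : Algebra.FormallySmooth Γ(Y, V) Γ(X, U) := hsm
  let α' : Γ(X, U) →ₐ[Γ(Y, V)] B ⧸ I := ⟨α.hom, fun r => by
    have := congrArg (fun φ => φ.hom r) hcomm
    exact this⟩
  obtain ⟨l, hl⟩ := Algebra.FormallySmooth.exists_lift I ⟨2, hI⟩ α'
  refine ⟨Spec.map (CommRingCat.ofHom l.toRingHom) ≫ hU.fromSpec, ?_, ?_⟩
  · rw [← Category.assoc, ← Spec.map_comp, ← hα]
    congr 2
    ext x
    exact congrArg (fun φ => φ x) hl
  · rw [Category.assoc, ← IsAffineOpen.SpecMap_appLE_fromSpec f hV hU e, ← Category.assoc,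
      ← Spec.map_comp, ← hβ]
    congr 2
    ext x
    exact l.commutes x

/-- The lifting property is stable under base change. -/
theorem liftsOn_pullback_snd (f : X ⟶ Y) {Y' : Scheme.{u}} (g : Y' ⟶ Y) {U : X.Opens}
    (h : LiftsOn f U) : LiftsOn (pullback.snd f g) (pullback.fst f g ⁻¹ᵁ U) := by
  intro B _ I hI a b ha w
  have ha' : Set.range (a ≫ pullback.fst f g) ⊆ (U : Set X) := by
    rintro _ ⟨q, rfl⟩
    exact ha ⟨q, rfl⟩
  have w' : Spec.map (CommRingCat.ofHom (Ideal.Quotient.mk I)) ≫ b ≫ g =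
      (a ≫ pullback.fst f g) ≫ f := by
    rw [← Category.assoc, w, Category.assoc, Category.assoc, pullback.condition]
  obtain ⟨lX, hl1, hl2⟩ := h B I hI (a ≫ pullback.fst f g) (b ≫ g) ha' w'
  refine ⟨pullback.lift lX b hl2, ?_, pullback.lift_snd _ _ _⟩
  apply pullback.hom_ext
  · rw [Category.assoc, pullback.lift_fst, hl1]
  · rw [Category.assoc, pullback.lift_snd, w]

/-- Formal smoothness of the ring map of an affine chart from the lifting property. -/
theorem formallySmooth_of_liftsOn {A' : Type u} [CommRing A'] {X₀ T₀ : Scheme.{u}} (f₀ : X₀ ⟶ T₀)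
    (jA : Spec (CommRingCat.of A') ⟶ T₀) [Mono jA]
    {U' U : X₀.Opens} (hL : LiftsOn f₀ U') (hU : IsAffineOpen U) (hUU' : U ≤ U')
    (ρR : CommRingCat.of A' ⟶ Γ(X₀, U)) (hρR : Spec.map ρR ≫ jA = hU.fromSpec ≫ f₀) :
    ρR.hom.FormallySmooth := by
  letI := ρR.hom.toAlgebra
  change Algebra.FormallySmooth A' Γ(X₀, U)
  refine Algebra.FormallySmooth.of_comp_surjective fun B _ _ I hI g => ?_
  let a : Spec (CommRingCat.of (B ⧸ I)) ⟶ X₀ :=
    Spec.map (CommRingCat.ofHom g.toRingHom) ≫ hU.fromSpec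
  let b : Spec (CommRingCat.of B) ⟶ T₀ :=
    Spec.map (CommRingCat.ofHom (algebraMap A' B)) ≫ jA
  have w : Spec.map (CommRingCat.ofHom (Ideal.Quotient.mk I)) ≫ b = a ≫ f₀ := by
    simp only [a, b, Category.assoc]
    rw [← hρR, ← Spec.map_comp_assoc, ← Spec.map_comp_assoc]
    congr 2
    ext x
    exact (g.commutes x).symm
  have ha : Set.range a ⊆ (U' : Set X₀) := by
    rintro _ ⟨q, rfl⟩
    apply hUU'
    have : a q ∈ Set.range hU.fromSpec := ⟨_, rfl⟩
    rw [hU.range_fromSpec] at this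
    exact this
  obtain ⟨l, hl1, hl2⟩ := hL B I hI a b ha w
  haveI : IsClosedImmersion (Spec.map (CommRingCat.ofHom (Ideal.Quotient.mk I))) :=
    IsClosedImmersion.spec_of_surjective _ Ideal.Quotient.mk_surjective
  have hsurj := Groth.Agent.H8.surjective_of_isNilpotent_ker
    (Spec.map (CommRingCat.ofHom (Ideal.Quotient.mk I)))
    (Groth.Agent.H8.isNilpotent_ker_SpecMap_mk B I hI)
  have hrange : Set.range l ⊆ Set.range hU.fromSpec := by
    rintro _ ⟨p, rfl⟩
    obtain ⟨q, rfl⟩ := hsurj p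
    rw [← Scheme.Hom.comp_apply, hl1]
    exact ⟨_, rfl⟩
  have hl' : IsOpenImmersion.lift hU.fromSpec l hrange ≫ hU.fromSpec = l :=
    IsOpenImmersion.lift_fac _ _ _
  set l' := IsOpenImmersion.lift hU.fromSpec l hrange with hl'def
  have hψ : Spec.map (Spec.preimage l') = l' := Spec.map_preimage _
  set ψ := Spec.preimage l' with hψdef
  refine ⟨⟨ψ.hom, fun r => ?_⟩, ?_⟩
  · have h : Spec.map (ρR ≫ ψ) = Spec.map (CommRingCat.ofHom (algebraMap A' B)) := by
      rw [← cancel_mono jA, Spec.map_comp, Category.assoc, hρR, hψ, ← Category.assoc, hl', hl2]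
    exact congr($(Spec.map_injective h).hom r)
  · ext x
    have h : Spec.map (ψ ≫ CommRingCat.ofHom (Ideal.Quotient.mk I)) =
        Spec.map (CommRingCat.ofHom g.toRingHom) := by
      rw [← cancel_mono hU.fromSpec, Spec.map_comp, Category.assoc, hψ, hl', hl1]
    exact congr($(Spec.map_injective h).hom x)

section conormal

variable {A₀ B₀ : Type u} [CommRing A₀] [CommRing B₀] [Algebra A₀ B₀]
  (π₀ : B₀ →+* A₀) (hπ₀ : ∀ r, π₀ (algebraMap A₀ B₀ r) = r)
  {X₀ : Scheme.{u}} (f₀ : X₀ ⟶ Spec (CommRingCat.of A₀)) (s₀ : Spec (CommRingCat.of A₀) ⟶ X₀)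
  (hs : s₀ ≫ f₀ = 𝟙 _)
  (h₀ : Spec (CommRingCat.of B₀) ⟶ X₀)
  (hh : h₀ ≫ f₀ = Spec.map (CommRingCat.ofHom (algebraMap A₀ B₀)))
  (hu : OmegaSh.IsUnivThickening s₀ (Spec.map (CommRingCat.ofHom π₀)) h₀)
  (hloc : ∀ x : X₀, ∃ U : X₀.Opens, x ∈ U ∧ LiftsOn f₀ U)

include hπ₀ hs hh hu hloc in
theorem local_step (t : Spec (CommRingCat.of A₀)) :
    ∃ g : A₀, g ∉ (show PrimeSpectrum A₀ from t).asIdeal ∧
      Module.Projective (Localization.Away g) (Localization.Away g ⊗[A₀] RingHom.ker π₀) := by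
  -- the charts
  obtain ⟨U', hxU', hL⟩ := hloc (s₀ t)
  obtain ⟨U₁, hU₁, hxU₁, hU₁le⟩ := Opens.isBasis_iff_nbhd.mp X₀.isBasis_affineOpens hxU'
  obtain ⟨_, ⟨g, rfl⟩, htg, hgle⟩ := Opens.isBasis_iff_nbhd.mp
    (PrimeSpectrum.isBasis_basic_opens (R := A₀)) (show t ∈ s₀ ⁻¹ᵁ U₁ from hxU₁)
  refine ⟨g, htg, ?_⟩
  obtain ⟨D, hDdef⟩ : ∃ D : (Spec (CommRingCat.of A₀)).Opens, D = PrimeSpectrum.basicOpen g :=
    ⟨_, rfl⟩
  have hDle : D ≤ s₀ ⁻¹ᵁ U₁ := hDdef ▸ hgle
  obtain ⟨g', hg'⟩ : ∃ g' : Γ(Spec (CommRingCat.of A₀), ⊤),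
      g' = (Scheme.ΓSpecIso (CommRingCat.of A₀)).inv g := ⟨_, rfl⟩
  have hD : (Spec (CommRingCat.of A₀)).basicOpen g' = D := by
    rw [hg', hDdef]
    exact basicOpen_eq_of_affine (R := CommRingCat.of A₀) g
  have hle₁ : U₁ ≤ f₀ ⁻¹ᵁ ⊤ := le_top
  obtain ⟨U, hUdef⟩ : ∃ U : X₀.Opens, U = X₀.basicOpen (f₀.appLE ⊤ U₁ hle₁ g') := ⟨_, rfl⟩
  have hU : IsAffineOpen U := hUdef ▸ hU₁.basicOpen _
  have hUeq : U = U₁ ⊓ f₀ ⁻¹ᵁ D := by
    rw [hUdef, Scheme.basicOpen_appLE, hD]
  have hUU' : U ≤ U' := by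
    rw [hUeq]
    exact inf_le_left.trans hU₁le
  have hfs₀ : ∀ p, f₀ (s₀ p) = p := by
    intro p
    rw [← Scheme.Hom.comp_apply, hs]
    rfl
  -- the localizations
  obtain ⟨jA, hjA, hjAoi, hjArange⟩ :
      ∃ jA : Spec (CommRingCat.of (Localization.Away g)) ⟶ Spec (CommRingCat.of A₀),
      jA = Spec.map (CommRingCat.ofHom (algebraMap A₀ (Localization.Away g))) ∧
      ∃ (h : IsOpenImmersion jA), @Scheme.Hom.opensRange _ _ jA h = D :=
    ⟨_, rfl, inferInstance, by
      rw [hDdef]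
      exact Scheme.Hom.opensRange_localizationAway (R := CommRingCat.of A₀) g⟩
  haveI : IsOpenImmersion jA := hjAoi
  have hjAmem : ∀ y, jA y ∈ D := by
    intro y
    rw [← hjArange]
    exact ⟨y, rfl⟩
  -- `σc` and `ρR`
  have hrange₁ : Set.range (jA ≫ s₀) ⊆ Set.range hU.fromSpec := by
    rw [hU.range_fromSpec, hUeq]
    rintro _ ⟨y, rfl⟩
    refine ⟨hDle (hjAmem y), ?_⟩
    show f₀ ((jA ≫ s₀) y) ∈ D
    rw [Scheme.Hom.comp_apply, hfs₀]
    exact hjAmem y
  obtain ⟨σc, hσc⟩ : ∃ σc : Γ(X₀, U) ⟶ CommRingCat.of (Localization.Away g),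
      Spec.map σc ≫ hU.fromSpec = jA ≫ s₀ :=
    ⟨Spec.preimage (IsOpenImmersion.lift hU.fromSpec (jA ≫ s₀) hrange₁), by
      rw [Spec.map_preimage, IsOpenImmersion.lift_fac]⟩
  have hrange₂ : Set.range (hU.fromSpec ≫ f₀) ⊆ Set.range jA := by
    rintro _ ⟨y, rfl⟩
    have hy : hU.fromSpec y ∈ U := by
      have : hU.fromSpec y ∈ Set.range hU.fromSpec := ⟨y, rfl⟩
      rw [hU.range_fromSpec] at this
      exact this
    have hy' : hU.fromSpec y ∈ U₁ ⊓ f₀ ⁻¹ᵁ D := (le_of_eq hUeq) hy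
    have : (hU.fromSpec ≫ f₀) y ∈ jA.opensRange := by
      rw [hjArange, Scheme.Hom.comp_apply]
      exact hy'.2
    exact this
  obtain ⟨ρR, hρR⟩ : ∃ ρR : CommRingCat.of (Localization.Away g) ⟶ Γ(X₀, U),
      Spec.map ρR ≫ jA = hU.fromSpec ≫ f₀ :=
    ⟨Spec.preimage (IsOpenImmersion.lift jA (hU.fromSpec ≫ f₀) hrange₂), by
      rw [Spec.map_preimage, IsOpenImmersion.lift_fac]⟩
  have hρσ : ρR ≫ σc = 𝟙 _ := by
    apply Spec.map_injective
    rw [← cancel_mono jA, Spec.map_comp, Category.assoc, hρR, ← Category.assoc, hσc,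
      Category.assoc, hs, Category.comp_id, Spec.map_id, Category.id_comp]
  have hρσ' : ∀ r, σc.hom (ρR.hom r) = r := fun r => congrArg (fun φ => φ.hom r) hρσ
  have hfsm : ρR.hom.FormallySmooth := formallySmooth_of_liftsOn f₀ jA hL hU hUU' ρR hρR
  -- the restricted universal thickening
  have hunit : IsUnit (((algebraMap A₀ (Localization.Away g)).comp π₀) (algebraMap A₀ B₀ g)) := by
    rw [RingHom.comp_apply, hπ₀]
    exact IsLocalization.Away.algebraMap_isUnit g
  obtain ⟨πg, hπg⟩ : ∃ πg : Localization.Away (algebraMap A₀ B₀ g) →+* Localization.Away g,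
      ∀ b, πg (algebraMap B₀ _ b) = algebraMap A₀ _ (π₀ b) :=
    ⟨IsLocalization.Away.lift (algebraMap A₀ B₀ g) hunit,
      fun b => IsLocalization.Away.lift_eq (algebraMap A₀ B₀ g) hunit b⟩
  obtain ⟨jB, hjB, hjBoi, hjBrange⟩ :
      ∃ jB : Spec (CommRingCat.of (Localization.Away (algebraMap A₀ B₀ g))) ⟶
        Spec (CommRingCat.of B₀),
      jB = Spec.map (CommRingCat.ofHom (algebraMap B₀ (Localization.Away (algebraMap A₀ B₀ g)))) ∧
      ∃ (h : IsOpenImmersion jB), @Scheme.Hom.opensRange _ _ jB h =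
        PrimeSpectrum.basicOpen (algebraMap A₀ B₀ g) :=
    ⟨_, rfl, inferInstance,
      Scheme.Hom.opensRange_localizationAway (R := CommRingCat.of B₀) (algebraMap A₀ B₀ g)⟩
  haveI : IsOpenImmersion jB := hjBoi
  have hsqcomm : jA ≫ Spec.map (CommRingCat.ofHom π₀) =
      Spec.map (CommRingCat.ofHom πg) ≫ jB := by
    rw [hjA, hjB, ← Spec.map_comp, ← Spec.map_comp]
    congr 1
    ext b
    exact (hπg b).symm
  have hsq : IsPullback (Spec.map (CommRingCat.ofHom πg)) jA jB
      (Spec.map (CommRingCat.ofHom π₀)) := by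
    refine IsOpenImmersion.isPullback _ _ _ _ hsqcomm ?_
    rw [hjBrange, hjArange, hDdef]
    ext p
    show algebraMap A₀ B₀ g ∉ (PrimeSpectrum.comap π₀ p).asIdeal ↔ g ∉ p.asIdeal
    rw [PrimeSpectrum.comap_asIdeal, Ideal.mem_comap, hπ₀]
  have hu₁ := Groth.Agent.H78.UT2.restrict_openImmersion hu jA jB
    (Spec.map (CommRingCat.ofHom πg)) hsq
  -- the explicit universal thickening
  letI algRS : Algebra Γ(X₀, U) (Localization.Away g) := σc.hom.toAlgebra
  have hsurj : Function.Surjective (algebraMap Γ(X₀, U) (Localization.Away g)) :=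
    fun r => ⟨ρR.hom r, hρσ' r⟩
  obtain ⟨π, hπ⟩ := Groth.Agent.H19.H1Univ.exists_isUnivThickeningRing_quot Γ(X₀, U)
    (Localization.Away g) hsurj
  have hu₀ := Groth.Agent.H19.H1Univ.isUniv_spec π hπ
  have hu₂ := Groth.Agent.H78.UT2.postcomp_openImmersion hu₀ hU.fromSpec
  have halg : CommRingCat.ofHom (algebraMap Γ(X₀, U) (Localization.Away g)) = σc := rfl
  rw [halg, hσc] at hu₂
  obtain ⟨ε, hε1, hε2⟩ := Groth.Agent.H78.UT2.exists_iso hu₁ hu₂
  -- the ring isomorphism
  obtain ⟨ê, hê⟩ : ∃ ê : CommRingCat.of (Γ(X₀, U) ⧸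
      RingHom.ker (algebraMap Γ(X₀, U) (Localization.Away g)) ^ 2) ⟶
      CommRingCat.of (Localization.Away (algebraMap A₀ B₀ g)), Spec.map ê = ε.hom :=
    ⟨Spec.preimage _, Spec.map_preimage _⟩
  obtain ⟨êi, hêi⟩ : ∃ êi : CommRingCat.of (Localization.Away (algebraMap A₀ B₀ g)) ⟶
      CommRingCat.of (Γ(X₀, U) ⧸ RingHom.ker (algebraMap Γ(X₀, U) (Localization.Away g)) ^ 2),
      Spec.map êi = ε.inv :=
    ⟨Spec.preimage _, Spec.map_preimage _⟩
  have h12 : ê ≫ êi = 𝟙 _ := by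
    apply Spec.map_injective
    rw [Spec.map_comp, hê, hêi, Iso.inv_hom_id, Spec.map_id]
  have h21 : êi ≫ ê = 𝟙 _ := by
    apply Spec.map_injective
    rw [Spec.map_comp, hê, hêi, Iso.hom_inv_id, Spec.map_id]
  have h12' : ∀ x, êi.hom (ê.hom x) = x := fun x => congrArg (fun φ => φ.hom x) h12
  have h21' : ∀ x, ê.hom (êi.hom x) = x := fun x => congrArg (fun φ => φ.hom x) h21
  have hπê : ∀ x, πg (ê.hom x) = π.toRingHom x := by
    have h : ê ≫ CommRingCat.ofHom πg = CommRingCat.ofHom π.toRingHom := by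
      apply Spec.map_injective
      rw [Spec.map_comp, hê, hε1]
    exact fun x => congrArg (fun φ => φ.hom x) h
  -- the algebra structures
  have hunit2 : IsUnit (((algebraMap B₀ (Localization.Away (algebraMap A₀ B₀ g))).comp
      (algebraMap A₀ B₀)) g) := by
    rw [RingHom.comp_apply]
    exact IsLocalization.Away.algebraMap_isUnit (algebraMap A₀ B₀ g)
  obtain ⟨aw, haw⟩ : ∃ aw : Localization.Away g →+* Localization.Away (algebraMap A₀ B₀ g),
      ∀ a, aw (algebraMap A₀ _ a) = algebraMap B₀ _ (algebraMap A₀ B₀ a) :=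
    ⟨IsLocalization.Away.lift g hunit2, fun a => IsLocalization.Away.lift_eq g hunit2 a⟩
  have hρê : ∀ a : Localization.Away g,
      ê.hom (algebraMap Γ(X₀, U) _ (ρR.hom a)) = aw a := by
    have h : ρR ≫ CommRingCat.ofHom (algebraMap Γ(X₀, U)
        (Γ(X₀, U) ⧸ RingHom.ker (algebraMap Γ(X₀, U) (Localization.Away g)) ^ 2)) ≫ ê =
        CommRingCat.ofHom aw := by
      apply Spec.map_injective
      rw [← cancel_mono jA, Spec.map_comp, Spec.map_comp, Category.assoc, Category.assoc, hρR, hê,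
        ← Category.assoc _ _ f₀, ← Category.assoc ε.hom, ← Category.assoc ε.hom, Category.assoc ε.hom,
        hε2, Category.assoc, hh, hjA, hjB, ← Spec.map_comp, ← Spec.map_comp]
      congr 1
      ext a
      exact (haw a).symm
    exact fun a => congrArg (fun φ => φ.hom a) h
  letI algAR : Algebra (Localization.Away g) Γ(X₀, U) := ρR.hom.toAlgebra
  haveI : Algebra.FormallySmooth (Localization.Away g) Γ(X₀, U) := hfsm
  letI algAB : Algebra (Localization.Away g) (Localization.Away (algebraMap A₀ B₀ g)) :=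
    aw.toAlgebra
  haveI : IsScalarTower A₀ (Localization.Away g) (Localization.Away (algebraMap A₀ B₀ g)) :=
    IsScalarTower.of_algebraMap_eq fun a => by
      rw [IsScalarTower.algebraMap_apply A₀ B₀ (Localization.Away (algebraMap A₀ B₀ g))]
      exact (haw a).symm
  -- projectivity of the explicit model
  have hπcomm : ∀ x : Γ(X₀, U), π.toRingHom (Ideal.Quotient.mk _ x) =
      algebraMap Γ(X₀, U) (Localization.Away g) x := fun x => π.commutes x
  have hprojQ : Module.Projective (Localization.Away g) (RingHom.ker π.toRingHom) := by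
    refine Groth.Agent.H19.FSAlg.projective_ker_of_formallySmooth
      (Ideal.Quotient.mkₐ (Localization.Away g)
        (RingHom.ker (algebraMap Γ(X₀, U) (Localization.Away g)) ^ 2))
      Ideal.Quotient.mk_surjective π.toRingHom ?_
      (RingHom.ker (algebraMap Γ(X₀, U) (Localization.Away g))) ?_ ?_
    · intro r
      have : algebraMap (Localization.Away g) (Γ(X₀, U) ⧸
          RingHom.ker (algebraMap Γ(X₀, U) (Localization.Away g)) ^ 2) r =
          Ideal.Quotient.mk _ (ρR.hom r) := rfl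
      rw [this, hπcomm]
      exact hρσ' r
    · intro x
      rw [RingHom.mem_ker]
      show _ ↔ π.toRingHom (Ideal.Quotient.mk _ x) = 0
      rw [hπcomm]
    · intro x
      exact Ideal.Quotient.eq_zero_iff_mem
  -- transport along `ê`
  have hprojB : Module.Projective (Localization.Away g) (RingHom.ker πg) := by
    let eK : RingHom.ker π.toRingHom ≃ₗ[Localization.Away g] RingHom.ker πg :=
      { toFun := fun c => ⟨ê.hom c, by
          rw [RingHom.mem_ker, hπê]
          exact c.2⟩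
        invFun := fun c => ⟨êi.hom c, by
          rw [RingHom.mem_ker, ← hπê, h21']
          exact c.2⟩
        map_add' := fun c c' => Subtype.ext (map_add ê.hom _ _)
        map_smul' := fun a c => Subtype.ext (by
          show ê.hom ((a • c : RingHom.ker π.toRingHom) : _) = a • ê.hom (c : _)
          rw [Submodule.coe_smul_of_tower, Algebra.smul_def, map_mul, Algebra.smul_def]
          congr 1
          exact hρê a)
        left_inv := fun c => Subtype.ext (h12' _)
        right_inv := fun c => Subtype.ext (h21' _) }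
    exact Module.Projective.of_equiv eK
  exact Groth.Agent.H19.FSAlg.projective_tensor_ker g π₀ πg hπg hπ₀ hprojB

include hπ₀ hs hh hu hloc in
/-- The conormal module of the universal first order thickening of a section of a morphism with
the local infinitesimal lifting property is projective. -/
theorem projective_ker_of_isUnivThickening_section :
    Module.Projective A₀ (RingHom.ker π₀) := by
  refine Groth.Agent.H19.FSAlg.projective_of_span_away _
    {g | Module.Projective (Localization.Away g) (Localization.Away g ⊗[A₀] RingHom.ker π₀)} ?_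
    (fun g hg => hg)
  by_contra hne
  obtain ⟨𝔪, h𝔪, hle⟩ := Ideal.exists_le_maximal _ hne
  obtain ⟨g, hg𝔪, hgS⟩ := local_step π₀ hπ₀ f₀ s₀ hs h₀ hh hu hloc
    (⟨𝔪, h𝔪.isPrime⟩ : PrimeSpectrum A₀)
  exact hg𝔪 (hle (Ideal.subset_span hgS))

end conormal

end Groth.Agent.H19.FSLoc
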