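import Mathlib
import Groth.Prelude.Def_Omega3
import Groth.Agent.H78.UT4
import Groth.Agent.H19.H1Univ

/-!
# The universal first order thickening of a section of a morphism locally of finite presentation
is locally of finite presentation over the base
-/

set_option autoImplicit false
set_option maxHeartbeats 400000
universe u

namespace Groth.Agent.H19.H1Fp

open AlgebraicGeometry CategoryTheory CategoryTheory.Limits TopologicalSpace

theorem appLE_eq_id {T : Scheme.{u}} (φ : T ⟶ T) (hφ : φ = 𝟙 T) (D : T.Opens)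
    (e : D ≤ φ ⁻¹ᵁ D) : φ.appLE D D e = 𝟙 _ := by
  subst hφ
  simp only [Scheme.Hom.appLE, Scheme.Hom.id_app]
  erw [Category.id_comp]
  exact T.presheaf.map_id _

theorem lfp_of_isUnivThickening_section {X₀ T₀ Z : Scheme.{u}} [IsAffine T₀] (f₀ : X₀ ⟶ T₀)
    [LocallyOfFinitePresentation f₀] (s₀ : T₀ ⟶ X₀) (hs : s₀ ≫ f₀ = 𝟙 T₀) (i : T₀ ⟶ Z)
    (h : Z ⟶ X₀) (hu : OmegaSh.IsUnivThickening s₀ i h) :
    LocallyOfFinitePresentation (h ≫ f₀) := by
  have hi := hu.1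
  haveI : IsClosedImmersion i := hi.1.1
  have hisurj : Function.Surjective i := hi.1.2.surj
  have key : ∀ z : Z, ∃ N : Z.Opens, z ∈ N ∧ LocallyOfFinitePresentation (N.ι ≫ h ≫ f₀) := by
    intro z
    obtain ⟨t, rfl⟩ := hisurj z
    -- an affine open around `s₀ t`
    obtain ⟨_, ⟨U₁, hU₁, rfl⟩, htU₁, -⟩ :=
      X₀.isBasis_affineOpens.exists_subset_of_mem_open (Set.mem_univ (s₀ t)) isOpen_univ
    -- a basic open around `t`
    obtain ⟨g, hgle, htg⟩ := (isAffineOpen_top T₀).exists_basicOpen_le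
      (V := s₀ ⁻¹ᵁ U₁) ⟨t, htU₁⟩ (by trivial)
    obtain ⟨D, hDdef⟩ : ∃ D : T₀.Opens, D = T₀.basicOpen g := ⟨_, rfl⟩
    have hD : IsAffineOpen D := hDdef ▸ (isAffineOpen_top T₀).basicOpen g
    have hDle : D ≤ s₀ ⁻¹ᵁ U₁ := hDdef ▸ hgle
    have htD : t ∈ D := hDdef ▸ htg
    -- the affine chart of `X₀`
    have hle₁ : U₁ ≤ f₀ ⁻¹ᵁ ⊤ := le_top
    obtain ⟨U, hUdef⟩ : ∃ U : X₀.Opens, U = X₀.basicOpen (f₀.appLE ⊤ U₁ hle₁ g) := ⟨_, rfl⟩
    have hU : IsAffineOpen U := hUdef ▸ hU₁.basicOpen _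
    have hUeq : U = U₁ ⊓ f₀ ⁻¹ᵁ D := by
      rw [hUdef, Scheme.basicOpen_appLE, hDdef]
    have e' : U ≤ f₀ ⁻¹ᵁ D := hUeq ▸ inf_le_right
    have e : D ≤ s₀ ⁻¹ᵁ U := by
      rw [hUeq]
      intro x hx
      refine ⟨hDle hx, ?_⟩
      show f₀ (s₀ x) ∈ D
      have : f₀ (s₀ x) = x := by
        rw [← Scheme.Hom.comp_apply, hs]
        rfl
      rw [this]
      exact hx
    -- the thickening restricted to `D`
    obtain ⟨N, hN⟩ := Groth.Agent.H78.UT4.exists_opens_preimage_eq i hi D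
    subst hN
    refine ⟨N, htD, ?_⟩
    -- the section on rings
    have hcomp : f₀.appLE (i ⁻¹ᵁ N) U e' ≫ s₀.appLE U (i ⁻¹ᵁ N) e = 𝟙 _ := by
      rw [Scheme.Hom.appLE_comp_appLE]
      exact appLE_eq_id _ hs _ _
    have hcomp' : ∀ y, (s₀.appLE U (i ⁻¹ᵁ N) e).hom ((f₀.appLE (i ⁻¹ᵁ N) U e').hom y) = y := by
      intro y
      have := congrArg (fun φ => φ.hom y) hcomp
      simpa using this
    have hsurj : Function.Surjective (s₀.appLE U (i ⁻¹ᵁ N) e).hom := fun y => ⟨_, hcomp' y⟩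
    have hfp : (f₀.appLE (i ⁻¹ᵁ N) U e').hom.FinitePresentation :=
      HasRingHomProperty.appLE (P := @LocallyOfFinitePresentation) f₀ inferInstance
        ⟨i ⁻¹ᵁ N, hD⟩ ⟨U, hU⟩ e'
    -- the kernel is finitely generated
    have hJ : (RingHom.ker (s₀.appLE U (i ⁻¹ᵁ N) e).hom).FG := by
      letI : Algebra Γ(T₀, i ⁻¹ᵁ N) Γ(X₀, U) := (f₀.appLE (i ⁻¹ᵁ N) U e').hom.toAlgebra
      haveI : Algebra.FinitePresentation Γ(T₀, i ⁻¹ᵁ N) Γ(X₀, U) := hfp
      let ψ : Γ(X₀, U) →ₐ[Γ(T₀, i ⁻¹ᵁ N)] Γ(T₀, i ⁻¹ᵁ N) :=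
        { (s₀.appLE U (i ⁻¹ᵁ N) e).hom with
          commutes' := fun y => hcomp' y }
      exact Algebra.FinitePresentation.ker_fG_of_surjective ψ hsurj
    -- the explicit universal thickening
    obtain ⟨i₂, hu₂⟩ := Groth.Agent.H19.H1Univ.exists_isUniv_affineOpen_quot s₀ (i ⁻¹ᵁ N) hD U hU e
      hsurj
    have hu₁ := Groth.Agent.H78.UT2.restrict_openImmersion hu (i ⁻¹ᵁ N).ι N.ι (i ∣_ N)
      (isPullback_morphismRestrict i N)
    obtain ⟨ε, -, hε⟩ := Groth.Agent.H78.UT2.exists_iso hu₁ hu₂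
    have hfac : N.ι ≫ h ≫ f₀ = ε.hom ≫ Spec.map (CommRingCat.ofHom (Ideal.Quotient.mk
        (RingHom.ker (s₀.appLE U (i ⁻¹ᵁ N) e).hom ^ 2))) ≫ hU.fromSpec ≫ f₀ := by
      rw [← Category.assoc, ← hε, Category.assoc, Category.assoc]
    rw [hfac]
    haveI : LocallyOfFinitePresentation (Spec.map (CommRingCat.ofHom (Ideal.Quotient.mk
        (RingHom.ker (s₀.appLE U (i ⁻¹ᵁ N) e).hom ^ 2)))) := by
      rw [HasRingHomProperty.Spec_iff (P := @LocallyOfFinitePresentation)]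
      refine RingHom.FinitePresentation.of_surjective _ Ideal.Quotient.mk_surjective ?_
      rw [CommRingCat.hom_ofHom, Ideal.mk_ker]
      exact hJ.pow
    infer_instance
  choose N hzN hN using key
  refine IsZariskiLocalAtSource.of_iSup_eq_top (P := @LocallyOfFinitePresentation) N ?_ hN
  rw [eq_top_iff]
  rintro z -
  simp only [Opens.mem_iSup]
  exact ⟨z, hzN z⟩

end Groth.Agent.H19.H1Fp
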