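import Mathlib
import Groth.Prelude.Def_Omega3
import Groth.Agent.S9731
import Groth.Agent.H93.ThickAff
import Groth.Agent.H19.H1Alg
import Groth.Agent.H19.H1Fp
import Groth.Agent.H19.H1Quot

/-!
# Gluing infinitesimal lifts for morphisms locally of finite presentation (affine base)
-/

set_option autoImplicit false
set_option maxHeartbeats 800000
universe u

namespace Groth.Agent.H19.H1Main

open AlgebraicGeometry CategoryTheory CategoryTheory.Limits TopologicalSpace

/-- Ring-level form of the square-zero condition on a first order thickening `Spec.map φ`. -/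
theorem mul_eq_zero_of_ker_specMap_sq {R S : CommRingCat.{u}} (φ : R ⟶ S)
    (hker : (Spec.map φ).ker * (Spec.map φ).ker = ⊥) (x y : R) (hx : φ x = 0) (hy : φ y = 0) :
    x * y = 0 := by
  have h := congrArg (fun K => K.ideal ⟨⊤, isAffineOpen_top _⟩) hker
  simp only [Scheme.IdealSheafData.ideal_mul, Pi.mul_apply,
    Groth.Agent.H93.IdealComap.ideal_top_ker, Scheme.IdealSheafData.ideal_bot,
    Pi.bot_apply] at h
  have nat : ∀ z, (Scheme.ΓSpecIso S).hom ((Spec.map φ).appTop z) =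
      φ ((Scheme.ΓSpecIso R).hom z) := by
    intro z
    have := Scheme.ΓSpecIso_naturality φ
    exact congrArg (fun f => f.hom z) this
  have injS : Function.Injective (Scheme.ΓSpecIso S).hom :=
    (ConcreteCategory.bijective_of_isIso (Scheme.ΓSpecIso S).hom).1
  have surjR : Function.Surjective (Scheme.ΓSpecIso R).hom :=
    (ConcreteCategory.bijective_of_isIso (Scheme.ΓSpecIso R).hom).2
  obtain ⟨x', rfl⟩ := surjR x
  obtain ⟨y', rfl⟩ := surjR y
  have hx' : x' ∈ RingHom.ker (Spec.map φ).appTop.hom := by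
    rw [RingHom.mem_ker]
    apply injS
    rw [map_zero]
    exact (nat x').trans hx
  have hy' : y' ∈ RingHom.ker (Spec.map φ).appTop.hom := by
    rw [RingHom.mem_ker]
    apply injS
    rw [map_zero]
    exact (nat y').trans hy
  have hxy : x' * y' ∈ RingHom.ker (Spec.map φ).appTop.hom *
      RingHom.ker (Spec.map φ).appTop.hom := Ideal.mul_mem_mul hx' hy'
  rw [h] at hxy
  rw [← map_mul, Ideal.mem_bot.mp hxy, map_zero]

section core

variable {A B : Type u} [CommRing A] [CommRing B] (I : Ideal A)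

/-- The core: given an affine universal first order thickening of `a₀`. -/
theorem core_of_univ (hI : I ^ 2 = ⊥)
    {X : Scheme.{u}} (f : X ⟶ Spec (.of A)) [LocallyOfFinitePresentation f]
    (a₀ : Spec (.of (A ⧸ I)) ⟶ X)
    (ha₀ : a₀ ≫ f = Spec.map (CommRingCat.ofHom (Ideal.Quotient.mk I)))
    (i'' : Spec (.of (A ⧸ I)) ⟶ Spec (.of B)) (h'' : Spec (.of B) ⟶ X)
    (hu : OmegaSh.IsUnivThickening a₀ i'' h'')
    (LL : ∀ t : Spec (.of A), ∃ (V : (Spec (.of A)).Opens), t ∈ V ∧ ∃ b : V.toScheme ⟶ X,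
      b ≫ f = V.ι ∧ ∀ (W : Scheme.{u}) (w : W ⟶ Spec (.of (A ⧸ I))) (w' : W ⟶ V.toScheme),
        w' ≫ V.ι = w ≫ Spec.map (CommRingCat.ofHom (Ideal.Quotient.mk I)) → w' ≫ b = w ≫ a₀) :
    ∃ b : Spec (.of A) ⟶ X, b ≫ f = 𝟙 _ ∧
      Spec.map (CommRingCat.ofHom (Ideal.Quotient.mk I)) ≫ b = a₀ := by
  -- ring maps
  obtain ⟨πc, hπc⟩ : ∃ πc : CommRingCat.of B ⟶ CommRingCat.of (A ⧸ I), Spec.map πc = i'' :=
    ⟨Spec.preimage _, Spec.map_preimage _⟩
  obtain ⟨ρc, hρc⟩ : ∃ ρc : CommRingCat.of A ⟶ CommRingCat.of B, Spec.map ρc = h'' ≫ f :=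
    ⟨Spec.preimage _, Spec.map_preimage _⟩
  have hic : i'' ≫ h'' = a₀ := hu.2.1
  have hρπ : ρc ≫ πc = CommRingCat.ofHom (Ideal.Quotient.mk I) := by
    apply Spec.map_injective
    rw [Spec.map_comp, hπc, hρc, ← Category.assoc, hic, ha₀]
  letI : Algebra A B := ρc.hom.toAlgebra
  have halg : CommRingCat.ofHom (algebraMap A B) = ρc := rfl
  let π : B →ₐ[A] A ⧸ I :=
    { πc.hom with
      commutes' := fun a => congrArg (fun φ => φ.hom a) hρπ }
  have hπ : CommRingCat.ofHom π.toRingHom = πc := rfl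
  have hπapp : ∀ b, π b = πc.hom b := fun b => rfl
  have hf'' : h'' ≫ f = Spec.map (CommRingCat.ofHom (algebraMap A B)) := by
    rw [halg, hρc]
  have hu' : OmegaSh.IsUnivThickening a₀ (Spec.map (CommRingCat.ofHom π.toRingHom)) h'' := by
    rw [hπ, hπc]
    exact hu
  -- square zero kernel
  have hK : ∀ x y : B, π x = 0 → π y = 0 → x * y = 0 := by
    intro x y hx hy
    have hker := hu.1.2
    rw [← hπc] at hker
    exact mul_eq_zero_of_ker_specMap_sq πc hker x y hx hy
  -- finite presentation of `B ⧸ I B`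
  haveI : IsClosedImmersion (Spec.map (CommRingCat.ofHom (Ideal.Quotient.mk I))) :=
    IsClosedImmersion.spec_of_surjective _ Ideal.Quotient.mk_surjective
  haveI hfp : Algebra.FinitePresentation (A ⧸ I) (B ⧸ I.map (algebraMap A B)) := by
    have hring : CommRingCat.ofHom (Ideal.Quotient.mk I) ≫
        CommRingCat.ofHom (algebraMap (A ⧸ I) (B ⧸ I.map (algebraMap A B))) =
        CommRingCat.ofHom (algebraMap A B) ≫
          CommRingCat.ofHom (Ideal.Quotient.mk (I.map (algebraMap A B))) := by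
      ext x
      rfl
    obtain ⟨s₀, hs₁, hs₂⟩ : ∃ s₀ : Spec (.of (A ⧸ I)) ⟶
        pullback f (Spec.map (CommRingCat.ofHom (Ideal.Quotient.mk I))),
        s₀ ≫ pullback.fst _ _ = a₀ ∧ s₀ ≫ pullback.snd _ _ = 𝟙 _ :=
      ⟨pullback.lift a₀ (𝟙 _) (by rw [ha₀, Category.id_comp]), pullback.lift_fst _ _ _,
        pullback.lift_snd _ _ _⟩
    obtain ⟨h₀, hh₁, hh₂⟩ : ∃ h₀ : Spec (.of (B ⧸ I.map (algebraMap A B))) ⟶
        pullback f (Spec.map (CommRingCat.ofHom (Ideal.Quotient.mk I))),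
        h₀ ≫ pullback.fst _ _ =
          Spec.map (CommRingCat.ofHom (Ideal.Quotient.mk (I.map (algebraMap A B)))) ≫ h'' ∧
        h₀ ≫ pullback.snd _ _ =
          Spec.map (CommRingCat.ofHom (algebraMap (A ⧸ I) (B ⧸ I.map (algebraMap A B)))) :=
      ⟨pullback.lift (Spec.map (CommRingCat.ofHom (Ideal.Quotient.mk (I.map (algebraMap A B)))) ≫
          h'') (Spec.map (CommRingCat.ofHom (algebraMap (A ⧸ I) (B ⧸ I.map (algebraMap A B)))))
          (by rw [Category.assoc, hf'', ← Spec.map_comp, ← Spec.map_comp, hring]),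
        pullback.lift_fst _ _ _, pullback.lift_snd _ _ _⟩
    have huq := Groth.Agent.H19.H1Quot.isUniv_quot I π f h'' hf'' a₀ hu' s₀ hs₁ h₀ hh₁ hh₂ hK hs₂
    have hlfp := Groth.Agent.H19.H1Fp.lfp_of_isUnivThickening_section
      (pullback.snd f (Spec.map (CommRingCat.ofHom (Ideal.Quotient.mk I)))) s₀ hs₂ _ h₀ huq
    rw [hh₂, HasRingHomProperty.Spec_iff (P := @LocallyOfFinitePresentation)] at hlfp
    exact RingHom.finitePresentation_algebraMap.mp hlfp
  -- local lifts
  have Hloc : ∀ (𝔪 : Ideal A) [𝔪.IsMaximal], ∃ σ : B →ₐ[A] Localization.AtPrime 𝔪,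
      ∀ k : B, π k = 0 → σ k ∈ I.map (algebraMap A (Localization.AtPrime 𝔪)) := by
    intro 𝔪 h𝔪
    obtain ⟨V, htV, b, hbf, hbagree⟩ := LL (⟨𝔪, inferInstance⟩ : PrimeSpectrum A)
    -- the local scheme maps into `V`
    have hrange : Set.range (Spec.map (CommRingCat.ofHom
        (algebraMap A (Localization.AtPrime 𝔪)))) ⊆ Set.range V.ι := by
      rw [Scheme.Opens.range_ι]
      rintro _ ⟨y, rfl⟩
      have hle : (show PrimeSpectrum A from
          Spec.map (CommRingCat.ofHom (algebraMap A (Localization.AtPrime 𝔪))) y) ≤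
          (⟨𝔪, inferInstance⟩ : PrimeSpectrum A) := by
        intro a ha
        by_contra ham
        have hmem : algebraMap A (Localization.AtPrime 𝔪) a ∈ y.asIdeal := ha
        exact y.isPrime.ne_top (Ideal.eq_top_of_isUnit_mem _ hmem
          (IsLocalization.map_units (Localization.AtPrime 𝔪) (⟨a, ham⟩ : 𝔪.primeCompl)))
      exact ((PrimeSpectrum.le_iff_specializes _ _).mp hle).mem_open V.isOpen htV
    obtain ⟨w', hw'⟩ : ∃ w' : Spec (.of (Localization.AtPrime 𝔪)) ⟶ V.toScheme,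
        w' ≫ V.ι = Spec.map (CommRingCat.ofHom (algebraMap A (Localization.AtPrime 𝔪))) :=
      ⟨IsOpenImmersion.lift V.ι _ hrange, IsOpenImmersion.lift_fac _ _ _⟩
    -- the thickening of the local scheme
    set J := I.map (algebraMap A (Localization.AtPrime 𝔪)) with hJ
    have hJsq : J ^ 2 = ⊥ := by
      rw [hJ, ← Ideal.map_pow, hI, Ideal.map_bot]
    haveI : IsClosedImmersion (Spec.map (CommRingCat.ofHom (Ideal.Quotient.mk J))) :=
      IsClosedImmersion.spec_of_surjective _ Ideal.Quotient.mk_surjective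
    have hFO : MoreMor.IsFirstOrderThickening
        (Spec.map (CommRingCat.ofHom (Ideal.Quotient.mk J))) := by
      apply Groth.Agent.H78.UT2.firstOrder_of_closedImmersion
      apply Groth.Agent.H78.UT2.ker_specMap_sq
      rw [CommRingCat.hom_ofHom, Ideal.mk_ker]
      exact hJsq
    have hsq : CommRingCat.ofHom (algebraMap A (Localization.AtPrime 𝔪)) ≫
        CommRingCat.ofHom (Ideal.Quotient.mk J) =
        CommRingCat.ofHom (Ideal.Quotient.mk I) ≫
          CommRingCat.ofHom (Ideal.quotientMap J (algebraMap A (Localization.AtPrime 𝔪))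
            Ideal.le_comap_map) := by
      ext x
      rfl
    have hagree := hbagree _
      (Spec.map (CommRingCat.ofHom (Ideal.quotientMap J (algebraMap A (Localization.AtPrime 𝔪))
        Ideal.le_comap_map)))
      (Spec.map (CommRingCat.ofHom (Ideal.Quotient.mk J)) ≫ w')
      (by rw [Category.assoc, hw', ← Spec.map_comp, ← Spec.map_comp, hsq])
    obtain ⟨a', ⟨ha'1, ha'2⟩, -⟩ := hu.2.2 _ _ (Spec.map (CommRingCat.ofHom (Ideal.Quotient.mk J)))
      (w' ≫ b) _ hFO (by rw [← Category.assoc, hagree])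
    obtain ⟨σc, hσc⟩ : ∃ σc : CommRingCat.of B ⟶ CommRingCat.of (Localization.AtPrime 𝔪),
        Spec.map σc = a' := ⟨Spec.preimage _, Spec.map_preimage _⟩
    have hρσ : ρc ≫ σc = CommRingCat.ofHom (algebraMap A (Localization.AtPrime 𝔪)) := by
      apply Spec.map_injective
      rw [Spec.map_comp, hσc, hρc, ← Category.assoc, ha'2, Category.assoc, hbf, hw']
    have hσπ : σc ≫ CommRingCat.ofHom (Ideal.Quotient.mk J) =
        πc ≫ CommRingCat.ofHom (Ideal.quotientMap J (algebraMap A (Localization.AtPrime 𝔪))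
          Ideal.le_comap_map) := by
      apply Spec.map_injective
      rw [Spec.map_comp, Spec.map_comp, hσc, hπc, ha'1]
    refine ⟨{ σc.hom with commutes' := fun a => congrArg (fun φ => φ.hom a) hρσ }, ?_⟩
    intro k hk
    show σc.hom k ∈ J
    rw [← Ideal.Quotient.eq_zero_iff_mem]
    have := congrArg (fun φ => φ.hom k) hσπ
    simp only [CommRingCat.hom_comp, CommRingCat.hom_ofHom, RingHom.comp_apply] at this
    rw [this]
    have hk' : πc.hom k = 0 := hk
    rw [hk', map_zero]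
  -- the global lift
  obtain ⟨σ, hσ⟩ := Groth.Agent.H19.H1Alg.exists_algHom_lift I π hI hK Hloc
  refine ⟨Spec.map (CommRingCat.ofHom σ.toRingHom) ≫ h'', ?_, ?_⟩
  · rw [Category.assoc, hf'', ← Spec.map_comp]
    have : CommRingCat.ofHom (algebraMap A B) ≫ CommRingCat.ofHom σ.toRingHom = 𝟙 _ := by
      ext a
      exact σ.commutes a
    rw [this, Spec.map_id]
  · rw [← Category.assoc, ← Spec.map_comp]
    have : CommRingCat.ofHom σ.toRingHom ≫ CommRingCat.ofHom (Ideal.Quotient.mk I) = πc := by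
      ext b
      exact hσ b
    rw [this, hπc, hic]

end core

/-- Gluing local lifts: sections of a morphism locally of finite presentation over `Spec A`
extending a given section over `Spec (A ⧸ I)`, `I² = 0`, exist globally if they exist locally. -/
theorem exists_section_of_local {A : Type u} [CommRing A] (I : Ideal A) (hI : I ^ 2 = ⊥)
    {X : Scheme.{u}} (f : X ⟶ Spec (.of A)) [LocallyOfFinitePresentation f]
    (a₀ : Spec (.of (A ⧸ I)) ⟶ X)
    (ha₀ : a₀ ≫ f = Spec.map (CommRingCat.ofHom (Ideal.Quotient.mk I)))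
    (LL : ∀ t : Spec (.of A), ∃ (V : (Spec (.of A)).Opens), t ∈ V ∧ ∃ b : V.toScheme ⟶ X,
      b ≫ f = V.ι ∧ ∀ (W : Scheme.{u}) (w : W ⟶ Spec (.of (A ⧸ I))) (w' : W ⟶ V.toScheme),
        w' ≫ V.ι = w ≫ Spec.map (CommRingCat.ofHom (Ideal.Quotient.mk I)) → w' ≫ b = w ≫ a₀) :
    ∃ b : Spec (.of A) ⟶ X, b ≫ f = 𝟙 _ ∧
      Spec.map (CommRingCat.ofHom (Ideal.Quotient.mk I)) ≫ b = a₀ := by
  haveI : IsClosedImmersion (Spec.map (CommRingCat.ofHom (Ideal.Quotient.mk I))) :=
    IsClosedImmersion.spec_of_surjective _ Ideal.Quotient.mk_surjective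
  haveI : FormallyUnramified (a₀ ≫ f) := by
    rw [ha₀]
    infer_instance
  haveI : FormallyUnramified a₀ := FormallyUnramified.of_comp a₀ f
  obtain ⟨Z', i', h', hu⟩ := Groth.Agent.S9731.result a₀
  haveI : IsClosedImmersion i' := hu.1.1.1
  haveI : IsAffine Z' := Groth.Agent.H93.ThickAff.main i' hu.1.1.2.surj
  have hsq : IsPullback (i' ≫ Z'.isoSpec.hom) (𝟙 _) Z'.isoSpec.inv i' :=
    IsPullback.of_vert_isIso ⟨by simp⟩
  have hu' := Groth.Agent.H78.UT2.restrict_openImmersion hu (𝟙 _) Z'.isoSpec.inv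
    (i' ≫ Z'.isoSpec.hom) hsq
  rw [Category.id_comp] at hu'
  exact core_of_univ (B := Γ(Z', ⊤)) I hI f a₀ ha₀ (i' ≫ Z'.isoSpec.hom) (Z'.isoSpec.inv ≫ h') hu' LL

end Groth.Agent.H19.H1Main
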