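import Mathlib
import Groth.Prelude.Def_Omega3
import Groth.Agent.S9731
import Groth.Agent.H93.ThickAff
import Groth.Agent.H19.H1Main
import Groth.Agent.H19.FSAlg
import Groth.Agent.H19.FSLoc

/-!
# Gluing infinitesimal lifts for affine-locally formally smooth morphisms (no finiteness)

The analogue of `H1Main` with finite presentation replaced by projectivity of the conormal module
(Zariski descent of projectivity, Raynaud–Gruson).  Main result:
`isFormallySmoothHom_of_affineLocally`.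
-/

set_option autoImplicit false
set_option maxHeartbeats 800000
universe u

namespace Groth.Agent.H19.FSMain

open AlgebraicGeometry CategoryTheory CategoryTheory.Limits TopologicalSpace

section core

variable {A B : Type u} [CommRing A] [CommRing B] (I : Ideal A)

/-- The core: given an affine universal first order thickening of `a₀`. -/
theorem core_of_univ' (hI : I ^ 2 = ⊥)
    {X : Scheme.{u}} (f : X ⟶ Spec (.of A))
    (hlocf : ∀ x : X, ∃ U : X.Opens, x ∈ U ∧ Groth.Agent.H19.FSLoc.LiftsOn f U)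
    (a₀ : Spec (.of (A ⧸ I)) ⟶ X)
    (ha₀ : a₀ ≫ f = Spec.map (CommRingCat.ofHom (Ideal.Quotient.mk I)))
    (i'' : Spec (.of (A ⧸ I)) ⟶ Spec (.of B)) (h'' : Spec (.of B) ⟶ X)
    (hu : OmegaSh.IsUnivThickening a₀ i'' h'')
    (LL : ∀ t : Spec (.of A), ∃ (V : (Spec (.of A)).Opens), t ∈ V ∧ ∃ b : V.toScheme ⟶ X,
      b ≫ f = V.ι ∧ ∀ (W : Scheme.{u}) (w : W ⟶ Spec (.of (A ⧸ I))) (w' : W ⟶ V.toScheme),
        w' ≫ V.ι = w ≫ Spec.map (CommRingCat.ofHom (Ideal.Quotient.mk I)) → w' ≫ b = w ≫ a₀) :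
    ∃ b : Spec (.of A) ⟶ X, b ≫ f = 𝟙 _ ∧
      Spec.map (CommRingCat.ofHom (Ideal.Quotient.mk I)) ≫ b = a₀ := by
  -- ring maps
  obtain ⟨πc, hπc⟩ : ∃ πc : CommRingCat.of B ⟶ CommRingCat.of (A ⧸ I), Spec.map πc = i'' :=
    ⟨Spec.preimage _, Spec.map_preimage _⟩
  obtain ⟨ρc, hρc⟩ : ∃ ρc : CommRingCat.of A ⟶ CommRingCat.of B, Spec.map ρc = h'' ≫ f :=
    ⟨Spec.preimage _, Spec.map_preimage _⟩
  have hic : i'' ≫ h'' = a₀ := hu.2.1
  have hρπ : ρc ≫ πc = CommRingCat.ofHom (Ideal.Quotient.mk I) := by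
    apply Spec.map_injective
    rw [Spec.map_comp, hπc, hρc, ← Category.assoc, hic, ha₀]
  letI : Algebra A B := ρc.hom.toAlgebra
  have halg : CommRingCat.ofHom (algebraMap A B) = ρc := rfl
  let π : B →ₐ[A] A ⧸ I :=
    { πc.hom with
      commutes' := fun a => congrArg (fun φ => φ.hom a) hρπ }
  have hπ : CommRingCat.ofHom π.toRingHom = πc := rfl
  have hπapp : ∀ b, π b = πc.hom b := fun b => rfl
  have hf'' : h'' ≫ f = Spec.map (CommRingCat.ofHom (algebraMap A B)) := by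
    rw [halg, hρc]
  have hu' : OmegaSh.IsUnivThickening a₀ (Spec.map (CommRingCat.ofHom π.toRingHom)) h'' := by
    rw [hπ, hπc]
    exact hu
  -- square zero kernel
  have hK : ∀ x y : B, π x = 0 → π y = 0 → x * y = 0 := by
    intro x y hx hy
    have hker := hu.1.2
    rw [← hπc] at hker
    exact Groth.Agent.H19.H1Main.mul_eq_zero_of_ker_specMap_sq πc hker x y hx hy
  -- projectivity of the conormal module of `B ⧸ I B`
  haveI : IsClosedImmersion (Spec.map (CommRingCat.ofHom (Ideal.Quotient.mk I))) :=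
    IsClosedImmersion.spec_of_surjective _ Ideal.Quotient.mk_surjective
  have hproj : Module.Projective (A ⧸ I) (RingHom.ker (Groth.Agent.H19.H1Quot.π₀ I π)) := by
    have hring : CommRingCat.ofHom (Ideal.Quotient.mk I) ≫
        CommRingCat.ofHom (algebraMap (A ⧸ I) (B ⧸ I.map (algebraMap A B))) =
        CommRingCat.ofHom (algebraMap A B) ≫
          CommRingCat.ofHom (Ideal.Quotient.mk (I.map (algebraMap A B))) := by
      ext x
      rfl
    obtain ⟨s₀, hs₁, hs₂⟩ : ∃ s₀ : Spec (.of (A ⧸ I)) ⟶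
        pullback f (Spec.map (CommRingCat.ofHom (Ideal.Quotient.mk I))),
        s₀ ≫ pullback.fst _ _ = a₀ ∧ s₀ ≫ pullback.snd _ _ = 𝟙 _ :=
      ⟨pullback.lift a₀ (𝟙 _) (by rw [ha₀, Category.id_comp]), pullback.lift_fst _ _ _,
        pullback.lift_snd _ _ _⟩
    obtain ⟨h₀, hh₁, hh₂⟩ : ∃ h₀ : Spec (.of (B ⧸ I.map (algebraMap A B))) ⟶
        pullback f (Spec.map (CommRingCat.ofHom (Ideal.Quotient.mk I))),
        h₀ ≫ pullback.fst _ _ =
          Spec.map (CommRingCat.ofHom (Ideal.Quotient.mk (I.map (algebraMap A B)))) ≫ h'' ∧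
        h₀ ≫ pullback.snd _ _ =
          Spec.map (CommRingCat.ofHom (algebraMap (A ⧸ I) (B ⧸ I.map (algebraMap A B)))) :=
      ⟨pullback.lift (Spec.map (CommRingCat.ofHom (Ideal.Quotient.mk (I.map (algebraMap A B)))) ≫
          h'') (Spec.map (CommRingCat.ofHom (algebraMap (A ⧸ I) (B ⧸ I.map (algebraMap A B)))))
          (by rw [Category.assoc, hf'', ← Spec.map_comp, ← Spec.map_comp, hring]),
        pullback.lift_fst _ _ _, pullback.lift_snd _ _ _⟩
    have huq := Groth.Agent.H19.H1Quot.isUniv_quot I π f h'' hf'' a₀ hu' s₀ hs₁ h₀ hh₁ hh₂ hK hs₂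
    exact Groth.Agent.H19.FSLoc.projective_ker_of_isUnivThickening_section
      (Groth.Agent.H19.H1Quot.π₀ I π) (Groth.Agent.H19.H1Quot.π₀_algebraMap I π)
      (pullback.snd f (Spec.map (CommRingCat.ofHom (Ideal.Quotient.mk I)))) s₀ hs₂ h₀ hh₂ huq
      (fun x => by
        obtain ⟨U, hxU, hL⟩ := hlocf (pullback.fst f _ x)
        exact ⟨pullback.fst f _ ⁻¹ᵁ U, hxU, Groth.Agent.H19.FSLoc.liftsOn_pullback_snd f _ hL⟩)
  -- local lifts
  have Hloc : ∀ (𝔪 : Ideal A) [𝔪.IsMaximal], ∃ σ : B →ₐ[A] Localization.AtPrime 𝔪,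
      ∀ k : B, π k = 0 → σ k ∈ I.map (algebraMap A (Localization.AtPrime 𝔪)) := by
    intro 𝔪 h𝔪
    obtain ⟨V, htV, b, hbf, hbagree⟩ := LL (⟨𝔪, inferInstance⟩ : PrimeSpectrum A)
    -- the local scheme maps into `V`
    have hrange : Set.range (Spec.map (CommRingCat.ofHom
        (algebraMap A (Localization.AtPrime 𝔪)))) ⊆ Set.range V.ι := by
      rw [Scheme.Opens.range_ι]
      rintro _ ⟨y, rfl⟩
      have hle : (show PrimeSpectrum A from
          Spec.map (CommRingCat.ofHom (algebraMap A (Localization.AtPrime 𝔪))) y) ≤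
          (⟨𝔪, inferInstance⟩ : PrimeSpectrum A) := by
        intro a ha
        by_contra ham
        have hmem : algebraMap A (Localization.AtPrime 𝔪) a ∈ y.asIdeal := ha
        exact y.isPrime.ne_top (Ideal.eq_top_of_isUnit_mem _ hmem
          (IsLocalization.map_units (Localization.AtPrime 𝔪) (⟨a, ham⟩ : 𝔪.primeCompl)))
      exact ((PrimeSpectrum.le_iff_specializes _ _).mp hle).mem_open V.isOpen htV
    obtain ⟨w', hw'⟩ : ∃ w' : Spec (.of (Localization.AtPrime 𝔪)) ⟶ V.toScheme,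
        w' ≫ V.ι = Spec.map (CommRingCat.ofHom (algebraMap A (Localization.AtPrime 𝔪))) :=
      ⟨IsOpenImmersion.lift V.ι _ hrange, IsOpenImmersion.lift_fac _ _ _⟩
    -- the thickening of the local scheme
    set J := I.map (algebraMap A (Localization.AtPrime 𝔪)) with hJ
    have hJsq : J ^ 2 = ⊥ := by
      rw [hJ, ← Ideal.map_pow, hI, Ideal.map_bot]
    haveI : IsClosedImmersion (Spec.map (CommRingCat.ofHom (Ideal.Quotient.mk J))) :=
      IsClosedImmersion.spec_of_surjective _ Ideal.Quotient.mk_surjective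
    have hFO : MoreMor.IsFirstOrderThickening
        (Spec.map (CommRingCat.ofHom (Ideal.Quotient.mk J))) := by
      apply Groth.Agent.H78.UT2.firstOrder_of_closedImmersion
      apply Groth.Agent.H78.UT2.ker_specMap_sq
      rw [CommRingCat.hom_ofHom, Ideal.mk_ker]
      exact hJsq
    have hsq : CommRingCat.ofHom (algebraMap A (Localization.AtPrime 𝔪)) ≫
        CommRingCat.ofHom (Ideal.Quotient.mk J) =
        CommRingCat.ofHom (Ideal.Quotient.mk I) ≫
          CommRingCat.ofHom (Ideal.quotientMap J (algebraMap A (Localization.AtPrime 𝔪))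
            Ideal.le_comap_map) := by
      ext x
      rfl
    have hagree := hbagree _
      (Spec.map (CommRingCat.ofHom (Ideal.quotientMap J (algebraMap A (Localization.AtPrime 𝔪))
        Ideal.le_comap_map)))
      (Spec.map (CommRingCat.ofHom (Ideal.Quotient.mk J)) ≫ w')
      (by rw [Category.assoc, hw', ← Spec.map_comp, ← Spec.map_comp, hsq])
    obtain ⟨a', ⟨ha'1, ha'2⟩, -⟩ := hu.2.2 _ _ (Spec.map (CommRingCat.ofHom (Ideal.Quotient.mk J)))
      (w' ≫ b) _ hFO (by rw [← Category.assoc, hagree])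
    obtain ⟨σc, hσc⟩ : ∃ σc : CommRingCat.of B ⟶ CommRingCat.of (Localization.AtPrime 𝔪),
        Spec.map σc = a' := ⟨Spec.preimage _, Spec.map_preimage _⟩
    have hρσ : ρc ≫ σc = CommRingCat.ofHom (algebraMap A (Localization.AtPrime 𝔪)) := by
      apply Spec.map_injective
      rw [Spec.map_comp, hσc, hρc, ← Category.assoc, ha'2, Category.assoc, hbf, hw']
    have hσπ : σc ≫ CommRingCat.ofHom (Ideal.Quotient.mk J) =
        πc ≫ CommRingCat.ofHom (Ideal.quotientMap J (algebraMap A (Localization.AtPrime 𝔪))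
          Ideal.le_comap_map) := by
      apply Spec.map_injective
      rw [Spec.map_comp, Spec.map_comp, hσc, hπc, ha'1]
    refine ⟨{ σc.hom with commutes' := fun a => congrArg (fun φ => φ.hom a) hρσ }, ?_⟩
    intro k hk
    show σc.hom k ∈ J
    rw [← Ideal.Quotient.eq_zero_iff_mem]
    have := congrArg (fun φ => φ.hom k) hσπ
    simp only [CommRingCat.hom_comp, CommRingCat.hom_ofHom, RingHom.comp_apply] at this
    rw [this]
    have hk' : πc.hom k = 0 := hk
    rw [hk', map_zero]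
  -- the global lift
  obtain ⟨σ, hσ⟩ := Groth.Agent.H19.FSAlg.exists_algHom_lift_of_projective I π hI hK hproj Hloc
  refine ⟨Spec.map (CommRingCat.ofHom σ.toRingHom) ≫ h'', ?_, ?_⟩
  · rw [Category.assoc, hf'', ← Spec.map_comp]
    have : CommRingCat.ofHom (algebraMap A B) ≫ CommRingCat.ofHom σ.toRingHom = 𝟙 _ := by
      ext a
      exact σ.commutes a
    rw [this, Spec.map_id]
  · rw [← Category.assoc, ← Spec.map_comp]
    have : CommRingCat.ofHom σ.toRingHom ≫ CommRingCat.ofHom (Ideal.Quotient.mk I) = πc := by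
      ext b
      exact hσ b
    rw [this, hπc, hic]

end core

/-- Gluing local lifts: sections of a morphism with the local lifting property over `Spec A`
extending a given section over `Spec (A ⧸ I)`, `I² = 0`, exist globally if they exist locally. -/
theorem exists_section_of_local' {A : Type u} [CommRing A] (I : Ideal A) (hI : I ^ 2 = ⊥)
    {X : Scheme.{u}} (f : X ⟶ Spec (.of A))
    (hlocf : ∀ x : X, ∃ U : X.Opens, x ∈ U ∧ Groth.Agent.H19.FSLoc.LiftsOn f U)
    (a₀ : Spec (.of (A ⧸ I)) ⟶ X)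
    (ha₀ : a₀ ≫ f = Spec.map (CommRingCat.ofHom (Ideal.Quotient.mk I)))
    (LL : ∀ t : Spec (.of A), ∃ (V : (Spec (.of A)).Opens), t ∈ V ∧ ∃ b : V.toScheme ⟶ X,
      b ≫ f = V.ι ∧ ∀ (W : Scheme.{u}) (w : W ⟶ Spec (.of (A ⧸ I))) (w' : W ⟶ V.toScheme),
        w' ≫ V.ι = w ≫ Spec.map (CommRingCat.ofHom (Ideal.Quotient.mk I)) → w' ≫ b = w ≫ a₀) :
    ∃ b : Spec (.of A) ⟶ X, b ≫ f = 𝟙 _ ∧
      Spec.map (CommRingCat.ofHom (Ideal.Quotient.mk I)) ≫ b = a₀ := by
  haveI : IsClosedImmersion (Spec.map (CommRingCat.ofHom (Ideal.Quotient.mk I))) :=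
    IsClosedImmersion.spec_of_surjective _ Ideal.Quotient.mk_surjective
  haveI : FormallyUnramified (a₀ ≫ f) := by
    rw [ha₀]
    infer_instance
  haveI : FormallyUnramified a₀ := FormallyUnramified.of_comp a₀ f
  obtain ⟨Z', i', h', hu⟩ := Groth.Agent.S9731.result a₀
  haveI : IsClosedImmersion i' := hu.1.1.1
  haveI : IsAffine Z' := Groth.Agent.H93.ThickAff.main i' hu.1.1.2.surj
  have hsq : IsPullback (i' ≫ Z'.isoSpec.hom) (𝟙 _) Z'.isoSpec.inv i' :=
    IsPullback.of_vert_isIso ⟨by simp⟩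
  have hu' := Groth.Agent.H78.UT2.restrict_openImmersion hu (𝟙 _) Z'.isoSpec.inv
    (i' ≫ Z'.isoSpec.hom) hsq
  rw [Category.id_comp] at hu'
  exact core_of_univ' (B := Γ(Z', ⊤)) I hI f hlocf a₀ ha₀ (i' ≫ Z'.isoSpec.hom) (Z'.isoSpec.inv ≫ h') hu' LL


/-- A morphism all of whose affine charts are formally smooth ring maps is formally smooth. -/
theorem isFormallySmoothHom_of_affineLocally {X Y : Scheme.{u}} (f : X ⟶ Y)
    (hsm : ∀ {U : X.Opens} (_ : IsAffineOpen U) {V : Y.Opens} (_ : IsAffineOpen V)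
      (e : U ≤ f ⁻¹ᵁ V), (f.appLE V U e).hom.FormallySmooth) :
    MoreMor.IsFormallySmoothHom f := by
  intro A _ I hI a b w
  haveI : IsClosedImmersion (Spec.map (CommRingCat.ofHom (Ideal.Quotient.mk I))) :=
    IsClosedImmersion.spec_of_surjective _ Ideal.Quotient.mk_surjective
  have hn := Groth.Agent.H8.isNilpotent_ker_SpecMap_mk A I hI
  have hsurj := Groth.Agent.H8.surjective_of_isNilpotent_ker
    (Spec.map (CommRingCat.ofHom (Ideal.Quotient.mk I))) hn
  obtain ⟨t, ht⟩ : ∃ t : Spec (.of (A ⧸ I)) ⟶ Spec (.of A),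
      t = Spec.map (CommRingCat.ofHom (Ideal.Quotient.mk I)) := ⟨_, rfl⟩
  -- the local lifting property
  have hlocX : ∀ x : X, ∃ U : X.Opens, x ∈ U ∧ Groth.Agent.H19.FSLoc.LiftsOn f U := by
    intro x
    obtain ⟨V, hV, hxV, -⟩ := Opens.isBasis_iff_nbhd.mp Y.isBasis_affineOpens
      (show f x ∈ (⊤ : Y.Opens) from trivial)
    obtain ⟨U, hU, hxU, e⟩ := Opens.isBasis_iff_nbhd.mp X.isBasis_affineOpens
      (show x ∈ f ⁻¹ᵁ V from hxV)
    exact ⟨U, hxU, Groth.Agent.H19.FSLoc.liftsOn_of_formallySmooth f hU hV e (hsm hU hV e)⟩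
  have hlocg : ∀ z : ↥(pullback f b), ∃ U : (pullback f b).Opens, z ∈ U ∧
      Groth.Agent.H19.FSLoc.LiftsOn (pullback.snd f b) U := by
    intro z
    obtain ⟨U, hxU, hL⟩ := hlocX (pullback.fst f b z)
    exact ⟨pullback.fst f b ⁻¹ᵁ U, hxU, Groth.Agent.H19.FSLoc.liftsOn_pullback_snd f b hL⟩
  -- base change
  obtain ⟨a₀', ha₀'1, ha₀'2⟩ : ∃ a₀' : Spec (.of (A ⧸ I)) ⟶ pullback f b,
      a₀' ≫ pullback.fst _ _ = a ∧
      a₀' ≫ pullback.snd _ _ = Spec.map (CommRingCat.ofHom (Ideal.Quotient.mk I)) :=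
    ⟨pullback.lift a (Spec.map (CommRingCat.ofHom (Ideal.Quotient.mk I))) w.symm,
      pullback.lift_fst _ _ _, pullback.lift_snd _ _ _⟩
  -- local sections
  have LL : ∀ p : Spec (.of A), ∃ (V : (Spec (.of A)).Opens), p ∈ V ∧
      ∃ b' : V.toScheme ⟶ pullback f b,
      b' ≫ pullback.snd _ _ = V.ι ∧
      ∀ (W : Scheme.{u}) (w₁ : W ⟶ Spec (.of (A ⧸ I))) (w' : W ⟶ V.toScheme),
        w' ≫ V.ι = w₁ ≫ Spec.map (CommRingCat.ofHom (Ideal.Quotient.mk I)) →
        w' ≫ b' = w₁ ≫ a₀' := by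
    intro p
    obtain ⟨q, rfl⟩ := hsurj p
    have hbq : b (Spec.map (CommRingCat.ofHom (Ideal.Quotient.mk I)) q) = f (a q) := by
      rw [← Scheme.Hom.comp_apply, ← Scheme.Hom.comp_apply, w]
    obtain ⟨V, hV, hqV, -⟩ := Opens.isBasis_iff_nbhd.mp Y.isBasis_affineOpens
      (show f (a q) ∈ (⊤ : Y.Opens) from trivial)
    obtain ⟨U, hU, hqU, e⟩ := Opens.isBasis_iff_nbhd.mp X.isBasis_affineOpens
      (show a q ∈ f ⁻¹ᵁ V from hqV)
    have hopen : IsOpen (Spec.map (CommRingCat.ofHom (Ideal.Quotient.mk I)) ''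
        (a ⁻¹ᵁ U : Set (Spec (.of (A ⧸ I))))) :=
      ((Spec.map (CommRingCat.ofHom (Ideal.Quotient.mk
        I))).isClosedEmbedding.isEmbedding.toHomeomorphOfSurjective hsurj).isOpenMap _
          (a ⁻¹ᵁ U).isOpen
    obtain ⟨(W : (Spec (.of A)).Opens), hW, hqW, hWle⟩ :=
      Opens.isBasis_iff_nbhd.mp (Spec (.of A)).isBasis_affineOpens
      (show Spec.map (CommRingCat.ofHom (Ideal.Quotient.mk I)) q ∈
        (b ⁻¹ᵁ V) ⊓ (⟨_, hopen⟩ : (Spec (.of A)).Opens) from
        ⟨by change b _ ∈ V; rw [hbq]; exact hqV, ⟨q, hqU, rfl⟩⟩)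
    obtain ⟨l, hl1, hl2⟩ := Groth.Agent.H8.hasLift_of_formallySmooth f
      (Spec.map (CommRingCat.ofHom (Ideal.Quotient.mk I))) hn a b w hU hV e (hsm hU hV e) hW
      (hWle.trans inf_le_left) (by
        intro x hx
        obtain ⟨x', hx', hxx'⟩ := (hWle.trans inf_le_right) hx
        have : x' = x :=
          (Spec.map (CommRingCat.ofHom (Ideal.Quotient.mk I))).isClosedEmbedding.injective hxx'
        exact this ▸ hx')
    refine ⟨W, hqW, pullback.lift l W.ι hl2, pullback.lift_snd _ _ _, ?_⟩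
    intro W' w₁ w' hww'
    have hpb := isPullback_morphismRestrict
      (Spec.map (CommRingCat.ofHom (Ideal.Quotient.mk I))) W
    apply pullback.hom_ext
    · rw [Category.assoc, pullback.lift_fst, Category.assoc, ha₀'1,
        ← hpb.lift_fst _ _ hww', Category.assoc, hl1, ← Category.assoc, hpb.lift_snd]
    · rw [Category.assoc, pullback.lift_snd, Category.assoc, ha₀'2, hww']
  obtain ⟨β, hβ1, hβ2⟩ := exists_section_of_local' I hI (pullback.snd f b) hlocg a₀' ha₀'2 LL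
  refine ⟨β ≫ pullback.fst _ _, ?_, ?_⟩
  · rw [← Category.assoc, hβ2, ha₀'1]
  · rw [Category.assoc, pullback.condition, ← Category.assoc, hβ1, Category.id_comp]

end Groth.Agent.H19.FSMain
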