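import Mathlib
import Groth.Agent.H15.SerreNormal

/-!
# Divisibility in a Noetherian normal domain tested at height-one primes, and a geometric
criterion

`isDVR` and `dvd_of_forall_heightOne` are copied from `Groth.Agent.H11.KrullNormal` (to avoid its
large import closure).
-/

set_option autoImplicit false
set_option linter.style.haveILetI false

universe u

open IsLocalRing AlgebraicGeometry

namespace Groth.Agent.H19.HeightOne

section HeightOne

variable (D : Type u) [CommRing D] [IsDomain D] [IsNoetherianRing D] [IsIntegrallyClosed D]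
  (Q : Ideal D) (hQp : Q.IsPrime)

include hQp in
theorem isDVR (hQ : Q.height = 1) : IsDiscreteValuationRing (Localization.AtPrime Q) := by
  haveI := hQp
  haveI : IsNoetherianRing (Localization.AtPrime Q) :=
    IsLocalization.isNoetherianRing Q.primeCompl _ inferInstance
  haveI : IsIntegrallyClosed (Localization.AtPrime Q) :=
    isIntegrallyClosed_of_isLocalization _ Q.primeCompl Q.primeCompl_le_nonZeroDivisors
  have hdim : ringKrullDim (Localization.AtPrime Q) ≤ ((1 : ℕ) : WithBot ℕ∞) := by
    rw [IsLocalization.AtPrime.ringKrullDim_eq_height Q (Localization.AtPrime Q), hQ]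
    rfl
  haveI hK : Ring.KrullDimLE 1 (Localization.AtPrime Q) := Ring.krullDimLE_iff.mpr hdim
  have hprimes : ∀ P' : Ideal (Localization.AtPrime Q), P' ≠ ⊥ → P'.IsPrime →
      P' = maximalIdeal (Localization.AtPrime Q) :=
    fun P' h0 hP' => IsLocalRing.eq_maximalIdeal (hP'.isMaximal_of_ne_bot h0)
  have h30 : (IsIntegrallyClosed (Localization.AtPrime Q) ∧
      ∀ P' : Ideal (Localization.AtPrime Q), P' ≠ ⊥ → P'.IsPrime →
        P' = maximalIdeal (Localization.AtPrime Q)) →
      IsPrincipalIdealRing (Localization.AtPrime Q) :=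
    ((tfae_of_isNoetherianRing_of_isLocalRing_of_isDomain (Localization.AtPrime Q)).out 3 0).mp
  haveI : IsPrincipalIdealRing (Localization.AtPrime Q) := h30 ⟨inferInstance, hprimes⟩
  refine { not_a_field' := ?_ }
  intro hbot
  have hQne : Q ≠ ⊥ := Ideal.ne_bot_of_height_eq_one hQ
  obtain ⟨q, hq, hq0⟩ := Submodule.exists_mem_ne_zero_of_ne_bot hQne
  have hmem : algebraMap D (Localization.AtPrime Q) q ∈ maximalIdeal (Localization.AtPrime Q) := by
    rw [← IsLocalization.AtPrime.map_eq_maximalIdeal Q]
    exact Ideal.mem_map_of_mem _ hq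
  rw [hbot, Ideal.mem_bot] at hmem
  exact hq0 ((IsLocalization.injective _ Q.primeCompl_le_nonZeroDivisors)
    (hmem.trans (map_zero _).symm))

/-- Divisibility in a Noetherian normal domain can be tested at the height-one primes. -/
theorem dvd_of_forall_heightOne (a b : D) (ha : a ≠ 0)
    (h : ∀ (Q : Ideal D) (_ : Q.IsPrime) (_ : Q.height = 1), a ∈ Q →
      ∃ s : D, s ∉ Q ∧ ∃ d : D, s * b = d * a) : ∃ d : D, b = a * d := by
  have hS2 : LocCoh.HasSk 2 D D :=
    (Groth.Agent.H15.SerreNormal.hasRk_hasSk_of_normal (R := D) (fun p _ =>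
      ⟨inferInstance,
        isIntegrallyClosed_of_isLocalization _ p.primeCompl p.primeCompl_le_nonZeroDivisors⟩)).2
  have hreg : IsSMulRegular D a := (isRegular_of_ne_zero ha).left.isSMulRegular
  have hmem : b ∈ Ideal.span {a} := by
    refine Groth.Agent.H15.SerreNormal.mem_span_of_forall_height_le_one hS2 hreg ?_
    intro Q hQp hQle
    by_cases haQ : a ∈ Q
    · have hQne : Q ≠ ⊥ := fun hb => ha (by rw [hb] at haQ; exact haQ)
      have hQ : Q.height = 1 := by
        refine le_antisymm hQle ?_
        rw [Order.one_le_iff_pos, pos_iff_ne_zero]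
        exact fun h0 => hQne (Ideal.height_eq_zero_iff_eq_bot.mp h0)
      obtain ⟨s, hs0, d, hsd⟩ := h Q hQp hQ haQ
      have hs : s ∈ Q.primeCompl := Ideal.mem_primeCompl_iff.mpr hs0
      rw [Ideal.mem_span_singleton']
      refine ⟨IsLocalization.mk' (Localization.AtPrime Q) d (⟨s, hs⟩ : Q.primeCompl), ?_⟩
      apply (IsLocalization.map_units (Localization.AtPrime Q) (⟨s, hs⟩ : Q.primeCompl)).mul_left_inj.mp
      calc IsLocalization.mk' (Localization.AtPrime Q) d (⟨s, hs⟩ : Q.primeCompl) *
            algebraMap D (Localization.AtPrime Q) a * algebraMap D (Localization.AtPrime Q) s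
          = (IsLocalization.mk' (Localization.AtPrime Q) d (⟨s, hs⟩ : Q.primeCompl) *
            algebraMap D (Localization.AtPrime Q) s) * algebraMap D (Localization.AtPrime Q) a := by
              ring
        _ = algebraMap D (Localization.AtPrime Q) d * algebraMap D (Localization.AtPrime Q) a := by
              rw [IsLocalization.mk'_spec_mk]
        _ = algebraMap D (Localization.AtPrime Q) b * algebraMap D (Localization.AtPrime Q) s := by
              rw [← map_mul, ← hsd, map_mul, mul_comm]
    · have hu : IsUnit (algebraMap D (Localization.AtPrime Q) a) :=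
        IsLocalization.map_units (Localization.AtPrime Q)
          (⟨a, Ideal.mem_primeCompl_iff.mpr haQ⟩ : Q.primeCompl)
      rw [Ideal.span_singleton_eq_top.mpr hu]
      exact Submodule.mem_top
  obtain ⟨c, hc⟩ := Ideal.mem_span_singleton'.mp hmem
  exact ⟨c, by rw [← hc, mul_comm]⟩


end HeightOne

/-- Geometric divisibility criterion: let `X` be an integral scheme, `B` a Noetherian normal domain
and `φ : B → Γ(X, ⊤)` an injective ring map such that every prime of `B` is "hit" by a point of `X`
(in terms of basic opens). If `φ b * s = φ a` for a global function `s`, then `b ∣ a`. -/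
theorem dvd_of_points {X : Scheme.{u}} [IsIntegral X] {B : Type u} [CommRing B] [IsDomain B]
    [IsNoetherianRing B] [IsIntegrallyClosed B] (φ : B →+* Γ(X, ⊤)) (hφ : Function.Injective φ)
    (hpt : ∀ Q : Ideal B, Q.IsPrime → ∃ x : X, ∀ u : B, u ∈ Q ↔ x ∉ X.basicOpen (φ u))
    (s : Γ(X, ⊤)) (a b : B) (hb : b ≠ 0) (h : φ b * s = φ a) : ∃ r : B, a = b * r := by
  haveI : Nonempty (⊤ : X.Opens) := ⟨⟨genericPoint X, trivial⟩⟩
  refine dvd_of_forall_heightOne B b a hb ?_
  intro Q hQp hQ hbQ
  haveI := hQp
  haveI := isDVR B Q hQp hQ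
  have hφb : φ b ≠ 0 := fun h0 => hb (hφ (h0.trans (map_zero φ).symm))
  rcases ValuationRing.dvd_total (algebraMap B (Localization.AtPrime Q) b)
      (algebraMap B (Localization.AtPrime Q) a) with h1 | h1
  · obtain ⟨c, hc⟩ := h1
    obtain ⟨⟨d, t⟩, hdt⟩ := IsLocalization.surj Q.primeCompl c
    have h2 : algebraMap B (Localization.AtPrime Q) (a * t) =
        algebraMap B (Localization.AtPrime Q) (b * d) := by
      rw [map_mul, map_mul, hc, mul_assoc, hdt]
    obtain ⟨t', ht'⟩ := (IsLocalization.eq_iff_exists Q.primeCompl _).mp h2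
    refine ⟨t' * t, ?_, t' * d, ?_⟩
    · exact (Q.primeCompl.mul_mem t'.2 t.2)
    · linear_combination ht'
  · obtain ⟨c, hc⟩ := h1
    obtain ⟨⟨d, t⟩, hdt⟩ := IsLocalization.surj Q.primeCompl c
    have h2 : algebraMap B (Localization.AtPrime Q) (b * t) =
        algebraMap B (Localization.AtPrime Q) (a * d) := by
      rw [map_mul, map_mul, hc, mul_assoc, hdt]
    obtain ⟨t', ht'⟩ := (IsLocalization.eq_iff_exists Q.primeCompl _).mp h2
    by_cases hd : d ∈ Q
    · exfalso
      obtain ⟨x, hx⟩ := hpt Q hQp
      have e1 : φ ((t' : B) * t) = φ ((t' : B) * d) * s := by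
        apply mul_left_cancel₀ hφb
        calc φ b * φ ((t' : B) * t) = φ ((t' : B) * (b * t)) := by
              rw [← map_mul]; congr 1; ring
          _ = φ ((t' : B) * (a * d)) := by rw [ht']
          _ = φ ((t' : B) * d) * φ a := by rw [← map_mul]; congr 1; ring
          _ = φ b * (φ ((t' : B) * d) * s) := by rw [← h]; ring
      have hx1 : x ∈ X.basicOpen (φ ((t' : B) * t)) := by
        by_contra hcon
        exact (Q.primeCompl.mul_mem t'.2 t.2) ((hx _).mpr hcon)
      have hx2 : x ∉ X.basicOpen (φ ((t' : B) * d)) := (hx _).mp (Q.mul_mem_left _ hd)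
      rw [e1, Scheme.basicOpen_mul] at hx1
      exact hx2 hx1.1
    · refine ⟨t' * d, ?_, t' * t, ?_⟩
      · exact (Q.primeCompl.mul_mem t'.2 hd)
      · linear_combination -ht'

end Groth.Agent.H19.HeightOne
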