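import Mathlib

/-!
# Lifting `k`-points along a morphism of schemes locally of finite type over an
algebraically closed field
-/

set_option autoImplicit false
universe u
open CategoryTheory AlgebraicGeometry

namespace Groth.Agent.H19.KPointLift

/-- Over an algebraically closed field `k`, a `k`-point of `Z` whose image point lies in the range
of a `k`-morphism `q : X ⟶ Z` (with `X` locally of finite type over `k`) lifts to a `k`-point
of `X`. -/
theorem exists_kpoint_lift {k : Type u} [Field k] [IsAlgClosed k] {X Z : Scheme.{u}}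
    (sX : X ⟶ Spec (CommRingCat.of k)) (sZ : Z ⟶ Spec (CommRingCat.of k))
    [LocallyOfFiniteType sX] [LocallyOfFiniteType sZ]
    (q : X ⟶ Z) (hq : q ≫ sZ = sX) (a : Spec (CommRingCat.of k) ⟶ Z) (ha : a ≫ sZ = 𝟙 _)
    (hmem : a (IsLocalRing.closedPoint k) ∈ Set.range q) :
    ∃ x : Spec (CommRingCat.of k) ⟶ X, x ≫ sX = 𝟙 _ ∧ x ≫ q = a := by
  have : JacobsonSpace X := LocallyOfFiniteType.jacobsonSpace sX
  -- the image point is closed
  have hzcl : IsClosed ({a (IsLocalRing.closedPoint k)} : Set Z) :=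
    ((pointEquivClosedPoint sZ) ⟨a, ha⟩).2
  have hcl : IsClosed (q ⁻¹' {a (IsLocalRing.closedPoint k)}) := hzcl.preimage q.continuous
  have hne : (q ⁻¹' {a (IsLocalRing.closedPoint k)}).Nonempty := by
    obtain ⟨x, hx⟩ := hmem
    exact ⟨x, hx⟩
  obtain ⟨w, hw, hwc⟩ := nonempty_inter_closedPoints hne hcl.isLocallyClosed
  have hwc' : IsClosed ({w} : Set X) := hwc
  refine ⟨pointOfClosedPoint sX w hwc', pointOfClosedPoint_comp _ _ _, ?_⟩
  refine ext_of_apply_closedPoint_eq sZ ?_ ha ?_
  · rw [Category.assoc, hq]; exact pointOfClosedPoint_comp _ _ _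
  · have h1 : (pointOfClosedPoint sX w hwc' ≫ q) (IsLocalRing.closedPoint k)
        = q (pointOfClosedPoint sX w hwc' (IsLocalRing.closedPoint k)) := rfl
    have h2 : pointOfClosedPoint sX w hwc' (IsLocalRing.closedPoint k) = w :=
      pointOfClosedPoint_apply sX w hwc' _
    rw [h1, h2]
    exact hw

end Groth.Agent.H19.KPointLift
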