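import Mathlib
import Groth.Agent.S13425
import Groth.Agent.H38.GenericConstr
import Groth.Agent.H93.NormExt1
import Groth.Agent.H19.HeightOne
import Groth.Agent.H19.KPointLift

/-!
# Functions constant on the fibres of a surjective morphism onto a normal variety descend
(affine target case)
-/

set_option autoImplicit false
set_option linter.style.haveILetI false
universe u
open CategoryTheory AlgebraicGeometry TopologicalSpace Opposite Topology

namespace Groth.Agent.H19.FibConst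

/-- If the restriction of `p' : Z ⟶ Y` to a nonempty open `W` of the integral scheme `Z` is an
open immersion into the affine scheme `Y`, then every global function on `Z` is a fraction of
pulled-back global functions of `Y`. -/
theorem exists_frac_of_isOpenImmersion {Z Y : Scheme.{u}} [IsIntegral Z] [IsAffine Y]
    (W : Z.Opens) (p' : Z ⟶ Y) [IsOpenImmersion (W.ι ≫ p')] [Nonempty W] (T : Γ(Z, ⊤)) :
    ∃ (a b : Γ(Y, ⊤)) (n : ℕ), b ≠ 0 ∧ T * (p'.appTop.hom b) ^ n = p'.appTop.hom a := by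
  obtain ⟨v⟩ := ‹Nonempty W›
  have hy : (W.ι ≫ p') v ∈ (W.ι ≫ p').opensRange := ⟨v, rfl⟩
  obtain ⟨_, ⟨b, rfl⟩, hyb, hbO⟩ := (Opens.isBasis_iff_nbhd.mp (isBasis_basicOpen Y)) hy
  have hb : b ≠ 0 := by
    rintro rfl
    rw [Scheme.basicOpen_zero] at hyb
    exact hyb
  haveI : IsIso ((W.ι ≫ p').app (Y.basicOpen b)) := Scheme.Hom.isIso_app _ _ hbO
  -- the restriction map `ρ : Γ(Z, ⊤) → Γ(W, j⁻¹ U')`
  let ρ : Γ(Z, ⊤) ⟶ Γ(W, (W.ι ≫ p') ⁻¹ᵁ Y.basicOpen b) :=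
    Z.presheaf.map (homOfLE (le_top : p' ⁻¹ᵁ Y.basicOpen b ≤ ⊤)).op ≫
      W.ι.app (p' ⁻¹ᵁ Y.basicOpen b)
  have hρinj : Function.Injective ρ.hom := by
    haveI : Nonempty ↥(W.ι ''ᵁ W.ι ⁻¹ᵁ (p' ⁻¹ᵁ Y.basicOpen b)) :=
      ⟨⟨W.ι v, ⟨v, hyb, rfl⟩⟩⟩
    have h1 : ρ = Z.presheaf.map (homOfLE (le_top :
        W.ι ''ᵁ W.ι ⁻¹ᵁ (p' ⁻¹ᵁ Y.basicOpen b) ≤ ⊤)).op := by
      dsimp only [ρ]
      rw [Scheme.Opens.ι_app]
      exact (Z.presheaf.map_comp _ _).symm
    rw [h1]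
    exact map_injective_of_isIntegral Z _ (H := this)
  -- compatibility with pullback of global functions of `Y`
  have hρ : ∀ x : Γ(Y, ⊤), ((W.ι ≫ p').app (Y.basicOpen b)).hom
      (algebraMap Γ(Y, ⊤) Γ(Y, Y.basicOpen b) x) = ρ.hom (p'.appTop.hom x) := by
    intro x
    have h2 : Y.presheaf.map (homOfLE (Y.basicOpen_le b)).op ≫ (W.ι ≫ p').app (Y.basicOpen b)
        = p'.appTop ≫ ρ := by
      dsimp only [ρ]
      rw [Scheme.Hom.comp_app]
      have hnat : Y.presheaf.map (homOfLE (Y.basicOpen_le b)).op ≫ p'.app (Y.basicOpen b) =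
          p'.appTop ≫ Z.presheaf.map (homOfLE (le_top : p' ⁻¹ᵁ Y.basicOpen b ≤ ⊤)).op :=
        p'.naturality (homOfLE (Y.basicOpen_le b)).op
      exact ((Category.assoc _ _ _).symm.trans
        ((congrArg (· ≫ W.ι.app (p' ⁻¹ᵁ Y.basicOpen b)) hnat).trans (Category.assoc _ _ _)))
    exact congr($h2 x)
  obtain ⟨t, ht⟩ : ∃ t : Γ(Y, Y.basicOpen b), ((W.ι ≫ p').app (Y.basicOpen b)).hom t = ρ.hom T :=
    ((ConcreteCategory.isIso_iff_bijective ((W.ι ≫ p').app (Y.basicOpen b))).mp inferInstance).2 _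
  haveI hloc : IsLocalization.Away b Γ(Y, Y.basicOpen b) :=
    (isAffineOpen_top Y).isLocalization_basicOpen b
  obtain ⟨⟨a, ⟨_, n, rfl⟩⟩, hat⟩ := IsLocalization.surj (Submonoid.powers b) t
  refine ⟨a, b, n, hb, hρinj ?_⟩
  have h3 := congrArg ((W.ι ≫ p').app (Y.basicOpen b)).hom hat
  simp only [map_mul, map_pow] at h3
  rw [ht, hρ, hρ] at h3
  rw [map_mul, map_pow]
  exact h3

/-- A surjective morphism onto a reduced scheme is injective on global functions. -/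
theorem appTop_injective_of_surjective {X Y : Scheme.{u}} [IsReduced Y] (f : X ⟶ Y)
    (hsurj : Function.Surjective f) : Function.Injective f.appTop.hom := by
  rw [injective_iff_map_eq_zero]
  intro r hr
  have h1 : Y.basicOpen r = ⊥ := by
    rw [eq_bot_iff]
    intro y hy
    obtain ⟨x, rfl⟩ := hsurj y
    have h2 : x ∈ f ⁻¹ᵁ Y.basicOpen r := hy
    rw [Scheme.preimage_basicOpen_top, hr, Scheme.basicOpen_zero] at h2
    exact h2
  exact (basicOpen_eq_bot_iff r).mp h1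

theorem app_injective_of_surjective {X Y : Scheme.{u}} [IsReduced Y] (f : X ⟶ Y)
    (hsurj : Function.Surjective f) (V : Y.Opens) : Function.Injective (f.app V).hom := by
  rw [injective_iff_map_eq_zero]
  intro r hr
  have h1 : Y.basicOpen r = ⊥ := by
    rw [eq_bot_iff]
    intro y hy
    obtain ⟨x, rfl⟩ := hsurj y
    have h2 : x ∈ f ⁻¹ᵁ Y.basicOpen r := hy
    rw [Scheme.preimage_basicOpen, hr, Scheme.basicOpen_zero] at h2
    exact h2
  exact (basicOpen_eq_bot_iff r).mp h1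

theorem app_res {X Y : Scheme.{u}} (f : X ⟶ Y) {U D : Y.Opens} (h : D ≤ U) (c : Γ(Y, U)) :
    (f.app D).hom ((Y.presheaf.map (homOfLE h).op).hom c) =
      (X.presheaf.map (homOfLE (f.preimage_mono h)).op).hom ((f.app U).hom c) :=
  congrArg (fun ψ : Γ(Y, U) ⟶ Γ(X, f ⁻¹ᵁ D) => ψ.hom c) (f.naturality (homOfLE h).op)

theorem res_res {Z : Scheme.{u}} {U V W : Z.Opens} (h1 : V ≤ U) (h2 : W ≤ V) (s : Γ(Z, U)) :
    (Z.presheaf.map (homOfLE h2).op).hom ((Z.presheaf.map (homOfLE h1).op).hom s) =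
      (Z.presheaf.map (homOfLE (h2.trans h1)).op).hom s := by
  change (Z.presheaf.map (homOfLE h1).op ≫ Z.presheaf.map (homOfLE h2).op).hom s = _
  rw [← Functor.map_comp]
  rfl

section Affine

variable {k : Type u} [Field k] [IsAlgClosed k] [CharZero k]

set_option maxHeartbeats 1600000 in
theorem affine_case
    {X Y : Scheme.{u}} (sX : X ⟶ Spec (CommRingCat.of k)) (sY : Y ⟶ Spec (CommRingCat.of k))
    [IsIntegral X] [IsIntegral Y] [IsAffine Y] [LocallyOfFiniteType sX] [QuasiCompact sX]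
    [LocallyOfFiniteType sY]
    (hY : Pi1.IsNormalScheme Y)
    (f : X ⟶ Y) (hf : f ≫ sY = sX) (hsurj : Function.Surjective f)
    (s : Γ(X, ⊤))
    (hs : ∀ x₁ x₂ : Spec (CommRingCat.of k) ⟶ X,
      x₁ ≫ sX = 𝟙 _ → x₂ ≫ sX = 𝟙 _ → x₁ ≫ f = x₂ ≫ f →
        x₁.appTop.hom s = x₂.appTop.hom s) :
    ∃ r : Γ(Y, ⊤), f.appTop.hom r = s := by
  have hφinj := appTop_injective_of_surjective f hsurj
  haveI : Nonempty (⊤ : X.Opens) := ⟨⟨genericPoint X, trivial⟩⟩
  haveI : Nonempty (⊤ : Y.Opens) := ⟨⟨genericPoint Y, trivial⟩⟩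
  letI : Algebra Γ(Y, ⊤) Γ(X, ⊤) := f.appTop.hom.toAlgebra
  let D : Subalgebra Γ(Y, ⊤) Γ(X, ⊤) := Algebra.adjoin Γ(Y, ⊤) {s}
  have hsD : s ∈ D := Algebra.subset_adjoin (Set.mem_singleton s)
  let ι' : CommRingCat.of D ⟶ Γ(X, ⊤) := CommRingCat.ofHom D.val.toRingHom
  let β : Γ(Y, ⊤) ⟶ CommRingCat.of D := CommRingCat.ofHom (algebraMap Γ(Y, ⊤) D)
  have hβι : β ≫ ι' = f.appTop := by ext x; rfl
  let q : X ⟶ Spec (CommRingCat.of D) := X.toSpecΓ ≫ Spec.map ι'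
  let p' : Spec (CommRingCat.of D) ⟶ Y := Spec.map β ≫ Y.isoSpec.inv
  have hqp : q ≫ p' = f := by
    dsimp only [q, p']
    rw [Category.assoc, ← Category.assoc (Spec.map ι'), ← Spec.map_comp, hβι,
      ← Scheme.toSpecΓ_naturality_assoc, ← Scheme.isoSpec_hom, Iso.hom_inv_id, Category.comp_id]
  -- finiteness
  have hβft : RingHom.FiniteType β.hom := by
    have h1 : Algebra.FiniteType Γ(Y, ⊤) D := by
      rw [← Subalgebra.fg_iff_finiteType]
      exact ⟨{s}, by simp [D]⟩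
    exact RingHom.finiteType_algebraMap.mpr h1
  haveI : LocallyOfFiniteType (Spec.map β) :=
    (HasRingHomProperty.Spec_iff (P := @LocallyOfFiniteType)).mpr hβft
  haveI : LocallyOfFiniteType p' := by dsimp only [p']; infer_instance
  let sD : Spec (CommRingCat.of D) ⟶ Spec (CommRingCat.of k) := p' ≫ sY
  have hqsD : q ≫ sD = sX := by
    dsimp only [sD]; rw [← Category.assoc, hqp, hf]
  haveI : LocallyOfFiniteType sD := by dsimp only [sD]; infer_instance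
  haveI : IsLocallyNoetherian (Spec (CommRingCat.of D)) :=
    LocallyOfFiniteType.isLocallyNoetherian sD
  haveI : IsLocallyNoetherian Y := LocallyOfFiniteType.isLocallyNoetherian sY
  haveI : LocallyOfFiniteType q := by
    haveI : LocallyOfFiniteType (q ≫ sD) := by rw [hqsD]; infer_instance
    exact locallyOfFiniteType_of_comp q sD
  haveI : LocallyOfFinitePresentation q :=
    LocallyOfFinitePresentation.iff_locallyOfFiniteType.mpr inferInstance
  haveI : CompactSpace X := QuasiCompact.compactSpace_of_compactSpace sX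
  haveI : QuasiCompact q := by dsimp only [q]; infer_instance
  haveI : IsDomain D := inferInstance
  haveI : IsIntegral (Spec (CommRingCat.of D)) := inferInstance
  -- dominance
  have hιinj : Function.Injective ι'.hom := Subtype.val_injective
  have hβinj : Function.Injective β.hom := by
    intro x y hxy
    apply hφinj
    have := congrArg ι'.hom hxy
    exact this
  have hdom_of_inj : ∀ {R S : CommRingCat.{u}} (g : R ⟶ S), Function.Injective g.hom →
      IsDominant (Spec.map g) := by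
    intro R S g hg
    refine ⟨?_⟩
    have h1 : DenseRange (PrimeSpectrum.comap g.hom) := by
      rw [PrimeSpectrum.denseRange_comap_iff_ker_le_nilRadical,
        (RingHom.injective_iff_ker_eq_bot _).mp hg]
      exact bot_le
    exact h1
  haveI : IsDominant (Spec.map ι') := hdom_of_inj ι' hιinj
  haveI : IsDominant (Spec.map β) := hdom_of_inj β hβinj
  haveI : IsDominant q := by dsimp only [q]; infer_instance
  have hgen : IsGenericPoint (q (genericPoint X))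
      (Set.univ : Set (Spec (CommRingCat.of D))) := by
    have h2 := (genericPoint_spec X).image q.continuous
    rwa [Set.image_univ, (IsDominant.denseRange (f := q)).closure_range] at h2
  -- Chevalley
  have hC : IsConstructible (Set.range q) := by
    have := Scheme.Hom.isConstructible_image q (s := Set.univ) IsConstructible.univ
    rwa [Set.image_univ] at this
  obtain ⟨U, hUo, hηU, hUC⟩ :=
    (Groth.Agent.H38.GenericConstr.nhds_or_of_isConstructible hgen hC).1 ⟨genericPoint X, rfl⟩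
  obtain ⟨_, ⟨d, rfl⟩, hηd, hdU⟩ :=
    PrimeSpectrum.isTopologicalBasis_basic_opens.exists_subset_of_mem_open hηU hUo
  let W : (Spec (CommRingCat.of D)).Opens := PrimeSpectrum.basicOpen d
  haveI hWne : Nonempty W := ⟨⟨q (genericPoint X), hηd⟩⟩
  have hWq : ∀ z : Spec (CommRingCat.of D), z ∈ W → z ∈ Set.range q := fun z hz => hUC (hdU hz)
  have hWaff : IsAffineOpen W := by
    dsimp only [W]
    rw [← basicOpen_eq_of_affine]
    exact (isAffineOpen_top _).basicOpen _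
  haveI : IsAffine (W : Scheme.{u}) := hWaff
  -- the morphism `j = W.ι ≫ p' : W ⟶ Y`
  haveI : IsDominant W.ι := Opens.isDominant_ι (W.isOpen.dense ⟨_, hηd⟩)
  haveI : IsDominant p' := by dsimp only [p']; infer_instance
  haveI : IsDominant (W.ι ≫ p') := inferInstance
  haveI : LocallyOfFiniteType ((W.ι ≫ p') ≫ sY) := inferInstance
  haveI : QuasiCompact sY := inferInstance
  haveI : IsSeparated sY := inferInstance
  haveI : IsSeparated ((W.ι ≫ p') ≫ sY) := inferInstance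
  haveI : QuasiCompact ((W.ι ≫ p') ≫ sY) := inferInstance
  haveI : IsIntegral (W : Scheme.{u}) := inferInstance
  have hinj : ∀ a₁ a₂ : Spec (CommRingCat.of k) ⟶ (W : Scheme.{u}),
      a₁ ≫ (W.ι ≫ p') ≫ sY = 𝟙 _ → a₂ ≫ (W.ι ≫ p') ≫ sY = 𝟙 _ →
      a₁ ≫ (W.ι ≫ p') = a₂ ≫ (W.ι ≫ p') → a₁ = a₂ := by
    intro a₁ a₂ h₁ h₂ h₁₂
    have hlift : ∀ a : Spec (CommRingCat.of k) ⟶ (W : Scheme.{u}),
        a ≫ (W.ι ≫ p') ≫ sY = 𝟙 _ →
        ∃ x : Spec (CommRingCat.of k) ⟶ X, x ≫ sX = 𝟙 _ ∧ x ≫ q = a ≫ W.ι := by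
      intro a ha
      refine Groth.Agent.H19.KPointLift.exists_kpoint_lift sX sD q hqsD (a ≫ W.ι) ?_ ?_
      · simpa only [Category.assoc, sD] using ha
      · apply hWq
        exact (a (IsLocalRing.closedPoint k)).2
    obtain ⟨x₁, hx₁, hx₁q⟩ := hlift a₁ h₁
    obtain ⟨x₂, hx₂, hx₂q⟩ := hlift a₂ h₂
    have hxf : x₁ ≫ f = x₂ ≫ f := by
      calc x₁ ≫ f = (x₁ ≫ q) ≫ p' := by rw [Category.assoc, hqp]
        _ = (a₁ ≫ W.ι) ≫ p' := by rw [hx₁q]
        _ = a₁ ≫ (W.ι ≫ p') := Category.assoc _ _ _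
        _ = a₂ ≫ (W.ι ≫ p') := h₁₂
        _ = (a₂ ≫ W.ι) ≫ p' := (Category.assoc _ _ _).symm
        _ = (x₂ ≫ q) ≫ p' := by rw [hx₂q]
        _ = x₂ ≫ f := by rw [Category.assoc, hqp]
    have hsx := hs x₁ x₂ hx₁ hx₂ hxf
    have key : ι' ≫ x₁.appTop = ι' ≫ x₂.appTop := by
      ext ⟨d, hd⟩
      show x₁.appTop.hom d = x₂.appTop.hom d
      induction hd using Algebra.adjoin_induction with
      | mem y hy => rw [Set.mem_singleton_iff.mp hy]; exact hsx
      | algebraMap b =>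
        show x₁.appTop.hom (f.appTop.hom b) = x₂.appTop.hom (f.appTop.hom b)
        have h5 : (x₁ ≫ f).appTop = (x₂ ≫ f).appTop := by rw [hxf]
        rw [Scheme.Hom.comp_appTop, Scheme.Hom.comp_appTop] at h5
        exact congr($h5 b)
      | add y z _ _ hy hz => rw [map_add, map_add, hy, hz]
      | mul y z _ _ hy hz => rw [map_mul, map_mul, hy, hz]
    have hq12 : x₁ ≫ q = x₂ ≫ q := by
      have e : ∀ x : Spec (CommRingCat.of k) ⟶ X,
          x ≫ q = (Spec (CommRingCat.of k)).toSpecΓ ≫ Spec.map (ι' ≫ x.appTop) := by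
        intro x
        dsimp only [q]
        rw [← Category.assoc, Scheme.toSpecΓ_naturality, Category.assoc, ← Spec.map_comp]
      rw [e, e, key]
    have : a₁ ≫ W.ι = a₂ ≫ W.ι := by rw [← hx₁q, ← hx₂q, hq12]
    exact (cancel_mono W.ι).mp this
  haveI : IsOpenImmersion (W.ι ≫ p') :=
    Groth.Agent.S13425.main ((W.ι ≫ p') ≫ sY) sY hY (W.ι ≫ p') rfl hinj
  -- `s` is a fraction
  obtain ⟨T, hqT⟩ : ∃ T : Γ(Spec (CommRingCat.of D), ⊤), q.appTop.hom T = s := by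
    refine ⟨(Scheme.ΓSpecIso (CommRingCat.of D)).inv.hom ⟨s, hsD⟩, ?_⟩
    have h1 : q.appTop = (Scheme.ΓSpecIso (CommRingCat.of D)).hom ≫ ι' := by
      dsimp only [q]
      rw [Scheme.Hom.comp_appTop, Scheme.toSpecΓ_appTop, Scheme.ΓSpecIso_naturality]
    rw [h1]
    change ι'.hom (((Scheme.ΓSpecIso (CommRingCat.of D)).inv ≫
      (Scheme.ΓSpecIso (CommRingCat.of D)).hom).hom ⟨s, hsD⟩) = s
    rw [Iso.inv_hom_id]
    rfl
  obtain ⟨a, b, n, hb, hT⟩ := exists_frac_of_isOpenImmersion W p' T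
  have hqpT : ∀ x : Γ(Y, ⊤), q.appTop.hom (p'.appTop.hom x) = f.appTop.hom x := by
    intro x
    have h1 : (q ≫ p').appTop = f.appTop := by rw [hqp]
    rw [Scheme.Hom.comp_appTop] at h1
    exact congr($h1 x)
  have hfrac : f.appTop.hom (b ^ n) * s = f.appTop.hom a := by
    have h1 : q.appTop.hom T * (q.appTop.hom (p'.appTop.hom b)) ^ n =
        q.appTop.hom (p'.appTop.hom a) := by
      rw [← hT, map_mul, map_pow]
    rw [hqT, hqpT, hqpT] at h1
    rw [map_pow, mul_comm]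
    exact h1
  -- normality
  haveI : IsNoetherianRing Γ(Y, ⊤) :=
    IsLocallyNoetherian.component_noetherian (X := Y) ⟨⊤, isAffineOpen_top Y⟩
  haveI : IsIntegrallyClosed Γ(Y, ⊤) := Groth.Agent.S2102.result Y hY
  have hpt : ∀ Q : Ideal Γ(Y, ⊤), Q.IsPrime →
      ∃ x : X, ∀ u : Γ(Y, ⊤), u ∈ Q ↔ x ∉ X.basicOpen (f.appTop.hom u) := by
    intro Q hQ
    obtain ⟨y, hy⟩ := Y.isoSpec.hom.surjective ⟨Q, hQ⟩
    obtain ⟨x, rfl⟩ := hsurj y
    refine ⟨x, fun u => ?_⟩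
    rw [← Scheme.preimage_basicOpen_top, ← Scheme.toSpecΓ_preimage_basicOpen]
    change u ∈ Q ↔ Y.toSpecΓ (f x) ∉ PrimeSpectrum.basicOpen u
    rw [← Scheme.isoSpec_hom, hy]
    exact not_not.symm
  obtain ⟨r, hr⟩ := Groth.Agent.H19.HeightOne.dvd_of_points f.appTop.hom hφinj hpt s a (b ^ n)
    (pow_ne_zero n hb) hfrac
  refine ⟨r, ?_⟩
  have hφb : f.appTop.hom (b ^ n) ≠ 0 := fun h0 =>
    (pow_ne_zero n hb) (hφinj (h0.trans (map_zero _).symm))
  apply mul_left_cancel₀ hφb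
  rw [hfrac, hr, map_mul]

/-- The local statement over an affine open `U` of `Y`. -/
theorem local_case
    {X Y : Scheme.{u}} (sX : X ⟶ Spec (CommRingCat.of k)) (sY : Y ⟶ Spec (CommRingCat.of k))
    [IsIntegral X] [IsIntegral Y] [LocallyOfFiniteType sX] [QuasiCompact sX]
    [LocallyOfFiniteType sY] [IsSeparated sY]
    (hY : Pi1.IsNormalScheme Y)
    (f : X ⟶ Y) (hf : f ≫ sY = sX) (hsurj : Function.Surjective f)
    (s : Γ(X, ⊤))
    (hs : ∀ x₁ x₂ : Spec (CommRingCat.of k) ⟶ X,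
      x₁ ≫ sX = 𝟙 _ → x₂ ≫ sX = 𝟙 _ → x₁ ≫ f = x₂ ≫ f →
        x₁.appTop.hom s = x₂.appTop.hom s)
    (U : Y.Opens) (hU : IsAffineOpen U) (hUne : (U : Set Y).Nonempty) :
    ∃ r : Γ(Y, U), (f.app U).hom r =
      (X.presheaf.map (homOfLE (le_top : f ⁻¹ᵁ U ≤ ⊤)).op).hom s := by
  obtain ⟨y₀, hy₀⟩ := hUne
  obtain ⟨x₀, hx₀⟩ := hsurj y₀
  haveI : Nonempty U := ⟨⟨y₀, hy₀⟩⟩
  haveI : Nonempty (f ⁻¹ᵁ U) := ⟨⟨x₀, by show f x₀ ∈ U; rw [hx₀]; exact hy₀⟩⟩
  haveI : IsAffine (U : Scheme.{u}) := hU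
  haveI : IsIntegral (U : Scheme.{u}) := inferInstance
  haveI : IsIntegral ((f ⁻¹ᵁ U : X.Opens) : Scheme.{u}) := inferInstance
  haveI : QuasiCompact (f ≫ sY) := by rw [hf]; infer_instance
  haveI : QuasiCompact f := QuasiCompact.of_comp f sY
  have hcomp : (f ⁻¹ᵁ U).ι ≫ sX = (f ∣_ U) ≫ U.ι ≫ sY := by
    rw [← Category.assoc, morphismRestrict_ι, Category.assoc, hf]
  haveI : QuasiCompact ((f ⁻¹ᵁ U).ι ≫ sX) := by rw [hcomp]; infer_instance
  have hsurj' : Function.Surjective (f ∣_ U) := by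
    intro y
    obtain ⟨x, hx⟩ := hsurj y.1
    refine ⟨⟨x, by show f x ∈ U; rw [hx]; exact y.2⟩, Subtype.ext ?_⟩
    exact (morphismRestrict_base_coe f U _).trans hx
  obtain ⟨r', hr'⟩ := affine_case ((f ⁻¹ᵁ U).ι ≫ sX) (U.ι ≫ sY)
    (Groth.Agent.H93.NormExt.isNormalScheme_opens hY U) (f ∣_ U) hcomp.symm hsurj'
    ((f ⁻¹ᵁ U).ι.appTop.hom s) (by
      intro x₁ x₂ h₁ h₂ h₁₂
      have h3 := hs (x₁ ≫ (f ⁻¹ᵁ U).ι) (x₂ ≫ (f ⁻¹ᵁ U).ι)
        (by rw [Category.assoc]; exact h₁) (by rw [Category.assoc]; exact h₂)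
        (by rw [Category.assoc, Category.assoc, ← morphismRestrict_ι, ← Category.assoc,
          ← Category.assoc, h₁₂])
      rw [Scheme.Hom.comp_appTop, Scheme.Hom.comp_appTop] at h3
      exact h3)
  have e1 : U.ι ''ᵁ ⊤ = U := U.ι_image_top
  have eO : (f ⁻¹ᵁ U).ι ''ᵁ ⊤ = f ⁻¹ᵁ U := (f ⁻¹ᵁ U).ι_image_top
  refine ⟨(Y.presheaf.map (eqToHom e1.symm).op).hom r', ?_⟩
  have hinjO : Function.Injective (X.presheaf.map (eqToHom eO).op).hom := by
    have : IsIso (X.presheaf.map (eqToHom eO).op) := inferInstance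
    exact ((ConcreteCategory.isIso_iff_bijective _).mp this).1
  apply hinjO
  have hle : (f ⁻¹ᵁ U).ι ''ᵁ ⊤ ≤ f ⁻¹ᵁ (U.ι ''ᵁ ⊤) := by rw [eO, e1]
  have hL : Y.presheaf.map (eqToHom e1.symm).op ≫ f.app U ≫ X.presheaf.map (eqToHom eO).op =
      f.appLE (U.ι ''ᵁ ⊤) ((f ⁻¹ᵁ U).ι ''ᵁ ⊤) hle := by
    rw [Scheme.Hom.app_eq_appLE, Scheme.Hom.appLE_map, Scheme.Hom.map_appLE]
  have hR : X.presheaf.map (homOfLE (le_top : f ⁻¹ᵁ U ≤ ⊤)).op ≫ X.presheaf.map (eqToHom eO).op =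
      (f ⁻¹ᵁ U).ι.appTop := by
    rw [← Functor.map_comp]
    rfl
  have hM : (f ∣_ U).appTop = f.appLE (U.ι ''ᵁ ⊤) ((f ⁻¹ᵁ U).ι ''ᵁ ⊤) hle := by
    rw [Scheme.Hom.appTop, Scheme.Hom.app_eq_appLE, morphismRestrict_appLE]
    rfl
  have step1 : (X.presheaf.map (eqToHom eO).op).hom ((f.app U).hom
        ((Y.presheaf.map (eqToHom e1.symm).op).hom r')) =
      (f.appLE (U.ι ''ᵁ ⊤) ((f ⁻¹ᵁ U).ι ''ᵁ ⊤) hle).hom r' := congr($hL r')
  have step2 : (f.appLE (U.ι ''ᵁ ⊤) ((f ⁻¹ᵁ U).ι ''ᵁ ⊤) hle).hom r' =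
      (f ⁻¹ᵁ U).ι.appTop.hom s := by
    rw [← hM]; exact hr'
  have step3 : (X.presheaf.map (eqToHom eO).op).hom
      ((X.presheaf.map (homOfLE (le_top : f ⁻¹ᵁ U ≤ ⊤)).op).hom s) =
      (f ⁻¹ᵁ U).ι.appTop.hom s := congr($hR s)
  exact step1.trans (step2.trans step3.symm)

/-- **Functions constant on fibres descend**: `k` algebraically closed of characteristic zero,
`X`, `Y` integral of finite type over `k`, `Y` normal and separated, `f : X ⟶ Y` surjective.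
A global function on `X` taking equal values at `k`-points with the same image is pulled back
from `Y`. -/
theorem main
    {X Y : Scheme.{u}} (sX : X ⟶ Spec (CommRingCat.of k)) (sY : Y ⟶ Spec (CommRingCat.of k))
    [IsIntegral X] [IsIntegral Y] [LocallyOfFiniteType sX] [QuasiCompact sX]
    [LocallyOfFiniteType sY] [IsSeparated sY]
    (hY : Pi1.IsNormalScheme Y)
    (f : X ⟶ Y) (hf : f ≫ sY = sX) (hsurj : Function.Surjective f)
    (s : Γ(X, ⊤))
    (hs : ∀ x₁ x₂ : Spec (CommRingCat.of k) ⟶ X,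
      x₁ ≫ sX = 𝟙 _ → x₂ ≫ sX = 𝟙 _ → x₁ ≫ f = x₂ ≫ f →
        x₁.appTop.hom s = x₂.appTop.hom s) :
    ∃ r : Γ(Y, ⊤), f.appTop.hom r = s := by
  let J := {U : Y.Opens // IsAffineOpen U ∧ (U : Set Y).Nonempty}
  have hcover : (⊤ : Y.Opens) ≤ ⨆ i : J, i.1 := by
    intro y _
    obtain ⟨U, hU, hyU, -⟩ :=
      (Opens.isBasis_iff_nbhd.mp Y.isBasis_affineOpens) (show y ∈ (⊤ : Y.Opens) from trivial)
    exact Opens.mem_iSup.mpr ⟨⟨U, hU, ⟨y, hyU⟩⟩, hyU⟩
  have hex : ∀ i : J, ∃ a : Γ(Y, i.1), (f.app i.1).hom a =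
      (X.presheaf.map (homOfLE (le_top : f ⁻¹ᵁ i.1 ≤ ⊤)).op).hom s := fun i =>
    local_case sX sY hY f hf hsurj s hs i.1 i.2.1 i.2.2
  choose a ha using hex
  have hinj := app_injective_of_surjective f hsurj
  have hcompat : TopCat.Presheaf.IsCompatible Y.sheaf.1 (fun i : J => i.1) a := by
    intro i j
    apply hinj (i.1 ⊓ j.1)
    change (f.app (i.1 ⊓ j.1)).hom ((Y.presheaf.map (homOfLE inf_le_left).op).hom (a i)) =
      (f.app (i.1 ⊓ j.1)).hom ((Y.presheaf.map (homOfLE inf_le_right).op).hom (a j))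
    rw [app_res, app_res, ha, ha, res_res, res_res]
  obtain ⟨a0, ha0, -⟩ := TopCat.Sheaf.existsUnique_gluing' (C := CommRingCat.{u}) Y.sheaf
    (fun i : J => i.1) ⊤ (fun i => homOfLE le_top) hcover a hcompat
  refine ⟨a0, ?_⟩
  refine TopCat.Sheaf.eq_of_locally_eq' (C := CommRingCat.{u}) X.sheaf
    (fun i : J => f ⁻¹ᵁ i.1) ⊤ (fun i => homOfLE le_top) ?_ _ _ ?_
  · intro x _
    obtain ⟨i, hi⟩ := Opens.mem_iSup.mp (hcover (show f x ∈ (⊤ : Y.Opens) from trivial))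
    exact Opens.mem_iSup.mpr ⟨i, hi⟩
  · intro i
    change (X.presheaf.map (homOfLE (le_top : f ⁻¹ᵁ i.1 ≤ ⊤)).op).hom ((f.app ⊤).hom a0) =
      (X.presheaf.map (homOfLE (le_top : f ⁻¹ᵁ i.1 ≤ ⊤)).op).hom s
    exact ((app_res f (le_top : i.1 ≤ ⊤) a0).symm.trans
      (congrArg (f.app i.1).hom (ha0 i))).trans (ha i)

end Affine

end Groth.Agent.H19.FibConst
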