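import Mathlib

/-! For a finite morphism `g : Z ⟶ X` and `x : X`, the points of `Z` over `x` correspond to the
maximal ideals of the stalk `(g_* O_Z)_x`. -/

set_option autoImplicit false
set_option linter.style.haveILetI false
set_option linter.unusedSectionVars false
universe u
open AlgebraicGeometry CategoryTheory TopologicalSpace Opposite

namespace Groth.Agent.H19.FinStalk

/-- Points of an affine open are separated by basic opens. -/
theorem eq_of_forall_basicOpen {X : Scheme.{u}} {U : X.Opens} (hU : IsAffineOpen U) (x y : X)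
    (hx : x ∈ U) (hy : y ∈ U)
    (h : ∀ b : Γ(X, U), x ∈ X.basicOpen b ↔ y ∈ X.basicOpen b) : x = y := by
  apply Inseparable.eq
  rw [inseparable_iff_forall_isOpen]
  intro W hW
  constructor
  · intro hxW
    obtain ⟨b, hb, hxb⟩ := hU.exists_basicOpen_le (V := ⟨W, hW⟩) ⟨x, hxW⟩ hx
    exact hb ((h b).mp hxb)
  · intro hyW
    obtain ⟨b, hb, hyb⟩ := hU.exists_basicOpen_le (V := ⟨W, hW⟩) ⟨y, hyW⟩ hy
    exact hb ((h b).mpr hyb)

variable {Z X : Scheme.{u}} (g : Z ⟶ X)

/-- The canonical map `O_{X,x} → (g_* O_Z)_x`. -/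
noncomputable def sigma (x : X) : X.presheaf.stalk x ⟶ (g.base _* Z.presheaf).stalk x :=
  (TopCat.Presheaf.stalkFunctor CommRingCat x).map g.c

theorem sigma_germ (x : X) (U : X.Opens) (hxU : x ∈ U) (a : Γ(X, U)) :
    (sigma g x).hom ((X.presheaf.germ U x hxU).hom a) =
      ((g.base _* Z.presheaf).germ U x hxU).hom ((g.app U).hom a) :=
  TopCat.Presheaf.stalkFunctor_map_germ_apply U x hxU g.c a

theorem sigma_isIntegral [IsFinite g] (x : X) : (sigma g x).hom.IsIntegral := by
  intro c
  obtain ⟨W, hxW, s, rfl⟩ := TopCat.Presheaf.exists_germ_eq (g.base _* Z.presheaf) c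
  obtain ⟨_, ⟨W', hW', rfl⟩, hxW', hW'W⟩ :=
    X.isBasis_affineOpens.exists_subset_of_mem_open hxW W.isOpen
  have hle : W' ≤ W := hW'W
  have hs' : ((g.base _* Z.presheaf).germ W' x hxW').hom
      (((g.base _* Z.presheaf).map (homOfLE hle).op).hom s) =
      ((g.base _* Z.presheaf).germ W x hxW).hom s :=
    TopCat.Presheaf.germ_res_apply _ (homOfLE hle) x hxW' s
  change (sigma g x).hom.IsIntegralElem (((g.base _* Z.presheaf).germ W x hxW).hom s)
  rw [← hs']
  obtain ⟨p, hp, hp0⟩ := (IsFinite.finite_app g W' hW').to_isIntegral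
    (((g.base _* Z.presheaf).map (homOfLE hle).op).hom s)
  refine ⟨p.map (X.presheaf.germ W' x hxW').hom, hp.map _, ?_⟩
  rw [Polynomial.eval₂_map]
  have hcomp : (sigma g x).hom.comp (X.presheaf.germ W' x hxW').hom =
      ((g.base _* Z.presheaf).germ W' x hxW').hom.comp (g.app W').hom := by
    ext a
    exact sigma_germ g x W' hxW' a
  rw [hcomp, ← Polynomial.hom_eval₂, hp0, map_zero]

theorem isUnit_germ_app (x : X) (U : X.Opens) (hxU : x ∈ U) (a : Γ(X, U))
    (hxa : x ∈ X.basicOpen a) :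
    IsUnit (((g.base _* Z.presheaf).germ U x hxU).hom ((g.app U).hom a)) := by
  rw [← sigma_germ]
  exact ((Scheme.mem_basicOpen X a x hxU).mp hxa).map (sigma g x).hom

/-- Every element of `(g_* O_Z)_x` is a fraction `b / a` with `b` a section over `g⁻¹ U`. -/
theorem exists_frac [IsAffineHom g] (x : X) (U : X.Opens) (hU : IsAffineOpen U) (hxU : x ∈ U)
    (c : (g.base _* Z.presheaf).stalk x) :
    ∃ (b : Γ(Z, g ⁻¹ᵁ U)) (a : Γ(X, U)), x ∈ X.basicOpen a ∧
      c * ((g.base _* Z.presheaf).germ U x hxU).hom ((g.app U).hom a) =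
        ((g.base _* Z.presheaf).germ U x hxU).hom b := by
  obtain ⟨W, hxW, s, rfl⟩ := TopCat.Presheaf.exists_germ_eq (g.base _* Z.presheaf) c
  obtain ⟨a, haW, hxa⟩ := hU.exists_basicOpen_le (V := W) ⟨x, hxW⟩ hxU
  have hV : IsAffineOpen (g ⁻¹ᵁ U) := hU.preimage g
  have hDU : X.basicOpen a ≤ U := X.basicOpen_le a
  let j : X.basicOpen a ⟶ U := homOfLE hDU
  let i : g ⁻¹ᵁ (X.basicOpen a) ⟶ g ⁻¹ᵁ U := (Opens.map g.base).map j
  have hloc := hV.isLocalization_of_eq_basicOpen ((g.app U).hom a) i (Scheme.preimage_basicOpen g a)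
  letI : Algebra Γ(Z, g ⁻¹ᵁ U) Γ(Z, g ⁻¹ᵁ (X.basicOpen a)) := (Z.presheaf.map i.op).hom.toAlgebra
  haveI : IsLocalization.Away ((g.app U).hom a) Γ(Z, g ⁻¹ᵁ (X.basicOpen a)) := hloc
  obtain ⟨⟨b, m⟩, hbm⟩ := IsLocalization.surj (S := Γ(Z, g ⁻¹ᵁ (X.basicOpen a)))
    (Submonoid.powers ((g.app U).hom a)) (((g.base _* Z.presheaf).map (homOfLE haW).op).hom s)
  obtain ⟨n, hn⟩ := m.2
  refine ⟨b, a ^ n, ?_, ?_⟩
  · rw [Scheme.mem_basicOpen X _ x hxU, map_pow]
    exact ((Scheme.mem_basicOpen X a x hxU).mp hxa).pow n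
  · have h1 := congrArg ((g.base _* Z.presheaf).germ (X.basicOpen a) x hxa).hom hbm
    rw [map_mul] at h1
    have e1 : ((g.base _* Z.presheaf).germ (X.basicOpen a) x hxa).hom
        (((g.base _* Z.presheaf).map (homOfLE haW).op).hom s) =
        ((g.base _* Z.presheaf).germ W x hxW).hom s :=
      TopCat.Presheaf.germ_res_apply _ (homOfLE haW) x hxa s
    have e2 : ∀ t : Γ(Z, g ⁻¹ᵁ U), ((g.base _* Z.presheaf).germ (X.basicOpen a) x hxa).hom
        ((Z.presheaf.map i.op).hom t) = ((g.base _* Z.presheaf).germ U x hxU).hom t :=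
      fun t => TopCat.Presheaf.germ_res_apply (g.base _* Z.presheaf) j x hxa t
    rw [e1] at h1
    change _ * ((g.base _* Z.presheaf).germ (X.basicOpen a) x hxa).hom
        ((Z.presheaf.map i.op).hom m.1) =
      ((g.base _* Z.presheaf).germ (X.basicOpen a) x hxa).hom ((Z.presheaf.map i.op).hom b) at h1
    rw [e2, e2] at h1
    rw [map_pow]
    change _ * ((g.base _* Z.presheaf).germ U x hxU).hom (((g.app U).hom a) ^ n) = _
    have hn' : ((g.app U).hom a) ^ n = m.1 := hn
    rw [hn']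
    exact h1

theorem ideal_ext_of_comap [IsAffineHom g] (x : X) (U : X.Opens) (hU : IsAffineOpen U)
    (hxU : x ∈ U) (I J : Ideal ((g.base _* Z.presheaf).stalk x))
    (h : I.comap ((g.base _* Z.presheaf).germ U x hxU).hom =
      J.comap ((g.base _* Z.presheaf).germ U x hxU).hom) : I = J := by
  ext c
  obtain ⟨b, a, hxa, hc⟩ := exists_frac g x U hU hxU c
  have hu := isUnit_germ_app g x U hxU a hxa
  rw [← Ideal.mul_unit_mem_iff_mem I hu, ← Ideal.mul_unit_mem_iff_mem J hu, hc]
  exact Ideal.ext_iff.mp h b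

theorem psi_germ (x : X) (z : Z) (hz : g.base z = x) (U : X.Opens) (hxU : x ∈ U)
    (hzU : z ∈ g ⁻¹ᵁ U) (b : Γ(Z, g ⁻¹ᵁ U)) :
    (((g.base _* Z.presheaf).stalkCongr (Inseparable.of_eq hz)).inv ≫
        TopCat.Presheaf.stalkPushforward CommRingCat g.base Z.presheaf z).hom
      (((g.base _* Z.presheaf).germ U x hxU).hom b) =
      (Z.presheaf.germ (g ⁻¹ᵁ U) z hzU).hom b := by
  subst hz
  have e : ((g.base _* Z.presheaf).stalkCongr (Inseparable.of_eq (rfl : g.base z = g.base z))).inv =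
      𝟙 _ := TopCat.Presheaf.stalkSpecializes_refl _ _
  rw [e, Category.id_comp]
  exact congr($(TopCat.Presheaf.stalkPushforward_germ CommRingCat g.base Z.presheaf U z hxU) b)

theorem main [IsFinite g] (x : X) :
    Set.BijOn (fun z : {z : Z // g.base z = x} =>
        Ideal.comap (((g.base _* Z.presheaf).stalkCongr (Inseparable.of_eq z.2)).inv ≫
            TopCat.Presheaf.stalkPushforward CommRingCat g.base Z.presheaf z.1).hom
          (IsLocalRing.maximalIdeal (Z.presheaf.stalk z.1)))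
      Set.univ {I : Ideal ((g.base _* Z.presheaf).stalk x) | I.IsMaximal} := by
  obtain ⟨_, ⟨U, hU, rfl⟩, hxU, -⟩ :=
    X.isBasis_affineOpens.exists_subset_of_mem_open (Set.mem_univ x) isOpen_univ
  have hV : IsAffineOpen (g ⁻¹ᵁ U) := hU.preimage g
  have hmemV : ∀ (z : Z), g.base z = x → z ∈ g ⁻¹ᵁ U := by
    intro z hz
    change g.base z ∈ U
    rw [hz]; exact hxU
  have key : ∀ (z : Z) (hz : g.base z = x),
      (Ideal.comap (((g.base _* Z.presheaf).stalkCongr (Inseparable.of_eq hz)).inv ≫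
            TopCat.Presheaf.stalkPushforward CommRingCat g.base Z.presheaf z).hom
          (IsLocalRing.maximalIdeal (Z.presheaf.stalk z))).comap
        ((g.base _* Z.presheaf).germ U x hxU).hom =
      Ideal.comap (Z.presheaf.germ (g ⁻¹ᵁ U) z (hmemV z hz)).hom
        (IsLocalRing.maximalIdeal (Z.presheaf.stalk z)) := by
    intro z hz
    ext b
    simp only [Ideal.mem_comap]
    rw [psi_germ g x z hz U hxU (hmemV z hz) b]
  refine ⟨?_, ?_, ?_⟩
  · rintro ⟨z, hz⟩ -
    simp only [Set.mem_ofPred_eq]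
    haveI : (Ideal.comap (((g.base _* Z.presheaf).stalkCongr (Inseparable.of_eq hz)).inv ≫
            TopCat.Presheaf.stalkPushforward CommRingCat g.base Z.presheaf z).hom
          (IsLocalRing.maximalIdeal (Z.presheaf.stalk z))).IsPrime := Ideal.comap_isPrime _ _
    refine Ideal.isMaximal_of_isIntegral_of_isMaximal_comap' (sigma g x).hom
      (sigma_isIntegral g x) _ ?_
    have hcm : Ideal.comap (sigma g x).hom
        (Ideal.comap (((g.base _* Z.presheaf).stalkCongr (Inseparable.of_eq hz)).inv ≫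
            TopCat.Presheaf.stalkPushforward CommRingCat g.base Z.presheaf z).hom
          (IsLocalRing.maximalIdeal (Z.presheaf.stalk z))) =
        IsLocalRing.maximalIdeal (X.presheaf.stalk x) := by
      ext t
      obtain ⟨W, hxW, a, rfl⟩ := TopCat.Presheaf.exists_germ_eq X.presheaf t
      have hzW : z ∈ g ⁻¹ᵁ W := by
        change g.base z ∈ W
        rw [hz]; exact hxW
      simp only [Ideal.mem_comap]
      change (((g.base _* Z.presheaf).stalkCongr (Inseparable.of_eq hz)).inv ≫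
            TopCat.Presheaf.stalkPushforward CommRingCat g.base Z.presheaf z).hom
          ((sigma g x).hom ((X.presheaf.germ W x hxW).hom a)) ∈ _ ↔
        (X.presheaf.germ W x hxW).hom a ∈ _
      rw [sigma_germ, psi_germ g x z hz W hxW hzW]
      rw [IsLocalRing.mem_maximalIdeal, IsLocalRing.mem_maximalIdeal, mem_nonunits_iff,
        mem_nonunits_iff, not_iff_not]
      have h1 := Scheme.mem_basicOpen Z ((g.app W).hom a) z hzW
      have h2 := Scheme.mem_basicOpen X a x hxW
      rw [← Scheme.preimage_basicOpen] at h1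
      refine h1.symm.trans (Iff.trans ?_ h2)
      change g.base z ∈ X.basicOpen a ↔ _
      rw [hz]
    rw [hcm]
    exact IsLocalRing.maximalIdeal.isMaximal _
  · rintro ⟨z, hz⟩ - ⟨z', hz'⟩ - h
    have h' := congrArg (Ideal.comap ((g.base _* Z.presheaf).germ U x hxU).hom) h
    simp only at h'
    rw [key z hz, key z' hz'] at h'
    have hzz : z = z' := eq_of_forall_basicOpen hV z z' (hmemV z hz) (hmemV z' hz') (fun b => by
      rw [Scheme.mem_basicOpen Z b z (hmemV z hz), Scheme.mem_basicOpen Z b z' (hmemV z' hz')]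
      have := Ideal.ext_iff.mp h' b
      simp only [Ideal.mem_comap, IsLocalRing.mem_maximalIdeal, mem_nonunits_iff] at this
      exact not_iff_not.mp this)
    exact Subtype.ext hzz
  · intro M hM
    have hM : M.IsMaximal := hM
    haveI : M.IsPrime := hM.isPrime
    haveI : (M.comap ((g.base _* Z.presheaf).germ U x hxU).hom).IsPrime := Ideal.comap_isPrime _ _
    let z : Z := hV.fromSpec ⟨M.comap ((g.base _* Z.presheaf).germ U x hxU).hom, inferInstance⟩
    have hzV : z ∈ g ⁻¹ᵁ U := by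
      rw [← SetLike.mem_coe, ← hV.range_fromSpec]
      exact ⟨_, rfl⟩
    have hzb : ∀ b : Γ(Z, g ⁻¹ᵁ U), z ∈ Z.basicOpen b ↔
        b ∉ M.comap ((g.base _* Z.presheaf).germ U x hxU).hom := by
      intro b
      change (⟨M.comap ((g.base _* Z.presheaf).germ U x hxU).hom, inferInstance⟩ :
        PrimeSpectrum Γ(Z, g ⁻¹ᵁ U)) ∈ hV.fromSpec ⁻¹ᵁ Z.basicOpen b ↔ _
      rw [hV.fromSpec_preimage_basicOpen]
      rfl
    have hσM : M.comap (sigma g x).hom = IsLocalRing.maximalIdeal _ := by
      have := Ideal.isMaximal_comap_of_isIntegral_of_isMaximal' (sigma g x).hom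
        (sigma_isIntegral g x) M
      exact IsLocalRing.eq_maximalIdeal this
    have hgz : g.base z = x := by
      refine eq_of_forall_basicOpen hU _ _ hzV hxU (fun a => ?_)
      have h1 : g.base z ∈ X.basicOpen a ↔ z ∈ Z.basicOpen ((g.app U).hom a) := by
        rw [← Scheme.preimage_basicOpen]; rfl
      rw [h1, hzb, Scheme.mem_basicOpen X a x hxU]
      change ¬ (((g.base _* Z.presheaf).germ U x hxU).hom ((g.app U).hom a) ∈ M) ↔ _
      rw [← sigma_germ, ← Ideal.mem_comap, hσM, IsLocalRing.mem_maximalIdeal, mem_nonunits_iff,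
        not_not]
    refine ⟨⟨z, hgz⟩, Set.mem_univ _, ?_⟩
    apply ideal_ext_of_comap g x U hU hxU
    change (Ideal.comap (((g.base _* Z.presheaf).stalkCongr (Inseparable.of_eq hgz)).inv ≫
            TopCat.Presheaf.stalkPushforward CommRingCat g.base Z.presheaf z).hom
          (IsLocalRing.maximalIdeal (Z.presheaf.stalk z))).comap
        ((g.base _* Z.presheaf).germ U x hxU).hom = _
    rw [key z hgz]
    ext b
    rw [Ideal.mem_comap, IsLocalRing.mem_maximalIdeal, mem_nonunits_iff,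
      ← Scheme.mem_basicOpen Z b z hzV, hzb, not_not]

end Groth.Agent.H19.FinStalk
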