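import Mathlib
import Groth.Agent.H19.FinStalk

/-! More on the stalk `(g_* O_Z)_x` of a finite morphism: finiteness, the maps to `O_{Z,z}`,
integrality, unramifiedness. -/

set_option autoImplicit false
set_option linter.style.haveILetI false
set_option linter.unusedSectionVars false
universe u
open AlgebraicGeometry CategoryTheory TopologicalSpace Opposite

namespace Groth.Agent.H19.FinStalk

variable {Z X : Scheme.{u}} (g : Z ⟶ X)

/-- The canonical map `(g_* O_Z)_x → O_{Z,z}` for `z` over `x`. -/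
noncomputable def psi (x : X) (z : Z) (hz : g.base z = x) :
    (g.base _* Z.presheaf).stalk x ⟶ Z.presheaf.stalk z :=
  ((g.base _* Z.presheaf).stalkCongr (Inseparable.of_eq hz)).inv ≫
    TopCat.Presheaf.stalkPushforward CommRingCat g.base Z.presheaf z

theorem psi_germ' (x : X) (z : Z) (hz : g.base z = x) (U : X.Opens) (hxU : x ∈ U)
    (hzU : z ∈ g ⁻¹ᵁ U) (b : Γ(Z, g ⁻¹ᵁ U)) :
    (psi g x z hz).hom (((g.base _* Z.presheaf).germ U x hxU).hom b) =
      (Z.presheaf.germ (g ⁻¹ᵁ U) z hzU).hom b :=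
  psi_germ g x z hz U hxU hzU b

theorem psi_sigma_germ (x : X) (z : Z) (hz : g.base z = x) (W : X.Opens) (hxW : x ∈ W)
    (hzW : z ∈ g ⁻¹ᵁ W) (a : Γ(X, W)) :
    (psi g x z hz).hom ((sigma g x).hom ((X.presheaf.germ W x hxW).hom a)) =
      (Z.presheaf.germ (g ⁻¹ᵁ W) z hzW).hom ((g.app W).hom a) := by
  rw [sigma_germ]
  exact psi_germ g x z hz W hxW hzW _

theorem mem_preimage_of_eq (x : X) (z : Z) (hz : g.base z = x) (W : X.Opens) (hxW : x ∈ W) :
    z ∈ g ⁻¹ᵁ W := by
  change g.base z ∈ W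
  rw [hz]; exact hxW

theorem sigma_finite [IsFinite g] (x : X) : (sigma g x).hom.Finite := by
  obtain ⟨_, ⟨U, hU, rfl⟩, hxU, -⟩ :=
    X.isBasis_affineOpens.exists_subset_of_mem_open (Set.mem_univ x) isOpen_univ
  have hfin := IsFinite.finite_app g U hU
  letI := (g.app U).hom.toAlgebra
  letI := (sigma g x).hom.toAlgebra
  have hfin' : Module.Finite Γ(X, U) Γ(Z, g ⁻¹ᵁ U) := hfin
  obtain ⟨s, hs⟩ := hfin'.fg_top
  change Module.Finite (X.presheaf.stalk x) ((g.base _* Z.presheaf).stalk x)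
  classical
  refine ⟨⟨s.image ((g.base _* Z.presheaf).germ U x hxU).hom, ?_⟩⟩
  rw [eq_top_iff]
  rintro c -
  have hγ : ∀ b : Γ(Z, g ⁻¹ᵁ U), b ∈ Submodule.span Γ(X, U) (s : Set Γ(Z, g ⁻¹ᵁ U)) →
      ((g.base _* Z.presheaf).germ U x hxU).hom b ∈ Submodule.span (X.presheaf.stalk x)
      (↑(s.image ((g.base _* Z.presheaf).germ U x hxU).hom) :
        Set ((g.base _* Z.presheaf).stalk x)) := by
    intro b hb
    induction hb using Submodule.span_induction with
    | mem y hy =>
      exact Submodule.subset_span (by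
        rw [Finset.coe_image]; exact ⟨y, hy, rfl⟩)
    | zero => rw [map_zero]; exact Submodule.zero_mem _
    | add y z _ _ hy hz => rw [map_add]; exact add_mem hy hz
    | smul r y _ hy =>
      have : ((g.base _* Z.presheaf).germ U x hxU).hom (r • y) =
          (X.presheaf.germ U x hxU).hom r • ((g.base _* Z.presheaf).germ U x hxU).hom y := by
        rw [Algebra.smul_def, Algebra.smul_def, map_mul]
        congr 1
        exact (sigma_germ g x U hxU r).symm
      rw [this]
      exact Submodule.smul_mem _ _ hy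
  obtain ⟨b, a, hxa, hc⟩ := exists_frac g x U hU hxU c
  have hγb := hγ b (by rw [hs]; trivial)
  have hu : IsUnit ((X.presheaf.germ U x hxU).hom a) := (Scheme.mem_basicOpen X a x hxU).mp hxa
  obtain ⟨u, hu'⟩ := hu
  have hcu : c = (↑u⁻¹ : X.presheaf.stalk x) • ((g.base _* Z.presheaf).germ U x hxU).hom b := by
    rw [← hc, Algebra.smul_def, ← sigma_germ g x U hxU a, ← hu']
    change c = (sigma g x).hom ↑u⁻¹ * (c * (sigma g x).hom ↑u)
    rw [mul_comm c, ← mul_assoc, ← map_mul, Units.inv_mul, map_one, one_mul]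
  rw [hcu]
  exact Submodule.smul_mem _ _ hγb

theorem psi_injective [IsIntegral Z] (x : X) (z : Z) (hz : g.base z = x) :
    Function.Injective (psi g x z hz).hom := by
  rw [injective_iff_map_eq_zero]
  intro c hc
  obtain ⟨W, hxW, s, rfl⟩ := TopCat.Presheaf.exists_germ_eq (g.base _* Z.presheaf) c
  have hzW := mem_preimage_of_eq g x z hz W hxW
  change (psi g x z hz).hom (((g.base _* Z.presheaf).germ W x hxW).hom s) = 0 at hc
  rw [psi_germ' g x z hz W hxW hzW] at hc
  have h0 : s = 0 := germ_injective_of_isIntegral Z z hzW (hc.trans (map_zero _).symm)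
  rw [h0, map_zero]

theorem isLocalization_psi [IsIntegral Z] [IsAffineHom g] (x : X) (z : Z) (hz : g.base z = x) :
    letI := (psi g x z hz).hom.toAlgebra
    IsLocalization.AtPrime (Z.presheaf.stalk z)
      (Ideal.comap (psi g x z hz).hom (IsLocalRing.maximalIdeal (Z.presheaf.stalk z))) := by
  letI := (psi g x z hz).hom.toAlgebra
  obtain ⟨_, ⟨U, hU, rfl⟩, hxU, -⟩ :=
    X.isBasis_affineOpens.exists_subset_of_mem_open (Set.mem_univ x) isOpen_univ
  have hV : IsAffineOpen (g ⁻¹ᵁ U) := hU.preimage g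
  have hzV := mem_preimage_of_eq g x z hz U hxU
  change IsLocalization _ _
  rw [isLocalization_iff]
  refine ⟨?_, ?_, ?_⟩
  · rintro ⟨c, hc⟩
    change IsUnit ((psi g x z hz).hom c)
    have hc' : ¬ ((psi g x z hz).hom c ∈ IsLocalRing.maximalIdeal (Z.presheaf.stalk z)) := hc
    rw [IsLocalRing.mem_maximalIdeal, mem_nonunits_iff, not_not] at hc'
    exact hc'
  · intro ξ
    letI : Algebra Γ(Z, g ⁻¹ᵁ U) (Z.presheaf.stalk z) :=
      (Z.presheaf.germ (g ⁻¹ᵁ U) z hzV).hom.toAlgebra
    haveI : IsLocalization.AtPrime (Z.presheaf.stalk z)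
        (hV.primeIdealOf ⟨z, hzV⟩).asIdeal := hV.isLocalization_stalk ⟨z, hzV⟩
    obtain ⟨⟨b, b'⟩, hbb'⟩ := IsLocalization.surj (hV.primeIdealOf ⟨z, hzV⟩).asIdeal.primeCompl ξ
    have hbb'' : ξ * (Z.presheaf.germ (g ⁻¹ᵁ U) z hzV).hom b'.1 =
        (Z.presheaf.germ (g ⁻¹ᵁ U) z hzV).hom b := hbb'
    have hunit : IsUnit ((Z.presheaf.germ (g ⁻¹ᵁ U) z hzV).hom b'.1) :=
      IsLocalization.map_units (Z.presheaf.stalk z) b'
    refine ⟨(((g.base _* Z.presheaf).germ U x hxU).hom b,
      ⟨((g.base _* Z.presheaf).germ U x hxU).hom b'.1, ?_⟩), ?_⟩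
    · change ¬ ((psi g x z hz).hom (((g.base _* Z.presheaf).germ U x hxU).hom b'.1) ∈
        IsLocalRing.maximalIdeal (Z.presheaf.stalk z))
      rw [psi_germ' g x z hz U hxU hzV, IsLocalRing.mem_maximalIdeal, mem_nonunits_iff, not_not]
      exact hunit
    · change ξ * (psi g x z hz).hom (((g.base _* Z.presheaf).germ U x hxU).hom b'.1) =
        (psi g x z hz).hom (((g.base _* Z.presheaf).germ U x hxU).hom b)
      rw [psi_germ' g x z hz U hxU hzV, psi_germ' g x z hz U hxU hzV]
      exact hbb''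
  · intro c₁ c₂ h
    exact ⟨1, by rw [psi_injective g x z hz h]⟩

theorem sigma_injective [IsIntegral X] [IsIntegral Z] [Surjective g] (x : X) :
    Function.Injective (sigma g x).hom := by
  obtain ⟨z, hz⟩ := g.surjective x
  rw [injective_iff_map_eq_zero]
  intro t ht
  obtain ⟨W, hxW, a, rfl⟩ := TopCat.Presheaf.exists_germ_eq X.presheaf t
  have hzW := mem_preimage_of_eq g x z hz W hxW
  change (sigma g x).hom ((X.presheaf.germ W x hxW).hom a) = 0 at ht
  have h1 := congrArg (psi g x z hz).hom ht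
  rw [psi_sigma_germ g x z hz W hxW hzW, map_zero] at h1
  have h2 : (g.app W).hom a = 0 :=
    germ_injective_of_isIntegral Z z hzW (h1.trans (map_zero _).symm)
  by_contra hne
  have ha : a ≠ 0 := fun h => hne (by rw [h, map_zero])
  haveI : Nonempty W := ⟨⟨x, hxW⟩⟩
  have hD : X.basicOpen a ≠ ⊥ := by
    rw [Ne, AlgebraicGeometry.basicOpen_eq_bot_iff]
    intro hnil
    exact ha hnil
  obtain ⟨y, hy⟩ := (Opens.ne_bot_iff_nonempty _).mp hD
  obtain ⟨w, rfl⟩ := g.surjective y
  have hw : w ∈ Z.basicOpen ((g.app W).hom a) := by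
    rw [← Scheme.preimage_basicOpen]; exact hy
  rw [h2, Scheme.basicOpen_zero] at hw
  exact hw

theorem sigma_formallyUnramified [IsFinite g] [FormallyUnramified g] (x : X) :
    (sigma g x).hom.FormallyUnramified := by
  obtain ⟨_, ⟨U, hU, rfl⟩, hxU, -⟩ :=
    X.isBasis_affineOpens.exists_subset_of_mem_open (Set.mem_univ x) isOpen_univ
  have hV : IsAffineOpen (g ⁻¹ᵁ U) := hU.preimage g
  have hB : (g.appLE U (g ⁻¹ᵁ U) le_rfl).hom.FormallyUnramified :=
    FormallyUnramified.formallyUnramified_appLE g hU hV le_rfl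
  have hB' : (g.app U).hom.FormallyUnramified := by
    rw [Scheme.Hom.app_eq_appLE]; exact hB
  letI i1 : Algebra Γ(X, U) Γ(Z, g ⁻¹ᵁ U) := (g.app U).hom.toAlgebra
  letI i2 : Algebra Γ(X, U) (X.presheaf.stalk x) := (X.presheaf.germ U x hxU).hom.toAlgebra
  letI i3 : Algebra (X.presheaf.stalk x) ((g.base _* Z.presheaf).stalk x) :=
    (sigma g x).hom.toAlgebra
  letI i4 : Algebra Γ(Z, g ⁻¹ᵁ U) ((g.base _* Z.presheaf).stalk x) :=
    ((g.base _* Z.presheaf).germ U x hxU).hom.toAlgebra
  letI i5 : Algebra Γ(X, U) ((g.base _* Z.presheaf).stalk x) :=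
    (((g.base _* Z.presheaf).germ U x hxU).hom.comp (g.app U).hom).toAlgebra
  haveI : IsScalarTower Γ(X, U) Γ(Z, g ⁻¹ᵁ U) ((g.base _* Z.presheaf).stalk x) :=
    .of_algebraMap_eq' rfl
  haveI : IsScalarTower Γ(X, U) (X.presheaf.stalk x) ((g.base _* Z.presheaf).stalk x) :=
    .of_algebraMap_eq' (RingHom.ext fun a => (sigma_germ g x U hxU a).symm)
  haveI : SMulCommClass (X.presheaf.stalk x) Γ(Z, g ⁻¹ᵁ U) ((g.base _* Z.presheaf).stalk x) :=
    ⟨fun a b c => by
      rw [Algebra.smul_def, Algebra.smul_def, Algebra.smul_def, Algebra.smul_def]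
      ring⟩
  haveI : Algebra.FormallyUnramified Γ(X, U) Γ(Z, g ⁻¹ᵁ U) := hB'
  change Algebra.FormallyUnramified (X.presheaf.stalk x) ((g.base _* Z.presheaf).stalk x)
  constructor
  refine subsingleton_of_forall_eq 0 (fun ω => ?_)
  have hω : ω ∈ Submodule.span ((g.base _* Z.presheaf).stalk x)
      (Set.range (KaehlerDifferential.D (X.presheaf.stalk x)
        ((g.base _* Z.presheaf).stalk x))) := by
    rw [KaehlerDifferential.span_range_derivation]; trivial
  induction hω using Submodule.span_induction with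
  | mem y hy =>
    obtain ⟨c, rfl⟩ := hy
    obtain ⟨b, a, hxa, hc⟩ := exists_frac g x U hU hxU c
    have hDb : KaehlerDifferential.D (X.presheaf.stalk x) ((g.base _* Z.presheaf).stalk x)
        (((g.base _* Z.presheaf).germ U x hxU).hom b) = 0 := by
      have := KaehlerDifferential.map_D Γ(X, U) (X.presheaf.stalk x) Γ(Z, g ⁻¹ᵁ U)
        ((g.base _* Z.presheaf).stalk x) b
      rw [Subsingleton.elim (KaehlerDifferential.D Γ(X, U) Γ(Z, g ⁻¹ᵁ U) b) 0, map_zero] at this
      exact this.symm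
    have hDa : KaehlerDifferential.D (X.presheaf.stalk x) ((g.base _* Z.presheaf).stalk x)
        (((g.base _* Z.presheaf).germ U x hxU).hom ((g.app U).hom a)) = 0 := by
      rw [← sigma_germ g x U hxU a]
      exact Derivation.map_algebraMap _ _
    have h1 := congrArg (KaehlerDifferential.D (X.presheaf.stalk x)
      ((g.base _* Z.presheaf).stalk x)) hc
    rw [Derivation.leibniz, hDa, smul_zero, zero_add, hDb] at h1
    exact (isUnit_germ_app g x U hxU a hxa).smul_eq_zero.mp h1
  | zero => rfl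
  | add y z _ _ hy hz => rw [hy, hz, add_zero]
  | smul r y _ hy => rw [hy, smul_zero]

end Groth.Agent.H19.FinStalk
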