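import Mathlib
import Groth.Agent.H19.FinStalk2

/-! For a finite surjective morphism `π : Y ⟶ X` of integral schemes, if `(π_* O_Y)_p` is free
over `O_{X,p}` then its rank is the degree of the function field extension. -/

set_option autoImplicit false
set_option linter.style.haveILetI false
set_option linter.unusedSectionVars false
universe u
open AlgebraicGeometry CategoryTheory TopologicalSpace Opposite

namespace Groth.Agent.H19.FinDeg

open Groth.Agent.H19.FinStalk

theorem spec_germ {X : Scheme.{u}} {x y : X} (h : x ⤳ y) (W : X.Opens) (hy : y ∈ W)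
    (a : Γ(X, W)) :
    (X.presheaf.stalkSpecializes h).hom ((X.presheaf.germ W y hy).hom a) =
      (X.presheaf.germ W x (h.mem_open W.isOpen hy)).hom a :=
  congr($(TopCat.Presheaf.germ_stalkSpecializes X.presheaf hy h) a)

variable {X Y : Scheme.{u}} [IsIntegral X] [IsIntegral Y] (π : Y ⟶ X) [IsFinite π]
  [Surjective π] (e : π.base (genericPoint Y) = genericPoint X) (p : X)

theorem finrank_eq :
    letI := (sigma π p).hom.toAlgebra
    letI := (X.presheaf.stalkSpecializes (specializes_of_eq e) ≫
      π.stalkMap (genericPoint Y)).hom.toAlgebra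
    Module.Free (X.presheaf.stalk p) ((π.base _* Y.presheaf).stalk p) →
    Module.finrank (X.presheaf.stalk p) ((π.base _* Y.presheaf).stalk p) =
      Module.finrank X.functionField Y.functionField := by
  letI iAC : Algebra (X.presheaf.stalk p) ((π.base _* Y.presheaf).stalk p) :=
    (sigma π p).hom.toAlgebra
  letI iKL : Algebra X.functionField Y.functionField :=
    (X.presheaf.stalkSpecializes (specializes_of_eq e) ≫ π.stalkMap (genericPoint Y)).hom.toAlgebra
  intro hfree
  obtain ⟨q, hq⟩ := π.surjective p
  obtain ⟨_, ⟨U, hU, rfl⟩, hpU, -⟩ :=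
    X.isBasis_affineOpens.exists_subset_of_mem_open (Set.mem_univ p) isOpen_univ
  have hV : IsAffineOpen (π ⁻¹ᵁ U) := hU.preimage π
  have hqV := mem_preimage_of_eq π p q hq U hpU
  have hηq : genericPoint Y ⤳ q := (genericPoint_spec Y).specializes trivial
  let ρ : (π.base _* Y.presheaf).stalk p →+* Y.functionField :=
    (Y.presheaf.stalkSpecializes hηq).hom.comp (psi π p q hq).hom
  letI iCL : Algebra ((π.base _* Y.presheaf).stalk p) Y.functionField := ρ.toAlgebra
  letI iAL : Algebra (X.presheaf.stalk p) Y.functionField :=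
    (ρ.comp (sigma π p).hom).toAlgebra
  haveI : IsScalarTower (X.presheaf.stalk p) ((π.base _* Y.presheaf).stalk p) Y.functionField :=
    .of_algebraMap_eq' rfl
  haveI : IsScalarTower (X.presheaf.stalk p) X.functionField Y.functionField :=
    .of_algebraMap_eq' (by
      refine RingHom.ext fun t => ?_
      obtain ⟨W, hpW, a, rfl⟩ := TopCat.Presheaf.exists_germ_eq X.presheaf t
      have hqW := mem_preimage_of_eq π p q hq W hpW
      have hL : algebraMap (X.presheaf.stalk p) Y.functionField ((X.presheaf.germ W p hpW).hom a) =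
          (Y.presheaf.germ (π ⁻¹ᵁ W) (genericPoint Y) (hηq.mem_open (π ⁻¹ᵁ W).isOpen hqW)).hom
            ((π.app W).hom a) := by
        change (Y.presheaf.stalkSpecializes hηq).hom ((psi π p q hq).hom
          ((sigma π p).hom ((X.presheaf.germ W p hpW).hom a))) = _
        rw [psi_sigma_germ π p q hq W hpW hqW, spec_germ]
      have hR : (algebraMap X.functionField Y.functionField)
          (algebraMap (X.presheaf.stalk p) X.functionField ((X.presheaf.germ W p hpW).hom a)) =
          (Y.presheaf.germ (π ⁻¹ᵁ W) (genericPoint Y) (hηq.mem_open (π ⁻¹ᵁ W).isOpen hqW)).hom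
            ((π.app W).hom a) := by
        change (π.stalkMap (genericPoint Y)).hom
          ((X.presheaf.stalkSpecializes (specializes_of_eq e)).hom
            ((X.presheaf.stalkSpecializes ((genericPoint_spec X).specializes trivial)).hom
              ((X.presheaf.germ W p hpW).hom a))) = _
        rw [spec_germ, spec_germ]
        exact Scheme.Hom.germ_stalkMap_apply π W (genericPoint Y) _ a
      exact hL.trans hR.symm)
  have hρinj : Function.Injective ρ := by
    have h1 : Function.Injective (Y.presheaf.stalkSpecializes hηq).hom :=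
      IsFractionRing.injective (Y.presheaf.stalk q) Y.functionField
    exact h1.comp (psi_injective π p q hq)
  haveI : IsDomain ((π.base _* Y.presheaf).stalk p) :=
    (psi_injective π p q hq).isDomain (psi π p q hq).hom
  haveI : FaithfulSMul ((π.base _* Y.presheaf).stalk p) Y.functionField :=
    (faithfulSMul_iff_algebraMap_injective _ _).mpr hρinj
  haveI : FaithfulSMul (X.presheaf.stalk p) ((π.base _* Y.presheaf).stalk p) :=
    (faithfulSMul_iff_algebraMap_injective _ _).mpr (sigma_injective π p)
  haveI : Module.Finite (X.presheaf.stalk p) ((π.base _* Y.presheaf).stalk p) := sigma_finite π p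
  haveI : Algebra.IsIntegral (X.presheaf.stalk p) ((π.base _* Y.presheaf).stalk p) :=
    Algebra.IsIntegral.of_finite _ _
  haveI : Algebra.IsAlgebraic (X.presheaf.stalk p) ((π.base _* Y.presheaf).stalk p) :=
    Algebra.IsIntegral.isAlgebraic
  haveI : Nonempty ↥(π ⁻¹ᵁ U).toScheme := ⟨⟨q, hqV⟩⟩
  have hγ : ∀ b : Γ(Y, π ⁻¹ᵁ U), algebraMap ((π.base _* Y.presheaf).stalk p) Y.functionField
      (((π.base _* Y.presheaf).germ U p hpU).hom b) = algebraMap Γ(Y, π ⁻¹ᵁ U) Y.functionField b := by
    intro b
    change (Y.presheaf.stalkSpecializes hηq).hom ((psi π p q hq).hom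
      (((π.base _* Y.presheaf).germ U p hpU).hom b)) = _
    rw [psi_germ' π p q hq U hpU hqV, spec_germ]
    rfl
  haveI : IsFractionRing Γ(Y, π ⁻¹ᵁ U) Y.functionField :=
    functionField_isFractionRing_of_isAffineOpen Y (π ⁻¹ᵁ U) hV
  haveI : IsFractionRing ((π.base _* Y.presheaf).stalk p) Y.functionField :=
    IsFractionRing.of_field _ _ (fun z => by
      obtain ⟨b, b', -, rfl⟩ := IsFractionRing.div_surjective (A := Γ(Y, π ⁻¹ᵁ U)) z
      exact ⟨((π.base _* Y.presheaf).germ U p hpU).hom b,
        ((π.base _* Y.presheaf).germ U p hpU).hom b', by rw [hγ b, hγ b']⟩)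
  exact (Module.finrank_of_isLocalizedModule_of_free X.functionField
    (nonZeroDivisors (X.presheaf.stalk p))
    (IsScalarTower.toAlgHom (X.presheaf.stalk p) ((π.base _* Y.presheaf).stalk p)
      Y.functionField).toLinearMap).symm

end Groth.Agent.H19.FinDeg
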