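import Mathlib

/-! A finite free formally unramified algebra of rank `r` over a local ring with separably closed
residue field has exactly `r` maximal ideals. -/

set_option autoImplicit false
set_option linter.style.haveILetI false
set_option linter.unusedSectionVars false
universe u
open TensorProduct

namespace Groth.Agent.H19.UnramCount

variable (A : Type u) [CommRing A] [IsLocalRing A] (C : Type u) [CommRing C] [Algebra A C]

/-- The ring map `C → κ ⊗_A C`. -/
noncomputable def toFib : C →+* (IsLocalRing.ResidueField A) ⊗[A] C :=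
  (Algebra.TensorProduct.includeRight : C →ₐ[A] (IsLocalRing.ResidueField A) ⊗[A] C).toRingHom

theorem toFib_surjective : Function.Surjective (toFib A C) :=
  Algebra.TensorProduct.includeRight_surjective (R := A) (S := IsLocalRing.ResidueField A) C
    IsLocalRing.residue_surjective

theorem ker_toFib_le [Module.Finite A C] (M : Ideal C) [hM : M.IsMaximal] :
    RingHom.ker (toFib A C) ≤ M := by
  intro x hx
  have hcm : M.comap (algebraMap A C) = IsLocalRing.maximalIdeal A := by
    haveI : Algebra.IsIntegral A C := Algebra.IsIntegral.of_finite A C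
    haveI := Ideal.isMaximal_comap_of_isIntegral_of_isMaximal (R := A) M
    exact IsLocalRing.eq_maximalIdeal this
  have h1 : (1 : IsLocalRing.ResidueField A) ⊗ₜ[A] x = 0 := hx
  have h2 := (congrArg (TensorProduct.quotTensorEquivQuotSMul C (IsLocalRing.maximalIdeal A))
    h1).trans (LinearEquiv.map_zero _)
  have h3 : TensorProduct.quotTensorEquivQuotSMul C (IsLocalRing.maximalIdeal A)
      ((1 : A ⧸ IsLocalRing.maximalIdeal A) ⊗ₜ[A] x) = Submodule.Quotient.mk x :=
    TensorProduct.quotTensorEquivQuotSMul_mk_one_tmul _ x
  have h4 : (Submodule.Quotient.mk x :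
      C ⧸ (IsLocalRing.maximalIdeal A • (⊤ : Submodule A C))) = 0 := h3.symm.trans h2
  rw [Submodule.Quotient.mk_eq_zero] at h4
  refine Submodule.smul_induction_on h4 ?_ ?_
  · intro a ha c _
    rw [Algebra.smul_def]
    have : algebraMap A C a ∈ M := by
      rw [← Ideal.mem_comap, hcm]; exact ha
    exact M.mul_mem_right _ this
  · intro y z hy hz
    exact M.add_mem hy hz

variable [Module.Finite A C] [Module.Free A C] [Algebra.FormallyUnramified A C]
  [IsSepClosed (IsLocalRing.ResidueField A)]

theorem card_maximal_eq_finrank :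
    Nat.card {I : Ideal C // I.IsMaximal} = Module.finrank A C := by
  classical
  let κ := IsLocalRing.ResidueField A
  let T := κ ⊗[A] C
  haveI : Algebra.FormallyEtale κ T := Algebra.FormallyEtale.of_formallyUnramified_of_field κ T
  haveI : IsArtinianRing T := IsArtinianRing.of_finite κ T
  let e := Algebra.FormallyEtale.equivPiOfIsSepClosed κ T
  cases nonempty_fintype (PrimeSpectrum T)
  have h1 : Module.finrank κ T = Nat.card (PrimeSpectrum T) := by
    rw [LinearEquiv.finrank_eq e.toLinearEquiv, Module.finrank_fintype_fun_eq_card,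
      Nat.card_eq_fintype_card]
  have h2 : Module.finrank κ T = Module.finrank A C := Module.finrank_baseChange
  rw [← h2, h1]
  have hsurj := toFib_surjective A C
  refine Nat.card_congr (Equiv.ofBijective
    (fun I : {I : Ideal C // I.IsMaximal} =>
      (⟨I.1.map (toFib A C), ?_⟩ : PrimeSpectrum T)) ⟨?_, ?_⟩)
  · haveI := I.2
    have hcm : (I.1.map (toFib A C)).comap (toFib A C) = I.1 := by
      rw [Ideal.comap_map_of_surjective _ hsurj]
      exact sup_eq_left.mpr (ker_toFib_le A C I.1)
    rcases Ideal.map_eq_top_or_isMaximal_of_surjective _ hsurj I.2 with h | h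
    · exfalso
      rw [h, Ideal.comap_top] at hcm
      exact I.2.ne_top hcm.symm
    · exact h.isPrime
  · intro I J hIJ
    haveI := I.2
    haveI := J.2
    have h := congrArg (fun P : PrimeSpectrum T => P.asIdeal.comap (toFib A C)) hIJ
    simp only at h
    have hk : ∀ (M : Ideal C) [M.IsMaximal], M ⊔ Ideal.comap (toFib A C) ⊥ = M :=
      fun M _ => sup_eq_left.mpr (ker_toFib_le A C M)
    rw [Ideal.comap_map_of_surjective _ hsurj, Ideal.comap_map_of_surjective _ hsurj,
      hk I.1, hk J.1] at h
    exact Subtype.ext h
  · intro P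
    haveI : P.asIdeal.IsMaximal := IsArtinianRing.isMaximal_of_isPrime P.asIdeal
    refine ⟨⟨P.asIdeal.comap (toFib A C), Ideal.comap_isMaximal_of_surjective _ hsurj⟩, ?_⟩
    apply PrimeSpectrum.ext
    exact Ideal.map_comap_of_surjective _ hsurj _

end Groth.Agent.H19.UnramCount
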