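import Mathlib
import Groth.Agent.H19.FinStalk2
import Groth.Agent.H19.FinDeg
import Groth.Agent.H19.UnramCount
import Groth.Agent.H19.ClosedPtRes
import Groth.Agent.S14670
import Groth.Agent.H72.RegLoc
import Groth.Agent.H71.StalkLoc

/-! A finite surjective unramified morphism `π : Y ⟶ X` of regular integral schemes, `X` locally of
finite type over an algebraically closed field: every closed fibre has exactly `deg π` points. -/

set_option autoImplicit false
set_option linter.style.haveILetI false
set_option linter.unusedSectionVars false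
universe u
open AlgebraicGeometry CategoryTheory TopologicalSpace Opposite

namespace Groth.Agent.H19.FinFibreCount

open Groth.Agent.H19.FinStalk

theorem card_fibre_eq {k : Type u} [Field k] [IsAlgClosed k] {X Y : Scheme.{u}}
    [IsIntegral X] [IsIntegral Y]
    (fX : X ⟶ Spec (CommRingCat.of k)) [LocallyOfFiniteType fX]
    (hregX : ∀ x : X, IsRegularLocalRing (X.presheaf.stalk x))
    (hregY : ∀ y : Y, IsRegularLocalRing (Y.presheaf.stalk y))
    (π : Y ⟶ X) [IsFinite π] [Surjective π] [FormallyUnramified π]
    (e : π.base (genericPoint Y) = genericPoint X) (p : X) (hp : IsClosed ({p} : Set X)) :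
    Nat.card {q : Y // π.base q = p} =
      (letI := (X.presheaf.stalkSpecializes (specializes_of_eq e) ≫
        π.stalkMap (genericPoint Y)).hom.toAlgebra
       Module.finrank X.functionField Y.functionField) := by
  letI iAC : Algebra (X.presheaf.stalk p) ((π.base _* Y.presheaf).stalk p) :=
    (sigma π p).hom.toAlgebra
  haveI : IsRegularLocalRing (X.presheaf.stalk p) := hregX p
  obtain ⟨q₀, hq₀⟩ := π.surjective p
  haveI : IsDomain ((π.base _* Y.presheaf).stalk p) :=
    (psi_injective π p q₀ hq₀).isDomain (psi π p q₀ hq₀).hom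
  haveI : Module.Finite (X.presheaf.stalk p) ((π.base _* Y.presheaf).stalk p) := sigma_finite π p
  have hinj : Function.Injective
      (algebraMap (X.presheaf.stalk p) ((π.base _* Y.presheaf).stalk p)) := sigma_injective π p
  have hbij := main π p
  have hCM : ∀ (q' : Ideal ((π.base _* Y.presheaf).stalk p)) [q'.IsMaximal],
      LocCoh.IsCohenMacaulayLocalRing (Localization.AtPrime q') := by
    intro q' hq'
    obtain ⟨⟨y, hy⟩, -, hyq⟩ := hbij.surjOn
      (show q' ∈ {I : Ideal ((π.base _* Y.presheaf).stalk p) | I.IsMaximal} from hq')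
    have hyq' : Ideal.comap (psi π p y hy).hom
        (IsLocalRing.maximalIdeal (Y.presheaf.stalk y)) = q' := hyq
    subst hyq'
    letI : Algebra ((π.base _* Y.presheaf).stalk p) (Y.presheaf.stalk y) :=
      (psi π p y hy).hom.toAlgebra
    haveI hloc : IsLocalization.AtPrime (Y.presheaf.stalk y)
        (Ideal.comap (psi π p y hy).hom (IsLocalRing.maximalIdeal (Y.presheaf.stalk y))) :=
      isLocalization_psi π p y hy
    let eq : Localization.AtPrime (Ideal.comap (psi π p y hy).hom
        (IsLocalRing.maximalIdeal (Y.presheaf.stalk y))) ≃+* Y.presheaf.stalk y :=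
      (IsLocalization.algEquiv (Ideal.comap (psi π p y hy).hom
        (IsLocalRing.maximalIdeal (Y.presheaf.stalk y))).primeCompl
        (Localization.AtPrime (Ideal.comap (psi π p y hy).hom
          (IsLocalRing.maximalIdeal (Y.presheaf.stalk y))))
        (Y.presheaf.stalk y)).toRingEquiv
    haveI := hregY y
    exact Groth.Agent.H71.StalkLoc.isCM_of_ringEquiv eq
      ⟨Groth.Agent.H72.RegLoc.isCM_of_isRegularLocalRing _⟩
  haveI : Module.Flat (X.presheaf.stalk p) ((π.base _* Y.presheaf).stalk p) :=
    Groth.Agent.S14670.result _ _ hinj hCM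
  haveI : Module.Free (X.presheaf.stalk p) ((π.base _* Y.presheaf).stalk p) :=
    Module.free_of_flat_of_isLocalRing
  haveI : Algebra.FormallyUnramified (X.presheaf.stalk p) ((π.base _* Y.presheaf).stalk p) :=
    sigma_formallyUnramified π p
  haveI : IsSepClosed (IsLocalRing.ResidueField (X.presheaf.stalk p)) :=
    Groth.Agent.H19.ClosedPtRes.isSepClosed_residueField fX p hp
  have h1 : Nat.card {q : Y // π.base q = p} =
      Nat.card {I : Ideal ((π.base _* Y.presheaf).stalk p) // I.IsMaximal} :=
    Nat.card_congr ((Equiv.Set.univ _).symm.trans (Set.BijOn.equiv _ hbij))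
  rw [h1, Groth.Agent.H19.UnramCount.card_maximal_eq_finrank (X.presheaf.stalk p)
    ((π.base _* Y.presheaf).stalk p)]
  exact Groth.Agent.H19.FinDeg.finrank_eq π e p inferInstance

end Groth.Agent.H19.FinFibreCount
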