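import Mathlib
import Groth.Prelude.Def_FinFr
import Groth.Agent.H19.FixFrob

/-! The fixed-point scheme of the Frobenius of `X ⊗_k K` (`k` finite, `X` of finite type) has
finitely many points. -/

set_option autoImplicit false
set_option linter.style.haveILetI false
set_option linter.unusedSectionVars false
universe u
open AlgebraicGeometry CategoryTheory CategoryTheory.Limits TopologicalSpace

namespace Groth.Agent.H19.FixFrob

open Groth.Agent.H19.Coset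

/-- Points of an affine open are separated by basic opens. -/
theorem eq_of_forall_basicOpen {X : Scheme.{u}} {U : X.Opens} (hU : IsAffineOpen U) (x y : X)
    (hx : x ∈ U) (hy : y ∈ U)
    (h : ∀ b : Γ(X, U), x ∈ X.basicOpen b ↔ y ∈ X.basicOpen b) : x = y := by
  apply Inseparable.eq
  rw [inseparable_iff_forall_isOpen]
  intro W hW
  constructor
  · intro hxW
    obtain ⟨b, hb, hxb⟩ := hU.exists_basicOpen_le (V := ⟨W, hW⟩) ⟨x, hxW⟩ hx
    exact hb ((h b).mp hxb)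
  · intro hyW
    obtain ⟨b, hb, hyb⟩ := hU.exists_basicOpen_le (V := ⟨W, hW⟩) ⟨y, hyW⟩ hy
    exact hb ((h b).mpr hyb)

section fin

variable {k : Type u} [Field k] [Finite k] {K : Type u} [Field K] [Algebra k K]
  {X X₀ Z : Scheme.{u}} (f : X₀ ⟶ Spec (CommRingCat.of k))
  (π : X ⟶ X₀) (str : X ⟶ Spec (CommRingCat.of K))
  (hpb : IsPullback π str f (FinFr.specι k K))
  (FX : X₀ ⟶ X₀) (hle : ∀ U : X₀.Opens, U ≤ FX ⁻¹ᵁ U)
  (hFapp : ∀ (U : X₀.Opens) (s : Γ(X₀, U)), (FX.appLE U U (hle U)).hom s = s ^ Nat.card k)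
  (F : X ⟶ X) (hF1 : F ≫ π = π ≫ FX)
  (a : Z ⟶ X) (haF : a ≫ F = a)

/-- The structure map `k → Γ(X₀, U₀)`. -/
noncomputable def phi0 (U₀ : X₀.Opens) : k →+* Γ(X₀, U₀) :=
  (f.appLE ⊤ U₀ le_top).hom.comp (Scheme.ΓSpecIso (CommRingCat.of k)).inv.hom

theorem jk_eq (U₀ : X₀.Opens) (z : Z) (hz : a z ∈ π ⁻¹ᵁ U₀) (c : k) :
    jk f π a U₀ z hz c = theta a (π ⁻¹ᵁ U₀) z hz ((π.app U₀).hom (phi0 f U₀ c)) := rfl

include hpb in
theorem exists_jK_eq_jk (U₀ : X₀.Opens) (c : k) :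
    ∃ l : K, ∀ (z : Z) (hz : a z ∈ π ⁻¹ᵁ U₀), jk f π a U₀ z hz c = jK π str a U₀ z hz l := by
  have hsurjK := (ConcreteCategory.bijective_of_isIso (Scheme.ΓSpecIso (CommRingCat.of K)).inv).2
  obtain ⟨l, hl⟩ := hsurjK (((FinFr.specι k K).appLE ⊤ ⊤ le_top).hom
    ((Scheme.ΓSpecIso (CommRingCat.of k)).inv.hom c))
  refine ⟨l, fun z hz => ?_⟩
  have e1 : π ⁻¹ᵁ U₀ ≤ (π ≫ f) ⁻¹ᵁ ⊤ := fun _ _ => trivial
  have e2 : π ⁻¹ᵁ U₀ ≤ (str ≫ FinFr.specι k K) ⁻¹ᵁ ⊤ := fun _ _ => trivial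
  have h2 : (π.app U₀).hom ((f.appLE ⊤ U₀ le_top).hom
        ((Scheme.ΓSpecIso (CommRingCat.of k)).inv.hom c)) =
      (str.appLE ⊤ (π ⁻¹ᵁ U₀) le_top).hom (((FinFr.specι k K).appLE ⊤ ⊤ le_top).hom
        ((Scheme.ΓSpecIso (CommRingCat.of k)).inv.hom c)) := by
    rw [app_eq_appLE_hom π U₀, appLE_appLE π f ⊤ U₀ (π ⁻¹ᵁ U₀) le_top le_rfl e1,
      appLE_congr' _ _ hpb.w ⊤ (π ⁻¹ᵁ U₀) e1 e2,
      ← appLE_appLE str (FinFr.specι k K) ⊤ ⊤ (π ⁻¹ᵁ U₀) le_top le_top e2]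
  change theta a (π ⁻¹ᵁ U₀) z hz ((π.app U₀).hom ((f.appLE ⊤ U₀ le_top).hom
      ((Scheme.ΓSpecIso (CommRingCat.of k)).inv.hom c))) =
    theta a (π ⁻¹ᵁ U₀) z hz ((str.appLE ⊤ (π ⁻¹ᵁ U₀) le_top).hom
      ((Scheme.ΓSpecIso (CommRingCat.of K)).inv.hom l))
  rw [hl, h2]

include hpb in
theorem pair_mem_K (U₀ : X₀.Opens) (hU₀ : IsAffineOpen U₀) (z z' : Z) (hz : a z ∈ π ⁻¹ᵁ U₀)
    (hz' : a z' ∈ π ⁻¹ᵁ U₀)
    (h1 : ∀ t : Γ(X₀, U₀), ∃ c : k,
      theta a (π ⁻¹ᵁ U₀) z hz ((π.app U₀).hom t) = jk f π a U₀ z hz c ∧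
      theta a (π ⁻¹ᵁ U₀) z' hz' ((π.app U₀).hom t) = jk f π a U₀ z' hz' c)
    (b : Γ(X, π ⁻¹ᵁ U₀)) :
    ∃ l : K, theta a (π ⁻¹ᵁ U₀) z hz b = jK π str a U₀ z hz l ∧
      theta a (π ⁻¹ᵁ U₀) z' hz' b = jK π str a U₀ z' hz' l := by
  have hUY : π ⁻¹ᵁ U₀ = π ⁻¹ᵁ U₀ ⊓ str ⁻¹ᵁ ⊤ := by simp
  have hpo := (isIso_pushoutSection_iff hpb (US := ⊤) (UT := ⊤) (UX := U₀) le_top le_top hUY).mp
    (isIso_pushoutSection_of_isAffineOpen hpb le_top le_top hUY (isAffineOpen_top _)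
      (isAffineOpen_top _) hU₀)
  have hsurjK := (ConcreteCategory.bijective_of_isIso (Scheme.ΓSpecIso (CommRingCat.of K)).inv).2
  refine gen_of_isPushout _ _ _ _ hpo
    (fun b => ∃ l : K, theta a (π ⁻¹ᵁ U₀) z hz b = jK π str a U₀ z hz l ∧
      theta a (π ⁻¹ᵁ U₀) z' hz' b = jK π str a U₀ z' hz' l) ⟨0, by simp, by simp⟩ ?_ ?_ ?_ b
  · intro t
    obtain ⟨c, hc, hc'⟩ := h1 t
    obtain ⟨l, hl⟩ := exists_jK_eq_jk f π str hpb a U₀ c
    refine ⟨l, ?_, ?_⟩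
    · change theta a (π ⁻¹ᵁ U₀) z hz ((π.appLE U₀ (π ⁻¹ᵁ U₀) le_rfl).hom t) = _
      rw [← app_eq_appLE_hom, hc, hl]
    · change theta a (π ⁻¹ᵁ U₀) z' hz' ((π.appLE U₀ (π ⁻¹ᵁ U₀) le_rfl).hom t) = _
      rw [← app_eq_appLE_hom, hc', hl]
  · rintro a' x ⟨l, hl, hl'⟩
    obtain ⟨m, rfl⟩ := hsurjK a'
    refine ⟨m * l, ?_, ?_⟩
    · rw [map_mul, hl, map_mul]; rfl
    · rw [map_mul, hl', map_mul]; rfl
  · rintro x y ⟨l, hl, hl'⟩ ⟨m, hm, hm'⟩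
    exact ⟨l + m, by rw [map_add, map_add, hl, hm], by rw [map_add, map_add, hl', hm']⟩

theorem isUnit_jK_iff (U₀ : X₀.Opens) (z : Z) (hz : a z ∈ π ⁻¹ᵁ U₀) (l : K) :
    IsUnit (jK π str a U₀ z hz l) ↔ l ≠ 0 := by
  constructor
  · rintro h rfl
    rw [map_zero] at h
    exact not_isUnit_zero h
  · intro h
    exact (IsUnit.mk0 l h).map _

include hpb hle hFapp hF1 haF in
theorem finite_preimage_affine [LocallyOfFiniteType f] [IsPreimmersion a] (U₀ : X₀.Opens)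
    (hU₀ : IsAffineOpen U₀) : {z : Z | a z ∈ π ⁻¹ᵁ U₀}.Finite := by
  classical
  haveI : IsAffineHom π := MorphismProperty.of_isPullback (P := @IsAffineHom) hpb.flip inferInstance
  have hU : IsAffineOpen (π ⁻¹ᵁ U₀) := hU₀.preimage π
  have hft : (phi0 f U₀).FiniteType := by
    unfold phi0
    refine RingHom.FiniteType.comp (f.finiteType_appLE (isAffineOpen_top _) hU₀ le_top) ?_
    exact RingHom.FiniteType.of_surjective _
      (ConcreteCategory.bijective_of_isIso (Scheme.ΓSpecIso (CommRingCat.of k)).inv).2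
  letI := (phi0 f U₀).toAlgebra
  have hft' : Algebra.FiniteType k Γ(X₀, U₀) := hft
  obtain ⟨s, hs⟩ := hft'.out
  have hex : ∀ (z : {z : Z // a z ∈ π ⁻¹ᵁ U₀}) (t : Γ(X₀, U₀)), ∃ c : k,
      theta a (π ⁻¹ᵁ U₀) z.1 z.2 ((π.app U₀).hom t) = jk f π a U₀ z.1 z.2 c :=
    fun z t => theta_pull_mem_k f π FX hle hFapp F hF1 a haF U₀ z.1 z.2 t
  choose Φ hΦ using hex
  let Ψ : {z : Z // a z ∈ π ⁻¹ᵁ U₀} → (s → k) := fun z t => Φ z t.1
  have hinj : Function.Injective Ψ := by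
    rintro ⟨z, hz⟩ ⟨z', hz'⟩ hzz'
    have h1 : ∀ t : Γ(X₀, U₀), ∃ c : k,
        theta a (π ⁻¹ᵁ U₀) z hz ((π.app U₀).hom t) = jk f π a U₀ z hz c ∧
        theta a (π ⁻¹ᵁ U₀) z' hz' ((π.app U₀).hom t) = jk f π a U₀ z' hz' c := by
      intro t
      have ht : t ∈ Algebra.adjoin k (s : Set Γ(X₀, U₀)) := by rw [hs]; trivial
      induction ht using Algebra.adjoin_induction with
      | mem x hx =>
        refine ⟨Φ ⟨z, hz⟩ x, hΦ ⟨z, hz⟩ x, ?_⟩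
        have : Φ ⟨z, hz⟩ x = Φ ⟨z', hz'⟩ x := congrFun hzz' ⟨x, hx⟩
        rw [this]
        exact hΦ ⟨z', hz'⟩ x
      | algebraMap r => exact ⟨r, rfl, rfl⟩
      | add x y _ _ hx hy =>
        obtain ⟨c, h1, h2⟩ := hx
        obtain ⟨d, h3, h4⟩ := hy
        exact ⟨c + d, by rw [map_add, map_add, h1, h3, map_add],
          by rw [map_add, map_add, h2, h4, map_add]⟩
      | mul x y _ _ hx hy =>
        obtain ⟨c, h1, h2⟩ := hx
        obtain ⟨d, h3, h4⟩ := hy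
        exact ⟨c * d, by rw [map_mul, map_mul, h1, h3, map_mul],
          by rw [map_mul, map_mul, h2, h4, map_mul]⟩
    have h2 := pair_mem_K f π str hpb a U₀ hU₀ z z' hz hz' h1
    have h3 : a z = a z' := by
      refine eq_of_forall_basicOpen hU (a z) (a z') hz hz' (fun b => ?_)
      rw [← isUnit_theta_iff a _ z hz b, ← isUnit_theta_iff a _ z' hz' b]
      obtain ⟨l, hl, hl'⟩ := h2 b
      rw [hl, hl', isUnit_jK_iff, isUnit_jK_iff]
    exact Subtype.ext (a.isEmbedding.injective h3)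
  have hfin : Finite {z : Z // a z ∈ π ⁻¹ᵁ U₀} := Finite.of_injective Ψ hinj
  exact Set.finite_coe_iff.mp hfin

include hpb hle hFapp hF1 haF in
theorem finite_of_fix [LocallyOfFiniteType f] [CompactSpace X₀] [IsPreimmersion a] :
    Finite Z := by
  have key : ∀ T : Set X₀, IsCompact T → {z : Z | π (a z) ∈ T}.Finite := by
    intro T hT
    refine hT.induction_on (p := fun T => {z : Z | π (a z) ∈ T}.Finite) (by simp) ?_ ?_ ?_
    · intro s t hst ht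
      exact ht.subset (fun z hz => hst hz)
    · intro s t hs ht
      exact (hs.union ht).subset (fun z hz => hz)
    · intro x _
      obtain ⟨_, ⟨U₀, hU₀, rfl⟩, hxU, -⟩ :=
        (X₀.isBasis_affineOpens).exists_subset_of_mem_open (Set.mem_univ x) isOpen_univ
      exact ⟨U₀, mem_nhdsWithin_of_mem_nhds (U₀.2.mem_nhds hxU),
        finite_preimage_affine f π str hpb FX hle hFapp F hF1 a haF U₀ hU₀⟩
  have h := key Set.univ isCompact_univ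
  simp only [Set.mem_univ, Set.ofPred_true] at h
  exact Set.finite_univ_iff.mp h

end fin

section wrapper

variable {k : Type u} [Field k] [Finite k] {K : Type u} [Field K] [Algebra k K]
  {X₀ : Scheme.{u}} (f : X₀ ⟶ Spec (CommRingCat.of k)) (FX : X₀ ⟶ X₀)
  (hle : ∀ U : X₀.Opens, U ≤ FX ⁻¹ᵁ U)
  (hFapp : ∀ (U : X₀.Opens) (s : Γ(X₀, U)), (FX.appLE U U (hle U)).hom s = s ^ Nat.card k)
  (F : FinFr.ext K f ⟶ FinFr.ext K f)
  (hF1 : F ≫ FinFr.extπ K f = FinFr.extπ K f ≫ FX)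
  (hF2 : F ≫ FinFr.extStr K f = FinFr.extStr K f)

include hle hFapp hF1 in
theorem finite_fixScheme [LocallyOfFiniteType f] [QuasiCompact f] :
    Finite ↥(FinFr.fixScheme (FinFr.extStr K f) F hF2) := by
  haveI : CompactSpace X₀ := QuasiCompact.compactSpace_of_compactSpace f
  exact finite_of_fix f (FinFr.extπ K f) (FinFr.extStr K f)
    (IsPullback.of_hasPullback f (FinFr.specι k K)) FX hle hFapp F hF1
    (fixι f F hF2) (fixι_comp f F hF2)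

end wrapper

end Groth.Agent.H19.FixFrob
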