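import Mathlib
import Groth.Prelude.Def_RedSub

set_option autoImplicit false
universe u
open CategoryTheory CategoryTheory.Limits MonoidalCategory CartesianMonoidalCategory MonObj GrpObj AlgebraicGeometry

namespace Groth.Agent.H19.Free_AF

variable {S : Scheme.{u}} {G X : Over S} [GrpObj G] {M : Type} [AddCommGroup M]

theorem isAffineHom_fst {X Y Z : Scheme.{u}} (f : X ⟶ Z) (g : Y ⟶ Z) (hg : IsAffineHom g) :
    IsAffineHom (pullback.fst f g) :=
  MorphismProperty.IsStableUnderBaseChange.of_isPullback (P := @IsAffineHom)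
    (IsPullback.of_hasPullback f g).flip hg

theorem isAffineHom_snd {X Y Z : Scheme.{u}} (f : X ⟶ Z) (g : Y ⟶ Z) (hf : IsAffineHom f) :
    IsAffineHom (pullback.snd f g) :=
  MorphismProperty.IsStableUnderBaseChange.of_isPullback (P := @IsAffineHom)
    (IsPullback.of_hasPullback f g) hf

/-- (AF1) -/
theorem affineHom_tensor (A B : Over S) (hA : IsAffineHom A.hom) (hB : IsAffineHom B.hom) :
    IsAffineHom (A ⊗ B).hom := by
  rw [Over.tensorObj_hom]
  have : IsAffineHom (pullback.fst A.hom B.hom) := isAffineHom_fst A.hom B.hom hB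
  infer_instance

/-- (AF2) -/
theorem affineHom_of_iso_DS (e : G ≅ Red.DS S M) : IsAffineHom G.hom := by
  have h1 : IsAffineHom (Red.DS S M).hom := by
    have h0 : IsAffineHom (Red.diag (ULift.{u} ℤ) M).hom := by
      change IsAffineHom (Spec.map _)
      infer_instance
    exact isAffineHom_snd (Red.diag (ULift.{u} ℤ) M).hom
      (Limits.IsTerminal.from specULiftZIsTerminal S) h0
  have h2 : IsIso e.hom.left := (inferInstance : IsIso ((Over.forget S).map e.hom))
  rw [← Over.w e.hom]
  infer_instance

end Groth.Agent.H19.Free_AF
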