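import Mathlib

/-!
# Flat quasi-compact covers of affine opens from two flat morphisms, and openness descent
(helper19, requested by helper43 as (COV) for S5274/S5275/S5276/S16611)
-/

set_option autoImplicit false
universe u
open CategoryTheory AlgebraicGeometry TopologicalSpace

namespace Groth.Agent.H19.QcCover

/-- Auxiliary: from a compact open `W` of `S₁` with `f '' W = V` (`V` affine open), a flat,
surjective, quasi-compact morphism `W ⟶ V`. -/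
theorem exists_restrict {S S₁ : Scheme.{u}} (f : S₁ ⟶ S) [Flat f] (V : S.Opens)
    (hV : IsAffineOpen V) (W : S₁.Opens) (hW : IsCompact (W : Set S₁))
    (hWV : f.base '' (W : Set S₁) = (V : Set S)) :
    ∃ a : (W : Scheme.{u}) ⟶ (V : Scheme.{u}),
      Flat a ∧ Surjective a ∧ QuasiCompact a ∧ a ≫ V.ι = W.ι ≫ f := by
  have hle : W ≤ f ⁻¹ᵁ V := by
    intro w hw
    have : f.base w ∈ f.base '' (W : Set S₁) := ⟨w, hw, rfl⟩
    rw [hWV] at this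
    exact this
  haveI : IsAffine (V : Scheme.{u}) := hV
  have : Flat (f ∣_ V) := inferInstance
  refine ⟨S₁.homOfLE hle ≫ (f ∣_ V), inferInstance, ⟨?_⟩, ?_, ?_⟩
  · intro v
    have hv : v.1 ∈ f.base '' (W : Set S₁) := by rw [hWV]; exact v.2
    obtain ⟨w, hw, hwv⟩ := hv
    refine ⟨⟨w, hw⟩, Subtype.ext ?_⟩
    have h1 : ((S₁.homOfLE hle ≫ (f ∣_ V)) ⟨w, hw⟩ : (V : Scheme.{u})).1 =
        f ((S₁.homOfLE hle ⟨w, hw⟩ : (f ⁻¹ᵁ V : S₁.Opens)).1) :=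
      morphismRestrict_base_coe f V _
    rw [h1]
    have h2 : ((S₁.homOfLE hle ⟨w, hw⟩ : (f ⁻¹ᵁ V : S₁.Opens)).1) = w := by
      have := congrArg (fun φ : (W : Scheme.{u}) ⟶ S₁ => φ ⟨w, hw⟩) (S₁.homOfLE_ι hle)
      exact this
    rw [h2]
    exact hwv
  · have : CompactSpace (W : Scheme.{u}) := isCompact_iff_compactSpace.mp hW
    exact (quasiCompact_iff_compactSpace _).mpr inferInstance
  · rw [Category.assoc, morphismRestrict_ι, ← Category.assoc, Scheme.homOfLE_ι]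

theorem exists_qc_cover {S S₁ S₂ : Scheme.{u}} (f₁ : S₁ ⟶ S) (f₂ : S₂ ⟶ S) [Flat f₁] [Flat f₂]
    (h₁ : ∀ V : S.Opens, IsAffineOpen V → ∃ W : S₁.Opens, IsCompact (W : Set S₁) ∧
      f₁.base '' (W : Set S₁) = (V : Set S))
    (h₂ : ∀ V : S.Opens, IsAffineOpen V → ∃ W : S₂.Opens, IsCompact (W : Set S₂) ∧
      f₂.base '' (W : Set S₂) = (V : Set S))
    (V : S.Opens) (hV : IsAffineOpen V) :
    ∃ (P : Scheme.{u}) (a : P ⟶ (V : Scheme.{u})) (p : P ⟶ Limits.pullback f₁ f₂),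
      Flat a ∧ Surjective a ∧ QuasiCompact a ∧ p ≫ Limits.pullback.fst f₁ f₂ ≫ f₁ = a ≫ V.ι := by
  obtain ⟨W₁, hW₁, hWV₁⟩ := h₁ V hV
  obtain ⟨W₂, hW₂, hWV₂⟩ := h₂ V hV
  obtain ⟨a₁, hfl₁, hsu₁, hqc₁, ha₁⟩ := exists_restrict f₁ V hV W₁ hW₁ hWV₁
  obtain ⟨a₂, hfl₂, hsu₂, hqc₂, ha₂⟩ := exists_restrict f₂ V hV W₂ hW₂ hWV₂
  have hcond : (Limits.pullback.fst a₁ a₂ ≫ W₁.ι) ≫ f₁ = (Limits.pullback.snd a₁ a₂ ≫ W₂.ι) ≫ f₂ := by
    rw [Category.assoc, Category.assoc, ← ha₁, ← ha₂, ← Category.assoc, ← Category.assoc,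
      Limits.pullback.condition]
  refine ⟨Limits.pullback a₁ a₂, Limits.pullback.fst a₁ a₂ ≫ a₁,
    Limits.pullback.lift (Limits.pullback.fst a₁ a₂ ≫ W₁.ι) (Limits.pullback.snd a₁ a₂ ≫ W₂.ι) hcond,
    inferInstance, inferInstance, inferInstance, ?_⟩
  rw [← Category.assoc, Limits.pullback.lift_fst, Category.assoc, Category.assoc, ha₁]

theorem isOpen_of_preimage {S S₁ S₂ : Scheme.{u}} (f₁ : S₁ ⟶ S) (f₂ : S₂ ⟶ S) [Flat f₁] [Flat f₂]
    (h₁ : ∀ V : S.Opens, IsAffineOpen V → ∃ W : S₁.Opens, IsCompact (W : Set S₁) ∧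
      f₁.base '' (W : Set S₁) = (V : Set S))
    (h₂ : ∀ V : S.Opens, IsAffineOpen V → ∃ W : S₂.Opens, IsCompact (W : Set S₂) ∧
      f₂.base '' (W : Set S₂) = (V : Set S))
    (Z : Set S) (hZ : IsOpen ((Limits.pullback.fst f₁ f₂ ≫ f₁).base ⁻¹' Z)) : IsOpen Z := by
  rw [isOpen_iff_forall_mem_open]
  intro z hz
  have key : ∃ V : S.Opens, IsAffineOpen V ∧ z ∈ V := by
    obtain ⟨V, hV, hzV, -⟩ :=
      (Opens.isBasis_iff_nbhd.mp S.isBasis_affineOpens) (show z ∈ (⊤ : S.Opens) from trivial)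
    exact ⟨V, hV, hzV⟩
  obtain ⟨V, hV, hzV⟩ := key
  obtain ⟨P, a, p, hfl, hsu, hqc, hp⟩ := exists_qc_cover f₁ f₂ h₁ h₂ V hV
  have hquot : Topology.IsQuotientMap a := Flat.isQuotientMap_of_surjective a
  have hopen : IsOpen (V.ι ⁻¹' Z) := by
    rw [← hquot.isOpen_preimage]
    have h1 : a ⁻¹' (V.ι ⁻¹' Z) = p ⁻¹' ((Limits.pullback.fst f₁ f₂ ≫ f₁).base ⁻¹' Z) := by
      have h2 : (a ≫ V.ι).base = (p ≫ Limits.pullback.fst f₁ f₂ ≫ f₁).base := by rw [hp]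
      ext x
      have h3 := congrArg (fun φ => φ x) h2
      simp only [Set.mem_preimage]
      exact Iff.of_eq (congrArg (· ∈ Z) h3)
    rw [h1]
    exact hZ.preimage p.continuous
  refine ⟨V.ι '' (V.ι ⁻¹' Z), ?_, V.ι.isOpenEmbedding.isOpenMap _ hopen, ?_⟩
  · rintro _ ⟨v, hv, rfl⟩
    exact hv
  · exact ⟨⟨z, hzV⟩, hz, rfl⟩

end Groth.Agent.H19.QcCover
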