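import Mathlib
import Groth.Agent.S0083
import Groth.Agent.H19.QcCover

set_option autoImplicit false
universe u
open CategoryTheory CategoryTheory.Limits AlgebraicGeometry

namespace Groth.Agent.H19.Free_D1

section CI

variable {Q P : Scheme.{u}} (gam : Q ⟶ P)

/-- `CI gam g`: the base change of `gam` along `g` is a closed immersion. -/
def CI {T : Scheme.{u}} (g : T ⟶ P) : Prop := IsClosedImmersion (pullback.snd gam g)

variable {gam}

theorem ci_iff_of_isPullback {T Q' : Scheme.{u}} {g : T ⟶ P} {a : Q' ⟶ Q} {b : Q' ⟶ T}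
    (sq : IsPullback a b gam g) : CI gam g ↔ IsClosedImmersion b := by
  unfold CI
  rw [← sq.isoPullback_hom_snd]
  exact (MorphismProperty.cancel_left_of_respectsIso @IsClosedImmersion _ _).symm

/-- the comparison square for a composite. -/
theorem isPullback_comp {T T' : Scheme.{u}} (g : T ⟶ P) (h : T' ⟶ T) :
    IsPullback (pullback.lift (pullback.fst gam (h ≫ g)) (pullback.snd gam (h ≫ g) ≫ h)
        (by rw [pullback.condition, Category.assoc]))
      (pullback.snd gam (h ≫ g)) (pullback.snd gam g) h := by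
  refine IsPullback.of_right ?_ (pullback.lift_snd _ _ _) (IsPullback.of_hasPullback gam g)
  rw [pullback.lift_fst]
  exact IsPullback.of_hasPullback gam (h ≫ g)

theorem ci_comp {T T' : Scheme.{u}} {g : T ⟶ P} (h : T' ⟶ T) (hg : CI gam g) :
    CI gam (h ≫ g) :=
  MorphismProperty.of_isPullback (P := @IsClosedImmersion) (isPullback_comp g h) hg

theorem ci_descend {T T' : Scheme.{u}} {g : T ⟶ P} (h : T' ⟶ T)
    (hh : (@Surjective ⊓ @Flat ⊓ @QuasiCompact : MorphismProperty Scheme.{u}) h)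
    (hg : CI gam (h ≫ g)) : CI gam g :=
  (Groth.Agent.S0083.result).of_isPullback (isPullback_comp g h).flip hh hg

theorem ci_of_openCover {T : Scheme.{u}} {g : T ⟶ P} (𝒰 : T.OpenCover)
    (h : ∀ i, CI gam (𝒰.f i ≫ g)) : CI gam g := by
  unfold CI
  rw [IsZariskiLocalAtTarget.iff_of_openCover (P := @IsClosedImmersion) 𝒰]
  intro i
  have sq : IsPullback (pullback.fst (pullback.snd gam g) (𝒰.f i) ≫ pullback.fst gam g)
      (pullback.snd (pullback.snd gam g) (𝒰.f i)) gam (𝒰.f i ≫ g) :=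
    (IsPullback.of_hasPullback (pullback.snd gam g) (𝒰.f i)).paste_horiz
      (IsPullback.of_hasPullback gam g)
  exact (ci_iff_of_isPullback sq).mp (h i)

theorem ci_id (h : CI gam (𝟙 P)) : IsClosedImmersion gam :=
  (ci_iff_of_isPullback (IsPullback.id_horiz gam)).mp h

end CI

/-- (D1) descent of closed immersions along a Prelude-style fpqc cover with Zariski charts -/
theorem closedImm_of_locally {S S' : Scheme.{u}} (f : S' ⟶ S) (hflat : Flat f)
    (hsurj : Surjective f)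
    (hqc : ∀ V : S.Opens, IsAffineOpen V →
      ∃ W : S'.Opens, IsCompact (W : Set S') ∧ f.base '' (W : Set S') = (V : Set S))
    (W : S' → S'.Opens) (hW : ∀ s', s' ∈ W s') {Q P : Scheme.{u}} (gam : Q ⟶ P) (π : P ⟶ S)
    (h : ∀ s', ∃ (Q' : Scheme.{u}) (gam' : Q' ⟶ pullback π ((W s').ι ≫ f)) (q : Q' ⟶ Q),
      IsPullback gam' q (pullback.fst π ((W s').ι ≫ f)) gam ∧ IsClosedImmersion gam') :
    IsClosedImmersion gam := by
  apply ci_id
  -- the hypothesis, in `CI` form
  have hCI : ∀ s', CI gam (pullback.fst π ((W s').ι ≫ f)) := by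
    intro s'
    obtain ⟨Q', gam', q, sq, hci⟩ := h s'
    exact (ci_iff_of_isPullback sq.flip).mpr hci
  -- Zariski-localize on `S`
  have hcov : TopologicalSpace.IsOpenCover (fun V : S.affineOpens => π ⁻¹ᵁ V.1) := by
    rw [TopologicalSpace.IsOpenCover, eq_top_iff]
    intro p _
    obtain ⟨_, ⟨V, hV, rfl⟩, hpV, -⟩ := S.isBasis_affineOpens.exists_subset_of_mem_open
      (Set.mem_univ (π.base p)) isOpen_univ
    exact TopologicalSpace.Opens.mem_iSup.mpr ⟨⟨V, hV⟩, hpV⟩
  refine ci_of_openCover (P.openCoverOfIsOpenCover _ hcov) (fun V => ?_)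
  obtain ⟨V, hV⟩ := V
  change CI gam ((π ⁻¹ᵁ V).ι ≫ 𝟙 P)
  rw [Category.comp_id]
  obtain ⟨WV, hWVc, hWV⟩ := hqc V hV
  obtain ⟨a, haf, has, haq, hfac⟩ := Groth.Agent.H19.QcCover.exists_restrict f V hV WV hWVc hWV
  -- descend along the base change of `a`
  let πV : (π ⁻¹ᵁ V : Scheme.{u}) ⟶ V := π ∣_ V
  have hπV : πV ≫ V.ι = (π ⁻¹ᵁ V).ι ≫ π := morphismRestrict_ι π V
  refine ci_descend (pullback.fst πV a) ⟨⟨inferInstance, inferInstance⟩, inferInstance⟩ ?_
  -- Zariski-localize on the base change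
  let O : WV → (pullback πV a).Opens := fun w => (pullback.snd πV a) ⁻¹ᵁ (WV.ι ⁻¹ᵁ (W w.1))
  have hcov' : TopologicalSpace.IsOpenCover O := by
    rw [TopologicalSpace.IsOpenCover, eq_top_iff]
    intro t _
    refine TopologicalSpace.Opens.mem_iSup.mpr ⟨(pullback.snd πV a).base t, ?_⟩
    exact hW _
  refine ci_of_openCover ((pullback πV a).openCoverOfIsOpenCover O hcov') (fun w => ?_)
  change CI gam ((O w).ι ≫ pullback.fst πV a ≫ (π ⁻¹ᵁ V).ι)
  -- factor through `pullback π ((W w).ι ≫ f)`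
  have hrange : Set.range ((O w).ι ≫ pullback.snd πV a ≫ WV.ι).base ⊆
      Set.range (W w.1).ι.base := by
    rintro _ ⟨x, rfl⟩
    rw [Scheme.Opens.range_ι]
    exact x.2
  let m : (O w : Scheme.{u}) ⟶ (W w.1 : Scheme.{u}) :=
    IsOpenImmersion.lift (W w.1).ι ((O w).ι ≫ pullback.snd πV a ≫ WV.ι) hrange
  have hm : m ≫ (W w.1).ι = (O w).ι ≫ pullback.snd πV a ≫ WV.ι := IsOpenImmersion.lift_fac _ _ _
  have hcond : ((O w).ι ≫ pullback.fst πV a ≫ (π ⁻¹ᵁ V).ι) ≫ π = m ≫ (W w.1).ι ≫ f := by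
    rw [← Category.assoc m, hm, Category.assoc, Category.assoc, Category.assoc, Category.assoc,
      ← hπV, ← hfac, pullback.condition_assoc]
  have hk : (O w).ι ≫ pullback.fst πV a ≫ (π ⁻¹ᵁ V).ι =
      pullback.lift _ m hcond ≫ pullback.fst π ((W w.1).ι ≫ f) := (pullback.lift_fst _ _ _).symm
  rw [hk]
  exact ci_comp _ (hCI w.1)

end Groth.Agent.H19.Free_D1
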