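import Mathlib
import Groth.Prelude.Def_RedSub

set_option autoImplicit false
universe u
open CategoryTheory CategoryTheory.Limits MonoidalCategory CartesianMonoidalCategory MonObj GrpObj AlgebraicGeometry

namespace Groth.Agent.H19.Free_O

variable {S : Scheme.{u}} {G X : Over S} [GrpObj G] {M : Type} [AddCommGroup M]

/-- the orbit map is a base change of the graph (in `Over S`). -/
theorem isPullback_orbit (a : AlgGrp.Action G X) (σ : 𝟙_ (Over S) ⟶ X) :
    IsPullback (lift (𝟙 G) (toUnit G ≫ σ)) (a.orbitMap σ) (lift a.act (snd G X))
      (lift (𝟙 X) (toUnit X ≫ σ)) := by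
  have comm : lift (𝟙 G) (toUnit G ≫ σ) ≫ lift a.act (snd G X) =
      a.orbitMap σ ≫ lift (𝟙 X) (toUnit X ≫ σ) := by
    apply CartesianMonoidalCategory.hom_ext
    · simp [AlgGrp.Action.orbitMap]
    · simp only [Category.assoc, lift_snd, AlgGrp.Action.orbitMap]
      rw [← Category.assoc a.act, ← Category.assoc]
      congr 1
      exact toUnit_unique _ _
  refine IsPullback.mk ⟨comm⟩ ⟨PullbackCone.IsLimit.mk comm (fun s => s.fst ≫ fst G X)
    (fun s => ?_) (fun s => ?_) (fun s m h1 h2 => ?_)⟩
  · have hsnd : s.fst ≫ snd G X = toUnit _ ≫ σ := by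
      have := congrArg (fun f => f ≫ snd X X) s.condition
      simp only [Category.assoc, lift_snd] at this
      rw [this, ← Category.assoc]
      congr 1
      exact toUnit_unique _ _
    apply CartesianMonoidalCategory.hom_ext
    · simp
    · simp only [Category.assoc, lift_snd]
      rw [hsnd, ← Category.assoc, ← Category.assoc]
      congr 1
      exact toUnit_unique _ _
  · have hsnd : s.fst ≫ snd G X = toUnit _ ≫ σ := by
      have := congrArg (fun f => f ≫ snd X X) s.condition
      simp only [Category.assoc, lift_snd] at this
      rw [this, ← Category.assoc]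
      congr 1
      exact toUnit_unique _ _
    have h0 : (s.fst ≫ fst G X) ≫ lift (𝟙 G) (toUnit G ≫ σ) = s.fst := by
      apply CartesianMonoidalCategory.hom_ext
      · simp
      · simp only [Category.assoc, lift_snd]
        rw [hsnd, ← Category.assoc, ← Category.assoc]
        congr 1
        exact toUnit_unique _ _
    have h3 := congrArg (fun f => f ≫ fst X X) s.condition
    simp only [Category.assoc, lift_fst, Category.comp_id] at h3
    rw [AlgGrp.Action.orbitMap, ← Category.assoc, h0]
    exact h3
  · rw [← h1]
    simp

/-- (O) orbit maps -/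
theorem orbit_of_graph (a : AlgGrp.Action G X)
    (h : IsClosedImmersion (lift a.act (snd G X)).left) (σ : 𝟙_ (Over S) ⟶ X) :
    IsClosedImmersion (a.orbitMap σ).left := by
  have sq := (isPullback_orbit a σ).map (Over.forget S)
  exact MorphismProperty.IsStableUnderBaseChange.of_isPullback (P := @IsClosedImmersion) sq h

end Groth.Agent.H19.Free_O
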