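import Mathlib

/-!
# Stalks at generic points; formal smoothness of stalk maps
-/

set_option autoImplicit false
universe u
open CategoryTheory AlgebraicGeometry

namespace Groth.Agent.H19.GenStalk

/-- Pure algebra: formal smoothness passes to localizations of source and target. -/
theorem formallySmooth_of_localizations {A B A' B' : Type u} [CommRing A] [CommRing B] [CommRing A']
    [CommRing B'] (φ : A →+* B) (a : A →+* A') (b : B →+* B') (ψ : A' →+* B')
    (hcomm : ψ.comp a = b.comp φ) (M : Submonoid A) (N : Submonoid B)
    (ha : @IsLocalization A _ M A' _ a.toAlgebra) (hb : @IsLocalization B _ N B' _ b.toAlgebra)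
    (hfs : @Algebra.FormallySmooth A B _ _ φ.toAlgebra) :
    @Algebra.FormallySmooth A' B' _ _ ψ.toAlgebra := by
  letI := φ.toAlgebra
  letI := a.toAlgebra
  letI := b.toAlgebra
  letI := ψ.toAlgebra
  letI : Algebra A B' := (b.comp φ).toAlgebra
  haveI : IsScalarTower A B B' := IsScalarTower.of_algebraMap_eq' rfl
  haveI : IsScalarTower A A' B' := IsScalarTower.of_algebraMap_eq' hcomm.symm
  haveI : Algebra.FormallySmooth B B' := Algebra.FormallySmooth.of_isLocalization N
  haveI : Algebra.FormallySmooth A B' := Algebra.FormallySmooth.comp A B B'
  exact Algebra.FormallySmooth.localization_base M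

/-- The spectrum of the local ring at the generic point is a single point. -/
theorem subsingleton_spec_stalk_genericPoint (X : Scheme.{u}) [IrreducibleSpace X] :
    Subsingleton (Spec (X.presheaf.stalk (genericPoint X))) := by
  constructor
  intro p q
  apply (X.fromSpecStalk (genericPoint X)).isEmbedding.injective
  have key : ∀ p : Spec (X.presheaf.stalk (genericPoint X)),
      X.fromSpecStalk (genericPoint X) p = genericPoint X := by
    intro p
    have h1 : X.fromSpecStalk (genericPoint X) p ∈ Set.range (X.fromSpecStalk (genericPoint X)) :=
      ⟨p, rfl⟩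
    rw [Scheme.range_fromSpecStalk] at h1
    exact (h1.antisymm (genericPoint_specializes _)).eq
  rw [key p, key q]

theorem isArtinianRing_stalk_genericPoint (X : Scheme.{u}) [IrreducibleSpace X]
    [IsLocallyNoetherian X] : IsArtinianRing (X.presheaf.stalk (genericPoint X)) := by
  rw [isArtinianRing_iff_krullDimLE_zero, Ring.krullDimLE_zero_iff]
  intro I hI
  haveI := subsingleton_spec_stalk_genericPoint X
  have : (⟨I, hI⟩ : PrimeSpectrum (X.presheaf.stalk (genericPoint X))) =
      IsLocalRing.closedPoint (X.presheaf.stalk (genericPoint X)) :=
    Subsingleton.elim (α := Spec (X.presheaf.stalk (genericPoint X))) _ _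
  have h2 := congrArg PrimeSpectrum.asIdeal this
  simp only [IsLocalRing.closedPoint] at h2
  rw [h2]
  infer_instance

/-- A flat morphism between irreducible schemes maps generic point to generic point. -/
theorem map_genericPoint_of_flat {X' X : Scheme.{u}} (f : X' ⟶ X) [IrreducibleSpace X']
    [IrreducibleSpace X] [Flat f] : f (genericPoint X') = genericPoint X := by
  obtain ⟨x', hx', hfx'⟩ := Flat.generalizingMap f (genericPoint_specializes (f (genericPoint X')))
  have : x' = genericPoint X' := (hx'.antisymm (genericPoint_specializes x')).eq
  rw [← hfx', this]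

end Groth.Agent.H19.GenStalk
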