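import Groth.Agent.H19.GenStalk
import Groth.Agent.S1486
import Groth.Agent.S18056

/-!
# Length of generic stalks under flat formally smooth morphisms (S18057)
-/

set_option autoImplicit false
universe u
open CategoryTheory AlgebraicGeometry

namespace Groth.Agent.H19.GenStalk

theorem exists_subfield_stalk {X : Scheme.{u}} (x : X) (hK : ∃ K : Subring Γ(X, ⊤), IsField K) :
    ∃ K : Subring (X.presheaf.stalk x), IsField K := by
  obtain ⟨K₀, hK₀⟩ := hK
  letI := hK₀.toField
  let g : Γ(X, ⊤) →+* X.presheaf.stalk x := (X.presheaf.germ ⊤ x trivial).hom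
  let g' : K₀ →+* X.presheaf.stalk x := g.comp K₀.subtype
  have hinj : Function.Injective g' := RingHom.injective g'
  let e : K₀ ≃+* g'.range := RingEquiv.ofBijective g'.rangeRestrict
    ⟨fun a b h => hinj (congrArg Subtype.val h), g'.rangeRestrict_surjective⟩
  exact ⟨g'.range, MulEquiv.isField hK₀ e.symm.toMulEquiv⟩

theorem main {X' X : Scheme.{u}} (f : X' ⟶ X)
    [IrreducibleSpace ↥X'] [IrreducibleSpace ↥X] [IsNoetherian X'] [IsNoetherian X] [Flat f]
    (hf : MoreMor.IsFormallySmoothHom f) (hK : ∃ K : Subring Γ(X, ⊤), IsField K) :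
    Module.length (X'.presheaf.stalk (genericPoint X')) (X'.presheaf.stalk (genericPoint X'))
      = Module.length (X.presheaf.stalk (genericPoint X)) (X.presheaf.stalk (genericPoint X)) := by
  have hfη := map_genericPoint_of_flat f
  haveI hA' := isArtinianRing_stalk_genericPoint X'
  haveI hA : IsArtinianRing (X.presheaf.stalk (f (genericPoint X'))) := by
    rw [hfη]; exact isArtinianRing_stalk_genericPoint X
  rw [← hfη]
  obtain ⟨η', hη'⟩ : ∃ η', η' = genericPoint X' := ⟨_, rfl⟩
  rw [← hη'] at hA hA' ⊢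
  obtain ⟨_, ⟨U, hU, rfl⟩, hyU, -⟩ := X.isBasis_affineOpens.exists_subset_of_mem_open
    (Set.mem_univ (f η')) isOpen_univ
  obtain ⟨_, ⟨V, hV, rfl⟩, hηV, hVU⟩ := X'.isBasis_affineOpens.exists_subset_of_mem_open
    (show η' ∈ (f ⁻¹ᵁ U : Set X') from hyU) (f ⁻¹ᵁ U).isOpen
  have hfs := (Groth.Agent.S1486.result f).mp hf V U hV hU hVU
  have hcomm : (f.stalkMap η').hom.comp (X.presheaf.germ U (f η') hyU).hom =
      (X'.presheaf.germ V η' hηV).hom.comp (f.appLE U V hVU).hom := by
    have : X.presheaf.germ U (f η') hyU ≫ f.stalkMap η' =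
        f.appLE U V hVU ≫ X'.presheaf.germ V η' hηV := by
      unfold Scheme.Hom.appLE
      rw [Category.assoc, X'.presheaf.germ_res, Scheme.Hom.germ_stalkMap]
    have h2 := congrArg CommRingCat.Hom.hom this
    simpa only [CommRingCat.hom_comp] using h2
  have hFS := formallySmooth_of_localizations (f.appLE U V hVU).hom
    (X.presheaf.germ U (f η') hyU).hom (X'.presheaf.germ V η' hηV).hom (f.stalkMap η').hom hcomm
    (hU.primeIdealOf ⟨f η', hyU⟩).asIdeal.primeCompl (hV.primeIdealOf ⟨η', hηV⟩).asIdeal.primeCompl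
    (hU.isLocalization_stalk ⟨f η', hyU⟩) (hV.isLocalization_stalk ⟨η', hηV⟩) hfs
  letI := (f.stalkMap η').hom.toAlgebra
  haveI : Module.Flat (X.presheaf.stalk (f η')) (X'.presheaf.stalk η') := Flat.stalkMap f η'
  exact (Groth.Agent.S18056.result _ _ (exists_subfield_stalk (f η') hK)).symm

end Groth.Agent.H19.GenStalk
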