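import Groth.Agent.H50.SigmaChart
import Groth.Agent.H50.QcChart
import Groth.Agent.H52.EpiBC
import Groth.Agent.H53.InfSq
import Groth.Agent.S1489
import Groth.Prelude.Def_AlgSpInf

/-!
# helper19: infinitesimal lifting on affine etale charts

* `exists_infSq_data`: a square-zero closed immersion `W ⟶ V` of schemes over `S` with `V` affine is
  isomorphic (over `S`) to `Spec (A ⧸ I) ⟶ Spec A` with `I ^ 2 = ⊥`.
* `lift_exists_affine`, `lift_unique_affine`, `lift_existsUnique_affine`: lifting for formally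
  smooth / unramified / etale morphisms of sheaves against such closed immersions.
* `formallyEtale_of_repWith_etale`: representable etale ⇒ formally etale.
* `hom_ext_of_family`, `hom_ext_of_affine_charts`: morphisms out of an algebraic space are determined
  on affine etale charts.
-/

set_option autoImplicit false
universe u
open CategoryTheory CategoryTheory.Limits AlgebraicGeometry Opposite

namespace Groth.Agent.H19.Inf

open AlgSp

variable {S : Scheme.{u}}

/-- The canonical closed immersion `Spec (A ⧸ I) ⟶ Spec A` over `S`. -/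
noncomputable abbrev jOver {A : Type u} [CommRing A] (I : Ideal A) (str : Spec (.of A) ⟶ S) :
    Over.mk (Spec.map (CommRingCat.ofHom (Ideal.Quotient.mk I)) ≫ str) ⟶ Over.mk str :=
  Over.homMk (Spec.map (CommRingCat.ofHom (Ideal.Quotient.mk I))) rfl

/-- A square-zero closed immersion with affine target is `Spec (A ⧸ I) ⟶ Spec A` up to isomorphism. -/
theorem exists_infSq_data {V W : Over S} (snd : W ⟶ V) (hV : IsAffine V.left)
    (hci : IsClosedImmersion snd.left) (hsq : sqZero snd.left) :
    ∃ (A : Type u) (_ : CommRing A) (I : Ideal A) (_ : I ^ 2 = ⊥) (str : Spec (.of A) ⟶ S)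
      (eV : Over.mk str ≅ V)
      (eW : Over.mk (Spec.map (CommRingCat.ofHom (Ideal.Quotient.mk I)) ≫ str) ≅ W),
      eW.hom ≫ snd = jOver I str ≫ eV.hom := by
  obtain ⟨hW, hφ⟩ := IsClosedImmersion.isAffine_surjective_of_isAffine snd.left
  let R : Type u := Γ(V.left, ⊤)
  let φ : R →+* Γ(W.left, ⊤) := snd.left.appTop.hom
  let I : Ideal R := RingHom.ker φ
  have hI : I ^ 2 = ⊥ := by
    have h1 := congrArg (fun K : V.left.IdealSheafData => K.ideal ⟨⊤, isAffineOpen_top _⟩) hsq
    simp only [Scheme.IdealSheafData.ideal_mul, Pi.mul_apply, Scheme.Hom.ker_apply,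
      Scheme.IdealSheafData.ideal_bot, Pi.bot_apply] at h1
    rw [pow_two]
    exact h1
  let ψ : R ⧸ I ≃+* Γ(W.left, ⊤) := RingHom.quotientKerEquivOfSurjective hφ
  have hψ : (CommRingCat.ofHom (Ideal.Quotient.mk I)) ≫ (CommRingCat.ofHom ψ.toRingHom) =
      snd.left.appTop := by
    ext x
    rfl
  let eV₀ : V.left ≅ Spec (.of R) := V.left.isoSpec
  let eψ : Spec Γ(W.left, ⊤) ≅ Spec (.of (R ⧸ I)) :=
    { hom := Spec.map (CommRingCat.ofHom ψ.toRingHom)
      inv := Spec.map (CommRingCat.ofHom ψ.symm.toRingHom)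
      hom_inv_id := by
        rw [← Spec.map_comp, ← Spec.map_id]
        congr 1
        ext x
        exact ψ.apply_symm_apply x
      inv_hom_id := by
        rw [← Spec.map_comp, ← Spec.map_id]
        congr 1
        ext x
        exact ψ.symm_apply_apply x }
  let eW₀ : W.left ≅ Spec (.of (R ⧸ I)) := W.left.isoSpec ≪≫ eψ
  have hsq' : eW₀.hom ≫ Spec.map (CommRingCat.ofHom (Ideal.Quotient.mk I)) = snd.left ≫ eV₀.hom := by
    have h2 := Scheme.isoSpec_hom_naturality snd.left
    simp only [eW₀, eV₀, eψ, Iso.trans_hom, Category.assoc]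
    rw [← h2, ← hψ, Spec.map_comp]
  have hsq'' : eW₀.inv ≫ snd.left = Spec.map (CommRingCat.ofHom (Ideal.Quotient.mk I)) ≫ eV₀.inv := by
    rw [Iso.inv_comp_eq, ← Category.assoc, hsq', Category.assoc, Iso.hom_inv_id, Category.comp_id]
  let str : Spec (.of R) ⟶ S := eV₀.inv ≫ V.hom
  let eV : Over.mk str ≅ V := Over.isoMk eV₀.symm (by simp [str])
  let eW : Over.mk (Spec.map (CommRingCat.ofHom (Ideal.Quotient.mk I)) ≫ str) ≅ W :=
    Over.isoMk eW₀.symm (by
      simp only [Iso.symm_hom, Over.mk_left, Over.mk_hom, str]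
      rw [← Over.w snd, ← Category.assoc, hsq'', Category.assoc])
  refine ⟨R, inferInstance, I, hI, str, eV, eW, ?_⟩
  apply Over.OverMorphism.ext
  simp only [Over.comp_left, eW, eV, Over.isoMk_hom_left, Iso.symm_hom, Over.homMk_left]
  exact hsq''

section Lift

variable {X Y : Sp S} {f : X ⟶ Y}

/-- Build an infinitesimal lifting square from chart data. -/
noncomputable def mkSq {A : Type u} [CommRing A] (I : Ideal A) (hI : I ^ 2 = ⊥)
    (str : Spec (.of A) ⟶ S) (f : X ⟶ Y)
    (top : (yon S).obj (Over.mk (Spec.map (CommRingCat.ofHom (Ideal.Quotient.mk I)) ≫ str)) ⟶ X)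
    (bot : (yon S).obj (Over.mk str) ⟶ Y)
    (comm : top ≫ f = (yon S).map (jOver I str) ≫ bot) : InfSq f where
  A := A
  I := I
  sq_zero := hI
  str := str
  top := top
  bot := bot
  comm := comm

/-- Lifting against `Spec (A ⧸ I) ⟶ Spec A` for a formally smooth morphism. -/
theorem lift_exists_spec (hf : IsFormallySmoothMor f) {A : Type u} [CommRing A] (I : Ideal A)
    (hI : I ^ 2 = ⊥) (str : Spec (.of A) ⟶ S)
    (top : (yon S).obj (Over.mk (Spec.map (CommRingCat.ofHom (Ideal.Quotient.mk I)) ≫ str)) ⟶ X)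
    (bot : (yon S).obj (Over.mk str) ⟶ Y)
    (comm : top ≫ f = (yon S).map (jOver I str) ≫ bot) :
    ∃ l : (yon S).obj (Over.mk str) ⟶ X, (yon S).map (jOver I str) ≫ l = top ∧ l ≫ f = bot :=
  hf (mkSq I hI str f top bot comm)

/-- Uniqueness of lifts against `Spec (A ⧸ I) ⟶ Spec A` for a formally unramified morphism. -/
theorem lift_unique_spec (hf : IsFormallyUnramifiedMor f) {A : Type u} [CommRing A] (I : Ideal A)
    (hI : I ^ 2 = ⊥) (str : Spec (.of A) ⟶ S)
    (l l' : (yon S).obj (Over.mk str) ⟶ X)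
    (h1 : (yon S).map (jOver I str) ≫ l = (yon S).map (jOver I str) ≫ l') (h2 : l ≫ f = l' ≫ f) :
    l = l' :=
  hf (mkSq I hI str f ((yon S).map (jOver I str) ≫ l) (l ≫ f) (Category.assoc _ _ _)) l l'
    rfl rfl h1.symm h2.symm

/-- Lifting against a square-zero closed immersion with affine target, formally smooth case. -/
theorem lift_exists_affine (hf : IsFormallySmoothMor f) {V W : Over S} (snd : W ⟶ V)
    (hV : IsAffine V.left) (hci : IsClosedImmersion snd.left) (hsq : sqZero snd.left)
    (α : (yon S).obj W ⟶ X) (β : (yon S).obj V ⟶ Y) (w : α ≫ f = (yon S).map snd ≫ β) :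
    ∃ l : (yon S).obj V ⟶ X, (yon S).map snd ≫ l = α ∧ l ≫ f = β := by
  obtain ⟨A, _, I, hI, str, eV, eW, hc⟩ := exists_infSq_data snd hV hci hsq
  have hc' : snd ≫ eV.inv = eW.inv ≫ jOver I str := by
    rw [Iso.comp_inv_eq, Category.assoc, ← hc, Iso.inv_hom_id_assoc]
  obtain ⟨l₀, h1, h2⟩ := lift_exists_spec hf I hI str ((yon S).map eW.hom ≫ α)
    ((yon S).map eV.hom ≫ β) (by
      rw [Category.assoc, w, ← Category.assoc, ← CategoryTheory.Functor.map_comp, hc, CategoryTheory.Functor.map_comp,
        Category.assoc])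
  refine ⟨(yon S).map eV.inv ≫ l₀, ?_, ?_⟩
  · rw [← Category.assoc, ← CategoryTheory.Functor.map_comp, hc', CategoryTheory.Functor.map_comp, Category.assoc, h1,
      ← Category.assoc, ← CategoryTheory.Functor.map_comp, Iso.inv_hom_id, CategoryTheory.Functor.map_id, Category.id_comp]
  · rw [Category.assoc, h2, ← Category.assoc, ← CategoryTheory.Functor.map_comp, Iso.inv_hom_id, CategoryTheory.Functor.map_id,
      Category.id_comp]

/-- Uniqueness of lifts against a square-zero closed immersion with affine target. -/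
theorem lift_unique_affine (hf : IsFormallyUnramifiedMor f) {V W : Over S} (snd : W ⟶ V)
    (hV : IsAffine V.left) (hci : IsClosedImmersion snd.left) (hsq : sqZero snd.left)
    (l l' : (yon S).obj V ⟶ X)
    (h1 : (yon S).map snd ≫ l = (yon S).map snd ≫ l') (h2 : l ≫ f = l' ≫ f) : l = l' := by
  obtain ⟨A, _, I, hI, str, eV, eW, hc⟩ := exists_infSq_data snd hV hci hsq
  have key : (yon S).map eV.hom ≫ l = (yon S).map eV.hom ≫ l' := by
    apply lift_unique_spec hf I hI str
    · rw [← Category.assoc, ← Category.assoc, ← CategoryTheory.Functor.map_comp, ← hc, CategoryTheory.Functor.map_comp,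
        Category.assoc, Category.assoc, h1]
    · rw [Category.assoc, Category.assoc, h2]
  have := congrArg (fun m => (yon S).map eV.inv ≫ m) key
  simpa only [← Category.assoc, ← CategoryTheory.Functor.map_comp, Iso.inv_hom_id, CategoryTheory.Functor.map_id,
    Category.id_comp] using this

/-- Unique lifting against a square-zero closed immersion with affine target, formally etale case. -/
theorem lift_existsUnique_affine (hf : IsFormallyEtaleMor f) {V W : Over S} (snd : W ⟶ V)
    (hV : IsAffine V.left) (hci : IsClosedImmersion snd.left) (hsq : sqZero snd.left)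
    (α : (yon S).obj W ⟶ X) (β : (yon S).obj V ⟶ Y) (w : α ≫ f = (yon S).map snd ≫ β) :
    ∃! l : (yon S).obj V ⟶ X, (yon S).map snd ≫ l = α ∧ l ≫ f = β := by
  rw [H53.isFormallyEtaleMor_iff] at hf
  obtain ⟨l, h1, h2⟩ := lift_exists_affine hf.1 snd hV hci hsq α β w
  refine ⟨l, ⟨h1, h2⟩, fun l' h' => ?_⟩
  exact lift_unique_affine hf.2 snd hV hci hsq l' l (h'.1.trans h1.symm) (h'.2.trans h2.symm)

end Lift

/-- Two morphisms `h_T ⟶ F` to a sheaf which agree on a jointly surjective flat lfp family are equal. -/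
theorem hom_ext_of_family {F : Sp S} {T : Over S} (a b : (yon S).obj T ⟶ F) {A : Type*}
    (Y : A → Over S) (g : ∀ k, Y k ⟶ T)
    (hsurj : ∀ τ : T.left, ∃ (k : A) (y : (Y k).left), (g k).left y = τ)
    (hfl : ∀ k, Flat (g k).left) (hfp : ∀ k, LocallyOfFinitePresentation (g k).left)
    (h : ∀ k, (yon S).map (g k) ≫ a = (yon S).map (g k) ≫ b) : a = b := by
  let Sg : Sieve T :=
    { arrows := fun T₁ f => (yon S).map f ≫ a = (yon S).map f ≫ b
      downward_closed := by
        intro T₁ T₂ f hf g
        rw [Functor.map_comp, Category.assoc, Category.assoc, hf] }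
  exact H50.hom_ext_of_local a b (Sg := Sg)
    (H50.mem_J_of_fppf_family Y g hsurj hfl hfp Sg h) (fun _ f hf => hf)

/-- Two morphisms `h_T ⟶ F` to a sheaf which agree on all affine opens of `T` are equal. -/
theorem hom_ext_of_affineOpens {F : Sp S} {T : Over S} (a b : (yon S).obj T ⟶ F)
    (h : ∀ V : T.left.affineOpens, (yon S).map (H50.opensOverι T V.1) ≫ a =
      (yon S).map (H50.opensOverι T V.1) ≫ b) : a = b := by
  refine hom_ext_of_family a b (fun V : T.left.affineOpens => H50.opensOver T V.1)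
    (fun V => H50.opensOverι T V.1) ?_ (fun V => inferInstanceAs (Flat V.1.ι))
    (fun V => inferInstanceAs (LocallyOfFinitePresentation V.1.ι)) h
  intro τ
  obtain ⟨_, ⟨V, hV, rfl⟩, hτ, -⟩ :=
    T.left.isBasis_affineOpens.exists_subset_of_mem_open (Set.mem_univ τ) isOpen_univ
  exact ⟨⟨V, hV⟩, ⟨τ, hτ⟩, rfl⟩

/-- Restricting an etale chart to an open subscheme gives an etale chart. -/
theorem repWith_etale_opensOverι_comp {T' : Sp S} {U : Over S} (p : (yon S).obj U ⟶ T')
    (hp : RepWith @Etale p) (V : U.left.Opens) :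
    RepWith @Etale ((yon S).map (H50.opensOverι U V) ≫ p) :=
  MorphismProperty.comp_mem _ _ _
    ((repWith_yon_map_iff _ _).2 (inferInstanceAs (Etale V.ι))) hp

/-- Morphisms out of an algebraic space are determined by their restrictions to affine etale charts. -/
theorem hom_ext_of_affine_charts {T' Z : Sp S} (hT' : IsAlgSpace T') (l l' : T' ⟶ Z)
    (h : ∀ (V : Over S) (c : (yon S).obj V ⟶ T'), IsAffine V.left → RepWith @Etale c →
      c ≫ l = c ≫ l') : l = l' := by
  obtain ⟨U, p, hpe, hps⟩ := hT'.atlas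
  haveI : Epi p := H52.epi_of_etale_surjective p hpe hps
  rw [← cancel_epi p]
  apply hom_ext_of_affineOpens
  intro V
  rw [← Category.assoc, ← Category.assoc]
  exact h _ _ V.2 (repWith_etale_opensOverι_comp p hpe V.1)

end Groth.Agent.H19.Inf
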