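import Groth.Agent.H19.InfCov

/-!
# helper19: the base change square of `Spec (A ⧸ I) ⟶ Spec A` along `Spec C ⟶ Spec A`

`bc_factor`: a pair of morphisms `p : V ⟶ Spec (A ⧸ I)`, `q : V ⟶ Spec C` over `S` agreeing in `Spec A`
factors uniquely through `Spec (C ⧸ I C)` (the pullback property of the base change square, for scheme
valued points).
-/

set_option autoImplicit false
universe u
open CategoryTheory CategoryTheory.Limits AlgebraicGeometry Opposite

namespace Groth.Agent.H19.Inf

open AlgSp

variable {S : Scheme.{u}}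

/-- Scheme level: if `p ≫ Spec (A → A ⧸ I) = q ≫ Spec φ` then `q` kills `I C`. -/
theorem map_le_ker_of_comm {A C : Type u} [CommRing A] [CommRing C] (I : Ideal A) (φ : A →+* C)
    {V : Scheme.{u}} (p : V ⟶ Spec (.of (A ⧸ I))) (q : V ⟶ Spec (.of C))
    (h : p ≫ Spec.map (CommRingCat.ofHom (Ideal.Quotient.mk I)) =
      q ≫ Spec.map (CommRingCat.ofHom φ)) :
    I.map φ ≤ RingHom.ker ((Scheme.ΓSpecIso (.of C)).inv ≫ q.appTop).hom := by
  rw [Ideal.map_le_iff_le_comap]
  intro x hx
  rw [Ideal.mem_comap, RingHom.mem_ker]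
  have h1 : (CommRingCat.ofHom φ ≫ (Scheme.ΓSpecIso (.of C)).inv) ≫ q.appTop =
      (CommRingCat.ofHom (Ideal.Quotient.mk I) ≫ (Scheme.ΓSpecIso (.of (A ⧸ I))).inv) ≫
        p.appTop := by
    rw [Scheme.ΓSpecIso_inv_naturality, Scheme.ΓSpecIso_inv_naturality, Category.assoc,
      Category.assoc, ← Scheme.Hom.comp_appTop, ← Scheme.Hom.comp_appTop, h]
  have h2 := congrArg (fun m => m.hom x) h1
  simp only [CommRingCat.hom_comp, RingHom.coe_comp, Function.comp_apply,
    CommRingCat.hom_ofHom] at h2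
  rw [CommRingCat.hom_comp, RingHom.coe_comp, Function.comp_apply, h2,
    Ideal.Quotient.eq_zero_iff_mem.2 hx, map_zero, map_zero]

/-- The pullback property of the base change square on scheme valued points. -/
theorem bc_factor {A : Type u} [CommRing A] (I : Ideal A) (str : Spec (.of A) ⟶ S)
    {C : Type u} [CommRing C] (φ : A →+* C) {V : Over S}
    (p : V ⟶ Over.mk (Spec.map (CommRingCat.ofHom (Ideal.Quotient.mk I)) ≫ str))
    (q : V ⟶ cV str φ) (h : p ≫ jOver I str = q ≫ cg str φ) :
    ∃ r : V ⟶ Over.mk (Spec.map (CommRingCat.ofHom (Ideal.Quotient.mk (I.map φ))) ≫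
        Spec.map (CommRingCat.ofHom φ) ≫ str),
      r ≫ jOver (I.map φ) (Spec.map (CommRingCat.ofHom φ) ≫ str) = q ∧ r ≫ ct I str φ = p := by
  have hl : p.left ≫ Spec.map (CommRingCat.ofHom (Ideal.Quotient.mk I)) =
      q.left ≫ Spec.map (CommRingCat.ofHom φ) := by
    have := congrArg CommaMorphism.left h
    simpa using this
  have hk := map_le_ker_of_comm I φ p.left q.left hl
  have hr₀ : q.left.liftQuotient (I.map φ) hk ≫
      Spec.map (CommRingCat.ofHom (Ideal.Quotient.mk (I.map φ))) = q.left :=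
    Scheme.Hom.liftQuotient_comp _ _ _
  have hw : q.left.liftQuotient (I.map φ) hk ≫
      (Spec.map (CommRingCat.ofHom (Ideal.Quotient.mk (I.map φ))) ≫
        Spec.map (CommRingCat.ofHom φ) ≫ str) = V.hom := by
    rw [← Category.assoc, hr₀]
    exact Over.w q
  refine ⟨Over.homMk (q.left.liftQuotient (I.map φ) hk) hw, ?_, ?_⟩
  · apply Over.OverMorphism.ext
    simp only [Over.comp_left, Over.homMk_left]
    exact hr₀
  · apply Over.OverMorphism.ext
    simp only [Over.comp_left, Over.homMk_left, ct_left]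
    haveI : IsClosedImmersion (Spec.map (CommRingCat.ofHom (Ideal.Quotient.mk I))) :=
      IsClosedImmersion.spec_of_surjective _ Ideal.Quotient.mk_surjective
    rw [← cancel_mono (Spec.map (CommRingCat.ofHom (Ideal.Quotient.mk I))), Category.assoc,
      spec_quotientMap_comm I φ, ← Category.assoc, hr₀, hl]

end Groth.Agent.H19.Inf
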