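import Groth.Agent.H19.InfEt

/-!
# helper19: etale covers of `Spec (A ⧸ I)` lift to families of etale `A`-algebras

`exists_etale_cover`: for a square zero ideal `I ⊂ A` and an etale surjective `s₀ : W₀ ⟶ Spec (A ⧸ I)`
over `S` there is a family of etale ring maps `φ k : A →+* C k`, jointly surjective on spectra, together
with `u k : Spec (C k ⧸ I C k) ⟶ W₀` over `S` such that `u k ≫ s₀` is the canonical map `ct I str (φ k)`.
(Refactoring of the construction in `formallyEtale_of_comp_etale_surjective`.)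
-/

set_option autoImplicit false
universe u
open CategoryTheory CategoryTheory.Limits AlgebraicGeometry Opposite
open scoped TensorProduct

namespace Groth.Agent.H19.Inf

open AlgSp

variable {S : Scheme.{u}}

theorem exists_etale_cover {A : Type u} [CommRing A] (I : Ideal A) (hI : I ^ 2 = ⊥)
    (str : Spec (.of A) ⟶ S) {W₀ : Over S}
    (s₀ : W₀ ⟶ Over.mk (Spec.map (CommRingCat.ofHom (Ideal.Quotient.mk I)) ≫ str))
    (hE : Etale s₀.left) (hSj : Surjective s₀.left) :
    ∃ (K : Type u) (C : K → Type u) (_ : ∀ k, CommRing (C k)) (φ : ∀ k, A →+* C k)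
      (u : ∀ k, Over.mk (Spec.map (CommRingCat.ofHom (Ideal.Quotient.mk (I.map (φ k)))) ≫
        Spec.map (CommRingCat.ofHom (φ k)) ≫ str) ⟶ W₀),
      (∀ k, Etale (Spec.map (CommRingCat.ofHom (φ k)))) ∧ (∀ k, u k ≫ s₀ = ct I str (φ k)) ∧
      (∀ τ : Spec (.of A), ∃ (k : K) (y : Spec (.of (C k))),
        Spec.map (CommRingCat.ofHom (φ k)) y = τ) ∧
      (∀ k, Etale (ct I str (φ k)).left) ∧
      (∀ τ : Spec (.of (A ⧸ I)), ∃ (k : K) (y : Spec (.of (C k ⧸ I.map (φ k)))),
        (ct I str (φ k)).left y = τ) := by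
  have key : ∀ O : W₀.left.affineOpens, ∃ (C : Type u) (_ : CommRing C)
      (φ : A →+* C) (θ : Γ(W₀.left, O.1) →+* C ⧸ I.map φ),
      φ.Etale ∧ Function.Bijective θ ∧
        Spec.map (CommRingCat.ofHom θ) ≫ O.2.fromSpec ≫ s₀.left =
          Spec.map (CommRingCat.ofHom (Ideal.quotientMap (I.map φ) φ Ideal.le_comap_map)) := by
    intro O
    obtain ⟨ψ₀, hψ₀⟩ : ∃ ψ₀ : Spec (.of Γ(W₀.left, O.1)) ⟶
        Spec (.of (A ⧸ I)), ψ₀ = O.2.fromSpec ≫ s₀.left := ⟨_, rfl⟩
    have hψE : Etale ψ₀ := by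
      haveI := hE
      rw [hψ₀]
      infer_instance
    have hρ : (Spec.preimage ψ₀).hom.Etale := by
      have : Etale (Spec.map (Spec.preimage ψ₀)) := by rw [Spec.map_preimage]; exact hψE
      exact (HasRingHomProperty.Spec_iff (P := @Etale)).1 this
    obtain ⟨C, _, φ, θ, hφ, hθ, hcomp⟩ := exists_etale_lift I (Spec.preimage ψ₀).hom hρ
    refine ⟨C, inferInstance, φ, θ, hφ, hθ, ?_⟩
    rw [← hcomp, CommRingCat.ofHom_comp, Spec.map_comp, ← hψ₀]
    congr 1
    exact (Spec.map_preimage ψ₀).symm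
  choose C instC φ θ hφ hθ hcomm using key
  letI : ∀ O, CommRing (C O) := instC
  have hφE : ∀ k, Etale (Spec.map (CommRingCat.ofHom (φ k))) :=
    fun k => (HasRingHomProperty.Spec_iff (P := @Etale)).2 (hφ k)
  have hθiso : ∀ k, IsIso (Spec.map (CommRingCat.ofHom (θ k))) := by
    intro k
    haveI : IsIso (CommRingCat.ofHom (θ k)) :=
      (RingEquiv.ofBijective (θ k) (hθ k)).toCommRingCatIso.isIso_hom
    infer_instance
  have hctl : ∀ k, (ct I str (φ k)).left =
      Spec.map (CommRingCat.ofHom (θ k)) ≫ k.2.fromSpec ≫ s₀.left :=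
    fun k => (hcomm k).symm
  have hsurj₀ : ∀ τ : Spec (.of (A ⧸ I)), ∃ (k : W₀.left.affineOpens)
      (y : Spec (.of (C k ⧸ I.map (φ k)))), (ct I str (φ k)).left y = τ := by
    intro τ
    obtain ⟨w, rfl⟩ := hSj.surj τ
    obtain ⟨_, ⟨O, hO, rfl⟩, hw, -⟩ :=
      W₀.left.isBasis_affineOpens.exists_subset_of_mem_open (Set.mem_univ w) isOpen_univ
    have hrange : Set.range hO.fromSpec = (O : Set _) := hO.range_fromSpec
    obtain ⟨y, hy⟩ : w ∈ Set.range hO.fromSpec := by rw [hrange]; exact hw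
    haveI := hθiso ⟨O, hO⟩
    obtain ⟨z, hz⟩ := (Spec.map (CommRingCat.ofHom (θ ⟨O, hO⟩))).surjective y
    refine ⟨⟨O, hO⟩, z, ?_⟩
    rw [hctl]
    simp only [Scheme.Hom.comp_apply]
    rw [hz, hy]
  have hw : ∀ k, (Spec.map (CommRingCat.ofHom (θ k)) ≫ k.2.fromSpec) ≫ W₀.hom =
      Spec.map (CommRingCat.ofHom (Ideal.Quotient.mk (I.map (φ k)))) ≫
        Spec.map (CommRingCat.ofHom (φ k)) ≫ str := by
    intro k
    have e0 : W₀.hom = s₀.left ≫
        Spec.map (CommRingCat.ofHom (Ideal.Quotient.mk I)) ≫ str :=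
      (Over.w s₀).symm
    have e1 := spec_quotientMap_comm I (φ k)
    calc (Spec.map (CommRingCat.ofHom (θ k)) ≫ k.2.fromSpec) ≫ W₀.hom
        = (Spec.map (CommRingCat.ofHom (θ k)) ≫ k.2.fromSpec ≫ s₀.left) ≫
            Spec.map (CommRingCat.ofHom (Ideal.Quotient.mk I)) ≫ str := by
          rw [e0]; simp only [Category.assoc]
      _ = (Spec.map (CommRingCat.ofHom (Ideal.quotientMap (I.map (φ k)) (φ k)
            Ideal.le_comap_map)) ≫ Spec.map (CommRingCat.ofHom (Ideal.Quotient.mk I))) ≫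
            str := by rw [hcomm k, Category.assoc]
      _ = _ := by rw [e1, Category.assoc]
  refine ⟨W₀.left.affineOpens, C, instC, φ,
    fun k => Over.homMk (Spec.map (CommRingCat.ofHom (θ k)) ≫ k.2.fromSpec) (hw k),
    hφE, fun k => ?_, ?_, fun k => ?_, hsurj₀⟩
  · apply Over.OverMorphism.ext
    rw [hctl k]
    simp
  · intro τ'
    haveI : IsClosedImmersion (Spec.map (CommRingCat.ofHom (Ideal.Quotient.mk I))) :=
      IsClosedImmersion.spec_of_surjective _ Ideal.Quotient.mk_surjective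
    obtain ⟨τ, rfl⟩ := Groth.Agent.H8.surjective_of_isNilpotent_ker
      (Spec.map (CommRingCat.ofHom (Ideal.Quotient.mk I)))
      (Groth.Agent.H8.isNilpotent_ker_SpecMap_mk A I hI) τ'
    obtain ⟨k, z, hz⟩ := hsurj₀ τ
    refine ⟨k, Spec.map (CommRingCat.ofHom (Ideal.Quotient.mk (I.map (φ k)))) z, ?_⟩
    have e := spec_quotientMap_comm I (φ k)
    rw [← Scheme.Hom.comp_apply, ← e, Scheme.Hom.comp_apply, ← ct_left I str (φ k), hz]
  · haveI := hE
    haveI := hθiso k
    rw [hctl]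
    infer_instance

end Groth.Agent.H19.Inf
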