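import Groth.Agent.H19.InfLG
import Groth.Agent.S9436

/-!
# helper19: formal etaleness descends along representable etale surjective maps on top

`formallyEtale_of_comp_etale_surjective`: if `a : F ⟶ G` is representable, etale and surjective and
`a ≫ b` is formally etale then `b` is formally etale.  The existence of dotted arrows uses the lifting of
etale algebras along `A ⟶ A ⧸ I` (S9436, helper14) and `hasLift_of_local`.
-/

set_option autoImplicit false
universe u
open CategoryTheory CategoryTheory.Limits AlgebraicGeometry Opposite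
open scoped TensorProduct

namespace Groth.Agent.H19.Inf

open AlgSp

variable {S : Scheme.{u}}

/-- Lifting an etale `A ⧸ I`-algebra to an etale `A`-algebra, in terms of ring maps. -/
theorem exists_etale_lift {A : Type u} [CommRing A] (I : Ideal A) {C₀ : Type u} [CommRing C₀]
    (ρ : A ⧸ I →+* C₀) (hρ : ρ.Etale) :
    ∃ (C : Type u) (_ : CommRing C) (φ : A →+* C) (θ : C₀ →+* C ⧸ I.map φ),
      φ.Etale ∧ Function.Bijective θ ∧
        θ.comp ρ = Ideal.quotientMap (I.map φ) φ Ideal.le_comap_map := by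
  letI := ρ.toAlgebra
  haveI : Algebra.Etale (A ⧸ I) C₀ := hρ
  obtain ⟨C, _, _, hC, ⟨ε⟩⟩ := Groth.Agent.S9436.result A I C₀
  let θ' : C₀ ≃ₐ[A ⧸ I] C ⧸ I.map (algebraMap A C) :=
    ε.symm.trans (Algebra.TensorProduct.quotIdealMapEquivQuotTensor C I).symm
  refine ⟨C, inferInstance, algebraMap A C, (θ' : C₀ →+* C ⧸ I.map (algebraMap A C)),
    RingHom.etale_algebraMap.2 hC, θ'.bijective, ?_⟩
  ext x
  exact θ'.commutes (Ideal.Quotient.mk I x)

/-- If `a` is representable, etale and surjective and `a ≫ b` is formally etale then `b` is formally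
etale. -/
theorem formallyEtale_of_comp_etale_surjective {F G H : Sp S} (a : F ⟶ G) (b : G ⟶ H)
    (ha : RepWith @Etale a) (ha' : RepWith @Surjective a)
    (hab : IsFormallyEtaleMor (a ≫ b)) : IsFormallyEtaleMor b := by
  rw [H53.isFormallyEtaleMor_iff] at hab ⊢
  have hbU : IsFormallyUnramifiedMor b :=
    formallyUnramified_of_comp_etale_surjective a b ha ha' hab.2
  refine ⟨fun sq => ?_, hbU⟩
  have hr := ha.rep
  have sqW := hr.isPullback sq.top
  have hE : Etale (hr.snd sq.top).left := ha.property _ _ _ sqW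
  have hSj : Surjective (hr.snd sq.top).left := ha'.property _ _ _ sqW
  have key : ∀ O : (hr.pullback sq.top).left.affineOpens, ∃ (C : Type u) (_ : CommRing C)
      (φ : sq.A →+* C) (θ : Γ((hr.pullback sq.top).left, O.1) →+* C ⧸ sq.I.map φ),
      φ.Etale ∧ Function.Bijective θ ∧
        Spec.map (CommRingCat.ofHom θ) ≫ O.2.fromSpec ≫ (hr.snd sq.top).left =
          Spec.map (CommRingCat.ofHom (Ideal.quotientMap (sq.I.map φ) φ Ideal.le_comap_map)) := by
    intro O
    obtain ⟨ψ₀, hψ₀⟩ : ∃ ψ₀ : Spec (.of Γ((hr.pullback sq.top).left, O.1)) ⟶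
        Spec (.of (sq.A ⧸ sq.I)), ψ₀ = O.2.fromSpec ≫ (hr.snd sq.top).left := ⟨_, rfl⟩
    have hψE : Etale ψ₀ := by
      haveI := hE
      rw [hψ₀]
      infer_instance
    have hρ : (Spec.preimage ψ₀).hom.Etale := by
      have : Etale (Spec.map (Spec.preimage ψ₀)) := by rw [Spec.map_preimage]; exact hψE
      exact (HasRingHomProperty.Spec_iff (P := @Etale)).1 this
    obtain ⟨C, _, φ, θ, hφ, hθ, hcomp⟩ := exists_etale_lift sq.I (Spec.preimage ψ₀).hom hρ
    refine ⟨C, inferInstance, φ, θ, hφ, hθ, ?_⟩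
    rw [← hcomp, CommRingCat.ofHom_comp, Spec.map_comp, ← hψ₀]
    congr 1
    exact (Spec.map_preimage ψ₀).symm
  choose C instC φ θ hφ hθ hcomm using key
  letI : ∀ O, CommRing (C O) := instC
  have hφE : ∀ k, Etale (Spec.map (CommRingCat.ofHom (φ k))) :=
    fun k => (HasRingHomProperty.Spec_iff (P := @Etale)).2 (hφ k)
  have hθiso : ∀ k, IsIso (Spec.map (CommRingCat.ofHom (θ k))) := by
    intro k
    haveI : IsIso (CommRingCat.ofHom (θ k)) :=
      (RingEquiv.ofBijective (θ k) (hθ k)).toCommRingCatIso.isIso_hom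
    infer_instance
  have hctl : ∀ k, (ct sq.I sq.str (φ k)).left =
      Spec.map (CommRingCat.ofHom (θ k)) ≫ k.2.fromSpec ≫ (hr.snd sq.top).left :=
    fun k => (hcomm k).symm
  have hsurj₀ : ∀ τ : Spec (.of (sq.A ⧸ sq.I)), ∃ (k : (hr.pullback sq.top).left.affineOpens)
      (y : Spec (.of (C k ⧸ sq.I.map (φ k)))), (ct sq.I sq.str (φ k)).left y = τ := by
    intro τ
    obtain ⟨w, rfl⟩ := hSj.surj τ
    obtain ⟨_, ⟨O, hO, rfl⟩, hw, -⟩ :=
      (hr.pullback sq.top).left.isBasis_affineOpens.exists_subset_of_mem_open (Set.mem_univ w)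
        isOpen_univ
    have hrange : Set.range hO.fromSpec = (O : Set _) := hO.range_fromSpec
    obtain ⟨y, hy⟩ : w ∈ Set.range hO.fromSpec := by rw [hrange]; exact hw
    haveI := hθiso ⟨O, hO⟩
    obtain ⟨z, hz⟩ := (Spec.map (CommRingCat.ofHom (θ ⟨O, hO⟩))).surjective y
    refine ⟨⟨O, hO⟩, z, ?_⟩
    rw [hctl]
    simp only [Scheme.Hom.comp_apply]
    rw [hz, hy]
  -- the local dotted arrows
  have hloc : ∀ k, ∃ m : (yon S).obj (cV sq.str (φ k)) ⟶ G, Good sq (φ k) m := by
    intro k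
    have hw : (Spec.map (CommRingCat.ofHom (θ k)) ≫ k.2.fromSpec) ≫ (hr.pullback sq.top).hom =
        Spec.map (CommRingCat.ofHom (Ideal.Quotient.mk (sq.I.map (φ k)))) ≫
          Spec.map (CommRingCat.ofHom (φ k)) ≫ sq.str := by
      have e0 : (hr.pullback sq.top).hom = (hr.snd sq.top).left ≫
          Spec.map (CommRingCat.ofHom (Ideal.Quotient.mk sq.I)) ≫ sq.str :=
        (Over.w (hr.snd sq.top)).symm
      have e1 := spec_quotientMap_comm sq.I (φ k)
      calc (Spec.map (CommRingCat.ofHom (θ k)) ≫ k.2.fromSpec) ≫ (hr.pullback sq.top).hom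
          = (Spec.map (CommRingCat.ofHom (θ k)) ≫ k.2.fromSpec ≫ (hr.snd sq.top).left) ≫
              Spec.map (CommRingCat.ofHom (Ideal.Quotient.mk sq.I)) ≫ sq.str := by
            rw [e0]; simp only [Category.assoc]
        _ = (Spec.map (CommRingCat.ofHom (Ideal.quotientMap (sq.I.map (φ k)) (φ k)
              Ideal.le_comap_map)) ≫ Spec.map (CommRingCat.ofHom (Ideal.Quotient.mk sq.I))) ≫
              sq.str := by rw [hcomm k, Category.assoc]
        _ = _ := by rw [e1, Category.assoc]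
    let uk : Over.mk (Spec.map (CommRingCat.ofHom (Ideal.Quotient.mk (sq.I.map (φ k)))) ≫
        Spec.map (CommRingCat.ofHom (φ k)) ≫ sq.str) ⟶ hr.pullback sq.top :=
      Over.homMk (Spec.map (CommRingCat.ofHom (θ k)) ≫ k.2.fromSpec) hw
    have hu : uk ≫ hr.snd sq.top = ct sq.I sq.str (φ k) := by
      apply Over.OverMorphism.ext
      rw [hctl k]
      simp [uk]
    have htopa : ((yon S).map uk ≫ hr.fst sq.top) ≫ a =
        (yon S).map (ct sq.I sq.str (φ k)) ≫ sq.top := by
      calc ((yon S).map uk ≫ hr.fst sq.top) ≫ a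
          = (yon S).map uk ≫ hr.fst sq.top ≫ a := Category.assoc _ _ _
        _ = (yon S).map uk ≫ (yon S).map (hr.snd sq.top) ≫ sq.top := by rw [sqW.w]
        _ = ((yon S).map uk ≫ (yon S).map (hr.snd sq.top)) ≫ sq.top := (Category.assoc _ _ _).symm
        _ = (yon S).map (ct sq.I sq.str (φ k)) ≫ sq.top := by
            rw [← CategoryTheory.Functor.map_comp, hu]
    have hcj : (yon S).map (ct sq.I sq.str (φ k)) ≫ (yon S).map sq.j =
        (yon S).map (jOver (sq.I.map (φ k)) (Spec.map (CommRingCat.ofHom (φ k)) ≫ sq.str)) ≫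
          (yon S).map (cg sq.str (φ k)) := by
      rw [← CategoryTheory.Functor.map_comp, ← CategoryTheory.Functor.map_comp]
      exact congrArg (fun x => (yon S).map x) (ct_comm sq.I sq.str (φ k))
    obtain ⟨l, hl1, hl2⟩ := lift_exists_spec hab.1 (sq.I.map (φ k))
      (map_sq_zero sq.I sq.sq_zero (φ k)) (Spec.map (CommRingCat.ofHom (φ k)) ≫ sq.str)
      ((yon S).map uk ≫ hr.fst sq.top) ((yon S).map (cg sq.str (φ k)) ≫ sq.bot) (by
        calc ((yon S).map uk ≫ hr.fst sq.top) ≫ a ≫ b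
            = (((yon S).map uk ≫ hr.fst sq.top) ≫ a) ≫ b := (Category.assoc _ _ _).symm
          _ = ((yon S).map (ct sq.I sq.str (φ k)) ≫ sq.top) ≫ b := by rw [htopa]
          _ = (yon S).map (ct sq.I sq.str (φ k)) ≫ sq.top ≫ b := Category.assoc _ _ _
          _ = (yon S).map (ct sq.I sq.str (φ k)) ≫ (yon S).map sq.j ≫ sq.bot := by rw [sq.comm]
          _ = ((yon S).map (ct sq.I sq.str (φ k)) ≫ (yon S).map sq.j) ≫ sq.bot :=
              (Category.assoc _ _ _).symm
          _ = ((yon S).map (jOver (sq.I.map (φ k)) (Spec.map (CommRingCat.ofHom (φ k)) ≫ sq.str)) ≫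
                (yon S).map (cg sq.str (φ k))) ≫ sq.bot := by rw [hcj]
          _ = _ := Category.assoc _ _ _)
    refine ⟨l ≫ a, ?_, ?_⟩
    · exact (Category.assoc _ _ _).trans hl2
    · calc (yon S).map (jOver (sq.I.map (φ k)) (Spec.map (CommRingCat.ofHom (φ k)) ≫ sq.str)) ≫
            l ≫ a
          = ((yon S).map (jOver (sq.I.map (φ k)) (Spec.map (CommRingCat.ofHom (φ k)) ≫ sq.str)) ≫
              l) ≫ a := (Category.assoc _ _ _).symm
        _ = ((yon S).map uk ≫ hr.fst sq.top) ≫ a := by rw [hl1]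
        _ = _ := htopa
  choose m hm using hloc
  refine hasLift_of_local hbU sq C φ (fun k => by haveI := hφE k; infer_instance)
    (fun k => by haveI := hφE k; infer_instance) ?_ ?_ ?_ hsurj₀ m hm
  · -- joint surjectivity on `Spec A`
    intro τ'
    haveI : IsClosedImmersion (Spec.map (CommRingCat.ofHom (Ideal.Quotient.mk sq.I))) :=
      IsClosedImmersion.spec_of_surjective _ Ideal.Quotient.mk_surjective
    obtain ⟨τ, rfl⟩ := Groth.Agent.H8.surjective_of_isNilpotent_ker
      (Spec.map (CommRingCat.ofHom (Ideal.Quotient.mk sq.I)))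
      (Groth.Agent.H8.isNilpotent_ker_SpecMap_mk sq.A sq.I sq.sq_zero) τ'
    obtain ⟨k, z, hz⟩ := hsurj₀ τ
    refine ⟨k, Spec.map (CommRingCat.ofHom (Ideal.Quotient.mk (sq.I.map (φ k)))) z, ?_⟩
    have e := spec_quotientMap_comm sq.I (φ k)
    rw [← Scheme.Hom.comp_apply, ← e, Scheme.Hom.comp_apply, ← ct_left sq.I sq.str (φ k), hz]
  · intro k
    haveI := hE
    haveI := hθiso k
    rw [hctl]
    infer_instance
  · intro k
    haveI := hE
    haveI := hθiso k
    rw [hctl]
    infer_instance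

end Groth.Agent.H19.Inf
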