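import Groth.Agent.H19.InfSp
import Groth.Agent.H50.FOThick

/-!
# helper19: the standard thickening `Spec (A ⧸ I) ⟶ Spec A` is a first order thickening of sheaves;
the structure morphism of a universal first order thickening is formally unramified
-/

set_option autoImplicit false
universe u
open CategoryTheory CategoryTheory.Limits AlgebraicGeometry Opposite

namespace Groth.Agent.H19.Inf

open AlgSp

variable {S : Scheme.{u}}

/-- `h_{Spec (A ⧸ I)} ⟶ h_{Spec A}` is a first order thickening when `I ^ 2 = ⊥`. -/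
theorem isFOThickMor_yon_jOver {A : Type u} [CommRing A] (I : Ideal A) (hI : I ^ 2 = ⊥)
    (str : Spec (.of A) ⟶ S) : IsFOThickMor ((yon S).map (jOver I str)) := by
  haveI hci : IsClosedImmersion (Spec.map (CommRingCat.ofHom (Ideal.Quotient.mk I))) :=
    IsClosedImmersion.spec_of_surjective _ Ideal.Quotient.mk_surjective
  have hsz : sqZero (Spec.map (CommRingCat.ofHom (Ideal.Quotient.mk I))) :=
    Groth.Agent.H8.ker_SpecMap_mk_mul_self A I hI
  haveI hci' : IsClosedImmersion (jOver I str).left := hci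
  haveI hci'' : IsClosedImmersion ((Over.forget S).map (jOver I str)) := hci
  have hsurj : Function.Surjective (Spec.map (CommRingCat.ofHom (Ideal.Quotient.mk I))) :=
    Groth.Agent.H8.surjective_of_isNilpotent_ker _
      (Groth.Agent.H8.isNilpotent_ker_SpecMap_mk A I hI)
  refine ⟨(isThickMor_yon_map_iff _).2 ⟨hci, ⟨hsurj⟩⟩, ?_⟩
  intro V W b fst snd _ _ sq'
  obtain ⟨β, rfl⟩ := (yon S).map_surjective b
  obtain ⟨φ, rfl⟩ := (yon S).map_surjective fst
  have sqO : IsPullback φ snd (jOver I str) β :=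
    IsPullback.of_map (yon S) (by
      apply (yon S).map_injective
      rw [CategoryTheory.Functor.map_comp, CategoryTheory.Functor.map_comp]
      exact sq'.w) sq'
  have sqS := sqO.map (Over.forget S)
  exact Groth.Agent.H50.sqZero_of_isPullback_of_isClosedImmersion sqS hsz

/-- The structure morphism `h' : Z' ⟶ X` of a universal first order thickening `(i, h')` is formally
unramified (no hypothesis on `h` is needed). -/
theorem formallyUnramified_of_isUnivFOThick {Z Z' X : Sp S} (hZ' : IsAlgSpace Z') (h : Z ⟶ X)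
    (i : Z ⟶ Z') (h' : Z' ⟶ X) (HU : IsUnivFOThick h i h') : IsFormallyUnramifiedMor h' := by
  obtain ⟨hi, hw, hU⟩ := HU
  intro sq l₁ l₂ h1 h2 h3 h4
  have hr := hi.1.rep
  have sq₁ := hr.isPullback l₁
  have hj₁ : IsFOThickMor ((yon S).map (hr.snd l₁)) :=
    Groth.Agent.H50.isFOThickMor_of_isPullback hZ' sq₁ hi
  -- Step 2: `l₁` and `l₂` agree on `W₁`
  have sqT := IsPullback.of_hasPullback sq.j (hr.snd l₁)
  have sqT' := sqT.map (yon S)
  have hu : IsFOThickMor ((yon S).map (pullback.snd sq.j (hr.snd l₁))) :=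
    Groth.Agent.H50.isFOThickMor_of_isPullback (IsAlgSpace.yon_obj _) sqT'
      (isFOThickMor_yon_jOver sq.I sq.sq_zero sq.str)
  have hbot₁ : (yon S).map (hr.snd l₁) ≫ sq.bot = hr.fst l₁ ≫ h := by
    rw [← h2, ← Category.assoc, ← sq₁.w, Category.assoc, hw]
  have step2 : (yon S).map (hr.snd l₁) ≫ l₂ = (yon S).map (hr.snd l₁) ≫ l₁ := by
    obtain ⟨c, -, hcu⟩ := hU (IsAlgSpace.yon_obj _) (IsAlgSpace.yon_obj _)
      ((yon S).map (pullback.snd sq.j (hr.snd l₁)))
      ((yon S).map (pullback.snd sq.j (hr.snd l₁)) ≫ hr.fst l₁)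
      ((yon S).map (hr.snd l₁) ≫ sq.bot) hu (by rw [hbot₁, Category.assoc])
    have hw' : (yon S).map (pullback.snd sq.j (hr.snd l₁)) ≫ (yon S).map (hr.snd l₁) =
        (yon S).map (pullback.fst sq.j (hr.snd l₁)) ≫ (yon S).map sq.j := sqT'.w.symm
    have c1 := hcu ((yon S).map (hr.snd l₁) ≫ l₁) ⟨by
      rw [← sq₁.w, Category.assoc], by rw [Category.assoc, h2]⟩
    have c2 := hcu ((yon S).map (hr.snd l₁) ≫ l₂) ⟨by
      calc (yon S).map (pullback.snd sq.j (hr.snd l₁)) ≫ (yon S).map (hr.snd l₁) ≫ l₂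
          = ((yon S).map (pullback.fst sq.j (hr.snd l₁)) ≫ (yon S).map sq.j) ≫ l₂ := by
            rw [← Category.assoc, hw']
        _ = (yon S).map (pullback.fst sq.j (hr.snd l₁)) ≫ sq.top := by rw [Category.assoc, h3]
        _ = ((yon S).map (pullback.fst sq.j (hr.snd l₁)) ≫ (yon S).map sq.j) ≫ l₁ := by
            rw [Category.assoc, h1]
        _ = (yon S).map (pullback.snd sq.j (hr.snd l₁)) ≫ (yon S).map (hr.snd l₁) ≫ l₁ := by
            rw [← hw', Category.assoc]
        _ = ((yon S).map (pullback.snd sq.j (hr.snd l₁)) ≫ hr.fst l₁) ≫ i := by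
            rw [← sq₁.w, Category.assoc], by rw [Category.assoc, h4]⟩
    rw [c2, c1]
  -- Step 1
  obtain ⟨c, -, hcu⟩ := hU (IsAlgSpace.yon_obj _) (IsAlgSpace.yon_obj _)
    ((yon S).map (hr.snd l₁)) (hr.fst l₁) sq.bot hj₁ hbot₁
  have d1 := hcu l₁ ⟨sq₁.w.symm, h2⟩
  have d2 := hcu l₂ ⟨by rw [step2]; exact sq₁.w.symm, h4⟩
  rw [d1, d2]

end Groth.Agent.H19.Inf
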