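import Groth.Agent.H19.InfAff

/-!
# helper19: gluing unique solutions of lifting problems along an etale atlas

`glue`: for a representable `j : T ⟶ T'` with `T'` an algebraic space, a lifting problem
`(α : T ⟶ Z', β : T' ⟶ X', h' : Z' ⟶ X')` which has exactly one solution on every affine etale chart of
`T'` has exactly one solution on `T'`.
-/

set_option autoImplicit false
universe u
open CategoryTheory CategoryTheory.Limits AlgebraicGeometry Opposite

namespace Groth.Agent.H19.Inf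

open AlgSp

variable {S : Scheme.{u}}

/-- Morphisms of sheaves are determined on representables. -/
theorem hom_ext_yon {F G : Sp S} (a b : F ⟶ G)
    (h : ∀ (Q : Over S) (t : (yon S).obj Q ⟶ F), t ≫ a = t ≫ b) : a = b :=
  (J S).hom_ext_uliftYoneda (fun Q t => h Q t)

/-- Descending a morphism along an epimorphism of sheaves. -/
theorem exists_desc_of_epi {F G Z : Sp S} (p : F ⟶ G) [Epi p] (x : F ⟶ Z)
    (h : ∀ ⦃Q : Over S⦄ (q1 q2 : (yon S).obj Q ⟶ F), q1 ≫ p = q2 ≫ p → q1 ≫ x = q2 ≫ x) :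
    ∃ l : G ⟶ Z, p ≫ l = x := by
  have := H50.effectiveEpi_of_epi p
  have hx : ∀ {W : Sp S} (g₁ g₂ : W ⟶ F), g₁ ≫ p = g₂ ≫ p → g₁ ≫ x = g₂ ≫ x := by
    intro W g₁ g₂ hg
    apply hom_ext_yon
    intro Q t
    rw [← Category.assoc, ← Category.assoc]
    apply h
    rw [Category.assoc, Category.assoc, hg]
  exact ⟨EffectiveEpi.desc p x hx, EffectiveEpi.fac p x hx⟩

section Problem

variable {T T' Z' X' : Sp S}

/-- `l` solves the lifting problem restricted to the chart `c`, for the pullback `(W, fst, snd)` of `j`. -/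
def Solves (_j : T ⟶ T') (h' : Z' ⟶ X') (α : T ⟶ Z') (β : T' ⟶ X')
    {V W : Over S} (c : (yon S).obj V ⟶ T') (fst : (yon S).obj W ⟶ T) (snd : W ⟶ V)
    (l : (yon S).obj V ⟶ Z') : Prop :=
  (yon S).map snd ≫ l = fst ≫ α ∧ l ≫ h' = c ≫ β

variable {j : T ⟶ T'} {h' : Z' ⟶ X'} {α : T ⟶ Z'} {β : T' ⟶ X'}

/-- Restriction of a solution along a morphism of charts is a solution. -/
theorem Solves.restrict {V W V₂ W₂ : Over S} {c : (yon S).obj V ⟶ T'} {fst : (yon S).obj W ⟶ T}
    {snd : W ⟶ V} (sq : IsPullback fst ((yon S).map snd) j c) {l : (yon S).obj V ⟶ Z'}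
    (hl : Solves j h' α β c fst snd l) (r : V₂ ⟶ V) {c₂ : (yon S).obj V₂ ⟶ T'}
    (hc : c₂ = (yon S).map r ≫ c) {fst₂ : (yon S).obj W₂ ⟶ T} {snd₂ : W₂ ⟶ V₂}
    (sq₂ : IsPullback fst₂ ((yon S).map snd₂) j c₂) :
    Solves j h' α β c₂ fst₂ snd₂ ((yon S).map r ≫ l) := by
  subst hc
  refine ⟨?_, ?_⟩
  · have hw : fst₂ ≫ j = (yon S).map (snd₂ ≫ r) ≫ c := by
      rw [sq₂.w, Functor.map_comp, Category.assoc]
    have e1 : sq.lift fst₂ ((yon S).map (snd₂ ≫ r)) hw ≫ fst = fst₂ := sq.lift_fst _ _ _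
    have e2 : sq.lift fst₂ ((yon S).map (snd₂ ≫ r)) hw ≫ (yon S).map snd = (yon S).map (snd₂ ≫ r) :=
      sq.lift_snd _ _ _
    calc (yon S).map snd₂ ≫ (yon S).map r ≫ l
        = (yon S).map (snd₂ ≫ r) ≫ l := by rw [Functor.map_comp, Category.assoc]
      _ = sq.lift fst₂ ((yon S).map (snd₂ ≫ r)) hw ≫ (yon S).map snd ≫ l := by
          rw [← Category.assoc, e2]
      _ = sq.lift fst₂ ((yon S).map (snd₂ ≫ r)) hw ≫ fst ≫ α := by rw [hl.1]
      _ = fst₂ ≫ α := by rw [← Category.assoc, e1]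
  · rw [Category.assoc, hl.2, Category.assoc]

/-- The restriction of a global solution to a chart is a solution. -/
theorem Solves.of_global {V W : Over S} {c : (yon S).obj V ⟶ T'} {fst : (yon S).obj W ⟶ T}
    {snd : W ⟶ V} (sq : IsPullback fst ((yon S).map snd) j c) {l : T' ⟶ Z'}
    (h1 : j ≫ l = α) (h2 : l ≫ h' = β) : Solves j h' α β c fst snd (c ≫ l) := by
  refine ⟨?_, ?_⟩
  · rw [← Category.assoc, ← sq.w, Category.assoc, h1]
  · rw [Category.assoc, h2]

end Problem

/-- **Gluing.** A lifting problem along a representable `j : T ⟶ T'` into an algebraic space `T'`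
which is uniquely solvable on all affine etale charts of `T'` is uniquely solvable. -/
theorem glue {T T' Z' X' : Sp S} (hT' : IsAlgSpace T') (j : T ⟶ T') (hr : Representable j)
    (h' : Z' ⟶ X') (α : T ⟶ Z') (β : T' ⟶ X')
    (H : ∀ ⦃V W : Over S⦄ (c : (yon S).obj V ⟶ T') (fst : (yon S).obj W ⟶ T) (snd : W ⟶ V),
      IsAffine V.left → RepWith @Etale c → IsPullback fst ((yon S).map snd) j c →
        ∃! l : (yon S).obj V ⟶ Z', Solves j h' α β c fst snd l) :
    ∃! l : T' ⟶ Z', j ≫ l = α ∧ l ≫ h' = β := by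
  -- uniqueness
  have huniq : ∀ l₁ l₂ : T' ⟶ Z', (j ≫ l₁ = α ∧ l₁ ≫ h' = β) → (j ≫ l₂ = α ∧ l₂ ≫ h' = β) →
      l₁ = l₂ := by
    intro l₁ l₂ h₁ h₂
    apply hom_ext_of_affine_charts hT'
    intro V c hV hc
    have sq := hr.isPullback c
    exact (H c _ _ hV hc sq).unique (Solves.of_global sq h₁.1 h₁.2) (Solves.of_global sq h₂.1 h₂.2)
  -- the atlas by affine schemes
  obtain ⟨U₀, p₀, hpe, hps⟩ := hT'.atlas
  let ι : Type u := U₀.left.affineOpens
  let Uk : ι → Over S := fun k => H50.opensOver U₀ k.1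
  let e : ∀ k : ι, Uk k ⟶ U₀ := fun k => H50.opensOverι U₀ k.1
  let ck : ∀ k : ι, (yon S).obj (Uk k) ⟶ T' := fun k => (yon S).map (e k) ≫ p₀
  have hck : ∀ k, RepWith @Etale (ck k) := fun k => repWith_etale_opensOverι_comp p₀ hpe k.1
  have hUk : ∀ k : ι, IsAffine (Uk k).left := fun k => k.2
  have sqk : ∀ k : ι, IsPullback (hr.fst (ck k)) ((yon S).map (hr.snd (ck k))) j (ck k) :=
    fun k => hr.isPullback (ck k)
  have Hk : ∀ k : ι, ∃! l : (yon S).obj (Uk k) ⟶ Z',
      Solves j h' α β (ck k) (hr.fst (ck k)) (hr.snd (ck k)) l :=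
    fun k => H (ck k) _ _ (hUk k) (hck k) (sqk k)
  choose lk hlk using fun k => (Hk k).exists
  -- the chart from the disjoint union
  let σ : H50.sigmaOver Uk ⟶ U₀ := H50.sigmaOverDesc e
  have hσe : Etale σ.left := H50.etale_sigmaOverDesc e (fun k => inferInstanceAs (Etale k.1.ι))
  have hσs : Surjective σ.left := by
    refine H50.surjective_sigmaOverDesc e ?_
    intro τ
    obtain ⟨_, ⟨V, hV, rfl⟩, hτ, -⟩ :=
      U₀.left.isBasis_affineOpens.exists_subset_of_mem_open (Set.mem_univ τ) isOpen_univ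
    exact ⟨⟨V, hV⟩, ⟨τ, hτ⟩, rfl⟩
  obtain ⟨p, hpk, hpE, hpS⟩ : ∃ p : (yon S).obj (H50.sigmaOver Uk) ⟶ T',
      (∀ k, (yon S).map (H50.sigmaOverι Uk k) ≫ p = ck k) ∧ RepWith @Etale p ∧
        RepWith @Surjective p := by
    refine ⟨(yon S).map σ ≫ p₀, fun k => ?_,
      MorphismProperty.comp_mem _ _ _ ((repWith_yon_map_iff _ _).2 hσe) hpe,
      MorphismProperty.comp_mem _ _ _ ((repWith_yon_map_iff _ _).2 hσs) hps⟩
    simp only [ck]
    rw [← Category.assoc, ← Functor.map_comp, H50.sigmaOverι_desc]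
  haveI : Epi p := H52.epi_of_etale_surjective p hpE hpS
  obtain ⟨x, hx⟩ := H50.exists_desc_sigmaOver Uk lk
  -- key: compatibility on overlaps
  have hover : ∀ (k m : ι) ⦃Q : Over S⦄ (r1 : Q ⟶ Uk k) (r2 : Q ⟶ Uk m),
      (yon S).map r1 ≫ ck k = (yon S).map r2 ≫ ck m →
      (yon S).map r1 ≫ lk k = (yon S).map r2 ≫ lk m := by
    intro k m Q r1 r2 hr12
    -- the fibre product `R = U_k ×_{T'} U_m`
    have hcm : Representable (ck m) := (hck m).rep
    have sqR := hcm.isPullback (ck k)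
    obtain ⟨fR, hfR⟩ := (yon S).map_surjective (hcm.fst (ck k))
    have hsndE : Etale (hcm.snd (ck k)).left := (hck m).property _ _ _ sqR
    have hRw : (yon S).map fR ≫ ck m = (yon S).map (hcm.snd (ck k)) ≫ ck k := by
      rw [hfR]; exact sqR.w
    -- suffices on R
    have hR : (yon S).map (hcm.snd (ck k)) ≫ lk k = (yon S).map fR ≫ lk m := by
      apply hom_ext_of_affineOpens
      intro O
      let rO : H50.opensOver (hcm.pullback (ck k)) O.1 ⟶ Uk k :=
        H50.opensOverι _ O.1 ≫ hcm.snd (ck k)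
      let rO' : H50.opensOver (hcm.pullback (ck k)) O.1 ⟶ Uk m :=
        H50.opensOverι _ O.1 ≫ fR
      have hrO : Etale rO.left := by
        haveI := hsndE
        exact inferInstanceAs (Etale (O.1.ι ≫ (hcm.snd (ck k)).left))
      have hcO : RepWith @Etale ((yon S).map rO ≫ ck k) :=
        MorphismProperty.comp_mem _ _ _ ((repWith_yon_map_iff _ _).2 hrO) (hck k)
      have hcO' : (yon S).map rO ≫ ck k = (yon S).map rO' ≫ ck m := by
        simp only [rO, rO', Functor.map_comp, Category.assoc]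
        rw [hRw]
      have sqO := hr.isPullback ((yon S).map rO ≫ ck k)
      have s1 := (hlk k).restrict (sqk k) rO rfl sqO
      have s2 := (hlk m).restrict (sqk m) rO' hcO' sqO
      have := (H _ _ _ (show IsAffine (H50.opensOver (hcm.pullback (ck k)) O.1).left from O.2) hcO sqO).unique s1 s2
      simpa only [rO, rO', Functor.map_comp, Category.assoc] using this
    have hw : (yon S).map r2 ≫ ck m = (yon S).map r1 ≫ ck k := hr12.symm
    have e1 : sqR.lift ((yon S).map r2) ((yon S).map r1) hw ≫ hcm.fst (ck k) = (yon S).map r2 :=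
      sqR.lift_fst _ _ _
    have e2 : sqR.lift ((yon S).map r2) ((yon S).map r1) hw ≫ (yon S).map (hcm.snd (ck k)) =
        (yon S).map r1 := sqR.lift_snd _ _ _
    calc (yon S).map r1 ≫ lk k
        = sqR.lift ((yon S).map r2) ((yon S).map r1) hw ≫ (yon S).map (hcm.snd (ck k)) ≫ lk k := by
          rw [← Category.assoc, e2]
      _ = sqR.lift ((yon S).map r2) ((yon S).map r1) hw ≫ (yon S).map fR ≫ lk m := by rw [hR]
      _ = (yon S).map r2 ≫ lk m := by rw [hfR, ← Category.assoc, e1]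
  -- kernel pair condition
  have hker : ∀ ⦃Q : Over S⦄ (q1 q2 : (yon S).obj Q ⟶ (yon S).obj (H50.sigmaOver Uk)),
      q1 ≫ p = q2 ≫ p → q1 ≫ x = q2 ≫ x := by
    intro Q q1 q2 hq
    obtain ⟨β1, rfl⟩ := (yon S).map_surjective q1
    obtain ⟨β2, rfl⟩ := (yon S).map_surjective q2
    obtain ⟨Sg1, hSg1, hl1⟩ := H50.exists_sieve_sigmaOver Uk β1
    obtain ⟨Sg2, hSg2, hl2⟩ := H50.exists_sieve_sigmaOver Uk β2
    refine H50.hom_ext_of_local _ _ ((J S).intersection_covering hSg1 hSg2) ?_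
    intro Q' f hf
    obtain ⟨k, r1, hr1⟩ := hl1 f hf.1
    obtain ⟨m, r2, hr2⟩ := hl2 f hf.2
    have h12 : (yon S).map r1 ≫ ck k = (yon S).map r2 ≫ ck m := by
      calc (yon S).map r1 ≫ ck k
          = (yon S).map (r1 ≫ H50.sigmaOverι Uk k) ≫ p := by
            rw [Functor.map_comp, Category.assoc, hpk k]
        _ = (yon S).map f ≫ (yon S).map β1 ≫ p := by rw [hr1, Functor.map_comp, Category.assoc]
        _ = (yon S).map f ≫ (yon S).map β2 ≫ p := by rw [hq]
        _ = (yon S).map (r2 ≫ H50.sigmaOverι Uk m) ≫ p := by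
            rw [hr2, Functor.map_comp, Category.assoc]
        _ = (yon S).map r2 ≫ ck m := by rw [Functor.map_comp, Category.assoc, hpk m]
    calc (yon S).map f ≫ (yon S).map β1 ≫ x
        = (yon S).map (r1 ≫ H50.sigmaOverι Uk k) ≫ x := by
          rw [hr1, Functor.map_comp, Category.assoc]
      _ = (yon S).map r1 ≫ lk k := by rw [Functor.map_comp, Category.assoc, hx k]
      _ = (yon S).map r2 ≫ lk m := hover k m r1 r2 h12
      _ = (yon S).map (r2 ≫ H50.sigmaOverι Uk m) ≫ x := by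
          rw [Functor.map_comp, Category.assoc, hx m]
      _ = (yon S).map f ≫ (yon S).map β2 ≫ x := by
          rw [hr2, Functor.map_comp, Category.assoc]
  obtain ⟨l, hl⟩ := exists_desc_of_epi p x hker
  have hl2 : l ≫ h' = β := by
    rw [← cancel_epi p]
    apply H50.hom_ext_sigmaOver
    intro k
    calc (yon S).map (H50.sigmaOverι Uk k) ≫ p ≫ l ≫ h'
        = ((yon S).map (H50.sigmaOverι Uk k) ≫ x) ≫ h' := by
          rw [← hl, Category.assoc, Category.assoc]
      _ = ck k ≫ β := by rw [hx k, (hlk k).2]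
      _ = (yon S).map (H50.sigmaOverι Uk k) ≫ p ≫ β := by rw [← hpk k, Category.assoc]
  have hl1 : j ≫ l = α := by
    have sqP := IsPullback.of_hasPullback j p
    haveI : Epi (pullback.fst j p) := H52.epi_fst_of_isPullback sqP
    rw [← cancel_epi (pullback.fst j p)]
    apply hom_ext_yon
    intro Q t
    obtain ⟨β₀, hβ₀⟩ := (yon S).map_surjective (t ≫ pullback.snd j p)
    obtain ⟨Sg, hSg, hlS⟩ := H50.exists_sieve_sigmaOver Uk β₀
    refine H50.hom_ext_of_local _ _ hSg ?_
    intro Q' f hf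
    obtain ⟨k, r, hrk⟩ := hlS f hf
    have hcomm : ((yon S).map f ≫ t ≫ pullback.fst j p) ≫ j = (yon S).map r ≫ ck k := by
      rw [Category.assoc, Category.assoc, pullback.condition, ← Category.assoc t, ← hβ₀,
        ← Category.assoc, ← Functor.map_comp, ← hrk, Functor.map_comp, Category.assoc, hpk k]
    have e1 : (sqk k).lift _ _ hcomm ≫ hr.fst (ck k) = (yon S).map f ≫ t ≫ pullback.fst j p :=
      (sqk k).lift_fst _ _ _
    have e2 : (sqk k).lift _ _ hcomm ≫ (yon S).map (hr.snd (ck k)) = (yon S).map r :=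
      (sqk k).lift_snd _ _ _
    calc (yon S).map f ≫ t ≫ pullback.fst j p ≫ j ≫ l
        = (yon S).map f ≫ (t ≫ pullback.snd j p) ≫ p ≫ l := by
          rw [← Category.assoc (pullback.fst j p), pullback.condition, Category.assoc,
            Category.assoc]
      _ = (yon S).map (f ≫ β₀) ≫ x := by rw [← hβ₀, hl, Functor.map_comp, Category.assoc]
      _ = (yon S).map r ≫ lk k := by
          rw [← hrk, Functor.map_comp, Category.assoc, hx k]
      _ = (sqk k).lift _ _ hcomm ≫ (yon S).map (hr.snd (ck k)) ≫ lk k := by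
          rw [← Category.assoc, e2]
      _ = (sqk k).lift _ _ hcomm ≫ hr.fst (ck k) ≫ α := by rw [(hlk k).1]
      _ = (yon S).map f ≫ t ≫ pullback.fst j p ≫ α := by
          rw [← Category.assoc, e1, Category.assoc, Category.assoc]
  exact ⟨l, ⟨hl1, hl2⟩, fun l₂ h₂ => huniq l₂ l h₂ ⟨hl1, hl2⟩⟩

/-- The pullback of a first order thickening to an etale chart is a first order thickening of schemes
(in the sheaf sense). -/
theorem isFOThickMor_yon_map_snd {T T' : Sp S} {j : T ⟶ T'} (hj : IsFOThickMor j) {V W : Over S}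
    (c : (yon S).obj V ⟶ T') (fst : (yon S).obj W ⟶ T) (snd : W ⟶ V) (hc : RepWith @Etale c)
    (sq : IsPullback fst ((yon S).map snd) j c) : IsFOThickMor ((yon S).map snd) :=
  ⟨(isThickMor_yon_map_iff snd).2 (hj.1.property c fst snd sq),
    fun _ _ b fst₂ snd₂ hV₂ hb sq₂ => hj.2 (b ≫ c) (fst₂ ≫ fst) snd₂ hV₂
      (MorphismProperty.comp_mem _ _ _ hb hc) (sq₂.paste_horiz sq)⟩

/-- Uniqueness of lifts along a first order thickening of algebraic spaces (formally unramified). -/
theorem lift_unique {X Y T T' : Sp S} (hT' : IsAlgSpace T') {f : X ⟶ Y}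
    (hf : IsFormallyUnramifiedMor f) {j : T ⟶ T'} (hj : IsFOThickMor j) (l l' : T' ⟶ X)
    (h1 : j ≫ l = j ≫ l') (h2 : l ≫ f = l' ≫ f) : l = l' := by
  apply hom_ext_of_affine_charts hT'
  intro V c hV hc
  have hr := hj.1.rep
  have sq := hr.isPullback c
  have hth : thick (hr.snd c).left := hj.1.property c _ _ sq
  have hsz : sqZero (hr.snd c).left := hj.2 c (hr.fst c) (hr.snd c) hV hc sq
  apply lift_unique_affine hf (hr.snd c) hV hth.1 hsz
  · rw [← Category.assoc, ← Category.assoc, ← sq.w, Category.assoc, Category.assoc, h1]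
  · rw [Category.assoc, Category.assoc, h2]

/-- Unique lifting along a first order thickening of algebraic spaces (formally etale). -/
theorem lift_existsUnique {X Y T T' : Sp S} (hT' : IsAlgSpace T') {f : X ⟶ Y}
    (hf : IsFormallyEtaleMor f) {j : T ⟶ T'} (hj : IsFOThickMor j) (a : T ⟶ X) (b : T' ⟶ Y)
    (w : a ≫ f = j ≫ b) : ∃! l : T' ⟶ X, j ≫ l = a ∧ l ≫ f = b :=
  glue hT' j hj.1.rep f a b (fun V W c fst snd hV hc sq => by
    have hth : thick snd.left := hj.1.property c fst snd sq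
    have hsz : sqZero snd.left := hj.2 c fst snd hV hc sq
    exact lift_existsUnique_affine hf snd hV hth.1 hsz (fst ≫ a) (c ≫ b)
      (by rw [Category.assoc, w, ← Category.assoc, sq.w, Category.assoc]))

end Groth.Agent.H19.Inf
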