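import Groth.Agent.H19.InfTop

/-!
# helper19: local-to-global existence of infinitesimal lifts for a formally unramified morphism

For `b : G ⟶ H` formally unramified and a lifting square `sq : InfSq b` over `Spec (A ⧸ I) ⟶ Spec A`,
a dotted arrow exists as soon as "good" local arrows exist on a flat lfp covering of `Spec A` by affine
schemes `Spec D_k` (`hasLift_of_local`).
-/

set_option autoImplicit false
universe u
open CategoryTheory CategoryTheory.Limits AlgebraicGeometry Opposite

namespace Groth.Agent.H19.Inf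

open AlgSp

variable {S : Scheme.{u}}

/-- The sheaf condition for a flat lfp jointly surjective family, in terms of morphisms. -/
theorem exists_glue_family {T' : Over S} {Z : Sp S} {K : Type u} (Y : K → Over S)
    (g : ∀ k, Y k ⟶ T') (hsurj : ∀ τ : T'.left, ∃ (k : K) (y : (Y k).left), (g k).left y = τ)
    (hfl : ∀ k, Flat (g k).left) (hfp : ∀ k, LocallyOfFinitePresentation (g k).left)
    (m : ∀ k, (yon S).obj (Y k) ⟶ Z)
    (hcompat : ∀ (k k' : K) ⦃Q : Over S⦄ (r1 : Q ⟶ Y k) (r2 : Q ⟶ Y k'), r1 ≫ g k = r2 ≫ g k' →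
      (yon S).map r1 ≫ m k = (yon S).map r2 ≫ m k') :
    ∃ l : (yon S).obj T' ⟶ Z, ∀ k, (yon S).map (g k) ≫ l = m k := by
  have hF : Presieve.IsSheaf (J S) Z.obj := (isSheaf_iff_isSheaf_of_type _ _).1 Z.property
  have hmem : Sieve.generate (Presieve.ofArrows Y g) ∈ J S T' :=
    H50.mem_J_of_fppf_family Y g hsurj hfl hfp _
      (fun k => ⟨_, 𝟙 _, g k, Presieve.ofArrows.mk k, Category.id_comp _⟩)
  have hsf := hF.isSheafFor (Presieve.ofArrows Y g) hmem
  rw [Presieve.isSheafFor_arrows_iff] at hsf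
  have hcompat' : Presieve.Arrows.Compatible Z.obj g (fun k => H50.yonEquiv (m k)) := by
    intro i j Q gi gj hcomm
    apply (H50.yonEquiv (S := S) (F := Z) (T := Q)).symm.injective
    rw [← H50.yon_map_comp_yonEquiv_symm, ← H50.yon_map_comp_yonEquiv_symm,
      Equiv.symm_apply_apply, Equiv.symm_apply_apply]
    exact hcompat i j gi gj hcomm
  obtain ⟨t, ht, -⟩ := hsf (fun k => H50.yonEquiv (m k)) hcompat'
  refine ⟨H50.yonEquiv.symm t, fun k => ?_⟩
  rw [H50.yon_map_comp_yonEquiv_symm, ht k, Equiv.symm_apply_apply]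

section BC

variable {A : Type u} [CommRing A] (I : Ideal A) (str : Spec (.of A) ⟶ S)

/-- The affine chart `Spec D ⟶ Spec A ⟶ S` of a ring map `φ : A →+* D`. -/
noncomputable abbrev cV {D : Type u} [CommRing D] (φ : A →+* D) : Over S :=
  Over.mk (Spec.map (CommRingCat.ofHom φ) ≫ str)

/-- The chart morphism `Spec D ⟶ Spec A` over `S`. -/
noncomputable abbrev cg {D : Type u} [CommRing D] (φ : A →+* D) : cV str φ ⟶ Over.mk str :=
  Over.homMk (Spec.map (CommRingCat.ofHom φ)) rfl

theorem map_sq_zero (hI : I ^ 2 = ⊥) {D : Type u} [CommRing D] (φ : A →+* D) :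
    (I.map φ) ^ 2 = ⊥ := by
  rw [← Ideal.map_pow, hI, Ideal.map_bot]

theorem spec_quotientMap_comm {D : Type u} [CommRing D] (φ : A →+* D) :
    Spec.map (CommRingCat.ofHom (Ideal.quotientMap (I.map φ) φ Ideal.le_comap_map)) ≫
      Spec.map (CommRingCat.ofHom (Ideal.Quotient.mk I)) =
    Spec.map (CommRingCat.ofHom (Ideal.Quotient.mk (I.map φ))) ≫ Spec.map (CommRingCat.ofHom φ) := by
  rw [← Spec.map_comp, ← Spec.map_comp]
  congr 1

/-- The morphism `Spec (D ⧸ I D) ⟶ Spec (A ⧸ I)` over `S`. -/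
noncomputable def ct {D : Type u} [CommRing D] (φ : A →+* D) :
    Over.mk (Spec.map (CommRingCat.ofHom (Ideal.Quotient.mk (I.map φ))) ≫
      Spec.map (CommRingCat.ofHom φ) ≫ str) ⟶
    Over.mk (Spec.map (CommRingCat.ofHom (Ideal.Quotient.mk I)) ≫ str) :=
  Over.homMk (Spec.map (CommRingCat.ofHom (Ideal.quotientMap (I.map φ) φ Ideal.le_comap_map))) (by
    simp only [Over.mk_left, Over.mk_hom]
    exact (Category.assoc _ _ _).symm.trans
      ((congrArg (fun k => k ≫ str) (spec_quotientMap_comm I φ)).trans (Category.assoc _ _ _)))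

theorem ct_left {D : Type u} [CommRing D] (φ : A →+* D) :
    (ct I str φ).left =
      Spec.map (CommRingCat.ofHom (Ideal.quotientMap (I.map φ) φ Ideal.le_comap_map)) := rfl

theorem ct_comm {D : Type u} [CommRing D] (φ : A →+* D) :
    ct I str φ ≫ jOver I str =
      jOver (I.map φ) (Spec.map (CommRingCat.ofHom φ) ≫ str) ≫ cg str φ := by
  apply Over.OverMorphism.ext
  simp only [Over.comp_left, Over.homMk_left, ct_left]
  exact spec_quotientMap_comm I φ

variable {D D' : Type u} [CommRing D] [CommRing D'] (φ : A →+* D) (χ : D →+* D') (φ' : A →+* D')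
  (h : φ' = χ.comp φ)

/-- Restriction of charts. -/
noncomputable def cr : cV str φ' ⟶ cV str φ :=
  Over.homMk (Spec.map (CommRingCat.ofHom χ)) (by
    subst h
    simp only [Over.mk_left, Over.mk_hom]
    rw [← Category.assoc, ← Spec.map_comp]
    rfl)

theorem cr_left : (cr str φ χ φ' h).left = Spec.map (CommRingCat.ofHom χ) := rfl

theorem cr_cg : cr str φ χ φ' h ≫ cg str φ = cg str φ' := by
  subst h
  apply Over.OverMorphism.ext
  simp only [Over.comp_left, Over.homMk_left, cr_left]
  rw [← Spec.map_comp]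
  rfl

include h in
theorem map_le_comap : I.map φ ≤ (I.map φ').comap χ := by
  subst h
  rw [← Ideal.map_map]
  exact Ideal.le_comap_map

theorem spec_quotientMap_restrict :
    Spec.map (CommRingCat.ofHom (Ideal.quotientMap (I.map φ') χ (map_le_comap I φ χ φ' h))) ≫
      Spec.map (CommRingCat.ofHom (Ideal.quotientMap (I.map φ) φ Ideal.le_comap_map)) =
    Spec.map (CommRingCat.ofHom (Ideal.quotientMap (I.map φ') φ' Ideal.le_comap_map)) := by
  subst h
  rw [← Spec.map_comp]
  congr 1
  ext x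
  rfl

theorem spec_quotientMap_mk :
    Spec.map (CommRingCat.ofHom (Ideal.quotientMap (I.map φ') χ (map_le_comap I φ χ φ' h))) ≫
      Spec.map (CommRingCat.ofHom (Ideal.Quotient.mk (I.map φ))) =
    Spec.map (CommRingCat.ofHom (Ideal.Quotient.mk (I.map φ'))) ≫
      Spec.map (CommRingCat.ofHom χ) := by
  rw [← Spec.map_comp, ← Spec.map_comp]
  congr 1

/-- Restriction of the thickened charts. -/
noncomputable def cr₀ :
    Over.mk (Spec.map (CommRingCat.ofHom (Ideal.Quotient.mk (I.map φ'))) ≫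
      Spec.map (CommRingCat.ofHom φ') ≫ str) ⟶
    Over.mk (Spec.map (CommRingCat.ofHom (Ideal.Quotient.mk (I.map φ))) ≫
      Spec.map (CommRingCat.ofHom φ) ≫ str) :=
  Over.homMk (Spec.map (CommRingCat.ofHom
      (Ideal.quotientMap (I.map φ') χ (map_le_comap I φ χ φ' h)))) (by
    simp only [Over.mk_left, Over.mk_hom]
    have e1 := spec_quotientMap_mk I φ χ φ' h
    have e2 := congrArg CommaMorphism.left (cr_cg str φ χ φ' h)
    simp only [Over.comp_left, Over.homMk_left, cr_left] at e2
    calc _ = (Spec.map (CommRingCat.ofHom (Ideal.quotientMap (I.map φ') χ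
              (map_le_comap I φ χ φ' h))) ≫
            Spec.map (CommRingCat.ofHom (Ideal.Quotient.mk (I.map φ)))) ≫
              Spec.map (CommRingCat.ofHom φ) ≫ str := (Category.assoc _ _ _).symm
      _ = (Spec.map (CommRingCat.ofHom (Ideal.Quotient.mk (I.map φ'))) ≫
            Spec.map (CommRingCat.ofHom χ)) ≫ Spec.map (CommRingCat.ofHom φ) ≫ str := by rw [e1]
      _ = Spec.map (CommRingCat.ofHom (Ideal.Quotient.mk (I.map φ'))) ≫
            (Spec.map (CommRingCat.ofHom χ) ≫ Spec.map (CommRingCat.ofHom φ)) ≫ str := by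
          simp only [Category.assoc]
      _ = _ := by rw [e2])

theorem cr₀_left : (cr₀ I str φ χ φ' h).left = Spec.map (CommRingCat.ofHom
    (Ideal.quotientMap (I.map φ') χ (map_le_comap I φ χ φ' h))) := rfl

theorem cr₀_jOver : cr₀ I str φ χ φ' h ≫ jOver (I.map φ) (Spec.map (CommRingCat.ofHom φ) ≫ str) =
    jOver (I.map φ') (Spec.map (CommRingCat.ofHom φ') ≫ str) ≫ cr str φ χ φ' h := by
  apply Over.OverMorphism.ext
  simp only [Over.comp_left, Over.homMk_left, cr₀_left, cr_left]
  exact spec_quotientMap_mk I φ χ φ' h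

theorem cr₀_ct : cr₀ I str φ χ φ' h ≫ ct I str φ = ct I str φ' := by
  apply Over.OverMorphism.ext
  simp only [Over.comp_left, cr₀_left, ct_left]
  exact spec_quotientMap_restrict I φ χ φ' h

end BC

section Good

variable {G H : Sp S} {b : G ⟶ H} (sq : InfSq b)

/-- `m : h_{Spec D} ⟶ G` is a good local dotted arrow on the chart `φ : A →+* D`. -/
def Good {D : Type u} [CommRing D] (φ : sq.A →+* D) (m : (yon S).obj (cV sq.str φ) ⟶ G) : Prop :=
  m ≫ b = (yon S).map (cg sq.str φ) ≫ sq.bot ∧
    (yon S).map (jOver (sq.I.map φ) (Spec.map (CommRingCat.ofHom φ) ≫ sq.str)) ≫ m =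
      (yon S).map (ct sq.I sq.str φ) ≫ sq.top

variable {sq}

theorem Good.unique (hb : IsFormallyUnramifiedMor b) {D : Type u} [CommRing D] {φ : sq.A →+* D}
    {m m' : (yon S).obj (cV sq.str φ) ⟶ G} (h1 : Good sq φ m) (h2 : Good sq φ m') : m = m' :=
  lift_unique_spec hb (sq.I.map φ) (map_sq_zero sq.I sq.sq_zero φ) _ m m'
    (h1.2.trans h2.2.symm) (h1.1.trans h2.1.symm)

theorem Good.restrict {D D' : Type u} [CommRing D] [CommRing D'] {φ : sq.A →+* D}
    {m : (yon S).obj (cV sq.str φ) ⟶ G} (hm : Good sq φ m) (χ : D →+* D') (φ' : sq.A →+* D')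
    (h : φ' = χ.comp φ) : Good sq φ' ((yon S).map (cr sq.str φ χ φ' h) ≫ m) := by
  refine ⟨?_, ?_⟩
  · calc ((yon S).map (cr sq.str φ χ φ' h) ≫ m) ≫ b
        = (yon S).map (cr sq.str φ χ φ' h) ≫ m ≫ b := Category.assoc _ _ _
      _ = (yon S).map (cr sq.str φ χ φ' h) ≫ (yon S).map (cg sq.str φ) ≫ sq.bot := by rw [hm.1]
      _ = ((yon S).map (cr sq.str φ χ φ' h) ≫ (yon S).map (cg sq.str φ)) ≫ sq.bot :=
          (Category.assoc _ _ _).symm
      _ = (yon S).map (cg sq.str φ') ≫ sq.bot := by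
          rw [← CategoryTheory.Functor.map_comp, cr_cg]
  · calc (yon S).map (jOver (sq.I.map φ') (Spec.map (CommRingCat.ofHom φ') ≫ sq.str)) ≫
          (yon S).map (cr sq.str φ χ φ' h) ≫ m
        = ((yon S).map (jOver (sq.I.map φ') (Spec.map (CommRingCat.ofHom φ') ≫ sq.str)) ≫
            (yon S).map (cr sq.str φ χ φ' h)) ≫ m := (Category.assoc _ _ _).symm
      _ = ((yon S).map (cr₀ sq.I sq.str φ χ φ' h) ≫
            (yon S).map (jOver (sq.I.map φ) (Spec.map (CommRingCat.ofHom φ) ≫ sq.str))) ≫ m := by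
          rw [← CategoryTheory.Functor.map_comp, ← CategoryTheory.Functor.map_comp, cr₀_jOver]
      _ = (yon S).map (cr₀ sq.I sq.str φ χ φ' h) ≫
            (yon S).map (jOver (sq.I.map φ) (Spec.map (CommRingCat.ofHom φ) ≫ sq.str)) ≫ m :=
          Category.assoc _ _ _
      _ = (yon S).map (cr₀ sq.I sq.str φ χ φ' h) ≫ (yon S).map (ct sq.I sq.str φ) ≫ sq.top := by
          rw [hm.2]
      _ = ((yon S).map (cr₀ sq.I sq.str φ χ φ' h) ≫ (yon S).map (ct sq.I sq.str φ)) ≫ sq.top :=
          (Category.assoc _ _ _).symm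
      _ = (yon S).map (ct sq.I sq.str φ') ≫ sq.top := by
          rw [← CategoryTheory.Functor.map_comp, cr₀_ct]

/-- **Local to global.** Good local dotted arrows on a flat lfp covering of `Spec A` by affine charts
glue to a dotted arrow, for a formally unramified `b`. -/
theorem hasLift_of_local (hb : IsFormallyUnramifiedMor b) (sq : InfSq b) {K : Type u}
    (D : K → Type u) [∀ k, CommRing (D k)] (φ : ∀ k, sq.A →+* D k)
    (hfl : ∀ k, Flat (Spec.map (CommRingCat.ofHom (φ k))))
    (hfp : ∀ k, LocallyOfFinitePresentation (Spec.map (CommRingCat.ofHom (φ k))))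
    (hsurj : ∀ τ : Spec (.of sq.A), ∃ (k : K) (y : Spec (.of (D k))),
      (Spec.map (CommRingCat.ofHom (φ k))) y = τ)
    (hfl₀ : ∀ k, Flat (ct sq.I sq.str (φ k)).left)
    (hfp₀ : ∀ k, LocallyOfFinitePresentation (ct sq.I sq.str (φ k)).left)
    (hsurj₀ : ∀ τ : Spec (.of (sq.A ⧸ sq.I)), ∃ (k : K) (y : Spec (.of (D k ⧸ sq.I.map (φ k)))),
      (ct sq.I sq.str (φ k)).left y = τ)
    (m : ∀ k, (yon S).obj (cV sq.str (φ k)) ⟶ G) (hm : ∀ k, Good sq (φ k) (m k)) : sq.HasLift := by
  obtain ⟨l, hl⟩ := exists_glue_family (fun k => cV sq.str (φ k)) (fun k => cg sq.str (φ k))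
    hsurj hfl hfp m (by
      intro k k' Q r1 r2 hr
      -- localize to Spec-charts of `Q`
      obtain ⟨ψ, hψ⟩ : ∃ ψ : ∀ E : Q.left.affineOpens,
          Spec (.of Γ(Q.left, E.1)) ⟶ Spec (.of sq.A),
          ∀ E, ψ E = E.2.fromSpec ≫ (r1 ≫ cg sq.str (φ k)).left := ⟨_, fun _ => rfl⟩
      have hψ' : ∀ E, Spec.map (CommRingCat.ofHom (Spec.preimage (ψ E)).hom) = ψ E :=
        fun E => Spec.map_preimage (ψ E)
      have hwE : ∀ E : Q.left.affineOpens,
          E.2.fromSpec ≫ Q.hom = Spec.map (CommRingCat.ofHom (Spec.preimage (ψ E)).hom) ≫ sq.str := by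
        intro E
        rw [hψ' E, hψ E, Category.assoc]
        exact (congrArg (fun x => E.2.fromSpec ≫ x) (Over.w (r1 ≫ cg sq.str (φ k)))).symm
      refine hom_ext_of_family _ _
        (fun E : Q.left.affineOpens => cV sq.str (Spec.preimage (ψ E)).hom)
        (fun E => (Over.homMk E.2.fromSpec (hwE E) : cV sq.str (Spec.preimage (ψ E)).hom ⟶ Q))
        ?_ (fun E => inferInstanceAs (Flat E.2.fromSpec))
        (fun E => inferInstanceAs (LocallyOfFinitePresentation E.2.fromSpec)) ?_
      · intro τ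
        obtain ⟨_, ⟨E, hE, rfl⟩, hτ, -⟩ :=
          Q.left.isBasis_affineOpens.exists_subset_of_mem_open (Set.mem_univ τ) isOpen_univ
        have hrange : Set.range hE.fromSpec = (E : Set _) := hE.range_fromSpec
        obtain ⟨y, hy⟩ : τ ∈ Set.range hE.fromSpec := by rw [hrange]; exact hτ
        exact ⟨⟨E, hE⟩, y, hy⟩
      · intro E
        let wE : cV sq.str (Spec.preimage (ψ E)).hom ⟶ Q := Over.homMk E.2.fromSpec (hwE E)
        let χ1 : D k →+* Γ(Q.left, E.1) := (Spec.preimage (wE ≫ r1).left).hom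
        let χ2 : D k' →+* Γ(Q.left, E.1) := (Spec.preimage (wE ≫ r2).left).hom
        have hχ1 : Spec.map (CommRingCat.ofHom χ1) = (wE ≫ r1).left := Spec.map_preimage _
        have hχ2 : Spec.map (CommRingCat.ofHom χ2) = (wE ≫ r2).left := Spec.map_preimage _
        have h1 : (Spec.preimage (ψ E)).hom = χ1.comp (φ k) := by
          have : Spec.map (CommRingCat.ofHom (Spec.preimage (ψ E)).hom) =
              Spec.map (CommRingCat.ofHom (χ1.comp (φ k))) := by
            rw [hψ' E, hψ E, CommRingCat.ofHom_comp, Spec.map_comp, hχ1]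
            simp [wE]
          exact congrArg CommRingCat.Hom.hom (Spec.map_injective this)
        have h2 : (Spec.preimage (ψ E)).hom = χ2.comp (φ k') := by
          have : Spec.map (CommRingCat.ofHom (Spec.preimage (ψ E)).hom) =
              Spec.map (CommRingCat.ofHom (χ2.comp (φ k'))) := by
            rw [hψ' E, hψ E, hr, CommRingCat.ofHom_comp, Spec.map_comp, hχ2]
            simp [wE]
          exact congrArg CommRingCat.Hom.hom (Spec.map_injective this)
        have e1 : wE ≫ r1 = cr sq.str (φ k) χ1 _ h1 := by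
          apply Over.OverMorphism.ext
          rw [cr_left, hχ1]
        have e2 : wE ≫ r2 = cr sq.str (φ k') χ2 _ h2 := by
          apply Over.OverMorphism.ext
          rw [cr_left, hχ2]
        have g1 := (hm k).restrict χ1 _ h1
        have g2 := (hm k').restrict χ2 _ h2
        have := g1.unique hb g2
        calc (yon S).map wE ≫ (yon S).map r1 ≫ m k
            = (yon S).map (wE ≫ r1) ≫ m k := by
              rw [CategoryTheory.Functor.map_comp, Category.assoc]
          _ = (yon S).map (wE ≫ r2) ≫ m k' := by rw [e1, e2, this]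
          _ = (yon S).map wE ≫ (yon S).map r2 ≫ m k' := by
              rw [CategoryTheory.Functor.map_comp, Category.assoc])
  refine ⟨l, ?_, ?_⟩
  · -- restriction to `T`
    refine hom_ext_of_family _ _ _ (fun k => ct sq.I sq.str (φ k)) hsurj₀ hfl₀ hfp₀ ?_
    intro k
    calc (yon S).map (ct sq.I sq.str (φ k)) ≫ (yon S).map sq.j ≫ l
        = ((yon S).map (ct sq.I sq.str (φ k)) ≫ (yon S).map sq.j) ≫ l :=
          (Category.assoc _ _ _).symm
      _ = ((yon S).map (jOver (sq.I.map (φ k)) (Spec.map (CommRingCat.ofHom (φ k)) ≫ sq.str)) ≫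
            (yon S).map (cg sq.str (φ k))) ≫ l := by
          rw [← CategoryTheory.Functor.map_comp, ← CategoryTheory.Functor.map_comp]
          exact congrArg (fun x => (yon S).map x ≫ l) (ct_comm sq.I sq.str (φ k))
      _ = (yon S).map (jOver (sq.I.map (φ k)) (Spec.map (CommRingCat.ofHom (φ k)) ≫ sq.str)) ≫
            (yon S).map (cg sq.str (φ k)) ≫ l := Category.assoc _ _ _
      _ = (yon S).map (jOver (sq.I.map (φ k)) (Spec.map (CommRingCat.ofHom (φ k)) ≫ sq.str)) ≫
            m k := by rw [hl k]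
      _ = (yon S).map (ct sq.I sq.str (φ k)) ≫ sq.top := (hm k).2
  · refine hom_ext_of_family _ _ _ (fun k => cg sq.str (φ k)) hsurj hfl hfp ?_
    intro k
    calc (yon S).map (cg sq.str (φ k)) ≫ l ≫ b
        = ((yon S).map (cg sq.str (φ k)) ≫ l) ≫ b := (Category.assoc _ _ _).symm
      _ = m k ≫ b := by rw [hl k]
      _ = (yon S).map (cg sq.str (φ k)) ≫ sq.bot := (hm k).1

end Good

end Groth.Agent.H19.Inf
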