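import Groth.Agent.H19.InfEt

/-!
# helper19: etale morphisms of algebraic spaces are formally etale; translation between the
scheme-level `MoreMor.IsFormallyEtaleHom` and the sheaf-level `AlgSp.IsFormallyEtaleMor`
-/

set_option autoImplicit false
universe u
open CategoryTheory CategoryTheory.Limits AlgebraicGeometry Opposite

namespace Groth.Agent.H19.Inf

open AlgSp

variable {S : Scheme.{u}}

/-- An etale morphism out of an algebraic space is formally etale. -/
theorem formallyEtale_of_isEtaleMor {X Y : Sp S} (hX : IsAlgSpace X) (f : X ⟶ Y)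
    (hf : IsEtaleMor f) : IsFormallyEtaleMor f := by
  obtain ⟨U, p, hpe, hps⟩ := hX.atlas
  exact formallyEtale_of_comp_etale_surjective p f hpe hps
    (formallyEtale_of_repWith_etale _ (hf p hpe))

section Translate

variable {U V : Over S} (h : U ⟶ V)

/-- Scheme-level formally etale ⇒ sheaf-level formally etale. -/
theorem isFormallyEtaleMor_yon_map (hh : MoreMor.IsFormallyEtaleHom h.left) :
    IsFormallyEtaleMor ((yon S).map h) := by
  intro sq
  obtain ⟨t, ht⟩ := (yon S).map_surjective sq.top
  obtain ⟨β, hβ⟩ := (yon S).map_surjective sq.bot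
  have hc : t ≫ h = sq.j ≫ β := by
    apply (yon S).map_injective
    rw [CategoryTheory.Functor.map_comp, CategoryTheory.Functor.map_comp, ht, hβ]
    exact sq.comm
  have hc' : Spec.map (CommRingCat.ofHom (Ideal.Quotient.mk sq.I)) ≫ β.left = t.left ≫ h.left := by
    have := congrArg CommaMorphism.left hc
    simpa using this.symm
  obtain ⟨l₀, ⟨h1, h2⟩, hu⟩ := hh sq.A sq.I sq.sq_zero t.left β.left hc'
  have hl₀ : l₀ ≫ U.hom = sq.str := by
    rw [← Over.w h, ← Category.assoc, h2]
    exact Over.w β
  let L : sq.ptT' ⟶ U := Over.homMk l₀ hl₀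
  have hL1 : sq.j ≫ L = t := by
    apply Over.OverMorphism.ext
    simpa [L] using h1
  have hL2 : L ≫ h = β := by
    apply Over.OverMorphism.ext
    simpa [L] using h2
  refine ⟨(yon S).map L, ⟨?_, ?_⟩, ?_⟩
  · rw [← ht, ← CategoryTheory.Functor.map_comp, hL1]
  · rw [← hβ, ← CategoryTheory.Functor.map_comp, hL2]
  · rintro L' ⟨hL'1, hL'2⟩
    obtain ⟨M, rfl⟩ := (yon S).map_surjective L'
    congr 1
    apply Over.OverMorphism.ext
    have e1 : sq.j ≫ M = t :=
      (yon S).map_injective (by rw [CategoryTheory.Functor.map_comp, hL'1, ht])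
    have e2 : M ≫ h = β :=
      (yon S).map_injective (by rw [CategoryTheory.Functor.map_comp, hL'2, hβ])
    have : M.left = l₀ := by
      apply hu
      constructor
      · have := congrArg CommaMorphism.left e1
        simpa using this
      · have := congrArg CommaMorphism.left e2
        simpa using this
    simpa [L] using this

/-- Sheaf-level formally etale ⇒ scheme-level formally etale. -/
theorem isFormallyEtaleHom_of_isFormallyEtaleMor_yon_map
    (hh : IsFormallyEtaleMor ((yon S).map h)) : MoreMor.IsFormallyEtaleHom h.left := by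
  intro A _ I hI a₀ b₀ hc
  obtain ⟨str, hstr⟩ : ∃ str : Spec (.of A) ⟶ S, str = b₀ ≫ V.hom := ⟨_, rfl⟩
  let β : Over.mk str ⟶ V := Over.homMk b₀ hstr.symm
  have ht : a₀ ≫ U.hom = Spec.map (CommRingCat.ofHom (Ideal.Quotient.mk I)) ≫ str := by
    rw [hstr, ← Over.w h, ← Category.assoc, ← hc, Category.assoc]
  let t : Over.mk (Spec.map (CommRingCat.ofHom (Ideal.Quotient.mk I)) ≫ str) ⟶ U :=
    Over.homMk a₀ ht
  have hcomm : (yon S).map t ≫ (yon S).map h = (yon S).map (jOver I str) ≫ (yon S).map β := by
    rw [← CategoryTheory.Functor.map_comp, ← CategoryTheory.Functor.map_comp]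
    congr 1
    apply Over.OverMorphism.ext
    simpa [t, β] using hc.symm
  obtain ⟨l, ⟨h1, h2⟩, hu⟩ := hh (mkSq I hI str _ ((yon S).map t) ((yon S).map β) hcomm)
  obtain ⟨L, rfl⟩ := (yon S).map_surjective l
  have e1 : jOver I str ≫ L = t :=
    (yon S).map_injective (by rw [CategoryTheory.Functor.map_comp]; exact h1)
  have e2 : L ≫ h = β :=
    (yon S).map_injective (by rw [CategoryTheory.Functor.map_comp]; exact h2)
  refine ⟨L.left, ⟨?_, ?_⟩, ?_⟩
  · have := congrArg CommaMorphism.left e1
    simp only [Over.comp_left, Over.homMk_left, t] at this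
    exact this
  · have := congrArg CommaMorphism.left e2
    simp only [Over.comp_left, Over.homMk_left, β] at this
    exact this
  · rintro l' ⟨hl'1, hl'2⟩
    have hl'S : l' ≫ U.hom = str := by
      rw [hstr, ← Over.w h, ← Category.assoc, hl'2]
    let L' : Over.mk str ⟶ U := Over.homMk l' hl'S
    have key : (yon S).map L' = (yon S).map L := by
      apply hu
      constructor
      · change (yon S).map (jOver I str) ≫ (yon S).map L' = (yon S).map t
        rw [← CategoryTheory.Functor.map_comp]
        congr 1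
        apply Over.OverMorphism.ext
        simpa [L', t] using hl'1
      · change (yon S).map L' ≫ (yon S).map h = (yon S).map β
        rw [← CategoryTheory.Functor.map_comp]
        congr 1
        apply Over.OverMorphism.ext
        simpa [L', β] using hl'2
    have := congrArg CommaMorphism.left ((yon S).map_injective key)
    simpa [L'] using this

end Translate

/-- A chart diagram `a ≫ f = h_h ≫ b` for a morphism of algebraic spaces with `a`, `b` etale and
surjective. -/
theorem exists_chart_diagram {X Y : Sp S} (hX : IsAlgSpace X) (hY : IsAlgSpace Y) (f : X ⟶ Y) :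
    ∃ (U V : Over S) (a : (yon S).obj U ⟶ X) (b : (yon S).obj V ⟶ Y) (h : U ⟶ V),
      RepWith @Etale a ∧ RepWith @Surjective a ∧ RepWith @Etale b ∧ RepWith @Surjective b ∧
        a ≫ f = (yon S).map h ≫ b := by
  obtain ⟨U₀, p, hpe, hps⟩ := hX.atlas
  obtain ⟨V, q, hqe, hqs⟩ := hY.atlas
  have rq := hqe.rep
  have sqU := rq.isPullback (p ≫ f)
  obtain ⟨h, hh⟩ := (yon S).map_surjective (rq.fst (p ≫ f))
  have hsE : Etale (rq.snd (p ≫ f)).left := hqe.property _ _ _ sqU
  have hsS : Surjective (rq.snd (p ≫ f)).left := hqs.property _ _ _ sqU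
  refine ⟨_, V, (yon S).map (rq.snd (p ≫ f)) ≫ p, q, h,
    MorphismProperty.comp_mem _ _ _ ((repWith_yon_map_iff _ _).2 hsE) hpe,
    MorphismProperty.comp_mem _ _ _ ((repWith_yon_map_iff _ _).2 hsS) hps, hqe, hqs, ?_⟩
  rw [hh, Category.assoc]
  exact sqU.w.symm

/-- One chart diagram with etale surjective source chart and formally etale `h` gives formal etaleness. -/
theorem formallyEtale_of_chart {X Y : Sp S} (f : X ⟶ Y) {U V : Over S}
    (a : (yon S).obj U ⟶ X) (b : (yon S).obj V ⟶ Y) (h : U ⟶ V) (ha : RepWith @Etale a)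
    (ha' : RepWith @Surjective a) (hb : RepWith @Etale b) (hcomm : a ≫ f = (yon S).map h ≫ b)
    (hh : MoreMor.IsFormallyEtaleHom h.left) : IsFormallyEtaleMor f := by
  apply formallyEtale_of_comp_etale_surjective a f ha ha'
  rw [hcomm]
  exact H53.formallyEtale_comp _ _ (isFormallyEtaleMor_yon_map h hh)
    (formallyEtale_of_repWith_etale b hb)

/-- For a formally etale morphism every chart diagram has formally etale `h`. -/
theorem isFormallyEtaleHom_of_chart {X Y : Sp S} (f : X ⟶ Y) (hf : IsFormallyEtaleMor f)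
    {U V : Over S} (a : (yon S).obj U ⟶ X) (b : (yon S).obj V ⟶ Y) (h : U ⟶ V)
    (ha : RepWith @Etale a) (hb : RepWith @Etale b) (hcomm : a ≫ f = (yon S).map h ≫ b) :
    MoreMor.IsFormallyEtaleHom h.left := by
  apply isFormallyEtaleHom_of_isFormallyEtaleMor_yon_map
  apply H53.formallyEtale_of_comp ((yon S).map h) b
    ((H53.isFormallyEtaleMor_iff b).1 (formallyEtale_of_repWith_etale b hb)).2
  rw [← hcomm]
  exact H53.formallyEtale_comp a f (formallyEtale_of_repWith_etale a ha) hf

end Groth.Agent.H19.Inf
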