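import Groth.Agent.H19.InfGlue

/-!
# helper19: representable etale morphisms are formally etale; formal unramifiedness descends along
etale surjective maps on top
-/

set_option autoImplicit false
universe u
open CategoryTheory CategoryTheory.Limits AlgebraicGeometry Opposite

namespace Groth.Agent.H19.Inf

open AlgSp

variable {S : Scheme.{u}}

/-- A representable etale morphism of sheaves is formally etale. -/
theorem formallyEtale_of_repWith_etale {F G : Sp S} (a : F ⟶ G) (ha : RepWith @Etale a) :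
    IsFormallyEtaleMor a := by
  intro sq
  have hr := ha.rep
  have sqW := hr.isPullback sq.bot
  have hE : Etale (hr.snd sq.bot).left := ha.property _ _ _ sqW
  have hFE : MoreMor.IsFormallyEtaleHom (hr.snd sq.bot).left :=
    ((Groth.Agent.S1489.result _).1 hE).2
  -- the section over `T`
  obtain ⟨s, hs⟩ := (yon S).map_surjective (sqW.lift sq.top ((yon S).map sq.j) sq.comm)
  have hs1 : (yon S).map s ≫ hr.fst sq.bot = sq.top := by rw [hs]; exact sqW.lift_fst _ _ _
  have hs2 : s ≫ hr.snd sq.bot = sq.j := by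
    apply (yon S).map_injective
    rw [Functor.map_comp, hs]
    exact sqW.lift_snd _ _ _
  have hs2' : s.left ≫ (hr.snd sq.bot).left =
      Spec.map (CommRingCat.ofHom (Ideal.Quotient.mk sq.I)) := by
    have := congrArg CommaMorphism.left hs2
    simpa using this
  obtain ⟨m, ⟨hm1, hm2⟩, hmu⟩ := hFE sq.A sq.I sq.sq_zero s.left (𝟙 _)
    (by rw [Category.comp_id, hs2'])
  have hmS : m ≫ (hr.pullback sq.bot).hom = sq.str := by
    rw [← Over.w (hr.snd sq.bot), ← Category.assoc, hm2]
    exact Category.id_comp _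
  let M : sq.ptT' ⟶ hr.pullback sq.bot := Over.homMk m hmS
  have hM1 : sq.j ≫ M = s := by
    apply Over.OverMorphism.ext
    simpa [M] using hm1
  have hM2 : M ≫ hr.snd sq.bot = 𝟙 _ := by
    apply Over.OverMorphism.ext
    simpa [M] using hm2
  refine ⟨(yon S).map M ≫ hr.fst sq.bot, ⟨?_, ?_⟩, ?_⟩
  · rw [← Category.assoc, ← Functor.map_comp, hM1, hs1]
  · rw [Category.assoc, sqW.w, ← Category.assoc, ← Functor.map_comp, hM2, CategoryTheory.Functor.map_id,
      Category.id_comp]
  · rintro L ⟨hL1, hL2⟩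
    obtain ⟨M', hM'⟩ := (yon S).map_surjective
      (sqW.lift L (𝟙 _) (by rw [Category.id_comp, hL2]))
    have hM'1 : (yon S).map M' ≫ hr.fst sq.bot = L := by rw [hM']; exact sqW.lift_fst _ _ _
    have hM'2 : M' ≫ hr.snd sq.bot = 𝟙 _ := by
      apply (yon S).map_injective
      rw [Functor.map_comp, hM', CategoryTheory.Functor.map_id]
      exact sqW.lift_snd _ _ _
    have hM'3 : sq.j ≫ M' = s := by
      apply (yon S).map_injective
      apply sqW.hom_ext
      · rw [Functor.map_comp, Category.assoc, hM'1, hL1, hs1]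
      · rw [← Functor.map_comp, ← Functor.map_comp, Category.assoc, hM'2, Category.comp_id, hs2]
    have hleft : M'.left = m := by
      apply hmu
      refine ⟨?_, ?_⟩
      · have := congrArg CommaMorphism.left hM'3
        simpa using this
      · have := congrArg CommaMorphism.left hM'2
        simpa using this
    have hMM : M' = M := by
      apply Over.OverMorphism.ext
      simpa [M] using hleft
    rw [← hM'1, hMM]

/-- Base change of the standard square-zero thickening `Spec (A ⧸ I) ⟶ Spec A` along a morphism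
`ψ : Spec B ⟶ Spec A`: the ideal `J = I B` has square zero and there is a compatible morphism
`Spec (B ⧸ J) ⟶ Spec (A ⧸ I)` over `S`. -/
theorem exists_bc_spec {A : Type u} [CommRing A] (I : Ideal A) (hI : I ^ 2 = ⊥)
    (str : Spec (.of A) ⟶ S) {B : Type u} [CommRing B] (ψ : Spec (.of B) ⟶ Spec (.of A)) :
    ∃ (J : Ideal B) (_ : J ^ 2 = ⊥)
      (t : Over.mk (Spec.map (CommRingCat.ofHom (Ideal.Quotient.mk J)) ≫ ψ ≫ str) ⟶
        Over.mk (Spec.map (CommRingCat.ofHom (Ideal.Quotient.mk I)) ≫ str)),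
      t ≫ jOver I str = jOver J (ψ ≫ str) ≫ (Over.homMk ψ rfl : Over.mk (ψ ≫ str) ⟶ Over.mk str) := by
  let φ : A →+* B := (Spec.preimage ψ).hom
  have hφ : Spec.map (CommRingCat.ofHom φ) = ψ := Spec.map_preimage ψ
  let J : Ideal B := I.map φ
  have hJ : J ^ 2 = ⊥ := by
    rw [← Ideal.map_pow, hI, Ideal.map_bot]
  let q : A ⧸ I →+* B ⧸ J := Ideal.quotientMap J φ Ideal.le_comap_map
  have hq : Spec.map (CommRingCat.ofHom q) ≫ Spec.map (CommRingCat.ofHom (Ideal.Quotient.mk I)) =
      Spec.map (CommRingCat.ofHom (Ideal.Quotient.mk J)) ≫ ψ := by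
    rw [← hφ, ← Spec.map_comp, ← Spec.map_comp]
    congr 1
  refine ⟨J, hJ, Over.homMk (Spec.map (CommRingCat.ofHom q)) ?_, ?_⟩
  · simp only [Over.mk_left, Over.mk_hom]
    rw [← Category.assoc, hq, Category.assoc]
  · apply Over.OverMorphism.ext
    simp only [Over.comp_left, Over.homMk_left]
    exact hq

/-- If `a` is representable, etale and surjective and `a ≫ b` is formally unramified then `b` is
formally unramified. -/
theorem formallyUnramified_of_comp_etale_surjective {F G H : Sp S} (a : F ⟶ G) (b : G ⟶ H)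
    (ha : RepWith @Etale a) (ha' : RepWith @Surjective a)
    (hab : IsFormallyUnramifiedMor (a ≫ b)) : IsFormallyUnramifiedMor b := by
  intro sq l l' h1 h2 h3 h4
  have haE : IsFormallyEtaleMor a := formallyEtale_of_repWith_etale a ha
  rw [H53.isFormallyEtaleMor_iff] at haE
  have hr := ha.rep
  have sqW := hr.isPullback l
  have hE : Etale (hr.snd l).left := ha.property _ _ _ sqW
  have hSj : Surjective (hr.snd l).left := ha'.property _ _ _ sqW
  obtain ⟨ψ, hψ⟩ : ∃ ψ : ∀ O : (hr.pullback l).left.affineOpens,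
      Spec (.of Γ((hr.pullback l).left, O.1)) ⟶ Spec (.of sq.A),
      ∀ O, ψ O = O.2.fromSpec ≫ (hr.snd l).left := ⟨_, fun _ => rfl⟩
  refine hom_ext_of_family l l'
    (fun O : (hr.pullback l).left.affineOpens => Over.mk (ψ O ≫ sq.str))
    (fun O => (Over.homMk (ψ O) rfl : Over.mk (ψ O ≫ sq.str) ⟶ sq.ptT')) ?_ ?_ ?_ ?_
  · intro τ
    obtain ⟨w, rfl⟩ := hSj.surj τ
    obtain ⟨_, ⟨O, hO, rfl⟩, hw, -⟩ :=
      (hr.pullback l).left.isBasis_affineOpens.exists_subset_of_mem_open (Set.mem_univ w) isOpen_univ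
    have hrange : Set.range hO.fromSpec = (O : Set _) := hO.range_fromSpec
    obtain ⟨y, hy⟩ : w ∈ Set.range hO.fromSpec := by rw [hrange]; exact hw
    refine ⟨⟨O, hO⟩, y, ?_⟩
    simp only [Over.homMk_left, hψ, Scheme.Hom.comp_apply]
    rw [hy]
  · intro O
    haveI := hE
    simp only [Over.homMk_left, hψ]
    infer_instance
  · intro O
    haveI := hE
    simp only [Over.homMk_left, hψ]
    infer_instance
  · intro O
    obtain ⟨J, hJ, t, ht⟩ := exists_bc_spec sq.I sq.sq_zero sq.str (ψ O)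
    let gO : Over.mk (ψ O ≫ sq.str) ⟶ sq.ptT' := Over.homMk (ψ O) rfl
    let wO : Over.mk (ψ O ≫ sq.str) ⟶ hr.pullback l :=
      Over.homMk O.2.fromSpec (by
        simp only [Over.mk_left, Over.mk_hom, hψ, Category.assoc]
        exact (congrArg (fun k => O.2.fromSpec ≫ k) (Over.w (hr.snd l))).symm)
    have hwO : wO ≫ hr.snd l = gO := by
      apply Over.OverMorphism.ext
      simp [wO, gO, hψ]
    let l₁ : (yon S).obj (Over.mk (ψ O ≫ sq.str)) ⟶ F := (yon S).map wO ≫ hr.fst l
    have hl₁ : l₁ ≫ a = (yon S).map gO ≫ l := by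
      calc l₁ ≫ a = (yon S).map wO ≫ hr.fst l ≫ a := Category.assoc _ _ _
        _ = (yon S).map wO ≫ (yon S).map (hr.snd l) ≫ l := by rw [sqW.w]
        _ = ((yon S).map wO ≫ (yon S).map (hr.snd l)) ≫ l := (Category.assoc _ _ _).symm
        _ = (yon S).map gO ≫ l := by rw [← CategoryTheory.Functor.map_comp, hwO]
    have e : jOver J (ψ O ≫ sq.str) ≫ gO = t ≫ sq.j := ht.symm
    have htop : ∀ m : (yon S).obj sq.ptT' ⟶ G, (yon S).map sq.j ≫ m = sq.top →
        (yon S).map (jOver J (ψ O ≫ sq.str)) ≫ (yon S).map gO ≫ m = (yon S).map t ≫ sq.top := by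
      intro m hm
      calc (yon S).map (jOver J (ψ O ≫ sq.str)) ≫ (yon S).map gO ≫ m
          = ((yon S).map (jOver J (ψ O ≫ sq.str)) ≫ (yon S).map gO) ≫ m :=
            (Category.assoc _ _ _).symm
        _ = (yon S).map (t ≫ sq.j) ≫ m := by rw [← CategoryTheory.Functor.map_comp, e]
        _ = ((yon S).map t ≫ (yon S).map sq.j) ≫ m := by rw [CategoryTheory.Functor.map_comp]
        _ = (yon S).map t ≫ (yon S).map sq.j ≫ m := Category.assoc _ _ _
        _ = (yon S).map t ≫ sq.top := by rw [hm]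
    obtain ⟨l₂, hl₂1, hl₂2⟩ := lift_exists_spec haE.1 J hJ (ψ O ≫ sq.str)
      ((yon S).map (jOver J (ψ O ≫ sq.str)) ≫ l₁) ((yon S).map gO ≫ l') (by
        calc ((yon S).map (jOver J (ψ O ≫ sq.str)) ≫ l₁) ≫ a
            = (yon S).map (jOver J (ψ O ≫ sq.str)) ≫ l₁ ≫ a := Category.assoc _ _ _
          _ = (yon S).map (jOver J (ψ O ≫ sq.str)) ≫ (yon S).map gO ≫ l := by rw [hl₁]
          _ = (yon S).map t ≫ sq.top := htop l h1
          _ = (yon S).map (jOver J (ψ O ≫ sq.str)) ≫ (yon S).map gO ≫ l' := (htop l' h3).symm)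
    have h12 : l₁ = l₂ := by
      apply lift_unique_spec hab J hJ (ψ O ≫ sq.str) l₁ l₂ hl₂1.symm
      calc l₁ ≫ a ≫ b = (l₁ ≫ a) ≫ b := (Category.assoc _ _ _).symm
        _ = ((yon S).map gO ≫ l) ≫ b := by rw [hl₁]
        _ = (yon S).map gO ≫ l ≫ b := Category.assoc _ _ _
        _ = (yon S).map gO ≫ l' ≫ b := by rw [h2, h4]
        _ = ((yon S).map gO ≫ l') ≫ b := (Category.assoc _ _ _).symm
        _ = (l₂ ≫ a) ≫ b := by rw [hl₂2]
        _ = l₂ ≫ a ≫ b := Category.assoc _ _ _
    calc (yon S).map gO ≫ l = l₁ ≫ a := hl₁.symm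
      _ = l₂ ≫ a := by rw [h12]
      _ = (yon S).map gO ≫ l' := hl₂2

section Translate

variable {U V : Over S} (h : U ⟶ V)

/-- Scheme-level formally unramified ⇒ sheaf-level formally unramified. -/
theorem isFormallyUnramifiedMor_yon_map (hh : FormallyUnramified h.left) :
    IsFormallyUnramifiedMor ((yon S).map h) := by
  intro sq l l' h1 h2 h3 h4
  obtain ⟨m, rfl⟩ := (yon S).map_surjective l
  obtain ⟨m', rfl⟩ := (yon S).map_surjective l'
  congr 1
  have e1 : sq.j ≫ m = sq.j ≫ m' := by
    apply (yon S).map_injective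
    rw [Functor.map_comp, Functor.map_comp, h1, h3]
  have e2 : m ≫ h = m' ≫ h := by
    apply (yon S).map_injective
    rw [Functor.map_comp, Functor.map_comp, h2, h4]
  apply Over.OverMorphism.ext
  haveI : IsClosedImmersion (Spec.map (CommRingCat.ofHom (Ideal.Quotient.mk sq.I))) :=
    IsClosedImmersion.spec_of_surjective _ Ideal.Quotient.mk_surjective
  refine FormallyUnramified.hom_ext (Spec.map (CommRingCat.ofHom (Ideal.Quotient.mk sq.I)))
    (Groth.Agent.H8.isNilpotent_ker_SpecMap_mk sq.A sq.I sq.sq_zero) h.left ?_ ?_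
  · have := congrArg CommaMorphism.left e1
    simpa using this
  · have := congrArg CommaMorphism.left e2
    simpa using this

/-- Sheaf-level formally unramified ⇒ scheme-level formally unramified. -/
theorem formallyUnramified_of_isFormallyUnramifiedMor_yon_map
    (hh : IsFormallyUnramifiedMor ((yon S).map h)) : FormallyUnramified h.left := by
  refine FormallyUnramified.of_hom_ext h.left fun R S' φ hφ hker g₁ g₂ h₁ h₂ => ?_
  let I : Ideal R := RingHom.ker φ.hom
  let e : (R ⧸ I) ≃+* S' := RingHom.quotientKerEquivOfSurjective hφ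
  have hfac : CommRingCat.ofHom (Ideal.Quotient.mk I) ≫ CommRingCat.ofHom e.toRingHom = φ := by
    ext x
    rfl
  have h3 : Spec.map (CommRingCat.ofHom (Ideal.Quotient.mk I)) ≫ g₁ =
      Spec.map (CommRingCat.ofHom (Ideal.Quotient.mk I)) ≫ g₂ := by
    haveI : IsIso (CommRingCat.ofHom e.toRingHom) := e.toCommRingCatIso.isIso_hom
    rw [← cancel_epi (Spec.map (CommRingCat.ofHom e.toRingHom)), ← Spec.map_comp_assoc,
      ← Spec.map_comp_assoc, hfac]
    exact h₁
  have hstr : g₂ ≫ U.hom = g₁ ≫ U.hom := by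
    rw [← Over.w h, ← Category.assoc, ← h₂, Category.assoc]
  let str : Spec (.of R) ⟶ S := g₁ ≫ U.hom
  let m₁ : Over.mk str ⟶ U := Over.homMk g₁ rfl
  let m₂ : Over.mk str ⟶ U := Over.homMk g₂ hstr
  have key : (yon S).map m₁ = (yon S).map m₂ := by
    apply lift_unique_spec hh I hker str
    · rw [← Functor.map_comp, ← Functor.map_comp]
      congr 1
      apply Over.OverMorphism.ext
      simpa [m₁, m₂] using h3
    · rw [← Functor.map_comp, ← Functor.map_comp]
      congr 1
      apply Over.OverMorphism.ext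
      simpa [m₁, m₂] using h₂
  have := congrArg CommaMorphism.left ((yon S).map_injective key)
  simpa [m₁, m₂] using this

end Translate

end Groth.Agent.H19.Inf
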