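import Groth.Agent.H19.InfCov
import Groth.Agent.H19.InfFO

/-!
# helper19: descending universal first order thickenings along etale coverings (local existence)

`hasLift_of_isUnivFOThick_cover`: the key existence statement for
`AlgSp.isUnivFOThick_descend_etale_surjective`.
-/

set_option autoImplicit false
universe u
open CategoryTheory CategoryTheory.Limits AlgebraicGeometry Opposite

namespace Groth.Agent.H19.Inf

open AlgSp

variable {S : Scheme.{u}}

/-- Let `(iZ, f' ≫ hY')` be a universal first order thickening of `Z` over `X`, `iZ ≫ f' = e ≫ iY`,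
`hY'` formally unramified and `p ≫ e : h_U ⟶ Y` representable etale surjective.  Then an infinitesimal
lifting square for `hY'` whose top arrow factors through `iY` has a dotted arrow. -/
theorem hasLift_of_isUnivFOThick_cover {Z Y Z' Y' X : Sp S} (e : Z ⟶ Y) (iZ : Z ⟶ Z')
    (iY : Y ⟶ Y') (f' : Z' ⟶ Y') (w : iZ ≫ f' = e ≫ iY) (hY' : Y' ⟶ X) {h : Z ⟶ X}
    (HU : IsUnivFOThick h iZ (f' ≫ hY')) (hY'U : IsFormallyUnramifiedMor hY')
    {U : Over S} (p : (yon S).obj U ⟶ Z) (hpe : RepWith @Etale (p ≫ e))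
    (hps : RepWith @Surjective (p ≫ e))
    (sq : InfSq hY') (α₁ : (yon S).obj sq.ptT ⟶ Y) (hα : sq.top = α₁ ≫ iY) : sq.HasLift := by
  obtain ⟨hiZ, hwZ, hU⟩ := HU
  have hh : h = e ≫ iY ≫ hY' := by rw [← hwZ, ← Category.assoc, w, Category.assoc]
  have hr := hpe.rep
  have sqW := hr.isPullback α₁
  have hE : Etale (hr.snd α₁).left := hpe.property _ _ _ sqW
  have hSj : Surjective (hr.snd α₁).left := hps.property _ _ _ sqW
  obtain ⟨K, C, instC, φ, u, hφE, hu, hsurj, hctE, hsurj₀⟩ :=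
    exists_etale_cover sq.I sq.sq_zero sq.str (hr.snd α₁) hE hSj
  letI : ∀ k, CommRing (C k) := instC
  have hloc : ∀ k, ∃ m : (yon S).obj (cV sq.str (φ k)) ⟶ Y', Good sq (φ k) m := by
    intro k
    have hjFO : IsFOThickMor ((yon S).map
        (jOver (sq.I.map (φ k)) (Spec.map (CommRingCat.ofHom (φ k)) ≫ sq.str))) :=
      isFOThickMor_yon_jOver _ (map_sq_zero sq.I sq.sq_zero (φ k)) _
    -- `yon (u k) ≫ fst ≫ (p ≫ e) = yon (ct) ≫ α₁`
    have hue : (yon S).map (u k) ≫ hr.fst α₁ ≫ p ≫ e = (yon S).map (ct sq.I sq.str (φ k)) ≫ α₁ := by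
      calc (yon S).map (u k) ≫ hr.fst α₁ ≫ p ≫ e
          = (yon S).map (u k) ≫ (yon S).map (hr.snd α₁) ≫ α₁ := by rw [sqW.w]
        _ = ((yon S).map (u k) ≫ (yon S).map (hr.snd α₁)) ≫ α₁ := (Category.assoc _ _ _).symm
        _ = (yon S).map (ct sq.I sq.str (φ k)) ≫ α₁ := by
            rw [← CategoryTheory.Functor.map_comp, hu k]
    have hcj : (yon S).map (ct sq.I sq.str (φ k)) ≫ (yon S).map sq.j =
        (yon S).map (jOver (sq.I.map (φ k)) (Spec.map (CommRingCat.ofHom (φ k)) ≫ sq.str)) ≫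
          (yon S).map (cg sq.str (φ k)) := by
      rw [← CategoryTheory.Functor.map_comp, ← CategoryTheory.Functor.map_comp]
      exact congrArg (fun x => (yon S).map x) (ct_comm sq.I sq.str (φ k))
    have hcomm' : α₁ ≫ iY ≫ hY' = (yon S).map sq.j ≫ sq.bot := by
      rw [← Category.assoc, ← hα]; exact sq.comm
    have hcond : (yon S).map (jOver (sq.I.map (φ k)) (Spec.map (CommRingCat.ofHom (φ k)) ≫ sq.str)) ≫
        (yon S).map (cg sq.str (φ k)) ≫ sq.bot = ((yon S).map (u k) ≫ hr.fst α₁ ≫ p) ≫ h := by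
      calc (yon S).map (jOver (sq.I.map (φ k)) (Spec.map (CommRingCat.ofHom (φ k)) ≫ sq.str)) ≫
            (yon S).map (cg sq.str (φ k)) ≫ sq.bot
          = ((yon S).map (jOver (sq.I.map (φ k)) (Spec.map (CommRingCat.ofHom (φ k)) ≫ sq.str)) ≫
              (yon S).map (cg sq.str (φ k))) ≫ sq.bot := (Category.assoc _ _ _).symm
        _ = ((yon S).map (ct sq.I sq.str (φ k)) ≫ (yon S).map sq.j) ≫ sq.bot := by rw [hcj]
        _ = (yon S).map (ct sq.I sq.str (φ k)) ≫ (yon S).map sq.j ≫ sq.bot := Category.assoc _ _ _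
        _ = (yon S).map (ct sq.I sq.str (φ k)) ≫ α₁ ≫ iY ≫ hY' := by rw [hcomm']
        _ = ((yon S).map (ct sq.I sq.str (φ k)) ≫ α₁) ≫ iY ≫ hY' := (Category.assoc _ _ _).symm
        _ = ((yon S).map (u k) ≫ hr.fst α₁ ≫ p ≫ e) ≫ iY ≫ hY' := by rw [hue]
        _ = ((yon S).map (u k) ≫ hr.fst α₁ ≫ p) ≫ h := by
            rw [hh]; simp only [Category.assoc]
    obtain ⟨ã, ⟨hã1, hã2⟩, -⟩ := hU (IsAlgSpace.yon_obj _) (IsAlgSpace.yon_obj _)
      ((yon S).map (jOver (sq.I.map (φ k)) (Spec.map (CommRingCat.ofHom (φ k)) ≫ sq.str)))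
      ((yon S).map (u k) ≫ hr.fst α₁ ≫ p) ((yon S).map (cg sq.str (φ k)) ≫ sq.bot) hjFO hcond
    refine ⟨ã ≫ f', ?_, ?_⟩
    · rw [Category.assoc]; exact hã2
    · calc (yon S).map (jOver (sq.I.map (φ k)) (Spec.map (CommRingCat.ofHom (φ k)) ≫ sq.str)) ≫
            ã ≫ f'
          = ((yon S).map (jOver (sq.I.map (φ k)) (Spec.map (CommRingCat.ofHom (φ k)) ≫ sq.str)) ≫
              ã) ≫ f' := (Category.assoc _ _ _).symm
        _ = (((yon S).map (u k) ≫ hr.fst α₁ ≫ p) ≫ iZ) ≫ f' := by rw [hã1]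
        _ = ((yon S).map (u k) ≫ hr.fst α₁ ≫ p) ≫ iZ ≫ f' := Category.assoc _ _ _
        _ = ((yon S).map (u k) ≫ hr.fst α₁ ≫ p) ≫ e ≫ iY := by rw [w]
        _ = ((yon S).map (u k) ≫ hr.fst α₁ ≫ p ≫ e) ≫ iY := by simp only [Category.assoc]
        _ = ((yon S).map (ct sq.I sq.str (φ k)) ≫ α₁) ≫ iY := by rw [hue]
        _ = (yon S).map (ct sq.I sq.str (φ k)) ≫ α₁ ≫ iY := Category.assoc _ _ _
        _ = (yon S).map (ct sq.I sq.str (φ k)) ≫ sq.top := by rw [hα]
  choose m hm using hloc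
  exact hasLift_of_local hY'U sq C φ (fun k => by haveI := hφE k; infer_instance)
    (fun k => by haveI := hφE k; infer_instance) hsurj
    (fun k => by haveI := hctE k; infer_instance) (fun k => by haveI := hctE k; infer_instance)
    hsurj₀ m hm

/-- Lifting against a square-zero closed immersion with affine target, reduced to the existence of
dotted arrows for the standard squares `Spec (A ⧸ I) ⟶ Spec A` whose top arrow is the transport of `α`. -/
theorem lift_exists_affine_of_hasLift {X Y : Sp S} (f : X ⟶ Y) {V W : Over S} (snd : W ⟶ V)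
    (hV : IsAffine V.left) (hci : IsClosedImmersion snd.left) (hsq : sqZero snd.left)
    (α : (yon S).obj W ⟶ X) (β : (yon S).obj V ⟶ Y) (w : α ≫ f = (yon S).map snd ≫ β)
    (H : ∀ sq : InfSq f, (∃ eW : sq.ptT ≅ W, sq.top = (yon S).map eW.hom ≫ α) → sq.HasLift) :
    ∃ l : (yon S).obj V ⟶ X, (yon S).map snd ≫ l = α ∧ l ≫ f = β := by
  obtain ⟨A, _, I, hI, str, eV, eW, hc⟩ := exists_infSq_data snd hV hci hsq
  have hc' : snd ≫ eV.inv = eW.inv ≫ jOver I str := by
    rw [Iso.comp_inv_eq, Category.assoc, ← hc, Iso.inv_hom_id_assoc]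
  obtain ⟨l₀, h1', h2'⟩ : ∃ l₀ : (yon S).obj (Over.mk str) ⟶ X,
      (yon S).map (jOver I str) ≫ l₀ = (yon S).map eW.hom ≫ α ∧
        l₀ ≫ f = (yon S).map eV.hom ≫ β :=
    H (mkSq I hI str f ((yon S).map eW.hom ≫ α)
      ((yon S).map eV.hom ≫ β) (by
        rw [Category.assoc, w, ← Category.assoc, ← CategoryTheory.Functor.map_comp, hc,
          CategoryTheory.Functor.map_comp, Category.assoc])) ⟨eW, rfl⟩
  refine ⟨(yon S).map eV.inv ≫ l₀, ?_, ?_⟩
  · rw [← Category.assoc, ← CategoryTheory.Functor.map_comp, hc', CategoryTheory.Functor.map_comp,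
      Category.assoc, h1', ← Category.assoc, ← CategoryTheory.Functor.map_comp, Iso.inv_hom_id,
      CategoryTheory.Functor.map_id, Category.id_comp]
  · rw [Category.assoc, h2', ← Category.assoc, ← CategoryTheory.Functor.map_comp, Iso.inv_hom_id,
      CategoryTheory.Functor.map_id, Category.id_comp]

end Groth.Agent.H19.Inf
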