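import Mathlib.RingTheory.Flat.Basic
import Mathlib.RingTheory.IsTensorProduct
import Mathlib.LinearAlgebra.TensorProduct.Pi
import Mathlib.Algebra.Category.Ring.Constructions
import Mathlib.RingTheory.RingHom.Flat

/-!
# Invariants of a finite group action commute with flat base change
-/

set_option autoImplicit false
set_option linter.style.haveILetI false
universe u

namespace Groth.Agent.H19.InvFlat

open TensorProduct

section alg

variable {A B A' B' : Type u} [CommRing A] [CommRing B] [CommRing A'] [CommRing B']
  [Algebra A B] [Algebra A A'] [Algebra A' B'] [Algebra B B'] [Algebra A B']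
  [IsScalarTower A A' B'] [IsScalarTower A B B'] [Algebra.IsPushout A A' B B'] [Module.Flat A A']
  {G : Type*} [Finite G]
  (σ : G → B →+* B) (σ' : G → B' →+* B')

include σ σ' in
theorem main_alg (hσβ : ∀ g b, σ' g (algebraMap B B' b) = algebraMap B B' (σ g b))
    (hσφ' : ∀ g a', σ' g (algebraMap A' B' a') = algebraMap A' B' a')
    (hσφ : ∀ g a, σ g (algebraMap A B a) = algebraMap A B a)
    (hinj : Function.Injective (algebraMap A B))
    (hfix : ∀ b, (∀ g, σ g b = b) → b ∈ Set.range (algebraMap A B)) :
    Function.Injective (algebraMap A' B') ∧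
      ∀ b', (∀ g, σ' g b' = b') → b' ∈ Set.range (algebraMap A' B') := by
  classical
  cases nonempty_fintype G
  let e := Algebra.IsPushout.equiv A A' B B'
  let f : A →ₗ[A] B := Algebra.linearMap A B
  let δ : B →ₗ[A] (G → B) :=
    { toFun := fun b g => σ g b - b
      map_add' := by
        intro x y
        ext g
        simp only [map_add, Pi.add_apply]
        ring
      map_smul' := by
        intro a b
        ext g
        simp only [Algebra.smul_def, map_mul, hσφ, RingHom.id_apply, Pi.smul_apply, mul_sub] }
  have hδ : ∀ b g, δ b g = σ g b - b := fun b g => rfl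
  have hex : Function.Exact f δ := by
    intro b
    constructor
    · intro h
      have h1 : ∀ g, σ g b = b := fun g => sub_eq_zero.mp ((hδ b g).symm.trans (congrFun h g))
      exact hfix b h1
    · rintro ⟨a, rfl⟩
      ext g
      rw [hδ]
      change σ g (algebraMap A B a) - algebraMap A B a = 0
      rw [hσφ, sub_self]
  have hex' := Module.Flat.lTensor_exact A' hex
  have hinj' : Function.Injective (f.lTensor A') :=
    Module.Flat.lTensor_preserves_injective_linearMap f hinj
  have he_f : ∀ z : A' ⊗[A] A,
      e (f.lTensor A' z) = algebraMap A' B' (TensorProduct.rid A A' z) := by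
    intro z
    induction z using TensorProduct.induction_on with
    | zero => simp
    | tmul a' a =>
      simp only [LinearMap.lTensor_tmul, TensorProduct.rid_tmul]
      rw [Algebra.IsPushout.equiv_tmul]
      rw [show f a = algebraMap A B a from rfl, ← IsScalarTower.algebraMap_apply A B B',
        IsScalarTower.algebraMap_apply A A' B', ← map_mul, Algebra.smul_def, mul_comm]
    | add x y hx hy => simp only [map_add, hx, hy]
  have he_δ : ∀ (g : G) (x : A' ⊗[A] B),
      e (((LinearMap.proj g : (G → B) →ₗ[A] B) ∘ₗ δ).lTensor A' x) = σ' g (e x) - e x := by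
    intro g x
    induction x using TensorProduct.induction_on with
    | zero => simp
    | tmul a' b =>
      simp only [LinearMap.lTensor_tmul, LinearMap.comp_apply, LinearMap.proj_apply]
      rw [Algebra.IsPushout.equiv_tmul, Algebra.IsPushout.equiv_tmul, map_mul, hσφ', hσβ, hδ,
        map_sub]
      ring
    | add x y hx hy =>
      simp only [map_add, hx, hy]
      ring
  have hpr : ∀ (g : G) (y : A' ⊗[A] (G → B)),
      (TensorProduct.piRight A A A' (fun _ : G => B) y) g =
        (LinearMap.proj g : (G → B) →ₗ[A] B).lTensor A' y := by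
    intro g y
    induction y using TensorProduct.induction_on with
    | zero => simp
    | tmul a' h => simp
    | add x y hx hy => simp only [map_add, Pi.add_apply, hx, hy]
  have hpi : ∀ y : A' ⊗[A] (G → B),
      (∀ g, (LinearMap.proj g : (G → B) →ₗ[A] B).lTensor A' y = 0) → y = 0 := by
    intro y hy
    apply (TensorProduct.piRight A A A' (fun _ : G => B)).injective
    rw [map_zero]
    ext g
    rw [hpr]
    exact hy g
  constructor
  · have h1 : ∀ a', algebraMap A' B' a' =
        e (f.lTensor A' ((TensorProduct.rid A A').symm a')) := by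
      intro a'
      rw [he_f, LinearEquiv.apply_symm_apply]
    intro x y hxy
    rw [h1 x, h1 y] at hxy
    exact (TensorProduct.rid A A').symm.injective (hinj' (e.injective hxy))
  · intro b' hb'
    have hx' : e (e.symm b') = b' := e.apply_symm_apply b'
    have h0 : δ.lTensor A' (e.symm b') = 0 := by
      apply hpi
      intro g
      rw [← LinearMap.comp_apply, ← LinearMap.lTensor_comp]
      apply e.injective
      rw [he_δ, hx', hb' g, sub_self, map_zero]
    obtain ⟨z, hz⟩ := (hex' (e.symm b')).mp h0
    exact ⟨TensorProduct.rid A A' z, by rw [← he_f, hz, hx']⟩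

end alg

open CategoryTheory in
theorem main {A B A' B' : CommRingCat.{u}} {G : Type*} [Finite G]
    (φ : A ⟶ B) (α : A ⟶ A') (β : B ⟶ B') (φ' : A' ⟶ B')
    (hpo : IsPushout φ α β φ') (hflat : α.hom.Flat)
    (σ : G → B →+* B) (σ' : G → B' →+* B')
    (hσβ : ∀ g b, σ' g (β.hom b) = β.hom (σ g b))
    (hσφ' : ∀ g a', σ' g (φ'.hom a') = φ'.hom a')
    (hσφ : ∀ g a, σ g (φ.hom a) = φ.hom a)
    (hinj : Function.Injective φ.hom)
    (hfix : ∀ b, (∀ g, σ g b = b) → b ∈ Set.range φ.hom) :
    Function.Injective φ'.hom ∧ ∀ b', (∀ g, σ' g b' = b') → b' ∈ Set.range φ'.hom := by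
  letI := φ.hom.toAlgebra
  letI := α.hom.toAlgebra
  letI := β.hom.toAlgebra
  letI := φ'.hom.toAlgebra
  letI : Algebra A B' := (β.hom.comp φ.hom).toAlgebra
  haveI : IsScalarTower A B B' := .of_algebraMap_eq' rfl
  haveI : IsScalarTower A A' B' := .of_algebraMap_eq' (by
    change β.hom.comp φ.hom = φ'.hom.comp α.hom
    rw [← CommRingCat.hom_comp, ← CommRingCat.hom_comp, hpo.w])
  haveI : Module.Flat A A' := hflat
  haveI : Algebra.IsPushout A A' B B' := CommRingCat.isPushout_iff_isPushout.mp hpo.flip
  exact main_alg σ σ' hσβ hσφ' hσφ hinj hfix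

end Groth.Agent.H19.InvFlat
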