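import Mathlib

/-!
# Jouanolou's trick, ring level

`A → B` a ring map, `r : ι → A`, `b : ι → B` with `∑ φ (r i) * b i = 1`.  Then
`B ⊗_A (A[x_i, t]/(∑ r_i x_i - 1))` is the polynomial ring `B[y_i]`: the square
`A → B`, `A → A[x,t]/(…)`, `B → B[y]`, `A[x,t]/(…) → B[y]` is a pushout of commutative rings.
-/

set_option autoImplicit false
universe u
open CategoryTheory CategoryTheory.Limits MvPolynomial

namespace Groth.Agent.H19.JouRing

section
variable {A B : Type u} [CommRing A] [CommRing B] (φ : A →+* B) {ι : Type u} [Fintype ι]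
  (r : ι → A) (b : ι → B)

/-- the defining relation `∑ r_i x_i - 1` -/
noncomputable def rel : MvPolynomial (Option ι) A := ∑ i, C (r i) * X (some i) - 1

/-- the Jouanolou ring `A[x_i, t]/(∑ r_i x_i - 1)` -/
abbrev JRing : Type u := MvPolynomial (Option ι) A ⧸ Ideal.span {rel r}

/-- the linear form `∑ φ(r_j) y_j` -/
noncomputable def L : MvPolynomial ι B := ∑ j, C (φ (r j)) * X j

/-- images of the variables -/
noncomputable def vars : Option ι → MvPolynomial ι B
  | none => L φ r
  | some i => X i - L φ r * C (b i) + C (b i)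

noncomputable def psiPoly : MvPolynomial (Option ι) A →+* MvPolynomial ι B :=
  eval₂Hom (C.comp φ) (vars φ r b)

lemma psiPoly_rel (hb : ∑ i, φ (r i) * b i = 1) : psiPoly φ r b (rel r) = 0 := by
  have h1 : ∑ i, C (φ (r i)) * C (b i) = (1 : MvPolynomial ι B) := by
    simp_rw [← C_mul, ← map_sum, hb, C_1]
  simp only [psiPoly, rel, map_sub, map_sum, map_mul, map_one, eval₂Hom_C, eval₂Hom_X',
    RingHom.comp_apply, vars]
  have h2 : ∀ Lv : MvPolynomial ι B, ∑ i, C (φ (r i)) * (X i - Lv * C (b i) + C (b i)) =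
      (∑ i, C (φ (r i)) * X i) - Lv * (∑ i, C (φ (r i)) * C (b i)) +
        ∑ i, C (φ (r i)) * C (b i) := by
    intro Lv
    rw [Finset.mul_sum, ← Finset.sum_sub_distrib, ← Finset.sum_add_distrib]
    refine Finset.sum_congr rfl fun i _ => ?_
    ring
  rw [h2, h1]
  show L φ r - L φ r * 1 + 1 - 1 = 0
  ring

/-- `A[x,t]/(∑ r_i x_i - 1) → B[y]` -/
noncomputable def psi (hb : ∑ i, φ (r i) * b i = 1) : JRing r →+* MvPolynomial ι B :=
  Ideal.Quotient.lift _ (psiPoly φ r b) (by
    intro a ha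
    obtain ⟨c, rfl⟩ := Ideal.mem_span_singleton'.mp ha
    rw [map_mul, psiPoly_rel φ r b hb, mul_zero])

/-- the class of `x_i` -/
noncomputable def xq (i : ι) : JRing r := Ideal.Quotient.mk _ (X (some i))
/-- the class of `t` -/
noncomputable def tq : JRing r := Ideal.Quotient.mk _ (X none)

lemma psi_algebraMap (hb : ∑ i, φ (r i) * b i = 1) (a : A) :
    psi φ r b hb (algebraMap A (JRing r) a) = C (φ a) := by
  show psi φ r b hb (Ideal.Quotient.mk _ (C a)) = _
  simp [psi, psiPoly]

lemma psi_xq (hb : ∑ i, φ (r i) * b i = 1) (i : ι) :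
    psi φ r b hb (xq r i) = X i - L φ r * C (b i) + C (b i) := by
  simp [psi, psiPoly, xq, vars]

lemma psi_tq (hb : ∑ i, φ (r i) * b i = 1) : psi φ r b hb (tq r) = L φ r := by
  simp [psi, psiPoly, tq, vars]

lemma sum_xq : ∑ i, algebraMap A (JRing r) (r i) * xq r i = 1 := by
  have h : (Ideal.Quotient.mk (Ideal.span {rel r})) (∑ i, C (r i) * X (some i) - 1) = 0 :=
    Ideal.Quotient.eq_zero_iff_mem.mpr (Ideal.subset_span rfl)
  rw [map_sub, map_sum, map_one, sub_eq_zero] at h
  simp_rw [map_mul] at h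
  exact h

lemma jring_hom_ext {R' : Type*} [Semiring R'] {f g : JRing r →+* R'}
    (h1 : ∀ a, f (algebraMap A (JRing r) a) = g (algebraMap A (JRing r) a))
    (h2 : ∀ i, f (xq r i) = g (xq r i)) (h3 : f (tq r) = g (tq r)) : f = g := by
  refine Ideal.Quotient.ringHom_ext (MvPolynomial.ringHom_ext (fun a => h1 a) fun o => ?_)
  cases o with
  | none => exact h3
  | some i => exact h2 i

section univ
variable {R' : Type*} [CommRing R'] (u : B →+* R') (v : JRing r →+* R')

/-- the induced map out of `B[y]` -/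
noncomputable def desc : MvPolynomial ι B →+* R' :=
  eval₂Hom u (fun i => v (xq r i) - u (b i) + v (tq r) * u (b i))

lemma desc_C (x : B) : desc r b u v (C x) = u x := by simp [desc]

lemma desc_X (i : ι) : desc r b u v (X i) = v (xq r i) - u (b i) + v (tq r) * u (b i) := by
  simp [desc]

lemma desc_L (hb : ∑ i, φ (r i) * b i = 1)
    (huv : ∀ a, u (φ a) = v (algebraMap A (JRing r) a)) : desc r b u v (L φ r) = v (tq r) := by
  have h1 : ∑ i, u (φ (r i)) * u (b i) = 1 := by
    simp_rw [← map_mul, ← map_sum, hb, map_one]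
  have h2 : ∑ i, u (φ (r i)) * v (xq r i) = 1 := by
    simp_rw [huv, ← map_mul, ← map_sum, sum_xq, map_one]
  simp only [L, map_sum, map_mul, desc_C, desc_X]
  have h3 : ∀ tv : R', ∑ i, u (φ (r i)) * (v (xq r i) - u (b i) + tv * u (b i)) =
      (∑ i, u (φ (r i)) * v (xq r i)) - (∑ i, u (φ (r i)) * u (b i)) +
        tv * ∑ i, u (φ (r i)) * u (b i) := by
    intro tv
    rw [Finset.mul_sum, ← Finset.sum_sub_distrib, ← Finset.sum_add_distrib]
    refine Finset.sum_congr rfl fun i _ => ?_
    ring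
  rw [h3, h1, h2]
  ring

lemma desc_comp_psi (hb : ∑ i, φ (r i) * b i = 1)
    (huv : ∀ a, u (φ a) = v (algebraMap A (JRing r) a)) :
    (desc r b u v).comp (psi φ r b hb) = v := by
  refine jring_hom_ext r (fun a => ?_) (fun i => ?_) ?_
  · rw [RingHom.comp_apply, psi_algebraMap, desc_C, huv]
  · rw [RingHom.comp_apply, psi_xq, map_add, map_sub, map_mul, desc_L φ r b u v hb huv, desc_C,
      desc_X]
    ring
  · rw [RingHom.comp_apply, psi_tq, desc_L φ r b u v hb huv]

lemma eq_desc (hb : ∑ i, φ (r i) * b i = 1) (m : MvPolynomial ι B →+* R')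
    (h1 : ∀ x, m (C x) = u x) (h2 : ∀ c, m (psi φ r b hb c) = v c) : m = desc r b u v := by
  refine MvPolynomial.ringHom_ext (fun x => by rw [h1, desc_C]) fun i => ?_
  rw [desc_X, ← h2, ← h2, psi_xq, psi_tq, ← h1, ← map_mul, ← map_sub, ← map_add]
  congr 1
  ring

end univ

theorem isPushout (hb : ∑ i, φ (r i) * b i = 1) :
    IsPushout (CommRingCat.ofHom φ) (CommRingCat.ofHom (algebraMap A (JRing r)))
      (CommRingCat.ofHom (C : B →+* MvPolynomial ι B)) (CommRingCat.ofHom (psi φ r b hb)) := by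
  have w : CommRingCat.ofHom φ ≫ CommRingCat.ofHom (C : B →+* MvPolynomial ι B) =
      CommRingCat.ofHom (algebraMap A (JRing r)) ≫ CommRingCat.ofHom (psi φ r b hb) := by
    refine CommRingCat.hom_ext (RingHom.ext fun a => ?_)
    exact (psi_algebraMap φ r b hb a).symm
  have huv : ∀ s : PushoutCocone (CommRingCat.ofHom φ)
      (CommRingCat.ofHom (algebraMap A (JRing r))), ∀ a,
      s.inl.hom (φ a) = s.inr.hom (algebraMap A (JRing r) a) := by
    intro s a
    exact congrArg (fun k => k.hom a) s.condition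
  refine ⟨⟨w⟩, ⟨PushoutCocone.IsColimit.mk w
    (fun s => CommRingCat.ofHom (desc r b s.inl.hom s.inr.hom)) (fun s => ?_) (fun s => ?_)
    (fun s m hm1 hm2 => ?_)⟩⟩
  · refine CommRingCat.hom_ext (RingHom.ext fun x => ?_)
    exact desc_C r b _ _ x
  · refine CommRingCat.hom_ext ?_
    exact desc_comp_psi φ r b s.inl.hom s.inr.hom hb (huv s)
  · refine CommRingCat.hom_ext ?_
    refine eq_desc φ r b s.inl.hom s.inr.hom hb m.hom (fun x => ?_) (fun c => ?_)
    · exact congrArg (fun k => k.hom x) hm1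
    · exact congrArg (fun k => k.hom c) hm2

end

end Groth.Agent.H19.JouRing
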