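import Mathlib
import Groth.Agent.H19.JouRing

/-!
# Jouanolou's trick for quasi-affine schemes
-/

set_option autoImplicit false
universe u
open CategoryTheory CategoryTheory.Limits AlgebraicGeometry MvPolynomial

namespace Groth.Agent.H19.Jou

open Groth.Agent.H19.JouRing

theorem exists_finset (X : Scheme.{u}) [X.IsQuasiAffine] :
    ∃ t : Finset Γ(X, ⊤),
      (PrimeSpectrum.zeroLocus (t : Set Γ(X, ⊤)))ᶜ = Set.range X.toSpecΓ := by
  apply PrimeSpectrum.isCompact_isOpen_iff.mp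
  exact ⟨isCompact_range X.toSpecΓ.continuous, X.toSpecΓ.isOpenEmbedding.isOpen_range⟩

theorem exists_family (X : Scheme.{u}) [X.IsQuasiAffine] :
    ∃ (m : ℕ) (r : ULift.{u} (Fin m) → Γ(X, ⊤)),
      (PrimeSpectrum.zeroLocus (Set.range r))ᶜ = Set.range X.toSpecΓ := by
  obtain ⟨t, ht⟩ := exists_finset X
  refine ⟨t.card, fun i => (t.equivFin.symm i.down : Γ(X, ⊤)), ?_⟩
  rw [← ht]
  congr 2
  ext a
  constructor
  · rintro ⟨i, rfl⟩
    exact (t.equivFin.symm i.down).2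
  · intro ha
    exact ⟨⟨t.equivFin ⟨a, ha⟩⟩, by simp⟩

section main
variable (X : Scheme.{u}) [X.IsQuasiAffine] {m : ℕ} (r : ULift.{u} (Fin m) → Γ(X, ⊤))
  (hr : (PrimeSpectrum.zeroLocus (Set.range r))ᶜ = Set.range X.toSpecΓ)

/-- the structure map of the Jouanolou ring -/
noncomputable abbrev α : Γ(X, ⊤) ⟶ CommRingCat.of (JRing r) :=
  CommRingCat.ofHom (algebraMap Γ(X, ⊤) (JRing r))

include hr in
lemma range_subset : Set.range (Spec.map (α X r)) ⊆ Set.range X.toSpecΓ := by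
  rintro _ ⟨q, rfl⟩
  rw [← hr]
  intro hq
  have hq' : ∀ i, algebraMap Γ(X, ⊤) (JRing r) (r i) ∈ q.asIdeal := fun i => hq ⟨i, rfl⟩
  have h1 : (1 : JRing r) ∈ q.asIdeal := by
    rw [← sum_xq r]
    exact Ideal.sum_mem _ fun i _ => Ideal.mul_mem_right _ _ (hq' i)
  exact q.isPrime.ne_top ((Ideal.eq_top_iff_one _).mpr h1)

/-- the morphism `T ⟶ X` -/
noncomputable def p : Spec (CommRingCat.of (JRing r)) ⟶ X :=
  IsOpenImmersion.lift X.toSpecΓ (Spec.map (α X r)) (range_subset X r hr)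

lemma p_fac : p X r hr ≫ X.toSpecΓ = Spec.map (α X r) :=
  IsOpenImmersion.lift_fac _ _ _

include hr in
lemma exists_b {X' : Scheme.{u}} [IsAffine X'] (g : X' ⟶ X) :
    ∃ b : ULift.{u} (Fin m) → Γ(X', ⊤), ∑ i, g.appTop.hom (r i) * b i = 1 := by
  have hspan : Ideal.span (Set.range fun i => g.appTop.hom (r i)) = ⊤ := by
    by_contra hne
    obtain ⟨M, hM, hle⟩ := Ideal.exists_le_maximal _ hne
    obtain ⟨y, hy⟩ := X'.toSpecΓ.surjective ⟨M, hM.isPrime⟩
    have h1 : X.toSpecΓ (g y) ∈ Set.range X.toSpecΓ := ⟨_, rfl⟩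
    rw [← hr] at h1
    apply h1
    have h2 : X.toSpecΓ (g y) = Spec.map g.appTop (X'.toSpecΓ y) :=
      congrArg (fun k : X' ⟶ Spec Γ(X, ⊤) => k y) (Scheme.toSpecΓ_naturality g)
    rw [h2, hy]
    rintro _ ⟨i, rfl⟩
    exact hle (Ideal.subset_span ⟨i, rfl⟩)
  have h1 : (1 : Γ(X', ⊤)) ∈ Ideal.span (Set.range fun i => g.appTop.hom (r i)) := by
    rw [hspan]; trivial
  obtain ⟨c, hc⟩ := (Ideal.mem_span_range_iff_exists_fun).mp h1
  exact ⟨c, by rw [← hc]; exact Finset.sum_congr rfl fun i _ => mul_comm _ _⟩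

include hr in
theorem exists_iso {X' : Scheme.{u}} [IsAffine X'] (g : X' ⟶ X) :
    ∃ e : pullback g (p X r hr) ≅ 𝔸(ULift.{u} (Fin m); X'),
      e.hom ≫ (𝔸(ULift.{u} (Fin m); X') ↘ X') = pullback.fst g (p X r hr) := by
  obtain ⟨b, hb⟩ := exists_b X r hr g
  have hpush := JouRing.isPushout g.appTop.hom r b hb
  have hpb1 : IsPullback (Spec.map (CommRingCat.ofHom (psi g.appTop.hom r b hb)))
      (Spec.map (CommRingCat.ofHom (C : Γ(X', ⊤) →+* MvPolynomial (ULift.{u} (Fin m)) Γ(X', ⊤))))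
      (Spec.map (α X r)) (Spec.map (CommRingCat.ofHom g.appTop.hom)) :=
    hpush.op.map Scheme.Spec
  have hpb2 : IsPullback (Spec.map (CommRingCat.ofHom (psi g.appTop.hom r b hb)))
      (Spec.map (CommRingCat.ofHom
        (C : Γ(X', ⊤) →+* MvPolynomial (ULift.{u} (Fin m)) Γ(X', ⊤))) ≫ X'.isoSpec.inv)
      (Spec.map (α X r)) (g ≫ X.toSpecΓ) := by
    refine IsPullback.of_iso hpb1 (Iso.refl _) (Iso.refl _) X'.isoSpec.symm (Iso.refl _)
      (by simp) (by simp) (by simp) ?_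
    rw [Iso.refl_hom, Category.comp_id, Iso.symm_hom, Scheme.toSpecΓ_naturality,
      ← Category.assoc]
    have : X'.isoSpec.inv ≫ X'.toSpecΓ = 𝟙 _ := X'.isoSpec.inv_hom_id
    rw [this]
    exact (Category.id_comp _).symm
  have ht : IsPullback (𝟙 (Spec (CommRingCat.of (JRing r)))) (p X r hr) (Spec.map (α X r))
      X.toSpecΓ :=
    IsPullback.of_horiz_isIso_mono ⟨by rw [Category.id_comp, p_fac]⟩
  have hpb3 : IsPullback (Spec.map (CommRingCat.ofHom (psi g.appTop.hom r b hb)))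
      (Spec.map (CommRingCat.ofHom
        (C : Γ(X', ⊤) →+* MvPolynomial (ULift.{u} (Fin m)) Γ(X', ⊤))) ≫ X'.isoSpec.inv)
      (p X r hr) g := by
    refine IsPullback.of_right (by rw [Category.comp_id]; exact hpb2) ?_ ht
    rw [← cancel_mono X.toSpecΓ, Category.assoc, p_fac, Category.assoc]
    exact hpb2.w
  refine ⟨hpb3.flip.isoPullback.symm ≪≫ (AffineSpace.isoOfIsAffine _ X').symm, ?_⟩
  rw [Iso.trans_hom, Iso.symm_hom, Iso.symm_hom, Category.assoc,
    AffineSpace.isoOfIsAffine_inv_over]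
  exact hpb3.flip.isoPullback_inv_fst

end main

end Groth.Agent.H19.Jou
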