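import Groth.Agent.H34.KeyDefs
import Groth.Agent.S1848
import Groth.Agent.H37.KeyF1
import Groth.Agent.H87.KeyRing

set_option autoImplicit false
set_option linter.style.haveILetI false

universe u v

open CategoryTheory AlgebraicGeometry TopologicalSpace Opposite

namespace Groth.Agent.H19.KeyS3

open Groth.Agent.H34.Key

variable {X : Scheme.{u}} [IsIntegral X]

/-- compatibility of the algebra maps to the function field with specialization. -/
theorem algebraMap_spec {x ξ : X} (h : ξ ⤳ x) (a : X.presheaf.stalk x) :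
    algebraMap (X.presheaf.stalk ξ) X.functionField ((X.presheaf.stalkSpecializes h).hom a) =
      algebraMap (X.presheaf.stalk x) X.functionField a := by
  simp only [RingHom.algebraMap_toAlgebra]
  rw [← RingHom.comp_apply, ← CommRingCat.hom_comp, TopCat.Presheaf.stalkSpecializes_comp]

theorem spec_ne_zero {x ξ : X} (h : ξ ⤳ x) {a : X.presheaf.stalk x} (ha : a ≠ 0) :
    (X.presheaf.stalkSpecializes h).hom a ≠ 0 := by
  intro h0
  have h1 := algebraMap_spec h a
  rw [h0, map_zero] at h1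
  exact ha ((IsFractionRing.injective (X.presheaf.stalk x) X.functionField)
    (h1.symm.trans (map_zero _).symm))

/-- the tame symbol of two units is `1`. -/
theorem tameSymbol_units (A : Type u) [CommRing A] [IsNoetherianRing A] [IsLocalRing A]
    [IsDomain A] (hA : ringKrullDim A = 1) {a b : A} (ha : IsUnit a) (hb : IsUnit b) :
    CycAlg.tameSymbol A a b = 1 := by
  obtain ⟨-, -, -, hunit, -⟩ := Groth.Agent.S1848.result A hA
  obtain ⟨c, rfl⟩ := ha
  have hb0 : b ∈ nonZeroDivisors A := hb.mem_nonZeroDivisors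
  rw [hunit c b hb0]
  have : Ideal.span {b} = ⊤ := Ideal.span_singleton_eq_top.mpr hb
  have hsub : Subsingleton (A ⧸ Ideal.span {b}) := by
    rw [this]; exact Ideal.Quotient.subsingleton_iff.mpr rfl
  rw [Module.length_eq_zero]
  simp

theorem isUnit_spec_of_unitAt {x ξ : X} (h : ξ ⤳ x) (a : X.presheaf.stalk x)
    (hu : UnitAt ξ (algebraMap (X.presheaf.stalk x) X.functionField a)) :
    IsUnit ((X.presheaf.stalkSpecializes h).hom a) := by
  obtain ⟨c, hc, hceq⟩ := hu
  rw [← algebraMap_spec h a] at hceq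
  have := IsFractionRing.injective (X.presheaf.stalk ξ) X.functionField hceq
  rw [← this]; exact hc

open Classical in
/-- the summand of the key lemma for elements. -/
noncomputable def G (x : X) (a b : X.presheaf.stalk x) : X → ℤ := fun ξ =>
  if h : ξ ⤳ x ∧ ringKrullDim (X.presheaf.stalk ξ) = 1 then
    Cyc.ordAt x ξ h.1 (CycAlg.tameSymbol (X.presheaf.stalk ξ)
      ((X.presheaf.stalkSpecializes h.1).hom a) ((X.presheaf.stalkSpecializes h.1).hom b))
  else 0

theorem finite_support_G [IsLocallyNoetherian X] (x : X) (a b : X.presheaf.stalk x)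
    (ha : a ≠ 0) (hb : b ≠ 0) : (Function.support (G x a b)).Finite := by
  have ha' : algebraMap (X.presheaf.stalk x) X.functionField a ≠ 0 := fun h0 =>
    ha ((IsFractionRing.injective (X.presheaf.stalk x) X.functionField)
      (h0.trans (map_zero _).symm))
  have hb' : algebraMap (X.presheaf.stalk x) X.functionField b ≠ 0 := fun h0 =>
    hb ((IsFractionRing.injective (X.presheaf.stalk x) X.functionField)
      (h0.trans (map_zero _).symm))
  obtain ⟨Ua, hxUa, hfa⟩ := Groth.Agent.H37.KeyF1.finite_not_unitAt x _ ha'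
  obtain ⟨Ub, hxUb, hfb⟩ := Groth.Agent.H37.KeyF1.finite_not_unitAt x _ hb'
  refine (hfa.union hfb).subset ?_
  intro ξ hξ
  rw [Function.mem_support] at hξ
  by_cases h : ξ ⤳ x ∧ ringKrullDim (X.presheaf.stalk ξ) = 1
  · by_contra hnot
    simp only [Set.mem_union, Set.mem_ofPred_eq, not_or, not_and, not_not] at hnot
    have hua : UnitAt ξ (algebraMap (X.presheaf.stalk x) X.functionField a) :=
      hnot.1 (h.1.mem_open Ua.2 hxUa) h.2
    have hub : UnitAt ξ (algebraMap (X.presheaf.stalk x) X.functionField b) :=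
      hnot.2 (h.1.mem_open Ub.2 hxUb) h.2
    apply hξ
    unfold G
    rw [dif_pos h, tameSymbol_units _ h.2 (isUnit_spec_of_unitAt h.1 a hua)
      (isUnit_spec_of_unitAt h.1 b hub)]
    exact Groth.Agent.H95.C1Cap.ordAt_one h.1
  · exfalso; apply hξ; unfold G; rw [dif_neg h]

open Classical in
/-- (S3), hypothesis style: the key lemma on a scheme for rational functions, from the key lemma
for elements `hS2b` (= the statement (S2b) at the point `x`). -/
theorem skl_frac_core [IsLocallyNoetherian X] (x : X)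
    (hS2b : ∀ (a b : X.presheaf.stalk x), a ≠ 0 → b ≠ 0 →
      ∑ᶠ ξ : X, (if h : ξ ⤳ x ∧ ringKrullDim (X.presheaf.stalk ξ) = 1 then
        Cyc.ordAt x ξ h.1 (CycAlg.tameSymbol (X.presheaf.stalk ξ)
          ((X.presheaf.stalkSpecializes h.1).hom a) ((X.presheaf.stalkSpecializes h.1).hom b))
        else 0) = 0)
    (ψ χ : X.functionField) (hψ : ψ ≠ 0) (hχ : χ ≠ 0) :
    ∑ᶠ ξ : X, (if h : ξ ⤳ x ∧ ringKrullDim (X.presheaf.stalk ξ) = 1 then
      Cyc.ordAt x ξ h.1 (tameFracX ξ ψ χ) else 0) = 0 := by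
  obtain ⟨a₁, a₂, ha₂m, hψeq⟩ := IsFractionRing.div_surjective (A := X.presheaf.stalk x) ψ
  obtain ⟨b₁, b₂, hb₂m, hχeq⟩ := IsFractionRing.div_surjective (A := X.presheaf.stalk x) χ
  have hinj := IsFractionRing.injective (X.presheaf.stalk x) X.functionField
  have ha₂ : a₂ ≠ 0 := nonZeroDivisors.ne_zero ha₂m
  have hb₂ : b₂ ≠ 0 := nonZeroDivisors.ne_zero hb₂m
  have ha₂' : algebraMap (X.presheaf.stalk x) X.functionField a₂ ≠ 0 := fun h0 =>
    ha₂ (hinj (h0.trans (map_zero _).symm))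
  have hb₂' : algebraMap (X.presheaf.stalk x) X.functionField b₂ ≠ 0 := fun h0 =>
    hb₂ (hinj (h0.trans (map_zero _).symm))
  have ha₁ : a₁ ≠ 0 := by
    rintro rfl
    rw [map_zero, zero_div] at hψeq
    exact hψ hψeq.symm
  have hb₁ : b₁ ≠ 0 := by
    rintro rfl
    rw [map_zero, zero_div] at hχeq
    exact hχ hχeq.symm
  have hψ' : ψ * algebraMap (X.presheaf.stalk x) X.functionField a₂ =
      algebraMap (X.presheaf.stalk x) X.functionField a₁ := by
    rw [← hψeq, div_mul_cancel₀ _ ha₂']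
  have hχ' : χ * algebraMap (X.presheaf.stalk x) X.functionField b₂ =
      algebraMap (X.presheaf.stalk x) X.functionField b₁ := by
    rw [← hχeq, div_mul_cancel₀ _ hb₂']
  -- pointwise decomposition
  have hpt : ∀ ξ : X, (if h : ξ ⤳ x ∧ ringKrullDim (X.presheaf.stalk ξ) = 1 then
      Cyc.ordAt x ξ h.1 (tameFracX ξ ψ χ) else 0) =
      (G x a₁ b₁ ξ + G x a₂ b₂ ξ) - (G x a₁ b₂ ξ + G x a₂ b₁ ξ) := by
    intro ξ
    by_cases h : ξ ⤳ x ∧ ringKrullDim (X.presheaf.stalk ξ) = 1
    · unfold G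
      rw [dif_pos h, dif_pos h, dif_pos h, dif_pos h, dif_pos h]
      obtain ⟨hnz, -, -, -, -⟩ := Groth.Agent.S1848.result (X.presheaf.stalk ξ) h.2
      have nzd : ∀ {a : X.presheaf.stalk x}, a ≠ 0 →
          (X.presheaf.stalkSpecializes h.1).hom a ∈ nonZeroDivisors (X.presheaf.stalk ξ) :=
        fun ha => mem_nonZeroDivisors_of_ne_zero (spec_ne_zero h.1 ha)
      have e : tameFracX ξ ψ χ = tameExt (X.presheaf.stalk ξ)
          ((X.presheaf.stalkSpecializes h.1).hom a₁) ((X.presheaf.stalkSpecializes h.1).hom a₂)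
          ((X.presheaf.stalkSpecializes h.1).hom b₁) ((X.presheaf.stalkSpecializes h.1).hom b₂) := by
        unfold tameFracX
        refine Groth.Agent.H87.KeyRing.tameFrac_eq (X.presheaf.stalk ξ) X.functionField h.2 ψ χ _ _ _ _
          (spec_ne_zero h.1 ha₁) (spec_ne_zero h.1 ha₂) (spec_ne_zero h.1 hb₁)
          (spec_ne_zero h.1 hb₂) ?_ ?_
        · rw [algebraMap_spec, algebraMap_spec]; exact hψ'
        · rw [algebraMap_spec, algebraMap_spec]; exact hχ'
      rw [e]
      unfold tameExt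
      have n11 := hnz _ _ (nzd ha₁) (nzd hb₁)
      have n22 := hnz _ _ (nzd ha₂) (nzd hb₂)
      have n12 := hnz _ _ (nzd ha₁) (nzd hb₂)
      have n21 := hnz _ _ (nzd ha₂) (nzd hb₁)
      let T11 : X.residueField ξ := CycAlg.tameSymbol (X.presheaf.stalk ξ)
        ((X.presheaf.stalkSpecializes h.1).hom a₁) ((X.presheaf.stalkSpecializes h.1).hom b₁)
      let T22 : X.residueField ξ := CycAlg.tameSymbol (X.presheaf.stalk ξ)
        ((X.presheaf.stalkSpecializes h.1).hom a₂) ((X.presheaf.stalkSpecializes h.1).hom b₂)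
      let T12 : X.residueField ξ := CycAlg.tameSymbol (X.presheaf.stalk ξ)
        ((X.presheaf.stalkSpecializes h.1).hom a₁) ((X.presheaf.stalkSpecializes h.1).hom b₂)
      let T21 : X.residueField ξ := CycAlg.tameSymbol (X.presheaf.stalk ξ)
        ((X.presheaf.stalkSpecializes h.1).hom a₂) ((X.presheaf.stalkSpecializes h.1).hom b₁)
      have m11 : T11 ≠ 0 := n11
      have m22 : T22 ≠ 0 := n22
      have m12 : T12 ≠ 0 := n12
      have m21 : T21 ≠ 0 := n21
      have E1 := Groth.Agent.H95.SecOrd.ordAt_mul h.1 (f := T11 * T22) (g := (T12 * T21)⁻¹)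
        (mul_ne_zero m11 m22) (inv_ne_zero (mul_ne_zero m12 m21))
      have E2 := Groth.Agent.H95.SecOrd.ordAt_mul h.1 (f := T11) (g := T22) m11 m22
      have E3 := Groth.Agent.H95.C1Cap.ordAt_inv h.1 (f := T12 * T21) (mul_ne_zero m12 m21)
      have E4 := Groth.Agent.H95.SecOrd.ordAt_mul h.1 (f := T12) (g := T21) m12 m21
      refine E1.trans ?_
      rw [E2, E3, E4]
      ring
    · unfold G
      rw [dif_neg h, dif_neg h, dif_neg h, dif_neg h, dif_neg h]
      ring
  rw [finsum_congr hpt]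
  have f11 := finite_support_G x a₁ b₁ ha₁ hb₁
  have f22 := finite_support_G x a₂ b₂ ha₂ hb₂
  have f12 := finite_support_G x a₁ b₂ ha₁ hb₂
  have f21 := finite_support_G x a₂ b₁ ha₂ hb₁
  have s11 : ∑ᶠ ξ, G x a₁ b₁ ξ = 0 := hS2b a₁ b₁ ha₁ hb₁
  have s22 : ∑ᶠ ξ, G x a₂ b₂ ξ = 0 := hS2b a₂ b₂ ha₂ hb₂
  have s12 : ∑ᶠ ξ, G x a₁ b₂ ξ = 0 := hS2b a₁ b₂ ha₁ hb₂
  have s21 : ∑ᶠ ξ, G x a₂ b₁ ξ = 0 := hS2b a₂ b₁ ha₂ hb₁
  have fA : (Function.support (fun ξ => G x a₁ b₁ ξ + G x a₂ b₂ ξ)).Finite :=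
    (f11.union f22).subset (Function.support_add _ _)
  have fB : (Function.support (fun ξ => G x a₁ b₂ ξ + G x a₂ b₁ ξ)).Finite :=
    (f12.union f21).subset (Function.support_add _ _)
  rw [finsum_sub_distrib fA fB, finsum_add_distrib f11 f22, finsum_add_distrib f12 f21,
    s11, s22, s12, s21]
  ring

end Groth.Agent.H19.KeyS3
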