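import Groth.Agent.H19.KeyS3
import Groth.Agent.H60.Key_S2b

set_option autoImplicit false
set_option linter.style.haveILetI false

universe u v

open CategoryTheory AlgebraicGeometry TopologicalSpace Opposite

namespace Groth.Agent.H19.KeyS3

open Groth.Agent.H34.Key

variable {X : Scheme.{u}} [IsIntegral X]

open Classical in
/-- (S3) the key lemma on a scheme, for rational functions (closed form). -/
theorem skl_frac [IsLocallyNoetherian X] (x : X) (hx : ringKrullDim (X.presheaf.stalk x) = 2)
    (ψ χ : X.functionField) (hψ : ψ ≠ 0) (hχ : χ ≠ 0) :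
    ∑ᶠ ξ : X, (if h : ξ ⤳ x ∧ ringKrullDim (X.presheaf.stalk ξ) = 1 then
      Cyc.ordAt x ξ h.1 (tameFracX ξ ψ χ) else 0) = 0 :=
  skl_frac_core x (fun a b ha hb => Groth.Agent.H60.Key_S2b.skl_elem x hx a b ha hb) ψ χ hψ hχ

end Groth.Agent.H19.KeyS3
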