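import Mathlib

/-!
# (CHART) for helper75's S3710 squad, hypothesis-style on (CHARTA) (helper19, second provider)
-/

set_option autoImplicit false
open CategoryTheory CategoryTheory.Limits AlgebraicGeometry
universe u

namespace Groth.Agent.H19.KumFS_CHART

/-- The statement of (CHARTA). -/
def CHARTAStatement : Prop :=
  ∀ {S : Scheme.{u}} (σ : Type u) (U : S.Opens) (hU : IsAffineOpen U),
    ∃ θ : Spec (CommRingCat.of (MvPolynomial σ Γ(S, U))) ⟶ AffineSpace σ S, IsOpenImmersion θ ∧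
      θ ≫ (AffineSpace σ S ↘ S) = Spec.map (CommRingCat.ofHom MvPolynomial.C) ≫ hU.fromSpec ∧
      ∀ j, (Scheme.ΓSpecIso _).hom.hom (θ.appTop.hom (AffineSpace.coord S j)) =
        MvPolynomial.X j

set_option backward.isDefEq.respectTransparency.types false in
theorem exists_chart_of (hA : CHARTAStatement.{u}) {X S : Scheme.{u}} (f : X ⟶ S) (W : X.Opens)
    (d : ℕ) (v : ULift.{u} (Fin d) → Γ(W, ⊤))
    (het : Etale (AffineSpace.homOfVector (W.ι ≫ f) v)) (x : X) (hx : x ∈ W) :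
    ∃ (U : S.Opens) (_ : IsAffineOpen U) (W₀ : X.Opens) (_ : IsAffineOpen W₀) (hW₀W : W₀ ≤ W)
      (hW₀U : W₀ ≤ f ⁻¹ᵁ U), x ∈ W₀ ∧
      (MvPolynomial.eval₂Hom (f.appLE U W₀ hW₀U).hom
        (fun j => (X.presheaf.map (homOfLE hW₀W).op).hom (W.topIso.hom.hom (v j)))).Etale := by
  obtain ⟨_, ⟨U, hU : IsAffineOpen U, rfl⟩, hfxU, -⟩ :=
    S.isBasis_affineOpens.exists_subset_of_mem_open (Set.mem_univ (f x)) isOpen_univ
  obtain ⟨_, ⟨W₀, hW₀ : IsAffineOpen W₀, rfl⟩, hxW₀, hW₀le⟩ :=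
    X.isBasis_affineOpens.exists_subset_of_mem_open (show x ∈ ((W ⊓ f ⁻¹ᵁ U : X.Opens) : Set X)
      from ⟨hx, hfxU⟩) (W ⊓ f ⁻¹ᵁ U).isOpen
  have hW₀W : W₀ ≤ W := fun y hy => (hW₀le hy).1
  have hW₀U : W₀ ≤ f ⁻¹ᵁ U := fun y hy => (hW₀le hy).2
  refine ⟨U, hU, W₀, hW₀, hW₀W, hW₀U, hxW₀, ?_⟩
  obtain ⟨θ, hθ, hθover, hθcoord⟩ := hA (ULift.{u} (Fin d)) U hU
  obtain ⟨ρ, hρ⟩ : ∃ ρ : MvPolynomial (ULift.{u} (Fin d)) Γ(S, U) →+* Γ(X, W₀),
      ρ = MvPolynomial.eval₂Hom (f.appLE U W₀ hW₀U).hom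
        (fun j => (X.presheaf.map (homOfLE hW₀W).op).hom (W.topIso.hom.hom (v j))) := ⟨_, rfl⟩
  rw [← hρ]
  have hρC : ρ.comp MvPolynomial.C = (f.appLE U W₀ hW₀U).hom := by
    rw [hρ]; ext a; simp
  have hρX : ∀ j, ρ (MvPolynomial.X j) =
      (X.presheaf.map (homOfLE hW₀W).op).hom (W.topIso.hom.hom (v j)) := by
    intro j; rw [hρ]; simp
  -- the key identity
  have key : (hW₀.isoSpec.hom ≫ Spec.map (CommRingCat.ofHom ρ)) ≫ θ =
      X.homOfLE hW₀W ≫ AffineSpace.homOfVector (W.ι ≫ f) v := by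
    apply AffineSpace.hom_ext
    · rw [Category.assoc, Category.assoc, hθover, Category.assoc,
        AffineSpace.homOfVector_over, ← Spec.map_comp_assoc, ← CommRingCat.ofHom_comp, hρC,
        CommRingCat.ofHom_hom, IsAffineOpen.SpecMap_appLE_fromSpec f hU hW₀ hW₀U,
        IsAffineOpen.isoSpec_hom_fromSpec_assoc, Scheme.homOfLE_ι_assoc]
    · intro j
      rw [Scheme.Hom.comp_appTop, Scheme.Hom.comp_appTop, Scheme.Hom.comp_appTop]
      have e1 : θ.appTop (AffineSpace.coord S j) =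
          (Scheme.ΓSpecIso (CommRingCat.of (MvPolynomial (ULift.{u} (Fin d)) Γ(S, U)))).inv
            (MvPolynomial.X j) := by
        have h := hθcoord j
        change (Scheme.ΓSpecIso _).hom (θ.appTop (AffineSpace.coord S j)) = _ at h
        rw [← h, Iso.hom_inv_id_apply]
      have e2 : ∀ p, (Spec.map (CommRingCat.ofHom ρ)).appTop
          ((Scheme.ΓSpecIso (CommRingCat.of (MvPolynomial (ULift.{u} (Fin d)) Γ(S, U)))).inv p) =
          (Scheme.ΓSpecIso Γ(X, W₀)).inv (ρ p) := by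
        intro p
        have h := Scheme.ΓSpecIso_inv_naturality (CommRingCat.ofHom ρ)
        exact (congrArg (fun g => g p) h).symm
      have e3 : ∀ a, hW₀.isoSpec.hom.appTop ((Scheme.ΓSpecIso Γ(X, W₀)).inv a) =
          (Scheme.Opens.topIso W₀).inv a := by
        intro a
        rw [IsAffineOpen.isoSpec_hom_appTop, CommRingCat.comp_apply, Iso.inv_hom_id_apply]
      have e4 : W.topIso.hom ≫ X.presheaf.map (homOfLE hW₀W).op ≫ (Scheme.Opens.topIso W₀).inv =
          (X.homOfLE hW₀W).appTop := by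
        rw [Scheme.homOfLE_appTop]
        change X.presheaf.map _ ≫ X.presheaf.map _ ≫ X.presheaf.map _ = X.presheaf.map _
        rw [← Functor.map_comp, ← Functor.map_comp]
        congr 1
      rw [CommRingCat.comp_apply, CommRingCat.comp_apply, CommRingCat.comp_apply, e1, e2, e3,
        hρX, AffineSpace.homOfVector_appTop_coord, ← e4]
      rfl
  have h1 : Etale ((hW₀.isoSpec.hom ≫ Spec.map (CommRingCat.ofHom ρ)) ≫ θ) := by
    rw [key]; infer_instance
  have h2 : Etale (hW₀.isoSpec.hom ≫ Spec.map (CommRingCat.ofHom ρ)) :=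
    MorphismProperty.of_postcomp (W := @Etale) (W' := @Etale) _ θ inferInstance h1
  have h3 : Etale (Spec.map (CommRingCat.ofHom ρ)) := by
    have : Spec.map (CommRingCat.ofHom ρ) =
        hW₀.isoSpec.inv ≫ (hW₀.isoSpec.hom ≫ Spec.map (CommRingCat.ofHom ρ)) := by simp
    rw [this]; infer_instance
  exact (HasRingHomProperty.Spec_iff (P := @Etale)).mp h3

end Groth.Agent.H19.KumFS_CHART
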