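import Mathlib
import Groth.Agent.H80.KumFS_CHARTA
import Groth.Agent.H19.KumFS_CHARTcore

/-!
# (CHART), exact statement, for helper75's S3710 squad (helper19, backup provider)
-/

set_option autoImplicit false
open CategoryTheory CategoryTheory.Limits AlgebraicGeometry
universe u

namespace Groth.Agent.H19.KumFS_CHART

/-- (CHART) -/
theorem exists_chart {X S : Scheme.{u}} (f : X ⟶ S) (W : X.Opens) (d : ℕ)
    (v : ULift.{u} (Fin d) → Γ(W, ⊤))
    (het : Etale (AffineSpace.homOfVector (W.ι ≫ f) v)) (x : X) (hx : x ∈ W) :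
    ∃ (U : S.Opens) (_ : IsAffineOpen U) (W₀ : X.Opens) (_ : IsAffineOpen W₀) (hW₀W : W₀ ≤ W)
      (hW₀U : W₀ ≤ f ⁻¹ᵁ U), x ∈ W₀ ∧
      (MvPolynomial.eval₂Hom (f.appLE U W₀ hW₀U).hom
        (fun j => (X.presheaf.map (homOfLE hW₀W).op).hom (W.topIso.hom.hom (v j)))).Etale :=
  exists_chart_of
    (fun σ U hU => Groth.Agent.H80.KumFS_CHARTA.exists_openImmersion_affineSpace σ U hU)
    f W d v het x hx

end Groth.Agent.H19.KumFS_CHART
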