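import Groth.Prelude.Def_W4c1bouilletffgsL3
import Mathlib

set_option autoImplicit false
universe u

namespace Groth.Agent.H19.Lie3
open MvPolynomial Lie3Mod

variable (A : Type u) [CommRing A]

/-- The substitution `a ↦ i, b ↦ -f, d ↦ -h` (other variables fixed). -/
noncomputable def sub : Fin 9 → D A := ![X 8, -X 5, X 2, -X 7, X 4, X 5, X 6, X 7, X 8]

theorem sub0 : sub A 0 = X 8 := rfl
theorem sub1 : sub A 1 = -X 5 := rfl
theorem sub2 : sub A 2 = X 2 := rfl
theorem sub3 : sub A 3 = -X 7 := rfl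
theorem sub4 : sub A 4 = X 4 := rfl
theorem sub5 : sub A 5 = X 5 := rfl
theorem sub6 : sub A 6 = X 6 := rfl
theorem sub7 : sub A 7 = X 7 := rfl
theorem sub8 : sub A 8 = X 8 := rfl

/-- The retraction of `D A` onto the subring where `a = i, b = -f, d = -h`. -/
noncomputable def phi : D A →ₐ[A] D A := MvPolynomial.aeval (sub A)

theorem phi_X (j : Fin 9) : phi A (X j) = sub A j := by
  simp [phi]

theorem phi_C (a : A) : phi A (C a) = C a := by
  simp [phi]

theorem L1_mem : L1 A ∈ idL A := Ideal.subset_span (by simp)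
theorem L2_mem : L2 A ∈ idL A := Ideal.subset_span (by simp)
theorem L3_mem : L3 A ∈ idL A := Ideal.subset_span (by simp)
theorem Q1_mem : Q1 A ∈ idI A := Ideal.subset_span (by simp)
theorem Q2_mem : Q2 A ∈ idI A := Ideal.subset_span (by simp)
theorem Q3_mem : Q3 A ∈ idI A := Ideal.subset_span (by simp)

theorem X_sub_mem (j : Fin 9) : (X j : D A) - sub A j ∈ idL A := by
  fin_cases j
  · show (X 0 : D A) - X 8 ∈ idL A
    exact L1_mem A
  · show (X 1 : D A) - (-X 5) ∈ idL A
    have h : (X 1 : D A) - (-X 5) = L2 A := by simp only [L2]; ring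
    rw [h]; exact L2_mem A
  · show (X 2 : D A) - X 2 ∈ idL A
    rw [sub_self]; exact zero_mem _
  · show (X 3 : D A) - (-X 7) ∈ idL A
    have h : (X 3 : D A) - (-X 7) = L3 A := by simp only [L3]; ring
    rw [h]; exact L3_mem A
  · show (X 4 : D A) - X 4 ∈ idL A
    rw [sub_self]; exact zero_mem _
  · show (X 5 : D A) - X 5 ∈ idL A
    rw [sub_self]; exact zero_mem _
  · show (X 6 : D A) - X 6 ∈ idL A
    rw [sub_self]; exact zero_mem _
  · show (X 7 : D A) - X 7 ∈ idL A
    rw [sub_self]; exact zero_mem _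
  · show (X 8 : D A) - X 8 ∈ idL A
    rw [sub_self]; exact zero_mem _

theorem sub_phi_mem (p : D A) : p - phi A p ∈ idL A := by
  induction p using MvPolynomial.induction_on with
  | C a =>
    rw [phi_C, sub_self]; exact zero_mem _
  | add p q hp hq =>
    have h : p + q - phi A (p + q) = (p - phi A p) + (q - phi A q) := by
      rw [map_add]; ring
    rw [h]; exact add_mem hp hq
  | mul_X p j hp =>
    have h : p * X j - phi A (p * X j)
        = (p - phi A p) * X j + phi A p * (X j - sub A j) := by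
      rw [map_mul, phi_X]; ring
    rw [h]
    exact add_mem (Ideal.mul_mem_right _ _ hp) (Ideal.mul_mem_left _ _ (X_sub_mem A j))

theorem phi_L1 : phi A (L1 A) = 0 := by
  simp only [L1, va, vi, map_sub, phi_X, sub0, sub8]; ring
theorem phi_L2 : phi A (L2 A) = 0 := by
  simp only [L2, vb, vf, map_add, phi_X, sub1, sub5]; ring
theorem phi_L3 : phi A (L3 A) = 0 := by
  simp only [L3, vd, vh, map_add, phi_X, sub3, sub7]; ring

theorem idL_le_ker : idL A ≤ RingHom.ker (phi A) := by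
  rw [idL, Ideal.span_le]
  intro x hx
  simp only [Set.mem_insert_iff, Set.mem_singleton_iff] at hx
  rw [SetLike.mem_coe, RingHom.mem_ker]
  rcases hx with rfl | rfl | rfl
  · exact phi_L1 A
  · exact phi_L2 A
  · exact phi_L3 A

theorem ker_phi : RingHom.ker (phi A) = idL A := by
  apply le_antisymm
  · intro p hp
    rw [RingHom.mem_ker] at hp
    have h := sub_phi_mem A p
    rwa [hp, sub_zero] at h
  · exact idL_le_ker A

theorem mem_idL_iff (p : D A) : p ∈ idL A ↔ phi A p = 0 := by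
  rw [← ker_phi, RingHom.mem_ker]

theorem idL_isPrime [IsDomain A] : (idL A).IsPrime := by
  rw [← ker_phi]; exact RingHom.ker_isPrime _

theorem phi_Q1 : phi A (Q1 A) = 0 := by
  simp only [Q1, va, vb, vc, vd, ve, vf, vg, vh, vi, map_sub, map_add, map_mul, phi_X,
    sub0, sub1, sub2, sub3, sub4, sub5, sub6, sub7, sub8]
  ring
theorem phi_Q2 : phi A (Q2 A) = 0 := by
  simp only [Q2, va, vb, vc, vd, ve, vf, vg, vh, vi, map_sub, map_add, map_mul, phi_X,
    sub0, sub1, sub2, sub3, sub4, sub5, sub6, sub7, sub8]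
  ring
theorem phi_Q3 : phi A (Q3 A) = 0 := by
  simp only [Q3, va, vb, vc, vd, ve, vf, vg, vh, vi, map_sub, map_add, map_mul, phi_X,
    sub0, sub1, sub2, sub3, sub4, sub5, sub6, sub7, sub8]
  ring

theorem idI_le_idL : idI A ≤ idL A := by
  rw [idI, Ideal.span_le]
  intro x hx
  simp only [Set.mem_insert_iff, Set.mem_singleton_iff] at hx
  rw [SetLike.mem_coe, mem_idL_iff]
  rcases hx with rfl | rfl | rfl
  · exact phi_Q1 A
  · exact phi_Q2 A
  · exact phi_Q3 A

theorem det_mul_L1 : detM A * L1 A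
    = (-(vh * vc) + vb * vi) * Q1 A + (vg * vc - vi ^ 2) * Q2 A
      + (-(vg * vb) + vi * vh) * Q3 A := by
  simp only [detM, L1, Q1, Q2, Q3]; ring

theorem det_mul_L2 : detM A * L2 A
    = (ve * vc - vb * vf) * Q1 A + (vh * vc + vi * vf) * Q2 A
      + (-(vh * vb) - vi * ve) * Q3 A := by
  simp only [detM, L2, Q1, Q2, Q3]; ring

theorem det_mul_L3 : detM A * L3 A
    = (ve * vi - vh * vf) * Q1 A + (vh * vi + vg * vf) * Q2 A
      + (-(vh ^ 2) - vg * ve) * Q3 A := by
  simp only [detM, L3, Q1, Q2, Q3]; ring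

theorem det_mul_L1_mem : detM A * L1 A ∈ idI A := by
  rw [det_mul_L1]
  exact add_mem (add_mem (Ideal.mul_mem_left _ _ (Q1_mem A)) (Ideal.mul_mem_left _ _ (Q2_mem A)))
    (Ideal.mul_mem_left _ _ (Q3_mem A))
theorem det_mul_L2_mem : detM A * L2 A ∈ idI A := by
  rw [det_mul_L2]
  exact add_mem (add_mem (Ideal.mul_mem_left _ _ (Q1_mem A)) (Ideal.mul_mem_left _ _ (Q2_mem A)))
    (Ideal.mul_mem_left _ _ (Q3_mem A))
theorem det_mul_L3_mem : detM A * L3 A ∈ idI A := by
  rw [det_mul_L3]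
  exact add_mem (add_mem (Ideal.mul_mem_left _ _ (Q1_mem A)) (Ideal.mul_mem_left _ _ (Q2_mem A)))
    (Ideal.mul_mem_left _ _ (Q3_mem A))

theorem mul_detM_mem (r : D A) (hr : r ∈ idL A) : r * detM A ∈ idI A := by
  have hr' : r ∈ Submodule.span (D A) {L1 A, L2 A, L3 A} := hr
  clear hr
  induction hr' using Submodule.span_induction with
  | mem x hx =>
    simp only [Set.mem_insert_iff, Set.mem_singleton_iff] at hx
    rcases hx with rfl | rfl | rfl
    · rw [mul_comm]; exact det_mul_L1_mem A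
    · rw [mul_comm]; exact det_mul_L2_mem A
    · rw [mul_comm]; exact det_mul_L3_mem A
  | zero => rw [zero_mul]; exact zero_mem _
  | add x y _ _ hx hy => rw [add_mul]; exact add_mem hx hy
  | smul a x _ hx => rw [smul_eq_mul, mul_assoc]; exact Ideal.mul_mem_left _ _ hx

/-- The image of `detM` under `phi`. -/
noncomputable def pdet : D A :=
  -(vc * vh ^ 2) - vg * vf ^ 2 + ve * vi ^ 2 - vg * ve * vc - 2 * vf * vh * vi

theorem phi_detM : phi A (detM A) = pdet A := by
  simp only [detM, pdet, va, vb, vc, vd, ve, vf, vg, vh, vi, map_sub, map_add, map_mul, map_neg,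
    map_pow, phi_X, sub0, sub1, sub2, sub3, sub4, sub5, sub6, sub7, sub8]
  ring

/-- The point `a = e = i = 1`, other coordinates zero. -/
def pt : Fin 9 → A := ![1, 0, 0, 0, 1, 0, 0, 0, 1]

theorem pt0 : pt A 0 = 1 := rfl
theorem pt1 : pt A 1 = 0 := rfl
theorem pt2 : pt A 2 = 0 := rfl
theorem pt3 : pt A 3 = 0 := rfl
theorem pt4 : pt A 4 = 1 := rfl
theorem pt5 : pt A 5 = 0 := rfl
theorem pt6 : pt A 6 = 0 := rfl
theorem pt7 : pt A 7 = 0 := rfl
theorem pt8 : pt A 8 = 1 := rfl

theorem eval_pdet : MvPolynomial.eval (pt A) (pdet A) = 1 := by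
  simp only [pdet, va, vb, vc, vd, ve, vf, vg, vh, vi, map_sub, map_add, map_mul, map_neg,
    map_pow, eval_X, pt0, pt1, pt2, pt3, pt4, pt5, pt6, pt7, pt8]
  ring

theorem pdet_ne_zero [Nontrivial A] : pdet A ≠ 0 := by
  intro h
  have h1 := eval_pdet A
  rw [h, map_zero] at h1
  exact zero_ne_one h1

theorem detM_not_mem [Nontrivial A] : detM A ∉ idL A := by
  rw [mem_idL_iff, phi_detM]
  exact pdet_ne_zero A

theorem map_pdet {B : Type u} [CommRing B] (f : A →+* B) :
    MvPolynomial.map f (pdet A) = pdet B := by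
  simp only [pdet, va, vb, vc, vd, ve, vf, vg, vh, vi, map_sub, map_add, map_mul, map_neg,
    map_pow, map_X, map_ofNat]

theorem eq_zero_of_mul_pdet [IsReduced A] (q : D A) (h : q * pdet A = 0) : q = 0 := by
  ext m
  rw [coeff_zero]
  have hn : coeff m q ∈ nilradical A := by
    rw [nilradical_eq_sInf, Ideal.mem_sInf]
    intro P hP
    have hP' : P.IsPrime := hP
    have h1 : MvPolynomial.map (Ideal.Quotient.mk P) q * pdet (A ⧸ P) = 0 := by
      rw [← map_pdet A (Ideal.Quotient.mk P), ← map_mul, h, map_zero]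
    have h2 : MvPolynomial.map (Ideal.Quotient.mk P) q = 0 :=
      (mul_eq_zero.mp h1).resolve_right (pdet_ne_zero (A ⧸ P))
    have h3 : Ideal.Quotient.mk P (coeff m q) = 0 := by
      rw [← coeff_map, h2, coeff_zero]
    exact Ideal.Quotient.eq_zero_iff_mem.mp h3
  exact IsNilpotent.eq_zero (mem_nilradical.mp hn)

theorem mem_idL_of_mul_detM_mem [IsReduced A] (r : D A) (h : r * detM A ∈ idL A) : r ∈ idL A := by
  rw [mem_idL_iff] at h ⊢
  rw [map_mul, phi_detM] at h
  exact eq_zero_of_mul_pdet A _ h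

theorem idJ_inf_idL_le [IsReduced A] : idJ A ⊓ idL A ≤ idI A := by
  rintro x ⟨hxJ, hxL⟩
  have hxJ' : x ∈ Ideal.span {Q1 A, Q2 A, Q3 A, detM A} := hxJ
  rw [Ideal.mem_span_insert] at hxJ'
  obtain ⟨a1, z1, hz1, rfl⟩ := hxJ'
  rw [Ideal.mem_span_insert] at hz1
  obtain ⟨a2, z2, hz2, rfl⟩ := hz1
  rw [Ideal.mem_span_insert] at hz2
  obtain ⟨a3, z3, hz3, rfl⟩ := hz2
  rw [Ideal.mem_span_singleton'] at hz3
  obtain ⟨r, rfl⟩ := hz3
  have hq : a1 * Q1 A + (a2 * Q2 A + a3 * Q3 A) ∈ idI A :=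
    add_mem (Ideal.mul_mem_left _ _ (Q1_mem A))
      (add_mem (Ideal.mul_mem_left _ _ (Q2_mem A)) (Ideal.mul_mem_left _ _ (Q3_mem A)))
  have hz : r * detM A ∈ idL A := by
    have h := sub_mem hxL (idI_le_idL A hq)
    have e : a1 * Q1 A + (a2 * Q2 A + (a3 * Q3 A + r * detM A))
        - (a1 * Q1 A + (a2 * Q2 A + a3 * Q3 A)) = r * detM A := by ring
    rwa [e] at h
  have hr : r ∈ idL A := mem_idL_of_mul_detM_mem A r hz
  have e : a1 * Q1 A + (a2 * Q2 A + (a3 * Q3 A + r * detM A))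
      = (a1 * Q1 A + (a2 * Q2 A + a3 * Q3 A)) + r * detM A := by ring
  show a1 * Q1 A + (a2 * Q2 A + (a3 * Q3 A + r * detM A)) ∈ idI A
  rw [e]
  exact add_mem hq (mul_detM_mem A r hr)

theorem idI_le_idJ : idI A ≤ idJ A := by
  apply Ideal.span_mono
  intro x hx
  simp only [Set.mem_insert_iff, Set.mem_singleton_iff] at hx ⊢
  rcases hx with h | h | h
  · exact Or.inl h
  · exact Or.inr (Or.inl h)
  · exact Or.inr (Or.inr (Or.inl h))

theorem idI_eq [IsReduced A] : idI A = idJ A ⊓ idL A :=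
  le_antisymm (le_inf (idI_le_idJ A) (idI_le_idL A)) (idJ_inf_idL_le A)

end Groth.Agent.H19.Lie3
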