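import Mathlib
import Groth.Agent.H25.MagDefs
import Groth.Agent.H91.SchDom
import Groth.Agent.H64.DX3
import Groth.Agent.H10.MG_B1
import Groth.Agent.H10.MG_B2

set_option autoImplicit false
universe u
open CategoryTheory Limits AlgebraicGeometry MonoidalCategory CartesianMonoidalCategory MonObj
open Magnet Magnet.MonAct
open scoped TensorProduct
open Groth.Agent.H91.MagnetDense Groth.Agent.H25.Mag

namespace Groth.Agent.H19.MG_B3

attribute [local instance 10] algZ

variable {S : Scheme.{u}} {M : Type} [AddCommMonoid M]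

/-- lifting a ring hom through an injective ring hom containing its range. -/
theorem exists_lift_of_injective {C B B' : Type u} [CommRing C] [CommRing B] [CommRing B']
    (Φ : B' →+* B) (hΦ : Function.Injective Φ) (g : C →+* B) (h : ∀ b, g b ∈ Set.range Φ) :
    ∃ c1 : C →+* B', Φ.comp c1 = g := by
  choose c1 hc1 using h
  refine ⟨{ toFun := c1, map_one' := ?_, map_mul' := ?_, map_zero' := ?_, map_add' := ?_ }, ?_⟩
  · apply hΦ; rw [hc1, map_one, map_one]
  · intro x y; apply hΦ; rw [hc1, map_mul, map_mul, hc1, hc1]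
  · apply hΦ; rw [hc1, map_zero, map_zero]
  · intro x y; apply hΦ; rw [hc1, map_add, map_add, hc1, hc1]
  · ext b; exact hc1 b

set_option maxHeartbeats 1600000 in
theorem affine_crit (N : AddSubmonoid M) {X : Over S} [IsAffineHom X.hom] (R : CommRingCat.{u})
    (t : Spec R ⟶ S) (ψ : AMonS S M ⊗ Over.mk t ⟶ X) :
    ∃ J : Ideal R, ∀ (R1 : CommRingCat.{u}) (f : R ⟶ R1),
      Ext N ((AMonS S M ◁ (Over.homMk (Spec.map f) rfl : Over.mk (Spec.map f ≫ t) ⟶ Over.mk t)) ≫ ψ)
        ↔ J ≤ RingHom.ker f.hom := by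
  -- the affine scheme `XT`
  let XT : Scheme.{u} := pullback X.hom t
  have : IsAffine XT := isAffine_of_isAffineHom (pullback.snd X.hom t)
  have hψw : ψ.left ≫ X.hom = (snd (AMonS S M) (Over.mk t)).left ≫ t := by
    rw [Over.w]; exact (Over.w (snd (AMonS S M) (Over.mk t))).symm
  let ψ' : (AMonS S M ⊗ Over.mk t).left ⟶ XT :=
    pullback.lift ψ.left (snd (AMonS S M) (Over.mk t)).left hψw
  let C : CommRingCat.{u} := Γ(XT, ⊤)
  let c : C ⟶ CommRingCat.of (BM.{u} M ⊗[ULift.{u} ℤ] R) :=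
    Spec.preimage ((chart S M R t).hom ≫ ψ' ≫ XT.isoSpec.hom)
  have hc : Spec.map c = (chart S M R t).hom ≫ ψ' ≫ XT.isoSpec.hom := Spec.map_preimage _
  obtain ⟨J, hJ⟩ := Groth.Agent.H10.MG_B1.exists_coeff_ideal N c.hom
  refine ⟨J, fun R1 f => ?_⟩
  rw [← hJ R1 f.hom]
  -- notation
  let t1 : Spec R1 ⟶ S := Spec.map f ≫ t
  let T : Over S := Over.mk t
  let T1 : Over S := Over.mk t1
  let ιf : T1 ⟶ T := Over.homMk (Spec.map f) rfl
  let r : AMonS S M ⟶ AMonS S N := AMonS.map S N.subtype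
  let PhiC : CommRingCat.of (BM.{u} N ⊗[ULift.{u} ℤ] R1) ⟶
      CommRingCat.of (BM.{u} M ⊗[ULift.{u} ℤ] R1) := CommRingCat.ofHom (Phi N R1).toRingHom
  let tmapC : CommRingCat.of (BM.{u} M ⊗[ULift.{u} ℤ] R) ⟶
      CommRingCat.of (BM.{u} M ⊗[ULift.{u} ℤ] R1) := CommRingCat.ofHom (tmap M f.hom).toRingHom
  have B2a : (chart S M R1 t1).hom ≫ (r ▷ T1).left =
      Spec.map PhiC ≫ (chart S N R1 t1).hom :=
    Groth.Agent.H10.MG_B2.chart_whiskerRight N R1 t1
  have B2b : (chart S M R1 t1).hom ≫ (AMonS S M ◁ ιf).left =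
      Spec.map tmapC ≫ (chart S M R t).hom :=
    Groth.Agent.H10.MG_B2.chart_whiskerLeft M f t
  have hdense : IsSchemeTheoreticallyDominant (r ▷ T1).left :=
    dense S N.subtype Subtype.val_injective T1
  -- the key equivalence
  have K1 : ∀ (c1 : C ⟶ CommRingCat.of (BM.{u} N ⊗[ULift.{u} ℤ] R1))
      (φ' : (AMonS S N ⊗ T1).left ⟶ XT)
      (_ : Spec.map c1 = (chart S N R1 t1).hom ≫ φ' ≫ XT.isoSpec.hom),
      (c1 ≫ PhiC = c ≫ tmapC) ↔
      ((r ▷ T1).left ≫ φ' = (AMonS S M ◁ ιf).left ≫ ψ') := by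
    intro c1 φ' h1
    rw [← Spec.map_inj, Spec.map_comp, Spec.map_comp, h1, hc, ← Category.assoc, ← B2a,
      ← Category.assoc (Spec.map _), ← B2b, Category.assoc, Category.assoc, cancel_epi,
      ← Category.assoc, ← Category.assoc ((AMonS S M ◁ ιf).left), cancel_mono]
  constructor
  · rintro ⟨φ, hφ⟩
    have hφw : φ.left ≫ X.hom = ((snd (AMonS S N) T1).left ≫ Spec.map f) ≫ t := by
      rw [Over.w, Category.assoc]; exact (Over.w (snd (AMonS S N) T1)).symm
    let φ' : (AMonS S N ⊗ T1).left ⟶ XT :=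
      pullback.lift φ.left ((snd (AMonS S N) T1).left ≫ Spec.map f) hφw
    let c1 : C ⟶ CommRingCat.of (BM.{u} N ⊗[ULift.{u} ℤ] R1) :=
      Spec.preimage ((chart S N R1 t1).hom ≫ φ' ≫ XT.isoSpec.hom)
    have h1 : Spec.map c1 = (chart S N R1 t1).hom ≫ φ' ≫ XT.isoSpec.hom := Spec.map_preimage _
    have h2 : (r ▷ T1).left ≫ φ' = (AMonS S M ◁ ιf).left ≫ ψ' := by
      apply pullback.hom_ext
      · rw [Category.assoc, Category.assoc, pullback.lift_fst, pullback.lift_fst,
          ← Over.comp_left, ← Over.comp_left, hφ]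
      · rw [Category.assoc, Category.assoc, pullback.lift_snd, pullback.lift_snd,
          ← Category.assoc, ← Over.comp_left, ← Over.comp_left, whiskerRight_snd,
          whiskerLeft_snd, Over.comp_left]
        rfl
    have h3 := (K1 c1 φ' h1).mpr h2
    intro b
    refine ⟨c1.hom b, ?_⟩
    have h4 := congrArg (fun g => g.hom b) h3
    simp only [CommRingCat.hom_comp, CommRingCat.hom_ofHom, RingHom.comp_apply, PhiC, tmapC] at h4
    exact h4
  · intro h
    obtain ⟨c1', hc1'⟩ := exists_lift_of_injective (C := C)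
      (B := BM.{u} M ⊗[ULift.{u} ℤ] R1) (B' := BM.{u} N ⊗[ULift.{u} ℤ] R1)
      (Phi N R1).toRingHom (Phi_injective N R1)
      ((tmap M f.hom).toRingHom.comp c.hom) h
    let c1 : C ⟶ CommRingCat.of (BM.{u} N ⊗[ULift.{u} ℤ] R1) := CommRingCat.ofHom c1'
    let φ' : (AMonS S N ⊗ T1).left ⟶ XT :=
      (chart S N R1 t1).inv ≫ Spec.map c1 ≫ XT.isoSpec.inv
    have h1 : Spec.map c1 = (chart S N R1 t1).hom ≫ φ' ≫ XT.isoSpec.hom := by
      simp [φ']
    have h3 : c1 ≫ PhiC = c ≫ tmapC := by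
      apply CommRingCat.hom_ext
      exact hc1'
    have h2 := (K1 c1 φ' h1).mp h3
    have hover : (φ' ≫ pullback.fst X.hom t) ≫ X.hom = (AMonS S N ⊗ T1).hom := by
      have e1 : φ' ≫ pullback.snd X.hom t = (snd (AMonS S N) T1).left ≫ Spec.map f := by
        apply Groth.Agent.H64.DX3.cancel_dominant_affine (r ▷ T1).left
        rw [← Category.assoc, h2, Category.assoc, pullback.lift_snd, ← Category.assoc,
          ← Over.comp_left, ← Over.comp_left, whiskerRight_snd, whiskerLeft_snd, Over.comp_left]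
        rfl
      rw [Category.assoc, pullback.condition, ← Category.assoc, e1, Category.assoc]
      exact Over.w (snd (AMonS S N) T1)
    refine ⟨Over.homMk (φ' ≫ pullback.fst X.hom t) hover, ?_⟩
    ext1
    rw [Over.comp_left, Over.comp_left]
    change (r ▷ T1).left ≫ (φ' ≫ pullback.fst X.hom t) = (AMonS S M ◁ ιf).left ≫ ψ.left
    rw [← Category.assoc, h2, Category.assoc, pullback.lift_fst]

end Groth.Agent.H19.MG_B3
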