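import Mathlib

set_option autoImplicit false

universe u

open CategoryTheory Limits AlgebraicGeometry

namespace Groth.Agent.H19.MG_CS1

/-- (MG-CS1) ideal sheaf from a universal family of ideals. -/
theorem exists_idealSheafData {X : Scheme.{u}} (P : ∀ (T : Scheme.{u}), (T ⟶ X) → Prop)
    (J : ∀ U : X.affineOpens, Ideal Γ(X, U.1))
    (hJ : ∀ (U : X.affineOpens) (R1 : CommRingCat.{u}) (f : Γ(X, U.1) ⟶ R1),
      P (Spec R1) (Spec.map f ≫ U.2.fromSpec) ↔ J U ≤ RingHom.ker f.hom) :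
    ∃ ℐ : X.IdealSheafData, ∀ U, ℐ.ideal U = J U := by
  refine ⟨{ ideal := J, map_ideal_basicOpen := ?_ }, fun _ => rfl⟩
  intro U g
  set res : Γ(X, U.1) ⟶ Γ(X, (X.affineBasicOpen g).1) :=
    X.presheaf.map (homOfLE <| X.basicOpen_le g).op with hres
  have hfs : Spec.map res ≫ U.2.fromSpec = (X.affineBasicOpen g).2.fromSpec :=
    IsAffineOpen.map_fromSpec U.2 (X.affineBasicOpen g).2 _
  have key : ∀ (R1 : CommRingCat.{u}) (q : Γ(X, (X.affineBasicOpen g).1) ⟶ R1),
      J (X.affineBasicOpen g) ≤ RingHom.ker q.hom ↔ (J U).map res.hom ≤ RingHom.ker q.hom := by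
    intro R1 q
    have e : Spec.map (res ≫ q) ≫ U.2.fromSpec =
        Spec.map q ≫ (X.affineBasicOpen g).2.fromSpec := by
      rw [Spec.map_comp, Category.assoc, hfs]
    rw [← hJ (X.affineBasicOpen g) R1 q, ← e, hJ U R1 (res ≫ q), Ideal.map_le_iff_le_comap]
    rfl
  let I₁ : Ideal Γ(X, (X.affineBasicOpen g).1) := J (X.affineBasicOpen g)
  let I₂ : Ideal Γ(X, (X.affineBasicOpen g).1) := (J U).map res.hom
  change I₂ = I₁
  apply le_antisymm
  · have := (key (CommRingCat.of (Γ(X, (X.affineBasicOpen g).1) ⧸ I₁))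
      (CommRingCat.ofHom (Ideal.Quotient.mk I₁))).mp (by simp [I₁, Ideal.mk_ker])
    simpa [Ideal.mk_ker] using this
  · have := (key (CommRingCat.of (Γ(X, (X.affineBasicOpen g).1) ⧸ I₂))
      (CommRingCat.ofHom (Ideal.Quotient.mk I₂))).mpr (by simp [I₂, Ideal.mk_ker])
    simpa [Ideal.mk_ker] using this

end Groth.Agent.H19.MG_CS1
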