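import Mathlib
import Groth.Agent.H19.MG_CS1

set_option autoImplicit false

universe u

open CategoryTheory Limits AlgebraicGeometry

namespace Groth.Agent.H19.MG_CS2

/-- every point of an open subset of a scheme has an affine open neighbourhood inside it. -/
theorem exists_affineOpen_le {T : Scheme.{u}} (W : T.Opens) (t : T) (ht : t ∈ W) :
    ∃ V : T.affineOpens, t ∈ V.1 ∧ V.1 ≤ W := by
  obtain ⟨V, hV, htV, hVW⟩ :=
    (TopologicalSpace.Opens.isBasis_iff_nbhd.mp T.isBasis_affineOpens) ht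
  exact ⟨⟨V, hV⟩, htV, hVW⟩

/-- (MG-CS2) closed subfunctor theorem. -/
theorem closed_subfunctor {X : Scheme.{u}} (P : ∀ (T : Scheme.{u}), (T ⟶ X) → Prop)
    (hcomp : ∀ {T T' : Scheme.{u}} (t : T' ⟶ T) (x : T ⟶ X), P T x → P T' (t ≫ x))
    (hloc : ∀ {T : Scheme.{u}} (x : T ⟶ X) (𝒰 : Scheme.OpenCover.{u} T),
      (∀ j, P (𝒰.X j) (𝒰.f j ≫ x)) → P T x)
    (haff : ∀ (R : CommRingCat.{u}) (x : Spec R ⟶ X), ∃ J : Ideal R,
      ∀ (R1 : CommRingCat.{u}) (f : R ⟶ R1), P (Spec R1) (Spec.map f ≫ x) ↔ J ≤ RingHom.ker f.hom) :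
    ∃ ℐ : X.IdealSheafData, ∀ (T : Scheme.{u}) (x : T ⟶ X),
      P T x ↔ ∃ z : T ⟶ ℐ.subscheme, z ≫ ℐ.subschemeι = x := by
  choose J hJ using fun U : X.affineOpens => haff Γ(X, U.1) U.2.fromSpec
  obtain ⟨ℐ, hℐ⟩ := MG_CS1.exists_idealSheafData P J (fun U R1 f => hJ U R1 f)
  refine ⟨ℐ, fun T x => ?_⟩
  have hfac : (∃ z : T ⟶ ℐ.subscheme, z ≫ ℐ.subschemeι = x) ↔
      ∀ U : X.affineOpens, J U ≤ RingHom.ker (x.app U).hom := by
    constructor
    · rintro ⟨z, rfl⟩ U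
      have h1 := Scheme.Hom.le_ker_comp z ℐ.subschemeι
      rw [ℐ.ker_subschemeι] at h1
      have h2 := h1 U
      rw [hℐ U] at h2
      exact h2.trans (Scheme.Hom.ideal_ker_le _ U)
    · intro h
      have : ℐ.subschemeι.ker ≤ x.ker := by
        rw [ℐ.ker_subschemeι]
        refine Scheme.IdealSheafData.le_ofIdeals_iff.mpr (fun U => ?_)
        rw [hℐ U]; exact h U
      exact ⟨IsClosedImmersion.lift ℐ.subschemeι x this, IsClosedImmersion.lift_fac _ _ _⟩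
  rw [hfac]
  -- the key local statement
  have key : ∀ (U : X.affineOpens) (V : T.Opens) (hV : IsAffineOpen V) (e : V ≤ x ⁻¹ᵁ U.1),
      P (Spec Γ(T, V)) (hV.fromSpec ≫ x) ↔ J U ≤ RingHom.ker (x.appLE U.1 V e).hom := by
    intro U V hV e
    rw [← IsAffineOpen.SpecMap_appLE_fromSpec x U.2 hV e]
    exact hJ U _ _
  constructor
  · intro hP U s hs
    rw [RingHom.mem_ker]
    refine T.sheaf.eq_of_locally_eq' (fun V : {V : T.affineOpens // V.1 ≤ x ⁻¹ᵁ U.1} => V.1.1)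
      (x ⁻¹ᵁ U.1) (fun V => homOfLE V.2) ?_ _ 0 (fun V => ?_)
    · intro t ht
      obtain ⟨V, htV, hVW⟩ := exists_affineOpen_le (x ⁻¹ᵁ U.1) t ht
      exact TopologicalSpace.Opens.mem_iSup.mpr ⟨⟨V, hVW⟩, htV⟩
    · have hV : IsAffineOpen V.1.1 := V.1.2
      have h1 : P (Spec Γ(T, V.1.1)) (hV.fromSpec ≫ x) := hcomp _ _ hP
      have h2 := (key U V.1.1 hV V.2).mp h1 hs
      rw [RingHom.mem_ker] at h2
      refine Eq.trans ?_ (map_zero _).symm
      exact h2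
  · intro h
    let ι := {p : T.affineOpens × X.affineOpens // p.1.1 ≤ x ⁻¹ᵁ p.2.1}
    have hcov : TopologicalSpace.IsOpenCover (fun p : ι => p.1.1.1) := by
      rw [TopologicalSpace.IsOpenCover, eq_top_iff]
      intro t _
      obtain ⟨U, htU, -⟩ := exists_affineOpen_le (⊤ : X.Opens) (x.base t) trivial
      obtain ⟨V, htV, hVW⟩ := exists_affineOpen_le (x ⁻¹ᵁ U.1) t htU
      exact TopologicalSpace.Opens.mem_iSup.mpr ⟨⟨(V, U), hVW⟩, htV⟩
    refine hloc x (T.openCoverOfIsOpenCover _ hcov) (fun p => ?_)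
    obtain ⟨⟨V, U⟩, e⟩ := p
    change P V.1 (V.1.ι ≫ x)
    have hV : IsAffineOpen V.1 := V.2
    have h1 : P (Spec Γ(T, V.1)) (hV.fromSpec ≫ x) := by
      rw [key U V.1 hV e]
      intro s hs
      have := h U hs
      rw [RingHom.mem_ker] at this ⊢
      rw [Scheme.Hom.appLE, CommRingCat.hom_comp, RingHom.comp_apply, this, map_zero]
    have h2 := hcomp hV.isoSpec.hom _ h1
    rw [← Category.assoc, IsAffineOpen.isoSpec_hom_fromSpec] at h2
    exact h2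

end Groth.Agent.H19.MG_CS2
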