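import Groth.Agent.H88.Frame

/-!
# (P2a), (P2b) for helper88's S7797 squad: change of frame by an invertible matrix and the
transition matrix of two frames (helper19)
-/

set_option autoImplicit false
universe u

namespace Groth.Agent.H19.P1Frame

open CategoryTheory AlgebraicGeometry Opposite TopologicalSpace
open Groth.Agent.H88.Frame

variable {X : Scheme.{u}}

lemma res_sum (M : X.Modules) {A B : X.Opens} (h : A ≤ B) {ι : Type*} (s : Finset ι)
    (f : ι → Γ(M, B)) :
    M.presheaf.map (homOfLE h).op (∑ i ∈ s, f i) = ∑ i ∈ s, M.presheaf.map (homOfLE h).op (f i) :=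
  map_sum _ _ _

/-- The frame map. -/
noncomputable def frameMap (M : X.Modules) {V : X.Opens} {r : ℕ} (μ : Fin r → Γ(M, V))
    (V' : X.Opens) (h : V' ≤ V) (c : Fin r → Γ(X, V')) : Γ(M, V') :=
  ∑ i, c i • M.presheaf.map (homOfLE h).op (μ i)

lemma frameMap_mulVec (M : X.Modules) {V : X.Opens} {r : ℕ} (μ : Fin r → Γ(M, V))
    (P : Matrix (Fin r) (Fin r) Γ(X, V)) (V' : X.Opens) (h : V' ≤ V) (c : Fin r → Γ(X, V')) :
    frameMap M (fun i => ∑ j, P i j • μ j) V' h c =
      frameMap M μ V' h (Matrix.vecMul c (P.map (X.presheaf.map (homOfLE h).op))) := by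
  unfold frameMap
  simp only [res_sum, Groth.Agent.H8.res_smul, Finset.smul_sum, smul_smul]
  rw [Finset.sum_comm]
  refine Finset.sum_congr rfl (fun j _ => ?_)
  rw [← Finset.sum_smul]
  rfl

/-- (P2a) change of frame by an invertible matrix. -/
theorem isFrame_mulVec {X : Scheme.{u}} {M : X.Modules} {V : X.Opens} {r : ℕ}
    {μ : Fin r → Γ(M, V)} (hμ : IsFrame M V μ) (P : Matrix (Fin r) (Fin r) Γ(X, V))
    (hP : IsUnit P) : IsFrame M V (fun i => ∑ j, P i j • μ j) := by
  intro V' h
  have hb : Function.Bijective (frameMap M μ V' h) := hμ V' h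
  set ρ := X.presheaf.map (homOfLE h).op with hρ
  have hP' : IsUnit (P.map ρ.hom) := hP.map (RingHom.mapMatrix ρ.hom)
  obtain ⟨u, hu⟩ := hP'
  have h1 : P.map ρ.hom * (↑u⁻¹ : Matrix (Fin r) (Fin r) Γ(X, V')) = 1 := by
    rw [← hu]; exact u.mul_inv
  have h2 : (↑u⁻¹ : Matrix (Fin r) (Fin r) Γ(X, V')) * P.map ρ.hom = 1 := by
    rw [← hu]; exact u.inv_mul
  have hvb : Function.Bijective (fun c : Fin r → Γ(X, V') => Matrix.vecMul c (P.map ρ.hom)) := by
    refine Function.bijective_iff_has_inverse.mpr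
      ⟨fun c => Matrix.vecMul c (↑u⁻¹ : Matrix (Fin r) (Fin r) Γ(X, V')), ?_, ?_⟩
    · intro c
      simp only [Matrix.vecMul_vecMul, h1, Matrix.vecMul_one]
    · intro c
      simp only [Matrix.vecMul_vecMul, h2, Matrix.vecMul_one]
  have heq : (fun c : Fin r → Γ(X, V') => ∑ i, c i • M.presheaf.map (homOfLE h).op
      ((fun i => ∑ j, P i j • μ j) i)) =
      (frameMap M μ V' h) ∘ (fun c : Fin r → Γ(X, V') => Matrix.vecMul c (P.map ρ.hom)) := by
    funext c
    exact frameMap_mulVec M μ P V' h c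
  rw [heq]
  exact hb.comp hvb

/-- (P2b) transition matrix of two frames. -/
theorem exists_transition {X : Scheme.{u}} {M : X.Modules} {V V' W : X.Opens} {r : ℕ}
    {μ : Fin r → Γ(M, V)} {ν : Fin r → Γ(M, V')} (hμ : IsFrame M V μ) (hν : IsFrame M V' ν)
    (hW : W ≤ V) (hW' : W ≤ V') :
    ∃ g : Matrix (Fin r) (Fin r) Γ(X, W), IsUnit g ∧
      ∀ i, M.presheaf.map (homOfLE hW').op (ν i) =
        ∑ j, g i j • M.presheaf.map (homOfLE hW).op (μ j) := by
  have hbμ : Function.Bijective (frameMap M μ W hW) := hμ W hW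
  have hbν : Function.Bijective (frameMap M ν W hW') := hν W hW'
  -- expand `ν|W` in `μ|W` and conversely
  choose g hg using fun i => hbμ.2 (M.presheaf.map (homOfLE hW').op (ν i))
  choose g' hg' using fun i => hbν.2 (M.presheaf.map (homOfLE hW).op (μ i))
  let G : Matrix (Fin r) (Fin r) Γ(X, W) := Matrix.of g
  let G' : Matrix (Fin r) (Fin r) Γ(X, W) := Matrix.of g'
  -- composite expansions
  have hcomp : ∀ (c : Fin r → Γ(X, W)),
      frameMap M ν W hW' c = frameMap M μ W hW (Matrix.vecMul c G) := by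
    intro c
    unfold frameMap
    have : ∀ i, M.presheaf.map (homOfLE hW').op (ν i) =
        ∑ j, g i j • M.presheaf.map (homOfLE hW).op (μ j) := fun i => (hg i).symm
    simp only [this, Finset.smul_sum, smul_smul]
    rw [Finset.sum_comm]
    refine Finset.sum_congr rfl (fun j _ => ?_)
    rw [← Finset.sum_smul]
    rfl
  have hcomp' : ∀ (c : Fin r → Γ(X, W)),
      frameMap M μ W hW c = frameMap M ν W hW' (Matrix.vecMul c G') := by
    intro c
    unfold frameMap
    have : ∀ i, M.presheaf.map (homOfLE hW).op (μ i) =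
        ∑ j, g' i j • M.presheaf.map (homOfLE hW').op (ν j) := fun i => (hg' i).symm
    simp only [this, Finset.smul_sum, smul_smul]
    rw [Finset.sum_comm]
    refine Finset.sum_congr rfl (fun j _ => ?_)
    rw [← Finset.sum_smul]
    rfl
  have hGG' : G * G' = 1 := by
    -- `c ᵥ* (G * G') = c` for all `c`, by injectivity of the `ν`-frame map
    have : ∀ c : Fin r → Γ(X, W), Matrix.vecMul c (G * G') = c := by
      intro c
      apply hbν.1
      rw [← Matrix.vecMul_vecMul, ← hcomp', ← hcomp]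
    ext i j
    have := congrFun (this (Pi.single i 1)) j
    rw [Matrix.single_one_vecMul] at this
    have h3 : (G * G') i j = (Pi.single i 1 : Fin r → Γ(X, W)) j := this
    rw [h3, Matrix.one_apply, Pi.single_apply]
    simp [eq_comm]
  have hG'G : G' * G = 1 := by
    have : ∀ c : Fin r → Γ(X, W), Matrix.vecMul c (G' * G) = c := by
      intro c
      apply hbμ.1
      rw [← Matrix.vecMul_vecMul, ← hcomp, ← hcomp']
    ext i j
    have := congrFun (this (Pi.single i 1)) j
    rw [Matrix.single_one_vecMul] at this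
    have h3 : (G' * G) i j = (Pi.single i 1 : Fin r → Γ(X, W)) j := this
    rw [h3, Matrix.one_apply, Pi.single_apply]
    simp [eq_comm]
  refine ⟨G, ⟨⟨G, G', hGG', hG'G⟩, rfl⟩, fun i => (hg i).symm⟩

end Groth.Agent.H19.P1Frame
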