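import Groth.Agent.H88.Frame
import Groth.Agent.H88.PnGlobal

/-!
# (U1) for helper88's S7797 squad: no nonzero maps `O(a) ⟶ O(b)` on `P^n_k`, `n ≥ 1`, `b < a`
(helper19)
-/

set_option autoImplicit false
universe u
open CategoryTheory CategoryTheory.Limits AlgebraicGeometry Opposite TopologicalSpace
open Groth.Agent.H18.TensorGen (IsGen)
open Groth.Agent.H88.Frame Groth.Agent.H88.PicPn Groth.Agent.H88.TwistGenN Groth.Agent.H88.MonoFrac
  Groth.Agent.H88.ProjChart
open Groth.Agent.H8 (res_res res_smul app_res)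
open Groth.Agent.H18.Serre
open Groth.Agent.H88.PnGlobal

noncomputable section

namespace Groth.Agent.H19.P1HomZero

set_option maxHeartbeats 1600000 in
/-- (U1) -/
theorem hom_eq_zero_of_lt (n : ℕ) (k : Type u) [Field k] (hn : ∃ i : Fin (n + 1), i ≠ 0)
    (a b : ℤ) (hab : b < a)
    (ψ : Twist.twist (CohB1.polyGrading n k) a ⟶ Twist.twist (CohB1.polyGrading n k) b) :
    ψ = 0 := by
  obtain ⟨e, he, rfl⟩ : ∃ e : ℕ, 0 < e ∧ a = b + e := by
    refine ⟨(a - b).toNat, ?_, ?_⟩ <;> omega
  -- coefficients of `ψ` on the standard generators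
  choose c hc using fun i : Fin (n + 1) =>
    (isGen_αN (CohB1.polyGrading n k) (hT n k i) b).self.2
      (ψ.app (U n k i) (αN (CohB1.polyGrading n k) (hT n k i) (b + e)))
  have hc' : ∀ i, c i • αN (CohB1.polyGrading n k) (hT n k i) b =
      ψ.app (U n k i) (αN (CohB1.polyGrading n k) (hT n k i) (b + e)) := hc
  -- the cocycle relation for the `c i`
  have hrel : ∀ i j, (Proj (CohB1.polyGrading n k)).presheaf.map
      (homOfLE (inf_le_right : U n k i ⊓ U n k j ≤ U n k j)).op (c j) =
      mfrac (CohB1.polyGrading n k) (U n k i ⊓ U n k j) (hT n k i) (hT n k j) inf_le_left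
        inf_le_right e 0 *
      (Proj (CohB1.polyGrading n k)).presheaf.map
        (homOfLE (inf_le_left : U n k i ⊓ U n k j ≤ U n k i)).op (c i) := by
    intro i j
    have h1 := congrArg (ψ.app (U n k i ⊓ U n k j))
      (αN_res (CohB1.polyGrading n k) (hT n k i) (hT n k j) (b + e))
    rw [app_res, Scheme.Modules.Hom.app_smul, app_res, ← hc' i, ← hc' j, res_smul, res_smul,
      αN_res (CohB1.polyGrading n k) (hT n k i) (hT n k j) b, ← mul_smul, ← mul_smul] at h1
    have h2 := ((isGen_αN (CohB1.polyGrading n k) (hT n k i) b) (U n k i ⊓ U n k j)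
      inf_le_left).1 h1
    rw [uN_eq_zfrac, uN_eq_zfrac, zfrac_add_nat, mul_comm, mul_assoc] at h2
    have h2' : zfrac (CohB1.polyGrading n k) (U n k i ⊓ U n k j) (hT n k i) (hT n k j)
          inf_le_left inf_le_right b *
        (Proj (CohB1.polyGrading n k)).presheaf.map
          (homOfLE (inf_le_right : U n k i ⊓ U n k j ≤ U n k j)).op (c j) =
        zfrac (CohB1.polyGrading n k) (U n k i ⊓ U n k j) (hT n k i) (hT n k j)
          inf_le_left inf_le_right b *
        (mfrac (CohB1.polyGrading n k) (U n k i ⊓ U n k j) (hT n k i) (hT n k j) inf_le_left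
          inf_le_right e 0 *
        (Proj (CohB1.polyGrading n k)).presheaf.map
          (homOfLE (inf_le_left : U n k i ⊓ U n k j ≤ U n k i)).op (c i)) := by
      rw [h2]; ring
    exact zfrac_mul_cancel (CohB1.polyGrading n k) (hT n k i) (hT n k j) inf_le_left
      inf_le_right b h2'
  -- the morphism `θ : O(0) ⟶ O(-e)` with coefficients `c i`
  have hγu : ∀ i j, (Twist.twist (CohB1.polyGrading n k) (-(e : ℤ))).presheaf.map
      (homOfLE (inf_le_right : U n k i ⊓ U n k j ≤ U n k j)).op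
        (c j • αN (CohB1.polyGrading n k) (hT n k j) (-(e : ℤ))) =
      uN (CohB1.polyGrading n k) (hT n k i) (hT n k j) ((0 : ℕ) : ℤ) •
        (Twist.twist (CohB1.polyGrading n k) (-(e : ℤ))).presheaf.map
          (homOfLE (inf_le_left : U n k i ⊓ U n k j ≤ U n k i)).op
          (c i • αN (CohB1.polyGrading n k) (hT n k i) (-(e : ℤ))) := by
    intro i j
    rw [res_smul, res_smul, αN_res (CohB1.polyGrading n k) (hT n k i) (hT n k j) (-(e : ℤ)),
      ← mul_smul, ← mul_smul]
    congr 1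
    rw [hrel i j, uN_eq_zfrac, uN_eq_zfrac]
    have h0 : (((0 : ℕ) : ℤ)) = -(e : ℤ) + e := by push_cast; ring
    rw [h0, zfrac_add_nat]
    ring
  have hcoh := Groth.Agent.H18.HomOfGens.coh_of_transition
    (A := Twist.twist (CohB1.polyGrading n k) ((0 : ℕ) : ℤ))
    (C := Twist.twist (CohB1.polyGrading n k) (-(e : ℤ))) (D := U n k)
    (α := fun i => αN (CohB1.polyGrading n k) (hT n k i) ((0 : ℕ) : ℤ))
    (γ := fun i => c i • αN (CohB1.polyGrading n k) (hT n k i) (-(e : ℤ)))
    (fun i => isGen_αN (CohB1.polyGrading n k) (hT n k i) ((0 : ℕ) : ℤ))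
    (fun i j => uN (CohB1.polyGrading n k) (hT n k i) (hT n k j) ((0 : ℕ) : ℤ))
    (fun i j => αN_res (CohB1.polyGrading n k) (hT n k i) (hT n k j) ((0 : ℕ) : ℤ)) hγu
  obtain ⟨θ, hθ⟩ := Groth.Agent.H18.HomOfGens.exists_hom_of_gens
    (Groth.Agent.H18.ProjUPData.Dp_cover n k)
    (fun i => isGen_αN (CohB1.polyGrading n k) (hT n k i) ((0 : ℕ) : ℤ)) hcoh
  -- the global section `σ = θ(1)` of `O(-e)`
  let F1 : CohB1.polyGrading n k 0 := ⟨1, SetLike.one_mem_graded _⟩
  let σ := θ.app ⊤ (gO (CohB1.polyGrading n k) F1)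
  have hc0 : ∀ i, c i = 0 := by
    intro i
    have h1 := res_eq_zero_of_neg n k hn e he σ i
    have hfr : frac (CohB1.polyGrading n k) (U n k i) F1.2
        (Groth.Agent.H88.TwistGenN.pow_mem_one (CohB1.polyGrading n k) (hT n k i) 0)
        (fun y => pow_notMem (CohB1.polyGrading n k)
          (notMem_of_mem_basicOpen (CohB1.polyGrading n k) y) 0) = 1 := by
      rw [← frac_self (CohB1.polyGrading n k)
        (Groth.Agent.H88.TwistGenN.pow_mem_one (CohB1.polyGrading n k) (hT n k i) 0)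
        (fun y => pow_notMem (CohB1.polyGrading n k)
          (notMem_of_mem_basicOpen (CohB1.polyGrading n k) y) 0)]
      refine frac_eq_of (CohB1.polyGrading n k) _ _ _ _ _ _ ?_
      simp [F1]
    have h2 : (Twist.twist (CohB1.polyGrading n k) (-(e : ℤ))).presheaf.map
        (homOfLE (le_top : U n k i ≤ ⊤)).op σ =
        c i • αN (CohB1.polyGrading n k) (hT n k i) (-(e : ℤ)) := by
      change (Twist.twist (CohB1.polyGrading n k) (-(e : ℤ))).presheaf.map
        (homOfLE (le_top : U n k i ≤ ⊤)).op (θ.app ⊤ (gO (CohB1.polyGrading n k) F1)) = _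
      rw [← app_res, gO_res (CohB1.polyGrading n k) F1 (hT n k i), hfr, one_smul, hθ i]
    rw [h2] at h1
    apply (isGen_αN (CohB1.polyGrading n k) (hT n k i) (-(e : ℤ))).self.1
    change c i • αN (CohB1.polyGrading n k) (hT n k i) (-(e : ℤ)) =
      (0 : Γ(Proj (CohB1.polyGrading n k), U n k i)) •
        αN (CohB1.polyGrading n k) (hT n k i) (-(e : ℤ))
    rw [h1, zero_smul]
  -- conclude
  refine Groth.Agent.H18.HomOfGens.hom_ext_of_gens (Groth.Agent.H18.ProjUPData.Dp_cover n k)
    (fun i => isGen_αN (CohB1.polyGrading n k) (hT n k i) (b + e)) ψ 0 (fun i => ?_)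
  rw [← hc' i, hc0 i, zero_smul]
  rfl

end Groth.Agent.H19.P1HomZero
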