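import Mathlib

/-!
# (U3) for helper88's S7797 squad: an antitone integer sequence is determined by its counting
function (helper19)
-/

set_option autoImplicit false
universe u

namespace Groth.Agent.H19.P1U3

/-- For antitone `d`, `t ≤ d i` iff `i < #{j | t ≤ d j}`. -/
theorem le_iff_lt_card {r : ℕ} (d : Fin r → ℤ) (hd : Antitone d) (t : ℤ) (i : Fin r) :
    t ≤ d i ↔ (i : ℕ) < (Finset.univ.filter (fun j => t ≤ d j)).card := by
  set S := Finset.univ.filter (fun j => t ≤ d j) with hS
  constructor
  · intro hi
    -- all `j ≤ i` are in `S`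
    have hsub : Finset.Iic i ⊆ S := by
      intro j hj
      rw [Finset.mem_Iic] at hj
      rw [hS, Finset.mem_filter]
      exact ⟨Finset.mem_univ _, hi.trans (hd hj)⟩
    have := Finset.card_le_card hsub
    rw [Fin.card_Iic] at this
    omega
  · intro hi
    by_contra hni
    -- all elements of `S` are `< i`
    have hsub : S ⊆ Finset.Iio i := by
      intro j hj
      rw [hS, Finset.mem_filter] at hj
      rw [Finset.mem_Iio]
      by_contra hji
      rw [not_lt] at hji
      exact hni (hj.2.trans (hd hji))
    have := Finset.card_le_card hsub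
    rw [Fin.card_Iio] at this
    omega

/-- (U3) -/
theorem antitone_eq_of_card_eq {r : ℕ} (d d' : Fin r → ℤ) (hd : Antitone d) (hd' : Antitone d')
    (h : ∀ t : ℤ, (Finset.univ.filter (fun i => t ≤ d i)).card =
      (Finset.univ.filter (fun i => t ≤ d' i)).card) : d = d' := by
  funext i
  have key : ∀ t : ℤ, t ≤ d i ↔ t ≤ d' i := by
    intro t
    rw [le_iff_lt_card d hd t i, le_iff_lt_card d' hd' t i, h t]
  exact le_antisymm ((key (d i)).mp le_rfl) ((key (d' i)).mpr le_rfl)

end Groth.Agent.H19.P1U3
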