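import Groth.Prelude.Def_PP16
import Mathlib.LinearAlgebra.TensorProduct.RightExactness
import Mathlib.RingTheory.Ideal.Quotient.Operations

set_option autoImplicit false
universe u

namespace Groth.Agent.H19

open scoped TensorProduct

/-- Kernel of the map induced on quotients by a surjective ring map. -/
theorem ker_quot_map {T T' : Type u} [CommRing T] [CommRing T'] (φ : T →+* T')
    (hφ : Function.Surjective φ) (J : Ideal T) (J' : Ideal T') (hJ : J.map φ = J')
    (ψ : T ⧸ J →+* T' ⧸ J') (hψ : ∀ t, ψ (Ideal.Quotient.mk J t) = Ideal.Quotient.mk J' (φ t)) :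
    Function.Surjective ψ ∧ RingHom.ker ψ = (RingHom.ker φ).map (Ideal.Quotient.mk J) := by
  constructor
  · intro y
    obtain ⟨t', rfl⟩ := Ideal.Quotient.mk_surjective y
    obtain ⟨t, rfl⟩ := hφ t'
    exact ⟨Ideal.Quotient.mk J t, hψ t⟩
  · ext x
    obtain ⟨t, rfl⟩ := Ideal.Quotient.mk_surjective x
    rw [RingHom.mem_ker, hψ, Ideal.Quotient.eq_zero_iff_mem, ← hJ,
      Ideal.mem_map_iff_of_surjective _ Ideal.Quotient.mk_surjective]
    constructor
    · intro h
      have h' : t ∈ (J.map φ).comap φ := h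
      rw [Ideal.comap_map_of_surjective φ hφ] at h'
      obtain ⟨y, hy, z, hz, rfl⟩ := Submodule.mem_sup.mp h'
      refine ⟨z, hz, ?_⟩
      rw [map_add, Ideal.Quotient.eq_zero_iff_mem.mpr hy, zero_add]
    · rintro ⟨s, hs, hst⟩
      have hts : t - s ∈ J := by
        rw [← Ideal.Quotient.eq_zero_iff_mem, map_sub, hst, sub_self]
      have : φ t = φ (t - s) := by
        rw [map_sub, (RingHom.mem_ker).mp hs, sub_zero]
      rw [this]
      exact Ideal.mem_map_of_mem φ hts

section

variable (n : ℕ) (A B A' B' : Type u) [CommRing A] [CommRing B] [Algebra A B]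
  [CommRing A'] [CommRing B'] [Algebra A' B'] [Algebra A A'] [Algebra B B'] [Algebra A B']
  [IsScalarTower A A' B'] [IsScalarTower A B B']

theorem ideal_map_tensorMap_eq (h : Function.Surjective (algebraMap B B')) :
    (KaehlerDifferential.ideal A B).map (PP16.tensorMap A B A' B') = KaehlerDifferential.ideal A' B' := by
  apply le_antisymm (PP16.ideal_map_tensorMap_le A B A' B')
  rw [← KaehlerDifferential.span_range_eq_ideal, Ideal.span_le]
  rintro _ ⟨s, rfl⟩
  obtain ⟨b, rfl⟩ := h s
  have : (1 : B') ⊗ₜ[A'] (algebraMap B B' b) - (algebraMap B B' b) ⊗ₜ[A'] (1 : B') =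
      PP16.tensorMap A B A' B' ((1 : B) ⊗ₜ[A] b - b ⊗ₜ[A] (1 : B)) := by
    rw [map_sub, PP16.tensorMap_tmul, PP16.tensorMap_tmul, map_one]
  change (1 : B') ⊗ₜ[A'] (algebraMap B B' b) - (algebraMap B B' b) ⊗ₜ[A'] (1 : B') ∈ _
  rw [this]
  exact Ideal.mem_map_of_mem _ (KaehlerDifferential.one_smul_sub_smul_one_mem_ideal A b)

theorem tensorMap_surjective (h : Function.Surjective (algebraMap B B')) :
    Function.Surjective (PP16.tensorMap A B A' B') := by
  intro y
  induction y using TensorProduct.induction_on with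
  | zero => exact ⟨0, map_zero _⟩
  | tmul x y =>
    obtain ⟨b, rfl⟩ := h x
    obtain ⟨c, rfl⟩ := h y
    exact ⟨b ⊗ₜ c, PP16.tensorMap_tmul A B A' B' b c⟩
  | add x y hx hy =>
    obtain ⟨a, rfl⟩ := hx
    obtain ⟨b, rfl⟩ := hy
    exact ⟨a + b, map_add _ _ _⟩

/-- Functoriality of principal parts along a surjection `B → B'`: surjective, with kernel the image of
the kernel of `B ⊗[A] B → B' ⊗[A'] B'`. -/
theorem map_surjective_and_ker (h : Function.Surjective (algebraMap B B')) :
    Function.Surjective (PP16.map n A B A' B') ∧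
      RingHom.ker (PP16.map n A B A' B') =
        (RingHom.ker (PP16.tensorMap A B A' B')).map
          (Ideal.Quotient.mk ((KaehlerDifferential.ideal A B) ^ (n + 1))) := by
  have hJ : ((KaehlerDifferential.ideal A B) ^ (n + 1)).map (PP16.tensorMap A B A' B').toRingHom =
      (KaehlerDifferential.ideal A' B') ^ (n + 1) := by
    rw [Ideal.map_pow]
    congr 1
    exact ideal_map_tensorMap_eq A B A' B' h
  have := ker_quot_map (PP16.tensorMap A B A' B').toRingHom (tensorMap_surjective A B A' B' h)
    ((KaehlerDifferential.ideal A B) ^ (n + 1)) ((KaehlerDifferential.ideal A' B') ^ (n + 1)) hJ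
    (PP16.map n A B A' B').toRingHom (fun t => PP16.map_mk n A B A' B' t)
  exact this

end

end Groth.Agent.H19
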