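import Groth.Prelude.Def_PP16
import Mathlib.RingTheory.IsTensorProduct
import Mathlib.RingTheory.TensorProduct.Quotient

set_option autoImplicit false
universe u

namespace Groth.Agent.H19

open scoped TensorProduct

/-- Quotient of a pushout square by an ideal and its extension is again a base change. -/
theorem isBaseChange_quotient {R R' S S' : Type u} [CommRing R] [CommRing R'] [CommRing S]
    [CommRing S'] [Algebra R R'] [Algebra R S] [Algebra R S'] [Algebra R' S'] [Algebra S S']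
    [IsScalarTower R R' S'] [IsScalarTower R S S'] [Algebra.IsPushout R R' S S']
    (J : Ideal S) (J' : Ideal S') (h : J.map (algebraMap S S') = J')
    (g : S ⧸ J →ₗ[R] S' ⧸ J')
    (hg : ∀ s, g (Ideal.Quotient.mk J s) = Ideal.Quotient.mk J' (algebraMap S S' s)) :
    IsBaseChange R' g := by
  subst h
  let e1 : (S' ⧸ J.map (algebraMap S S')) ≃ₐ[S'] S' ⊗[S] (S ⧸ J) :=
    Algebra.TensorProduct.quotIdealMapEquivTensorQuot S' J
  let e2 : S' ⊗[S] (S ⧸ J) ≃ₗ[R'] R' ⊗[R] (S ⧸ J) :=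
    Algebra.IsPushout.cancelBaseChange R R' S S' (S ⧸ J)
  let e : R' ⊗[R] (S ⧸ J) ≃ₗ[R'] (S' ⧸ J.map (algebraMap S S')) :=
    e2.symm ≪≫ₗ (e1.symm.toLinearEquiv.restrictScalars R')
  refine IsBaseChange.of_equiv e ?_
  intro x
  obtain ⟨s, rfl⟩ := Ideal.Quotient.mk_surjective x
  rw [hg]
  change e1.symm (e2.symm (1 ⊗ₜ Ideal.Quotient.mk J s)) = _
  rw [Algebra.IsPushout.cancelBaseChange_symm_tmul, map_one,
    Algebra.TensorProduct.quotIdealMapEquivTensorQuot_symm_tmul, Algebra.smul_def, mul_one]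
  rfl

section

variable (n : ℕ) (A B A' B' : Type u) [CommRing A] [CommRing B] [Algebra A B]
  [CommRing A'] [CommRing B'] [Algebra A' B'] [Algebra A A'] [Algebra B B'] [Algebra A B']
  [IsScalarTower A A' B'] [IsScalarTower A B B']

/-- For a pushout square, the kernel of multiplication extends to the kernel of multiplication. -/
theorem ideal_map_tensorMap_eq_of_isPushout [h : Algebra.IsPushout A B A' B'] :
    (KaehlerDifferential.ideal A B).map (PP16.tensorMap A B A' B') =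
      KaehlerDifferential.ideal A' B' := by
  apply le_antisymm (PP16.ideal_map_tensorMap_le A B A' B')
  rw [← KaehlerDifferential.span_range_eq_ideal, Ideal.span_le]
  rintro _ ⟨s, rfl⟩
  change (1 : B') ⊗ₜ[A'] s - s ⊗ₜ[A'] (1 : B') ∈
    (KaehlerDifferential.ideal A B).map (PP16.tensorMap A B A' B')
  refine h.symm.out.inductionOn s
    (fun s => (1 : B') ⊗ₜ[A'] s - s ⊗ₜ[A'] (1 : B') ∈
      (KaehlerDifferential.ideal A B).map (PP16.tensorMap A B A' B')) ?_ ?_ ?_ ?_
  · simp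
  · intro b
    have : (1 : B') ⊗ₜ[A'] (algebraMap B B' b) - (algebraMap B B' b) ⊗ₜ[A'] (1 : B') =
        PP16.tensorMap A B A' B' ((1 : B) ⊗ₜ[A] b - b ⊗ₜ[A] (1 : B)) := by
      rw [map_sub, PP16.tensorMap_tmul, PP16.tensorMap_tmul, map_one]
    change (1 : B') ⊗ₜ[A'] (algebraMap B B' b) - (algebraMap B B' b) ⊗ₜ[A'] (1 : B') ∈ _
    rw [this]
    exact Ideal.mem_map_of_mem _ (KaehlerDifferential.one_smul_sub_smul_one_mem_ideal A b)
  · intro a s hs
    have : (1 : B') ⊗ₜ[A'] (a • s) - (a • s) ⊗ₜ[A'] (1 : B') =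
        algebraMap A' (B' ⊗[A'] B') a * ((1 : B') ⊗ₜ[A'] s - s ⊗ₜ[A'] (1 : B')) := by
      rw [← Algebra.smul_def, smul_sub, TensorProduct.tmul_smul, ← TensorProduct.smul_tmul']
    rw [this]
    exact Ideal.mul_mem_left _ _ hs
  · intro s t hs ht
    have : (1 : B') ⊗ₜ[A'] (s + t) - (s + t) ⊗ₜ[A'] (1 : B') =
        ((1 : B') ⊗ₜ[A'] s - s ⊗ₜ[A'] (1 : B')) + ((1 : B') ⊗ₜ[A'] t - t ⊗ₜ[A'] (1 : B')) := by
      rw [TensorProduct.tmul_add, TensorProduct.add_tmul]
      abel
    rw [this]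
    exact Ideal.add_mem _ hs ht

/-- `B' ⊗[A'] B'` as an algebra over `B ⊗[A] B` through `tensorMap`. -/
@[instance_reducible]
def tensorAlgebra : Algebra (B ⊗[A] B) (B' ⊗[A'] B') := (PP16.tensorMap A B A' B').toRingHom.toAlgebra

theorem isScalarTower_tensorAlgebra :
    letI := tensorAlgebra A B A' B'
    IsScalarTower B (B ⊗[A] B) (B' ⊗[A'] B') :=
  letI := tensorAlgebra A B A' B'
  IsScalarTower.of_algebraMap_eq (fun b => by
    change algebraMap B (B' ⊗[A'] B') b = PP16.tensorMap A B A' B' (b ⊗ₜ[A] (1 : B))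
    rw [PP16.tensorMap_tmul, map_one, Algebra.TensorProduct.algebraMap_apply])

theorem isPushout_tensor [h : Algebra.IsPushout A B A' B'] :
    letI := tensorAlgebra A B A' B'
    haveI := isScalarTower_tensorAlgebra A B A' B'
    Algebra.IsPushout B B' (B ⊗[A] B) (B' ⊗[A'] B') := by
  letI := tensorAlgebra A B A' B'
  haveI := isScalarTower_tensorAlgebra A B A' B'
  haveI : Algebra.IsPushout A A' B B' := Algebra.IsPushout.symm h
  let e1 : B' ⊗[B] (B ⊗[A] B) ≃ₗ[B'] B' ⊗[A] B :=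
    TensorProduct.AlgebraTensorModule.cancelBaseChange A B B' B' B
  let e2 : B' ⊗[A'] (A' ⊗[A] B) ≃ₗ[B'] B' ⊗[A] B :=
    TensorProduct.AlgebraTensorModule.cancelBaseChange A A' B' B' B
  let e3 : B' ⊗[A'] (A' ⊗[A] B) ≃ₗ[B'] B' ⊗[A'] B' :=
    TensorProduct.AlgebraTensorModule.congr (LinearEquiv.refl B' B')
      (Algebra.IsPushout.equiv A A' B B').toLinearEquiv
  constructor
  refine IsBaseChange.of_equiv (e1 ≪≫ₗ e2.symm ≪≫ₗ e3) ?_
  intro x
  induction x using TensorProduct.induction_on with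
  | zero => simp
  | tmul b c =>
    change e3 (e2.symm (e1 ((1 : B') ⊗ₜ[B] (b ⊗ₜ[A] c)))) = PP16.tensorMap A B A' B' (b ⊗ₜ[A] c)
    rw [TensorProduct.AlgebraTensorModule.cancelBaseChange_tmul,
      TensorProduct.AlgebraTensorModule.cancelBaseChange_symm_tmul,
      TensorProduct.AlgebraTensorModule.congr_tmul, PP16.tensorMap_tmul]
    simp [Algebra.IsPushout.equiv_tmul, Algebra.smul_def]
  | add x y hx hy => rw [TensorProduct.tmul_add, map_add, map_add, hx, hy]

end

end Groth.Agent.H19
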