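import Groth.Agent.H19.PP

set_option autoImplicit false
universe u

namespace Groth.Agent.H19

open scoped TensorProduct

section

variable (A B C : Type u) [CommRing A] [CommRing B] [CommRing C]
  [Algebra A B] [Algebra B C] [Algebra A C] [IsScalarTower A B C]

/-- the ideal of `C ⊗[A] C` generated by `b ⊗ 1 - 1 ⊗ b`, `b ∈ B`. -/
def towerIdeal : Ideal (C ⊗[A] C) :=
  Ideal.span (Set.range fun b : B =>
    (algebraMap B C b) ⊗ₜ[A] (1 : C) - (1 : C) ⊗ₜ[A] (algebraMap B C b))

theorem towerIdeal_eq_map :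
    towerIdeal A B C = (KaehlerDifferential.ideal A B).map (PP16.tensorMap A B A C) := by
  rw [← KaehlerDifferential.span_range_eq_ideal, Ideal.map_span, towerIdeal]
  apply le_antisymm
  · rw [Ideal.span_le]
    rintro _ ⟨b, rfl⟩
    have : (algebraMap B C b) ⊗ₜ[A] (1 : C) - (1 : C) ⊗ₜ[A] (algebraMap B C b) =
        -(PP16.tensorMap A B A C ((1 : B) ⊗ₜ[A] b - b ⊗ₜ[A] (1 : B))) := by
      rw [map_sub, PP16.tensorMap_tmul, PP16.tensorMap_tmul, map_one, neg_sub]
    change (algebraMap B C b) ⊗ₜ[A] (1 : C) - (1 : C) ⊗ₜ[A] (algebraMap B C b) ∈ _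
    rw [this]
    exact neg_mem (Ideal.subset_span ⟨_, ⟨b, rfl⟩, rfl⟩)
  · rw [Ideal.span_le]
    rintro _ ⟨_, ⟨b, rfl⟩, rfl⟩
    have : PP16.tensorMap A B A C ((1 : B) ⊗ₜ[A] b - b ⊗ₜ[A] (1 : B)) =
        -((algebraMap B C b) ⊗ₜ[A] (1 : C) - (1 : C) ⊗ₜ[A] (algebraMap B C b)) := by
      rw [map_sub, PP16.tensorMap_tmul, PP16.tensorMap_tmul, map_one, neg_sub]
    change PP16.tensorMap A B A C ((1 : B) ⊗ₜ[A] b - b ⊗ₜ[A] (1 : B)) ∈ _
    rw [this]
    exact neg_mem (Ideal.subset_span ⟨b, rfl⟩)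

/-- the `B`-bilinear map `C × C → (C ⊗[A] C) ⧸ towerIdeal`. -/
noncomputable def towerBilin : C →ₗ[B] C →ₗ[B] (C ⊗[A] C) ⧸ towerIdeal A B C :=
  LinearMap.mk₂ B (fun c d => Ideal.Quotient.mk (towerIdeal A B C) (c ⊗ₜ[A] d))
    (fun c c' d => by rw [TensorProduct.add_tmul, map_add])
    (fun b c d => by
      rw [← TensorProduct.smul_tmul']
      rfl)
    (fun c d d' => by rw [TensorProduct.tmul_add, map_add])
    (fun b c d => by
      change Ideal.Quotient.mk (towerIdeal A B C) (c ⊗ₜ[A] (b • d)) =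
        Ideal.Quotient.mk (towerIdeal A B C) (b • (c ⊗ₜ[A] d))
      rw [TensorProduct.smul_tmul', Algebra.smul_def, Algebra.smul_def, ← sub_eq_zero, ← map_sub,
        Ideal.Quotient.eq_zero_iff_mem]
      have : c ⊗ₜ[A] (algebraMap B C b * d) - (algebraMap B C b * c) ⊗ₜ[A] d =
          -((c ⊗ₜ[A] d) * ((algebraMap B C b) ⊗ₜ[A] (1 : C) - (1 : C) ⊗ₜ[A] (algebraMap B C b))) := by
        rw [mul_sub, Algebra.TensorProduct.tmul_mul_tmul, Algebra.TensorProduct.tmul_mul_tmul,
          mul_one, mul_one, neg_sub, mul_comm c, mul_comm d]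
      rw [this]
      exact neg_mem (Ideal.mul_mem_left _ _ (Ideal.subset_span ⟨b, rfl⟩)))

theorem ker_tensorMap_tower :
    RingHom.ker (PP16.tensorMap A C B C) = towerIdeal A B C := by
  apply le_antisymm
  · intro x hx
    have key : ∀ y : C ⊗[A] C, TensorProduct.lift (towerBilin A B C) (PP16.tensorMap A C B C y) =
        Ideal.Quotient.mk (towerIdeal A B C) y := by
      intro y
      induction y using TensorProduct.induction_on with
      | zero => simp
      | tmul c d =>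
        rw [PP16.tensorMap_tmul]
        change TensorProduct.lift (towerBilin A B C) (c ⊗ₜ[B] d) = _
        rw [TensorProduct.lift.tmul]
        rfl
      | add y z hy hz => rw [map_add, map_add, hy, hz, map_add]
    have h0 := key x
    rw [(RingHom.mem_ker).mp hx, map_zero] at h0
    exact Ideal.Quotient.eq_zero_iff_mem.mp h0.symm
  · rw [towerIdeal, Ideal.span_le]
    rintro _ ⟨b, rfl⟩
    change _ ∈ RingHom.ker (PP16.tensorMap A C B C)
    rw [RingHom.mem_ker, map_sub, PP16.tensorMap_tmul, PP16.tensorMap_tmul, sub_eq_zero]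
    change (algebraMap B C b) ⊗ₜ[B] (1 : C) = (1 : C) ⊗ₜ[B] (algebraMap B C b)
    rw [Algebra.algebraMap_eq_smul_one, TensorProduct.smul_tmul]

end

end Groth.Agent.H19
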