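import Mathlib.AlgebraicGeometry.Stalk
import Mathlib.RingTheory.LocalRing.RingHom.Basic
import Mathlib.RingTheory.Ideal.Quotient.Operations

/-!
# A ternary "sum" on points of a scheme with values in a local ring with a square-zero ideal

For a local ring `B`, an ideal `𝒥` with `𝒥 * 𝒥 = ⊥` and three `B`-points `q p p'` of a scheme `Z`
agreeing modulo `𝒥`, there is a `B`-point `r` ("`p + p' - q`"), natural in `Z`.
-/

set_option autoImplicit false
universe u
open CategoryTheory AlgebraicGeometry IsLocalRing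

namespace Groth.Agent.H19.PtSum

set_option backward.isDefEq.respectTransparency false in
/-- Morphisms of schemes agreeing on all `Spec 𝒪_{Y,y}` are equal. -/
theorem hom_ext_of_fromSpecStalk {X Y : Scheme.{u}} (f₁ f₂ : Y ⟶ X)
    (h : ∀ y : Y, Y.fromSpecStalk y ≫ f₁ = Y.fromSpecStalk y ≫ f₂) : f₁ = f₂ := by
  have hb : ∀ y, f₁ y = f₂ y := by
    intro y
    have := congrArg (fun k : Spec (Y.presheaf.stalk y) ⟶ X => k (closedPoint _)) (h y)
    simpa only [Scheme.Hom.comp_apply, Scheme.fromSpecStalk_closedPoint] using this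
  have hbase : f₁.base = f₂.base := by
    ext y; exact hb y
  have hst : ∀ y : Y, f₁.stalkMap y =
      (X.presheaf.stalkCongr (by rw [hb y]; rfl)).hom ≫ f₂.stalkMap y := by
    intro y
    have e := h y
    rw [← Scheme.SpecMap_stalkMap_fromSpecStalk, ← Scheme.SpecMap_stalkMap_fromSpecStalk] at e
    have := (SpecToEquivOfLocalRing X (Y.presheaf.stalk y)).symm.injective
      (a₁ := ⟨f₁ y, f₁.stalkMap y, inferInstance⟩) (a₂ := ⟨f₂ y, f₂.stalkMap y, inferInstance⟩) e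
    obtain ⟨h1, h2⟩ := SpecToEquivOfLocalRing_eq_iff.mp this
    exact h2
  apply (Scheme.forgetToLocallyRingedSpace ⋙ LocallyRingedSpace.forgetToSheafedSpace).map_injective
  exact SheafedSpace.hom_stalk_ext _ _ hbase hst

variable {B : CommRingCat.{u}} [IsLocalRing B] {Z : Scheme.{u}}

theorem exists_rep (p : Spec B ⟶ Z) (x : Z) (hx : p (closedPoint B) = x) :
    ∃ φ : Z.presheaf.stalk x ⟶ B, IsLocalHom φ.hom ∧ p = Spec.map φ ≫ Z.fromSpecStalk x := by
  subst hx
  exact ⟨Scheme.stalkClosedPointTo p, inferInstance,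
    (Scheme.Spec_stalkClosedPointTo_fromSpecStalk p).symm⟩

set_option backward.isDefEq.respectTransparency false in
theorem rep_closedPoint {x : Z} (φ : Z.presheaf.stalk x ⟶ B) [IsLocalHom φ.hom] :
    (Spec.map φ ≫ Z.fromSpecStalk x) (closedPoint B) = x := by
  rw [Scheme.Hom.comp_apply, Spec_closedPoint, Scheme.fromSpecStalk_closedPoint]

theorem rep_injective {x : Z} (φ ψ : Z.presheaf.stalk x ⟶ B) (hφ : IsLocalHom φ.hom)
    (hψ : IsLocalHom ψ.hom)
    (h : Spec.map φ ≫ Z.fromSpecStalk x = Spec.map ψ ≫ Z.fromSpecStalk x) : φ = ψ := by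
  have := (SpecToEquivOfLocalRing Z B).symm.injective (a₁ := ⟨x, φ, hφ⟩) (a₂ := ⟨x, ψ, hψ⟩) h
  obtain ⟨h1, h2⟩ := SpecToEquivOfLocalRing_eq_iff.mp this
  simpa using h2

/-- `IsSum q p p' r`: all four points are supported at a common point `x` of `Z`, and on stalk maps
`φ_r + φ_q = φ_p + φ_p'`. -/
def IsSum (q p p' r : Spec B ⟶ Z) : Prop :=
  ∃ (x : Z) (φq φp φp' φr : Z.presheaf.stalk x ⟶ B),
    IsLocalHom φq.hom ∧ IsLocalHom φp.hom ∧ IsLocalHom φp'.hom ∧
    q = Spec.map φq ≫ Z.fromSpecStalk x ∧ p = Spec.map φp ≫ Z.fromSpecStalk x ∧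
    p' = Spec.map φp' ≫ Z.fromSpecStalk x ∧ r = Spec.map φr ≫ Z.fromSpecStalk x ∧
    ∀ a, φr.hom a + φq.hom a = φp.hom a + φp'.hom a

omit [IsLocalRing B] in
theorem IsSum.comp {q p p' r : Spec B ⟶ Z} (h : IsSum q p p' r) {Z' : Scheme.{u}} (f : Z ⟶ Z') :
    IsSum (q ≫ f) (p ≫ f) (p' ≫ f) (r ≫ f) := by
  obtain ⟨x, φq, φp, φp', φr, hq, hp, hp', rfl, rfl, rfl, rfl, hs⟩ := h
  have key : ∀ φ : Z.presheaf.stalk x ⟶ B, (Spec.map φ ≫ Z.fromSpecStalk x) ≫ f =
      Spec.map (f.stalkMap x ≫ φ) ≫ Z'.fromSpecStalk (f x) := by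
    intro φ
    rw [Category.assoc, ← Scheme.SpecMap_stalkMap_fromSpecStalk, Spec.map_comp, Category.assoc]
  have hl : ∀ φ : Z.presheaf.stalk x ⟶ B, IsLocalHom φ.hom → IsLocalHom (f.stalkMap x ≫ φ).hom := by
    intro φ hφ
    rw [CommRingCat.hom_comp]
    infer_instance
  refine ⟨f x, f.stalkMap x ≫ φq, f.stalkMap x ≫ φp, f.stalkMap x ≫ φp', f.stalkMap x ≫ φr,
    hl _ hq, hl _ hp, hl _ hp', key _, key _, key _, key _, ?_⟩
  intro a
  simp only [CommRingCat.hom_comp, RingHom.comp_apply]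
  exact hs _

theorem IsSum.eq_left {q p r : Spec B ⟶ Z} (h : IsSum q p q r) : r = p := by
  obtain ⟨x, φq, φp, φp', φr, hq, hp, hp', rfl, rfl, h3, rfl, hs⟩ := h
  have e : φq = φp' := rep_injective _ _ hq hp' h3
  subst e
  have : φr = φp := by
    ext a
    have := hs a
    exact add_right_cancel this
  rw [this]

theorem IsSum.eq_right {q p' r : Spec B ⟶ Z} (h : IsSum q q p' r) : r = p' := by
  obtain ⟨x, φq, φp, φp', φr, hq, hp, hp', rfl, h2, rfl, rfl, hs⟩ := h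
  have e : φq = φp := rep_injective _ _ hq hp h2
  subst e
  have : φr = φp' := by
    ext a
    have := hs a
    rw [add_comm (φq.hom a)] at this
    exact add_right_cancel this
  rw [this]

theorem IsSum.unique {q p p' r r' : Spec B ⟶ Z} (h : IsSum q p p' r) (h' : IsSum q p p' r') :
    r = r' := by
  obtain ⟨x, φq, φp, φp', φr, hq, hp, hp', h1, h2, h3, rfl, hs⟩ := h
  obtain ⟨x', ψq, ψp, ψp', ψr, kq, kp, kp', k1, k2, k3, rfl, ks⟩ := h'
  have hx : x = x' := by
    have a1 := @rep_closedPoint B _ Z x φq hq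
    have a2 := @rep_closedPoint B _ Z x' ψq kq
    rw [← a1, ← h1, k1, a2]
  subst hx
  have e1 : φq = ψq := rep_injective _ _ hq kq (h1.symm.trans k1)
  have e2 : φp = ψp := rep_injective _ _ hp kp (h2.symm.trans k2)
  have e3 : φp' = ψp' := rep_injective _ _ hp' kp' (h3.symm.trans k3)
  subst e1 e2 e3
  have : φr = ψr := by
    ext a
    have := (hs a).trans (ks a).symm
    exact add_right_cancel this
  rw [this]

set_option backward.isDefEq.respectTransparency false in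
theorem exists_isSum (𝒥 : Ideal B) (h𝒥 : 𝒥 * 𝒥 = ⊥) (q p p' : Spec B ⟶ Z)
    (hp : Spec.map (CommRingCat.ofHom (Ideal.Quotient.mk 𝒥)) ≫ p =
      Spec.map (CommRingCat.ofHom (Ideal.Quotient.mk 𝒥)) ≫ q)
    (hp' : Spec.map (CommRingCat.ofHom (Ideal.Quotient.mk 𝒥)) ≫ p' =
      Spec.map (CommRingCat.ofHom (Ideal.Quotient.mk 𝒥)) ≫ q) :
    ∃ r, IsSum q p p' r := by
  have mul0 : ∀ u v : B, u ∈ 𝒥 → v ∈ 𝒥 → u * v = 0 := by
    intro u v hu hv
    have := Ideal.mul_mem_mul hu hv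
    rw [h𝒥] at this
    exact (Ideal.mem_bot).mp this
  have hne : 𝒥 ≠ ⊤ := by
    intro h
    have h1 : (1 : B) ∈ 𝒥 := by rw [h]; trivial
    have := mul0 1 1 h1 h1
    rw [one_mul] at this
    exact one_ne_zero this
  haveI : Nontrivial (B ⧸ 𝒥) := Ideal.Quotient.nontrivial_iff.mpr hne
  haveI : IsLocalRing (B ⧸ 𝒥) :=
    IsLocalRing.of_surjective' (Ideal.Quotient.mk 𝒥) Ideal.Quotient.mk_surjective
  haveI hloc : IsLocalHom (Ideal.Quotient.mk 𝒥) :=
    IsLocalHom.of_surjective _ Ideal.Quotient.mk_surjective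
  obtain ⟨B₀, hB₀⟩ : ∃ B₀ : CommRingCat.{u}, B₀ = CommRingCat.of (B ⧸ 𝒥) := ⟨_, rfl⟩
  obtain ⟨π, hπ⟩ : ∃ π : B ⟶ CommRingCat.of (B ⧸ 𝒥), π = CommRingCat.ofHom (Ideal.Quotient.mk 𝒥) :=
    ⟨_, rfl⟩
  rw [← hπ] at hp hp'
  haveI : IsLocalHom π.hom := by rw [hπ]; exact hloc
  have hi : Spec.map π (closedPoint (B ⧸ 𝒥)) = closedPoint B := Spec_closedPoint
  obtain ⟨x, hx⟩ : ∃ x, q (closedPoint B) = x := ⟨_, rfl⟩
  have hpx : p (closedPoint B) = x := by
    rw [← hx, ← hi, ← Scheme.Hom.comp_apply, ← Scheme.Hom.comp_apply, hp]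
  have hpx' : p' (closedPoint B) = x := by
    rw [← hx, ← hi, ← Scheme.Hom.comp_apply, ← Scheme.Hom.comp_apply, hp']
  obtain ⟨φq, lq, rfl⟩ := exists_rep q x hx
  obtain ⟨φp, lp, rfl⟩ := exists_rep p x hpx
  obtain ⟨φp', lp', rfl⟩ := exists_rep p' x hpx'
  have cong : ∀ φ ψ : Z.presheaf.stalk x ⟶ B, IsLocalHom φ.hom → IsLocalHom ψ.hom →
      Spec.map π ≫ Spec.map φ ≫ Z.fromSpecStalk x =
        Spec.map π ≫ Spec.map ψ ≫ Z.fromSpecStalk x →
      ∀ a, φ.hom a - ψ.hom a ∈ 𝒥 := by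
    intro φ ψ hφ hψ h a
    rw [← Spec.map_comp_assoc, ← Spec.map_comp_assoc] at h
    have h1 : IsLocalHom (φ ≫ π).hom := by rw [CommRingCat.hom_comp]; infer_instance
    have h2 : IsLocalHom (ψ ≫ π).hom := by rw [CommRingCat.hom_comp]; infer_instance
    have e := rep_injective _ _ h1 h2 h
    have := congrArg (fun k => k.hom a) e
    simp only [CommRingCat.hom_comp, RingHom.comp_apply, hπ, CommRingCat.hom_ofHom] at this
    exact Ideal.Quotient.eq.mp this
  have c1 := cong φp φq lp lq hp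
  have c2 := cong φp' φq lp' lq hp'
  let φr : Z.presheaf.stalk x →+* B :=
    { toFun := fun a => φp.hom a + φp'.hom a - φq.hom a
      map_one' := by simp
      map_zero' := by simp
      map_add' := by intro a b; simp only [map_add]; ring
      map_mul' := by
        intro a b
        have h3 := mul0 _ _ (c1 a) (c2 b)
        have h4 := mul0 _ _ (c2 a) (c1 b)
        simp only [map_mul]
        linear_combination -h3 - h4 }
  refine ⟨Spec.map (CommRingCat.ofHom φr) ≫ Z.fromSpecStalk x, x, φq, φp, φp',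
    CommRingCat.ofHom φr, lq, lp, lp', rfl, rfl, rfl, rfl, ?_⟩
  intro a
  simp [φr]

end Groth.Agent.H19.PtSum
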