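import Mathlib
import Groth.Agent.H64.ToSheafEpi

/-!
# Generating sections generate locally by finite combinations (piece (GEN) for helper32, S10809)
-/

set_option autoImplicit false
universe u v₁ u₁
open CategoryTheory Opposite Limits

namespace Groth.Agent.H19.QCBC_GEN

variable {C : Type u₁} [Category.{v₁} C] {J : GrothendieckTopology C} {R : Sheaf J RingCat.{u}}
  [HasSheafify J AddCommGrpCat.{u}] [J.WEqualsLocallyBijective AddCommGrpCat.{u}]
  (N : SheafOfModules.{u} R) {I : Type u} (s : I → N.sections)

/-- the constant presheaf of types -/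
abbrev cI (I : Type u) : Cᵒᵖ ⥤ Type u := (Functor.const Cᵒᵖ).obj I

/-- the family `s` as a morphism of presheaves of types -/
def φ : cI (C := C) I ⟶ ((PresheafOfModules.restrictScalars (𝟙 R.obj)).obj
    ((SheafOfModules.forget R).obj N)).presheaf ⋙ forget _ where
  app X := ↾fun i => (s i).eval X
  naturality X Y f := by
    ext i
    exact ((s i).2 f).symm

/-- the presheaf map `⨁_I R ⟶ N` -/
noncomputable def g : PresheafOfModules.freeObj (R := R.obj) (cI I) ⟶
    (PresheafOfModules.restrictScalars (𝟙 R.obj)).obj ((SheafOfModules.forget R).obj N) :=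
  PresheafOfModules.freeObjDesc (φ N s)

/-- the sheafification of `⨁_I R` -/
noncomputable abbrev M (I : Type u) : SheafOfModules.{u} R :=
  (PresheafOfModules.sheafification.{u} (𝟙 R.obj)).obj
    (PresheafOfModules.freeObj (R := R.obj) (cI I))

/-- the sheafified map -/
noncomputable def ψa : M (R := R) I ⟶ N :=
  (PresheafOfModules.sheafificationHomEquiv (𝟙 R.obj)).symm (g N s)

lemma toSheafify_ψa :
    CategoryTheory.toSheafify J (PresheafOfModules.freeObj (R := R.obj) (cI I)).presheaf ≫
      (PresheafOfModules.toPresheaf R.obj).map (ψa N s).val =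
    (PresheafOfModules.toPresheaf R.obj).map (g N s) := by
  have h := PresheafOfModules.toPresheaf_map_sheafificationHomEquiv_def (𝟙 R.obj) (ψa N s)
  have h2 : PresheafOfModules.sheafificationHomEquiv (𝟙 R.obj) (ψa N s) = g N s :=
    Equiv.apply_symm_apply _ _
  rw [h2] at h
  exact h.symm

/-- the basis sections of the sheafification -/
noncomputable def t (i : I) : (M (R := R) I).sections :=
  PresheafOfModules.sectionsMk
    (fun X => (CategoryTheory.toSheafify J
      (PresheafOfModules.freeObj (R := R.obj) (cI I)).presheaf).app X (ModuleCat.freeMk i))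
    (by
      intro X Y f
      have h := NatTrans.naturality_apply (CategoryTheory.toSheafify J
        (PresheafOfModules.freeObj (R := R.obj) (cI I)).presheaf) f (ModuleCat.freeMk i)
      have h2 : (ConcreteCategory.hom ((PresheafOfModules.freeObj (R := R.obj) (cI I)).presheaf.map f))
          (ModuleCat.freeMk i) = ModuleCat.freeMk i := by
        show (ConcreteCategory.hom ((PresheafOfModules.freeObj (R := R.obj) (cI I)).map f))
          (ModuleCat.freeMk i) = _
        simp only [PresheafOfModules.freeObj]
        exact (ModuleCat.freeDesc_apply _ _)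
      rw [h2] at h
      exact h.symm)

lemma ψa_toSheafify_apply (X : Cᵒᵖ)
    (c : (PresheafOfModules.freeObj (R := R.obj) (cI (C := C) I)).obj X) :
    (ψa N s).val.app X ((CategoryTheory.toSheafify J
      (PresheafOfModules.freeObj (R := R.obj) (cI I)).presheaf).app X c) = (g N s).app X c := by
  have h := congrArg (fun k => (ConcreteCategory.hom (k.app X)) c) (toSheafify_ψa N s)
  exact h

lemma g_freeMk (X : Cᵒᵖ) (i : I) :
    (g N s).app X (ModuleCat.freeMk i) = (s i).eval X := by
  simp only [g, PresheafOfModules.freeObjDesc_app]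
  exact ModuleCat.freeDesc_apply _ _

lemma sectionsMap_ψa_t (i : I) : SheafOfModules.sectionsMap (ψa N s) (t i) = s i := by
  ext X
  show (ψa N s).val.app X ((CategoryTheory.toSheafify J
      (PresheafOfModules.freeObj (R := R.obj) (cI I)).presheaf).app X (ModuleCat.freeMk i)) = _
  exact (ψa_toSheafify_apply N s X (ModuleCat.freeMk i)).trans (g_freeMk N s X i)

lemma fac : (M (R := R) I).freeHomEquiv.symm t ≫ ψa N s = N.freeHomEquiv.symm s := by
  rw [SheafOfModules.freeHomEquiv_symm_comp]
  congr 1
  funext i
  exact sectionsMap_ψa_t N s i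

lemma epi_ψa [Epi (N.freeHomEquiv.symm s)] : Epi (ψa N s) := by
  have h : Epi ((M (R := R) I).freeHomEquiv.symm t ≫ ψa N s) := by
    rw [fac]; infer_instance
  exact epi_of_epi ((M (R := R) I).freeHomEquiv.symm t) (ψa N s)

lemma g_app_eq_sum (X : Cᵒᵖ) (c : I →₀ R.obj.obj X) :
    (g N s).app X c = c.sum fun i r => r • (s i).eval X := by
  simp only [g, PresheafOfModules.freeObjDesc_app]
  show (Finsupp.lift _ _ _ _) c = _
  rw [Finsupp.lift_apply]
  rfl

theorem exists_locally_finite_combination [J.HasSheafCompose (forget AddCommGrpCat.{u})]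
    [Balanced (Sheaf J AddCommGrpCat.{u})] [Epi (N.freeHomEquiv.symm s)] (X : C)
    (x : N.val.obj (op X)) :
    ∃ S ∈ J X, ∀ ⦃Y : C⦄ (f : Y ⟶ X), S f →
      ∃ c : I →₀ R.obj.obj (op Y), N.val.map f.op x = c.sum fun i r => r • (s i).eval (op Y) := by
  haveI := epi_ψa N s
  obtain ⟨T, hT, hT'⟩ := Groth.Agent.H64.ToSheafEpi.locally_surjective_of_epi R (ψa N s) X x
  choose r hr using hT'
  refine ⟨Sieve.bind T (fun V i hi => Presheaf.imageSieve (CategoryTheory.toSheafify J
      (PresheafOfModules.freeObj (R := R.obj) (cI I)).presheaf) (r i hi)),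
    J.bind_covering hT (fun V i hi => Presheaf.imageSieve_mem J _ _), ?_⟩
  rintro Y f ⟨V, j, i, hi, ⟨c, hc⟩, rfl⟩
  refine ⟨c, ?_⟩
  have h1 : N.val.map (j ≫ i).op x = N.val.map j.op (N.val.map i.op x) := by
    rw [op_comp]
    exact PresheafOfModules.map_comp_apply N.val i.op j.op x
  have h2 : N.val.map j.op (N.val.map i.op x) =
      (ψa N s).val.app (op Y) ((M (R := R) I).val.map j.op (r i hi)) := by
    rw [← hr i hi]
    exact (PresheafOfModules.naturality_apply (ψa N s).val j.op (r i hi)).symm
  have h3 : (ψa N s).val.app (op Y) ((M (R := R) I).val.map j.op (r i hi)) =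
      (g N s).app (op Y) c := by
    rw [← ψa_toSheafify_apply N s (op Y) c]
    exact congrArg _ hc.symm
  rw [h1, h2, h3]
  exact g_app_eq_sum N s (op Y) c

end Groth.Agent.H19.QCBC_GEN
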