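import Mathlib
import Groth.Prelude.Def_CAlgX

/-!
# Base change of quasi-regular sequences with flat quotient (helper library, seat helper19)

* `flat_of_exact`: an extension of flat modules is flat.
* tensor lemmas about `A' ⊗[A] B → A' ⊗[A] (B ⧸ I)`.
* `isQuasiRegular_baseChange`: if `f` is quasi-regular in `B` and `B ⧸ (f)` is flat over `A`,
  then `1 ⊗ f` is quasi-regular in `A' ⊗[A] B`.
-/

set_option autoImplicit false
universe u

namespace Groth.Agent.H19.QRegBC

open MvPolynomial TensorProduct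

/-! ### Extension of flat modules -/

theorem flat_of_exact {R : Type*} [CommRing R] {M N P : Type*} [AddCommGroup M] [AddCommGroup N]
    [AddCommGroup P] [Module R M] [Module R N] [Module R P] [Module.Flat R M] [Module.Flat R P]
    (g : M →ₗ[R] N) (f : N →ₗ[R] P) (hg : Function.Injective g) (hf : Function.Surjective f)
    (H : Function.Exact g f) : Module.Flat R N := by
  rw [Module.Flat.iff_rTensor_injective']
  intro I
  have hM : Function.Injective (LinearMap.rTensor M I.subtype) :=
    (Module.Flat.iff_rTensor_injective' (R := R) (M := M)).1 inferInstance I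
  have hP : Function.Injective (LinearMap.rTensor P I.subtype) :=
    (Module.Flat.iff_rTensor_injective' (R := R) (M := P)).1 inferInstance I
  have hgR : Function.Injective (g.lTensor R) :=
    LinearMap.lTensor_injective_of_exact_of_flat f hf g hg H R
  have c1 : ∀ y, (LinearMap.rTensor P I.subtype) ((f.lTensor I) y) =
      (f.lTensor R) ((LinearMap.rTensor N I.subtype) y) := by
    intro y
    have e1 := LinearMap.rTensor_comp_lTensor (f := I.subtype) (g := f)
    have e2 := LinearMap.lTensor_comp_rTensor (f := I.subtype) (g := f)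
    exact (LinearMap.congr_fun e1 y).trans (LinearMap.congr_fun e2 y).symm
  have c2 : ∀ y, (LinearMap.rTensor N I.subtype) ((g.lTensor I) y) =
      (g.lTensor R) ((LinearMap.rTensor M I.subtype) y) := by
    intro y
    have e1 := LinearMap.rTensor_comp_lTensor (f := I.subtype) (g := g)
    have e2 := LinearMap.lTensor_comp_rTensor (f := I.subtype) (g := g)
    exact (LinearMap.congr_fun e1 y).trans (LinearMap.congr_fun e2 y).symm
  rw [injective_iff_map_eq_zero]
  intro x hx
  have h1 : (f.lTensor I) x = 0 := by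
    apply hP
    rw [c1, hx, map_zero, map_zero]
  obtain ⟨m, rfl⟩ := (_root_.lTensor_exact I H hf x).1 h1
  have h2 : (LinearMap.rTensor M I.subtype) m = 0 := by
    apply hgR
    rw [← c2, hx, map_zero]
  have h3 : m = 0 := hM (by rw [h2, map_zero])
  rw [h3, map_zero]

/-! ### Tensor lemmas -/

section Tensor

variable (A : Type u) {B A' : Type u} [CommRing A] [CommRing B] [CommRing A'] [Algebra A B]
  [Algebra A A']

/-- The `A`-linear quotient map `B → B ⧸ I`. -/
noncomputable abbrev mkQA (I : Ideal B) : B →ₗ[A] B ⧸ I :=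
  (Submodule.mkQ I).restrictScalars A

variable {A}

theorem lTensor_mkQ_eq_map (I : Ideal B) (x : A' ⊗[A] B) :
    (mkQA A I).lTensor A' x =
      Algebra.TensorProduct.map (AlgHom.id A A') (Ideal.Quotient.mkₐ A I) x := by
  induction x using TensorProduct.induction_on with
  | zero => rw [map_zero, map_zero]
  | tmul a b => rfl
  | add x y hx hy => rw [map_add, map_add, hx, hy]

theorem lTensor_mkQ_eq_zero_of_mem (I : Ideal B) (x : A' ⊗[A] B)
    (hx : x ∈ Ideal.map (Algebra.TensorProduct.includeRight : B →ₐ[A] A' ⊗[A] B) I) :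
    (mkQA A I).lTensor A' x = 0 := by
  rw [lTensor_mkQ_eq_map]
  have hle : Ideal.map (Algebra.TensorProduct.includeRight : B →ₐ[A] A' ⊗[A] B) I ≤
      RingHom.ker (Algebra.TensorProduct.map (AlgHom.id A A') (Ideal.Quotient.mkₐ A I)) := by
    rw [Ideal.map_le_iff_le_comap]
    intro b hb
    rw [Ideal.mem_comap, RingHom.mem_ker]
    show Algebra.TensorProduct.map (AlgHom.id A A') (Ideal.Quotient.mkₐ A I)
      ((1 : A') ⊗ₜ[A] b) = 0
    rw [Algebra.TensorProduct.map_tmul]
    show (AlgHom.id A A') 1 ⊗ₜ[A] (Ideal.Quotient.mk I b) = 0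
    rw [Ideal.Quotient.eq_zero_iff_mem.2 hb, tmul_zero]
  exact (RingHom.mem_ker).1 (hle hx)

theorem mem_map_of_lTensor_mkQ_eq_zero (I : Ideal B) (x : A' ⊗[A] B)
    (hx : (mkQA A I).lTensor A' x = 0) :
    x ∈ Ideal.map (Algebra.TensorProduct.includeRight : B →ₐ[A] A' ⊗[A] B) I := by
  have hex : Function.Exact ((Submodule.subtype I).restrictScalars A) (mkQA A I) :=
    LinearMap.exact_subtype_mkQ I
  have hsurj : Function.Surjective (mkQA A I) := Submodule.mkQ_surjective I
  obtain ⟨y, rfl⟩ := (_root_.lTensor_exact A' hex hsurj x).1 hx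
  clear hx
  induction y using TensorProduct.induction_on with
  | zero => rw [map_zero]; exact Ideal.zero_mem _
  | tmul a j =>
    have h1 : (LinearMap.lTensor A' ((Submodule.subtype I).restrictScalars A)) (a ⊗ₜ[A] j) =
        (a ⊗ₜ[A] (1 : B)) * ((1 : A') ⊗ₜ[A] (j : B)) := by
      rw [Algebra.TensorProduct.tmul_mul_tmul, mul_one, one_mul]
      rfl
    have h2 : ((1 : A') ⊗ₜ[A] (j : B)) ∈
        Ideal.map (Algebra.TensorProduct.includeRight : B →ₐ[A] A' ⊗[A] B) I :=
      Ideal.mem_map_of_mem (Algebra.TensorProduct.includeRight : B →ₐ[A] A' ⊗[A] B) j.2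
    rw [h1]
    exact Ideal.mul_mem_left _ _ h2
  | add y z hy hz => rw [map_add]; exact Ideal.add_mem _ hy hz

theorem lTensor_mulRight (I : Ideal B) (b₀ : B) (μ : B →ₗ[A] B ⧸ I)
    (hμ : ∀ b, μ b = mkQA A I (b * b₀)) (x : A' ⊗[A] B) :
    μ.lTensor A' x = (mkQA A I).lTensor A' (x * ((1 : A') ⊗ₜ[A] b₀)) := by
  induction x using TensorProduct.induction_on with
  | zero => rw [zero_mul, map_zero, map_zero]
  | tmul a b =>
    rw [Algebra.TensorProduct.tmul_mul_tmul, mul_one, LinearMap.lTensor_tmul,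
      LinearMap.lTensor_tmul, hμ]
  | add x y hx hy => rw [add_mul, map_add, map_add, hx, hy]

theorem span_tmul_eq_map {r : ℕ} (f : Fin r → B) :
    Ideal.span (Set.range fun i => ((1 : A') ⊗ₜ[A] f i : A' ⊗[A] B)) =
      Ideal.map (Algebra.TensorProduct.includeRight : B →ₐ[A] A' ⊗[A] B)
        (Ideal.span (Set.range f)) := by
  rw [Ideal.map_span, ← Set.range_comp]
  rfl

end Tensor

/-! ### Dictionary between homogeneous polynomials and finitely supported families -/

section Dict

variable {S : Type*} [CommRing S] {r n : ℕ}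

/-- Exponent vectors of degree `n`. -/
abbrev Mon (r n : ℕ) := {d : Fin r →₀ ℕ // d.degree = n}

/-- The monomial `g^d`. -/
noncomputable def fpow (g : Fin r → S) (d : Fin r →₀ ℕ) : S := d.prod fun i k => g i ^ k

theorem fpow_mem (g : Fin r → S) (d : Fin r →₀ ℕ) :
    fpow g d ∈ Ideal.span (Set.range g) ^ d.degree := by
  rw [Ideal.mem_span_pow_iff_exists_isHomogeneous]
  exact ⟨monomial d 1, isHomogeneous_monomial _ rfl, by rw [eval_monomial, one_mul, fpow]⟩

/-- The homogeneous polynomial with given coefficients. -/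
noncomputable def polyOf (c : Mon r n →₀ S) : MvPolynomial (Fin r) S :=
  c.sum fun d b => monomial d.1 b

theorem polyOf_homog (c : Mon r n →₀ S) : (polyOf c).IsHomogeneous n := by
  show (∑ d ∈ c.support, monomial d.1 (c d)).IsHomogeneous n
  exact IsHomogeneous.sum _ _ _ fun d _ => isHomogeneous_monomial _ d.2

theorem eval_polyOf (g : Fin r → S) (c : Mon r n →₀ S) :
    eval g (polyOf c) = c.sum fun d b => b * fpow g d.1 := by
  rw [polyOf, map_finsuppSum]
  refine Finsupp.sum_congr fun d _ => ?_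
  rw [eval_monomial, fpow]

theorem coeff_polyOf (c : Mon r n →₀ S) (d : Mon r n) : coeff d.1 (polyOf c) = c d := by
  classical
  rw [polyOf, Finsupp.sum, coeff_sum]
  simp only [coeff_monomial]
  rw [Finset.sum_eq_single d]
  · rw [if_pos rfl]
  · intro e _ hed
    rw [if_neg]
    intro h
    exact hed (Subtype.ext h)
  · intro hd
    rw [if_pos rfl]
    exact Finsupp.notMem_support_iff.1 hd

/-- The degree `n` coefficients of a polynomial. -/
noncomputable def cOf (n : ℕ) (P : MvPolynomial (Fin r) S) : Mon r n →₀ S :=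
  haveI := Classical.decPred fun d : Fin r →₀ ℕ => d.degree = n
  Finsupp.onFinset (P.support.subtype fun d => d.degree = n) (fun d => coeff d.1 P)
    (fun d hd => Finset.mem_subtype.2 (mem_support_iff.2 hd))

theorem cOf_apply (n : ℕ) (P : MvPolynomial (Fin r) S) (d : Mon r n) :
    cOf n P d = coeff d.1 P := rfl

theorem polyOf_cOf (n : ℕ) (P : MvPolynomial (Fin r) S) (hP : P.IsHomogeneous n) :
    polyOf (cOf n P) = P := by
  ext e
  by_cases he : e.degree = n
  · exact (coeff_polyOf (cOf n P) ⟨e, he⟩).trans (cOf_apply n P ⟨e, he⟩)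
  · rw [(polyOf_homog (cOf n P)).coeff_eq_zero he, hP.coeff_eq_zero he]

end Dict

theorem fpow_tmul {A B A' : Type u} [CommRing A] [CommRing B] [CommRing A'] [Algebra A B]
    [Algebra A A'] {r : ℕ} (f : Fin r → B) (d : Fin r →₀ ℕ) :
    fpow (fun i => ((1 : A') ⊗ₜ[A] f i : A' ⊗[A] B)) d = (1 : A') ⊗ₜ[A] fpow f d := by
  have h : ∀ b : B, (1 : A') ⊗ₜ[A] b =
      (Algebra.TensorProduct.includeRight : B →ₐ[A] A' ⊗[A] B) b := fun b => rfl
  unfold fpow
  simp only [h, Finsupp.prod, map_prod, map_pow]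

/-! ### The graded pieces -/

section Gr

variable (A : Type u) {B : Type u} [CommRing A] [CommRing B] [Algebra A B] {r : ℕ}
  (f : Fin r → B)

/-- `b ↦ [b * f^d]` in `B ⧸ J^(n+1)`. -/
noncomputable def mulMk (n : ℕ) (d : Fin r →₀ ℕ) :
    B →ₗ[B] B ⧸ (Ideal.span (Set.range f) ^ (n + 1)) :=
  (Submodule.mkQ (Ideal.span (Set.range f) ^ (n + 1))).comp (LinearMap.mulRight B (fpow f d))

theorem le_ker_mulMk (n : ℕ) (d : Mon r n) :
    Ideal.span (Set.range f) ≤ LinearMap.ker (mulMk f n d.1) := by
  intro b hb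
  rw [LinearMap.mem_ker]
  show Ideal.Quotient.mk (Ideal.span (Set.range f) ^ (n + 1)) (b * fpow f d.1) = 0
  rw [Ideal.Quotient.eq_zero_iff_mem, pow_succ']
  have h := fpow_mem f d.1
  rw [d.2] at h
  exact Ideal.mul_mem_mul hb h

/-- The component `B ⧸ J → B ⧸ J^(n+1)` of the graded map, multiplication by `f^d`. -/
noncomputable def grComp (n : ℕ) (d : Mon r n) :
    (B ⧸ Ideal.span (Set.range f)) →ₗ[A] (B ⧸ Ideal.span (Set.range f) ^ (n + 1)) :=
  (Submodule.liftQ (Ideal.span (Set.range f)) (mulMk f n d.1)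
    (le_ker_mulMk f n d)).restrictScalars A

theorem grComp_mk (n : ℕ) (d : Mon r n) (b : B) :
    grComp A f n d (Ideal.Quotient.mk _ b) = Ideal.Quotient.mk _ (b * fpow f d.1) := rfl

/-- The graded map `(B ⧸ J)^(monomials of degree n) → B ⧸ J^(n+1)`. -/
noncomputable def grMap (n : ℕ) :
    (Mon r n →₀ (B ⧸ Ideal.span (Set.range f))) →ₗ[A]
      (B ⧸ Ideal.span (Set.range f) ^ (n + 1)) :=
  Finsupp.lsum A (fun d => grComp A f n d)

theorem grMap_mapRange (n : ℕ) (c : Mon r n →₀ B) :
    grMap A f n (Finsupp.mapRange (Ideal.Quotient.mk (Ideal.span (Set.range f)))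
      (map_zero _) c) =
      Ideal.Quotient.mk (Ideal.span (Set.range f) ^ (n + 1)) (eval f (polyOf c)) := by
  rw [grMap, Finsupp.lsum_apply, Finsupp.sum_mapRange_index (fun _ => map_zero _), eval_polyOf,
    map_finsuppSum]
  exact Finsupp.sum_congr fun d _ => grComp_mk A f n d (c d)

/-- The projection `B ⧸ J^(n+1) → B ⧸ J^n`. -/
noncomputable def factorMap (n : ℕ) :
    (B ⧸ Ideal.span (Set.range f) ^ (n + 1)) →ₗ[A] (B ⧸ Ideal.span (Set.range f) ^ n) :=
  (Submodule.liftQ (Ideal.span (Set.range f) ^ (n + 1))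
    (Submodule.mkQ (Ideal.span (Set.range f) ^ n))
    (by rw [Submodule.ker_mkQ]; exact Ideal.pow_le_pow_right (Nat.le_succ n))).restrictScalars A

theorem factorMap_mk (n : ℕ) (b : B) :
    factorMap A f n (Ideal.Quotient.mk _ b) = Ideal.Quotient.mk _ b := rfl

theorem factorMap_surjective (n : ℕ) : Function.Surjective (factorMap A f n) := by
  intro y
  obtain ⟨b, rfl⟩ := Ideal.Quotient.mk_surjective y
  exact ⟨Ideal.Quotient.mk _ b, rfl⟩

theorem grMap_injective (hq : CAlgX.IsQuasiRegular f) (n : ℕ) :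
    Function.Injective (grMap A f n) := by
  rw [injective_iff_map_eq_zero]
  intro v hv
  obtain ⟨c, rfl⟩ := Finsupp.mapRange_surjective (Ideal.Quotient.mk (Ideal.span (Set.range f)))
    (map_zero _) Ideal.Quotient.mk_surjective v
  rw [grMap_mapRange, Ideal.Quotient.eq_zero_iff_mem] at hv
  have h1 := hq n (polyOf c) (polyOf_homog c) hv
  ext d
  rw [Finsupp.mapRange_apply, Finsupp.zero_apply, Ideal.Quotient.eq_zero_iff_mem,
    ← coeff_polyOf c d]
  exact h1 d.1

theorem exact_gr (n : ℕ) : Function.Exact (grMap A f n) (factorMap A f n) := by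
  intro y
  constructor
  · intro hy
    obtain ⟨b, rfl⟩ := Ideal.Quotient.mk_surjective y
    rw [factorMap_mk, Ideal.Quotient.eq_zero_iff_mem] at hy
    obtain ⟨P, hP, rfl⟩ := (Ideal.mem_span_pow_iff_exists_isHomogeneous f b).1 hy
    refine ⟨Finsupp.mapRange (Ideal.Quotient.mk _) (map_zero _) (cOf n P), ?_⟩
    rw [grMap_mapRange, polyOf_cOf n P hP]
  · rintro ⟨v, rfl⟩
    obtain ⟨c, rfl⟩ := Finsupp.mapRange_surjective
      (Ideal.Quotient.mk (Ideal.span (Set.range f))) (map_zero _) Ideal.Quotient.mk_surjective v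
    rw [grMap_mapRange, factorMap_mk, Ideal.Quotient.eq_zero_iff_mem,
      Ideal.mem_span_pow_iff_exists_isHomogeneous]
    exact ⟨polyOf c, polyOf_homog c, rfl⟩

theorem flat_quot_pow (hq : CAlgX.IsQuasiRegular f)
    [hflat : Module.Flat A (B ⧸ Ideal.span (Set.range f))] :
    ∀ n : ℕ, Module.Flat A (B ⧸ Ideal.span (Set.range f) ^ n) := by
  intro n
  induction n with
  | zero =>
    have : Subsingleton (B ⧸ Ideal.span (Set.range f) ^ 0) :=
      Ideal.Quotient.subsingleton_iff.2 ((pow_zero _).trans Ideal.one_eq_top)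
    infer_instance
  | succ n ih =>
    have := ih
    have : Module.Flat A (Mon r n →₀ (B ⧸ Ideal.span (Set.range f))) := by
      classical
      exact Module.Flat.of_linearEquiv
        (finsuppLEquivDirectSum A (B ⧸ Ideal.span (Set.range f)) (Mon r n))
    exact flat_of_exact (grMap A f n) (factorMap A f n) (grMap_injective A f hq n)
      (factorMap_surjective A f n) (exact_gr A f n)

/-- `b ↦ single d [b]`. -/
noncomputable def sigma (n : ℕ) (d : Mon r n) :
    B →ₗ[A] (Mon r n →₀ (B ⧸ Ideal.span (Set.range f))) :=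
  (Finsupp.lsingle d).comp (mkQA A (Ideal.span (Set.range f)))

theorem sigma_apply (n : ℕ) (d : Mon r n) (b : B) :
    sigma A f n d b = Finsupp.single d (Ideal.Quotient.mk _ b) := rfl

theorem grMap_sigma (n : ℕ) (d : Mon r n) (b : B) :
    grMap A f n (sigma A f n d b) =
      mkQA A (Ideal.span (Set.range f) ^ (n + 1)) (b * fpow f d.1) := by
  rw [sigma_apply, grMap, Finsupp.lsum_single]
  rfl

variable {A' : Type u} [CommRing A'] [Algebra A A']

theorem tensor_key (n : ℕ) (c' : Mon r n →₀ A' ⊗[A] B)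
    (hinj : Function.Injective ((grMap A f n).lTensor A'))
    (hvan : (mkQA A (Ideal.span (Set.range f) ^ (n + 1))).lTensor A'
      (c'.sum fun d x => x * ((1 : A') ⊗ₜ[A] fpow f d.1)) = 0) (d₀ : Mon r n) :
    (mkQA A (Ideal.span (Set.range f))).lTensor A' (c' d₀) = 0 := by
  classical
  have e1 := map_finsuppSum ((grMap A f n).lTensor A') c'
    (fun d x => (sigma A f n d).lTensor A' x)
  have e2 := map_finsuppSum ((mkQA A (Ideal.span (Set.range f) ^ (n + 1))).lTensor A') c'
    (fun d x => x * ((1 : A') ⊗ₜ[A] fpow f d.1))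
  have hγ : (grMap A f n).lTensor A' (c'.sum fun d x => (sigma A f n d).lTensor A' x) = 0 := by
    refine e1.trans (Eq.trans ?_ (e2.symm.trans hvan))
    refine Finsupp.sum_congr fun d _ => ?_
    rw [← LinearMap.lTensor_comp_apply]
    exact lTensor_mulRight _ (fpow f d.1) _ (fun b => grMap_sigma A f n d b) (c' d)
  have hγ0 : (c'.sum fun d x => (sigma A f n d).lTensor A' x) = 0 :=
    hinj (hγ.trans (map_zero _).symm)
  have h2 := congrArg ((Finsupp.lapply d₀ :
    (Mon r n →₀ (B ⧸ Ideal.span (Set.range f))) →ₗ[A] _).lTensor A') hγ0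
  rw [map_zero, map_finsuppSum, Finsupp.sum_eq_single d₀] at h2
  · rw [← LinearMap.lTensor_comp_apply] at h2
    have h3 : (Finsupp.lapply d₀ : (Mon r n →₀ (B ⧸ Ideal.span (Set.range f))) →ₗ[A] _).comp
        (sigma A f n d₀) = mkQA A (Ideal.span (Set.range f)) := by
      refine LinearMap.ext fun b => ?_
      rw [LinearMap.comp_apply, sigma_apply, Finsupp.lapply_apply, Finsupp.single_eq_same]
      rfl
    rw [h3] at h2
    exact h2
  · intro d _ hd
    rw [← LinearMap.lTensor_comp_apply]
    have h3 : (Finsupp.lapply d₀ : (Mon r n →₀ (B ⧸ Ideal.span (Set.range f))) →ₗ[A] _).comp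
        (sigma A f n d) = 0 := by
      refine LinearMap.ext fun b => ?_
      rw [LinearMap.comp_apply, sigma_apply, Finsupp.lapply_apply, Finsupp.single_apply,
        if_neg hd, LinearMap.zero_apply]
    rw [h3, LinearMap.lTensor_zero, LinearMap.zero_apply]
  · intro _
    rw [map_zero, map_zero]

end Gr

/-- Base change of a quasi-regular sequence with flat quotient. -/
theorem isQuasiRegular_baseChange (A B A' : Type u) [CommRing A] [CommRing B] [CommRing A']
    [Algebra A B] [Algebra A A'] (r : ℕ) (f : Fin r → B)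
    (hflat : Module.Flat A (B ⧸ Ideal.span (Set.range f))) (hq : CAlgX.IsQuasiRegular f) :
    CAlgX.IsQuasiRegular (fun i => ((1 : A') ⊗ₜ[A] f i : A' ⊗[A] B)) := by
  intro n P' hP' hev d₀
  have := hflat
  by_cases hd₀ : d₀.degree = n
  swap
  · rw [hP'.coeff_eq_zero hd₀]; exact Ideal.zero_mem _
  rw [span_tmul_eq_map] at hev ⊢
  rw [← Ideal.map_pow] at hev
  have hflatn : Module.Flat A (B ⧸ Ideal.span (Set.range f) ^ n) := flat_quot_pow A f hq n
  have hinj : Function.Injective ((grMap A f n).lTensor A') :=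
    LinearMap.lTensor_injective_of_exact_of_flat (factorMap A f n) (factorMap_surjective A f n)
      (grMap A f n) (grMap_injective A f hq n) (exact_gr A f n) A'
  have hvan : (mkQA A (Ideal.span (Set.range f) ^ (n + 1))).lTensor A'
      ((cOf n P').sum fun d x => x * ((1 : A') ⊗ₜ[A] fpow f d.1)) = 0 := by
    apply lTensor_mkQ_eq_zero_of_mem
    have h1 : ((cOf n P').sum fun d x => x * ((1 : A') ⊗ₜ[A] fpow f d.1)) =
        eval (fun i => ((1 : A') ⊗ₜ[A] f i : A' ⊗[A] B)) P' := by
      conv_rhs => rw [← polyOf_cOf n P' hP']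
      rw [eval_polyOf]
      exact Finsupp.sum_congr fun d _ => by rw [fpow_tmul]
    rw [h1]
    exact hev
  have hkey := tensor_key A f n (cOf n P') hinj hvan ⟨d₀, hd₀⟩
  rw [cOf_apply] at hkey
  exact mem_map_of_lTensor_mkQ_eq_zero _ _ hkey

end Groth.Agent.H19.QRegBC
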