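import Groth.Agent.H19.InvFlat
import Groth.Agent.H69.QuotBasis
import Mathlib.AlgebraicGeometry.Morphisms.Flat

/-!
# Quotients by finite groups commute with flat base change
-/

set_option autoImplicit false
set_option linter.style.haveILetI false
universe u

open CategoryTheory CategoryTheory.Limits AlgebraicGeometry TopologicalSpace

namespace Groth.Agent.H19.QuotBC

open Groth.Agent.H69.QuotBasis

theorem main {X Y Z Z' X' Y' : Scheme.{u}} {G : Type u} [Group G] [Finite G]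
    (ρ : G →* Aut X) (p : X ⟶ Y) (hp : SGA1.IsQuot ρ p) (q : Y ⟶ Z) (b : Z' ⟶ Z) [Flat b]
    (qY : Y' ⟶ Y) (bY : Y' ⟶ Z') (hY : IsPullback qY bY q b)
    (pX : X' ⟶ X) (p' : X' ⟶ Y') (hX : IsPullback pX p' p qY)
    (ρ' : G →* Aut X') (hρ₁ : ∀ g : G, (ρ' g).hom ≫ pX = pX ≫ (ρ g).hom)
    (hρ₂ : ∀ g : G, (ρ' g).hom ≫ p' = p') : SGA1.IsQuot ρ' p' := by
  haveI : Flat qY := MorphismProperty.of_isPullback (P := @Flat) hY.flip inferInstance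
  haveI : IsAffineHom p := hp.affine
  haveI : IsAffineHom p' := MorphismProperty.of_isPullback (P := @IsAffineHom) hX inferInstance
  let 𝔅 : Set Y'.Opens :=
    {V' | IsAffineOpen V' ∧ ∃ V : Y.Opens, IsAffineOpen V ∧ V' ≤ qY ⁻¹ᵁ V}
  have hB : ∀ (U : Y'.Opens) (y : Y'), y ∈ U → ∃ V ∈ 𝔅, y ∈ V ∧ V ≤ U := by
    intro U y hy
    obtain ⟨V, (hV : IsAffineOpen V), hyV, -⟩ := Opens.isBasis_iff_nbhd.mp Y.isBasis_affineOpens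
      (show qY y ∈ (⊤ : Y.Opens) from trivial)
    obtain ⟨V', (hV' : IsAffineOpen V'), hyV', hV'U⟩ :=
      Opens.isBasis_iff_nbhd.mp Y'.isBasis_affineOpens (show y ∈ qY ⁻¹ᵁ V ⊓ U from ⟨hyV, hy⟩)
    exact ⟨V', ⟨hV', V, hV, hV'U.trans inf_le_left⟩, hyV', hV'U.trans inf_le_right⟩
  have key : ∀ V' ∈ 𝔅, Function.Injective (p'.app V').hom ∧
      ∀ t : Γ(X', p' ⁻¹ᵁ V'), (∀ γ : G, act ρ' p' hρ₂ γ V' t = t) →
        t ∈ Set.range (p'.app V').hom := by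
    rintro V' ⟨hV', V, hV, hle⟩
    have hβ : p' ⁻¹ᵁ V' ≤ pX ⁻¹ᵁ (p ⁻¹ᵁ V) := by
      calc p' ⁻¹ᵁ V' ≤ p' ⁻¹ᵁ (qY ⁻¹ᵁ V) := p'.preimage_mono hle
        _ = pX ⁻¹ᵁ (p ⁻¹ᵁ V) := by
          rw [← Scheme.Hom.comp_preimage, ← Scheme.Hom.comp_preimage, hX.w]
    have hUY : p' ⁻¹ᵁ V' = pX ⁻¹ᵁ (p ⁻¹ᵁ V) ⊓ p' ⁻¹ᵁ V' := (inf_eq_right.mpr hβ).symm
    have hpo := (isIso_pushoutSection_iff hX hle (le_refl (p ⁻¹ᵁ V)) hUY).mp
      (isIso_pushoutSection_of_isAffineOpen hX hle le_rfl hUY hV hV' (hV.preimage p))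
    rw [Scheme.Hom.appLE_eq_app p, Scheme.Hom.appLE_eq_app p'] at hpo
    have hflat : (qY.appLE V V' hle).hom.Flat :=
      HasRingHomProperty.appLE (P := @Flat) qY inferInstance ⟨V, hV⟩ ⟨V', hV'⟩ hle
    refine InvFlat.main _ _ _ _ hpo hflat (fun γ => act ρ p hp.inv γ V)
      (fun γ => act ρ' p' hρ₂ γ V') ?_ ?_ ?_ ?_ ?_
    · intro γ s
      have e1 := Scheme.Hom.appLE_comp_appLE (ρ' γ).hom pX (p ⁻¹ᵁ V) (p' ⁻¹ᵁ V') (p' ⁻¹ᵁ V')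
        hβ (SGA1.preimage_le_of_inv ρ' p' hρ₂ γ V')
      have e2 := Scheme.Hom.appLE_comp_appLE pX (ρ γ).hom (p ⁻¹ᵁ V) (p ⁻¹ᵁ V) (p' ⁻¹ᵁ V')
        (SGA1.preimage_le_of_inv ρ p hp.inv γ V) hβ
      have hb : p' ⁻¹ᵁ V' ≤ (pX ≫ (ρ γ).hom) ⁻¹ᵁ (p ⁻¹ᵁ V) := by
        rw [Scheme.Hom.comp_preimage]
        exact hβ.trans (pX.preimage_mono (SGA1.preimage_le_of_inv ρ p hp.inv γ V))
      have ha : p' ⁻¹ᵁ V' ≤ ((ρ' γ).hom ≫ pX) ⁻¹ᵁ (p ⁻¹ᵁ V) := by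
        rw [hρ₁ γ]
        exact hb
      have e3 := appLE_congr _ _ (hρ₁ γ) (p ⁻¹ᵁ V) (p' ⁻¹ᵁ V') ha hb
      exact congr($(e1.trans (e3.trans e2.symm)) s)
    · intro γ a'
      exact act_app ρ' p' hρ₂ γ V' a'
    · intro γ a
      exact act_app ρ p hp.inv γ V a
    · exact hp.injective V
    · intro s hs
      exact (hp.range_iff V s).mpr hs
  exact isQuot_of_basis ρ' p' hρ₂ 𝔅 hB (fun V' hV' => (key V' hV').1)
    (fun V' hV' => (key V' hV').2)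

end Groth.Agent.H19.QuotBC
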