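import Mathlib
import Groth.Agent.H19.QReg

/-!
# Kernel of the Rees map for a weakly regular sequence (helper library, seat helper19)
-/

set_option autoImplicit false
universe u

namespace Groth.Agent.H19.Rees

open MvPolynomial

variable {A : Type u} [CommRing A]

/-- The ideal generated by the relations `a_i X_j - a_j X_i`. -/
noncomputable def relIdeal {σ : Type*} (a : σ → A) : Ideal (MvPolynomial σ A) :=
  Ideal.span {q | ∃ i j : σ, q = C (a i) * X j - C (a j) * X i}

/-- Modulo the relations, `a_k P ≡ X_k P'` with `P'` of one degree less and the same value. -/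
theorem exists_shift {σ : Type*} (a : σ → A) (k : σ) (d : ℕ) (P : MvPolynomial σ A)
    (hP : P.IsHomogeneous (d + 1)) :
    ∃ P' : MvPolynomial σ A, P'.IsHomogeneous d ∧ eval a P' = eval a P ∧
      C (a k) * P - X k * P' ∈ relIdeal a := by
  classical
  suffices h : ∀ s : Finset (σ →₀ ℕ), (∀ m ∈ s, m.degree = d + 1) → ∀ c : (σ →₀ ℕ) → A,
      ∃ P' : MvPolynomial σ A, P'.IsHomogeneous d ∧
        eval a P' = eval a (∑ m ∈ s, monomial m (c m)) ∧
        C (a k) * (∑ m ∈ s, monomial m (c m)) - X k * P' ∈ relIdeal a by
    obtain ⟨P', h1, h2, h3⟩ := h P.support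
      (fun m hm => QReg.degree_eq_of_coeff_ne_zero hP (mem_support_iff.1 hm)) (fun m => coeff m P)
    rw [P.support_sum_monomial_coeff] at h2 h3
    exact ⟨P', h1, h2, h3⟩
  intro s
  induction s using Finset.induction_on with
  | empty =>
    intro _ c
    exact ⟨0, isHomogeneous_zero _ _ _, by simp, by simp⟩
  | insert m s hms ih =>
    intro hdeg c
    obtain ⟨P1, h1, h2, h3⟩ := ih (fun m' hm' => hdeg m' (Finset.mem_insert_of_mem hm')) c
    have hm : m.degree = d + 1 := hdeg m (Finset.mem_insert_self m s)
    obtain ⟨i, hi⟩ : ∃ i, m i ≠ 0 := by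
      by_contra hcon
      simp only [not_exists, not_not] at hcon
      have hm0 : m = 0 := Finsupp.ext hcon
      rw [hm0, map_zero] at hm
      omega
    have hle : Finsupp.single i 1 ≤ m := by
      rw [Finsupp.single_le_iff]; exact Nat.one_le_iff_ne_zero.2 hi
    have hmi : Finsupp.single i 1 + (m - Finsupp.single i 1) = m := add_tsub_cancel_of_le hle
    obtain ⟨M', hM'hom, hmono⟩ : ∃ M' : MvPolynomial σ A, M'.IsHomogeneous d ∧
        monomial m (c m) = X i * M' := by
      refine ⟨monomial (m - Finsupp.single i 1) (c m), ?_, ?_⟩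
      · apply isHomogeneous_monomial
        have h4 := congrArg (fun t => Finsupp.degree t) hmi
        simp only [map_add, Finsupp.degree_single] at h4
        omega
      · have h5 : monomial (Finsupp.single i 1 + (m - Finsupp.single i 1)) (c m) =
            X i ^ 1 * monomial (m - Finsupp.single i 1) (c m) := monomial_single_add
        rw [hmi, pow_one] at h5
        exact h5
    refine ⟨P1 + C (a i) * M', h1.add (hM'hom.C_mul _), ?_, ?_⟩
    · rw [Finset.sum_insert hms, hmono]
      simp only [map_add, map_mul, eval_C, eval_X, h2]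
      ring
    · rw [Finset.sum_insert hms, hmono]
      have h6 : C (a k) * (X i * M' + ∑ m ∈ s, monomial m (c m)) - X k * (P1 + C (a i) * M') =
          (C (a k) * (∑ m ∈ s, monomial m (c m)) - X k * P1) +
            (C (a k) * X i - C (a i) * X k) * M' := by ring
      rw [h6]
      exact Ideal.add_mem _ h3 (Ideal.mul_mem_right _ _ (Ideal.subset_span ⟨k, i, rfl⟩))

/-- The Rees map on a homogeneous polynomial. -/
theorem aeval_CX_of_isHomogeneous {σ : Type*} (a : σ → A) (d : ℕ) (P : MvPolynomial σ A)
    (hP : P.IsHomogeneous d) :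
    aeval (R := A) (fun i : σ => Polynomial.C (a i) * (Polynomial.X : Polynomial A)) P =
      Polynomial.C (eval a P) * Polynomial.X ^ d := by
  have hmon : ∀ m ∈ P.support,
      aeval (R := A) (fun i : σ => Polynomial.C (a i) * (Polynomial.X : Polynomial A))
        (monomial m (coeff m P)) =
      Polynomial.C (eval a (monomial m (coeff m P))) * Polynomial.X ^ d := by
    intro m hm
    have hm' : m.degree = d := QReg.degree_eq_of_coeff_ne_zero hP (mem_support_iff.1 hm)
    have hdeg : ∑ i ∈ m.support, m i = d := by rw [← hm']; rfl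
    have key : (m.prod fun i k => (Polynomial.C (a i) * (Polynomial.X : Polynomial A)) ^ k) =
        Polynomial.C (m.prod fun i k => a i ^ k) * Polynomial.X ^ d := by
      simp only [Finsupp.prod, mul_pow, Finset.prod_mul_distrib, Finset.prod_pow_eq_pow_sum,
        map_prod, map_pow, hdeg]
    rw [aeval_monomial, eval_monomial, ← Polynomial.C_eq_algebraMap, key, map_mul, mul_assoc]
  calc aeval (R := A) (fun i : σ => Polynomial.C (a i) * (Polynomial.X : Polynomial A)) P
      = aeval (R := A) (fun i : σ => Polynomial.C (a i) * (Polynomial.X : Polynomial A))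
          (∑ m ∈ P.support, monomial m (coeff m P)) := by rw [P.support_sum_monomial_coeff]
    _ = ∑ m ∈ P.support, Polynomial.C (eval a (monomial m (coeff m P))) * Polynomial.X ^ d := by
        rw [map_sum]; exact Finset.sum_congr rfl hmon
    _ = Polynomial.C (eval a (∑ m ∈ P.support, monomial m (coeff m P))) * Polynomial.X ^ d := by
        rw [map_sum, map_sum, Finset.sum_mul]
    _ = Polynomial.C (eval a P) * Polynomial.X ^ d := by rw [P.support_sum_monomial_coeff]

theorem step {n : ℕ} (a : Fin (n + 1) → A) (a' : Fin n → A) (ha' : a ∘ Fin.castSucc = a')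
    (hq : CAlgX.IsQuasiRegular a')
    (hreg : ∀ x, a (Fin.last n) * x ∈ Ideal.span (Set.range a') → x ∈ Ideal.span (Set.range a'))
    (ihn : ∀ (d : ℕ) (F : MvPolynomial (Fin n) A), F.IsHomogeneous d → eval a' F = 0 →
      F ∈ relIdeal a') :
    ∀ (d : ℕ) (F : MvPolynomial (Fin (n + 1)) A), F.IsHomogeneous d → eval a F = 0 →
      F ∈ relIdeal a := by
  have hren : ∀ Q : MvPolynomial (Fin n) A, Q ∈ relIdeal a' →
      rename Fin.castSucc Q ∈ relIdeal a := by
    intro Q hQ
    have hle : relIdeal a' ≤ Ideal.comap
        (rename Fin.castSucc : MvPolynomial (Fin n) A →ₐ[A] MvPolynomial (Fin (n + 1)) A).toRingHom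
        (relIdeal a) := by
      unfold relIdeal
      rw [Ideal.span_le]
      rintro _ ⟨i, j, rfl⟩
      rw [SetLike.mem_coe, Ideal.mem_comap]
      show rename Fin.castSucc (C (a' i) * X j - C (a' j) * X i) ∈ Ideal.span _
      rw [map_sub, map_mul, map_mul, rename_C, rename_C, rename_X, rename_X, ← ha']
      exact Ideal.subset_span ⟨i.castSucc, j.castSucc, rfl⟩
    exact hle hQ
  intro d
  induction d with
  | zero =>
    intro F hF hev
    have htd : F.totalDegree = 0 := (totalDegree_zero_iff_isHomogeneous (p := F)).2 hF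
    rw [totalDegree_eq_zero_iff_eq_C] at htd
    have hc0 : coeff 0 F = 0 := by
      rw [htd, eval_C] at hev
      exact hev
    have hF0 : F = 0 := by
      rw [htd, hc0, map_zero]
    rw [hF0]
    exact Ideal.zero_mem _
  | succ d ihd =>
    intro F hF hev
    obtain ⟨G, H, hG, hH, hdec⟩ := QReg.exists_decomp F hF
    have hevF : a (Fin.last n) * eval a H + eval a' G = 0 := by
      have h2 : eval a F = a (Fin.last n) * eval a H + eval a' G := by
        rw [hdec, map_add, map_mul, eval_X, eval_rename, ha']
      rw [← h2]
      exact hev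
    have hG_mem : eval a' G ∈ Ideal.span (Set.range a') ^ (d + 1) :=
      (Ideal.mem_span_pow_iff_exists_isHomogeneous a' _).2 ⟨G, hG, rfl⟩
    have h3 : a (Fin.last n) * eval a H ∈ Ideal.span (Set.range a') ^ (d + 1) := by
      have h3' : a (Fin.last n) * eval a H = - eval a' G := eq_neg_of_add_eq_zero_left hevF
      rw [h3']
      exact neg_mem hG_mem
    have h4 : eval a H ∈ Ideal.span (Set.range a') ^ (d + 1) :=
      QReg.mem_pow_of_mul_mem_pow a' hq _ hreg (d + 1) _ h3
    obtain ⟨h, hh, hhe⟩ := (Ideal.mem_span_pow_iff_exists_isHomogeneous a' _).1 h4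
    have h5 : G + C (a (Fin.last n)) * h ∈ relIdeal a' := by
      apply ihn (d + 1) _ (hG.add (hh.C_mul _))
      rw [map_add, map_mul, eval_C, hhe]
      exact (add_comm _ _).trans hevF
    have h6 := hren _ h5
    rw [map_add, map_mul, rename_C] at h6
    have hrh : (rename Fin.castSucc h).IsHomogeneous (d + 1) := hh.rename_isHomogeneous
    obtain ⟨h', hh', hh'e, hh'm⟩ := exists_shift a (Fin.last n) d _ hrh
    have h7 : H - h' ∈ relIdeal a := by
      apply ihd _ (hH.sub hh')
      rw [map_sub, hh'e, eval_rename, ha', hhe, sub_self]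
    have h8 : F = X (Fin.last n) * (H - h') -
        (C (a (Fin.last n)) * rename Fin.castSucc h - X (Fin.last n) * h') +
        (rename Fin.castSucc G + C (a (Fin.last n)) * rename Fin.castSucc h) := by
      rw [hdec]; ring
    rw [h8]
    exact Ideal.add_mem _ (Ideal.sub_mem _ (Ideal.mul_mem_left _ _ h7) hh'm) h6

/-- For a weakly regular sequence, a homogeneous polynomial vanishing at the sequence lies in the
ideal of relations. -/
theorem mem_relIdeal_of_eval_eq_zero : ∀ (n : ℕ) (a : Fin n → A),
    RingTheory.Sequence.IsWeaklyRegular A (List.ofFn a) →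
    ∀ (d : ℕ) (F : MvPolynomial (Fin n) A), F.IsHomogeneous d → eval a F = 0 →
      F ∈ relIdeal a := by
  intro n
  induction n with
  | zero =>
    intro a _ d F _ hev
    have hF : F = C (coeff 0 F) := eq_C_of_isEmpty F
    have hc0 : coeff 0 F = 0 := by
      rw [hF, eval_C] at hev
      exact hev
    have hF0 : F = 0 := by
      rw [hF, hc0, map_zero]
    rw [hF0]
    exact Ideal.zero_mem _
  | succ n ihn =>
    intro a ha
    have ha0 := ha
    rw [List.ofFn_succ', List.concat_eq_append, RingTheory.Sequence.isWeaklyRegular_append_iff,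
      RingTheory.Sequence.isWeaklyRegular_singleton_iff,
      isSMulRegular_quotient_iff_mem_of_smul_mem, QReg.ofList_ofFn_smul_top] at ha0
    obtain ⟨ha1, ha2⟩ := ha0
    exact step a (fun i => a i.castSucc) rfl
      (QReg.isQuasiRegular_of_isWeaklyRegular n _ ha1) (fun x hx => ha2 x hx) (ihn _ ha1)

/-- The kernel of the Rees map of a weakly regular sequence is generated by the relations
`a_i X_j - a_j X_i`. -/
theorem ker_rees_eq {n : ℕ} (a : Fin n → A)
    (ha : RingTheory.Sequence.IsWeaklyRegular A (List.ofFn a)) :
    RingHom.ker (MvPolynomial.aeval (R := A)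
      (fun i : Fin n => Polynomial.C (a i) * (Polynomial.X : Polynomial A))) = relIdeal a := by
  apply le_antisymm
  · intro F hF
    rw [RingHom.mem_ker] at hF
    have h1 : aeval (R := A) (fun i : Fin n => Polynomial.C (a i) * (Polynomial.X : Polynomial A)) F =
        ∑ j ∈ Finset.range (F.totalDegree + 1),
          Polynomial.C (eval a (homogeneousComponent j F)) * Polynomial.X ^ j := by
      have h0 : aeval (R := A)
          (fun i : Fin n => Polynomial.C (a i) * (Polynomial.X : Polynomial A)) F =
          aeval (R := A) (fun i : Fin n => Polynomial.C (a i) * (Polynomial.X : Polynomial A))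
            (∑ j ∈ Finset.range (F.totalDegree + 1), homogeneousComponent j F) := by
        rw [sum_homogeneousComponent]
      rw [h0, map_sum]
      exact Finset.sum_congr rfl fun j _ =>
        aeval_CX_of_isHomogeneous a j _ (homogeneousComponent_isHomogeneous j F)
    rw [hF] at h1
    have hcomp : ∀ i, eval a (homogeneousComponent i F) = 0 := by
      intro i
      have h2 := congrArg (fun p => Polynomial.coeff p i) h1
      simp only [Polynomial.coeff_zero, Polynomial.finsetSum_coeff,
        Polynomial.coeff_C_mul_X_pow, Finset.sum_ite_eq] at h2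
      by_cases hi : i ∈ Finset.range (F.totalDegree + 1)
      · rw [if_pos hi] at h2
        exact h2.symm
      · have hlt : F.totalDegree < i := by
          rw [Finset.mem_range] at hi
          omega
        rw [homogeneousComponent_eq_zero i F hlt, map_zero]
    rw [← sum_homogeneousComponent F]
    exact Ideal.sum_mem _ fun i _ =>
      mem_relIdeal_of_eval_eq_zero n a ha i _ (homogeneousComponent_isHomogeneous i F) (hcomp i)
  · unfold relIdeal
    rw [Ideal.span_le]
    rintro _ ⟨i, j, rfl⟩
    rw [SetLike.mem_coe, RingHom.mem_ker]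
    simp only [map_sub, map_mul, aeval_C, aeval_X, ← Polynomial.C_eq_algebraMap]
    ring

end Groth.Agent.H19.Rees
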