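import Mathlib
import Groth.Prelude.Def_HTop2
import Groth.Prelude.Def_W4c1hilbchowincPtFun
import Groth.Agent.H73.PtFunSpec
import Groth.Agent.S0549

/-!
# (CDVR) for helper13's S13109 squad (helper19)

A pointwise function that varies algebraically along COMPLETE discrete valuation rings varies
algebraically along all discrete valuation rings: pass to the completion `Rh` of `R`, get `rh : Rh`,
show `rh` comes from `R` by looking at the generic point, and check the values through the (injective)
residue field maps of `Spec Rh ⟶ Spec R`, which is surjective.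
-/

set_option autoImplicit false
universe u
open CategoryTheory AlgebraicGeometry W4c1hilbchowinc

namespace Groth.Agent.H19.SN_CDVR

open Groth.Agent.H73.PtFunSpec

theorem pullback_comp {X Y Z : Scheme.{u}} (h : Z ⟶ Y) (g : Y ⟶ X) (f : PtFun X) (z : Z) :
    (f.pullback (h ≫ g)) z = h.residueFieldMap z ((f.pullback g) (h z)) := by
  change (h ≫ g).residueFieldMap z (f (g (h z))) = _
  rw [Scheme.residueFieldMap_comp]
  rfl

/-- (CDVR) -/
theorem variesAlongDVR_of_complete {X : Scheme.{u}} (f : PtFun X)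
    (hf : f.VariesAlongCompleteDVR) : f.VariesAlongDVR := by
  intro R _ _ _ g
  obtain ⟨hD, hDVR⟩ := (Groth.Agent.S0549.result R).mp ⟨inferInstance, inferInstance⟩
  have hfg : (IsLocalRing.maximalIdeal R).FG := (IsLocalRing.maximalIdeal R).fg_of_isNoetherianRing
  have hmax := AdicCompletion.maximalIdeal_eq_map (R := R)
  have hc : IsAdicComplete
      (IsLocalRing.maximalIdeal (AdicCompletion (IsLocalRing.maximalIdeal R) R))
      (AdicCompletion (IsLocalRing.maximalIdeal R) R) := by
    rw [hmax]; exact AdicCompletion.isAdicComplete_self _ hfg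
  have hinj0 : Function.Injective
      (algebraMap R (AdicCompletion (IsLocalRing.maximalIdeal R) R)) :=
    AdicCompletion.of_injective (IsLocalRing.maximalIdeal R) R
  obtain ⟨ι, hι⟩ : ∃ ι : R →+* AdicCompletion (IsLocalRing.maximalIdeal R) R,
      ι = algebraMap R (AdicCompletion (IsLocalRing.maximalIdeal R) R) := ⟨_, rfl⟩
  have hinj : Function.Injective ι := by rw [hι]; exact hinj0
  rw [← hι] at hmax
  obtain ⟨σh, hσh⟩ := hf (AdicCompletion (IsLocalRing.maximalIdeal R) R)
    (Spec.map (CommRingCat.ofHom ι) ≫ g)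
  obtain ⟨rh, hrh0⟩ : ∃ rh : AdicCompletion (IsLocalRing.maximalIdeal R) R,
      rh = (Scheme.ΓSpecIso (CommRingCat.of (AdicCompletion (IsLocalRing.maximalIdeal R) R))).hom σh :=
    ⟨_, rfl⟩
  have key : ∀ y : ↥(Spec (CommRingCat.of (AdicCompletion (IsLocalRing.maximalIdeal R) R))),
      ev (AdicCompletion (IsLocalRing.maximalIdeal R) R) y rh =
        (Spec.map (CommRingCat.ofHom ι)).residueFieldMap y
          ((f.pullback g) ((Spec.map (CommRingCat.ofHom ι)) y)) := by
    intro y
    rw [hrh0, ev_ΓSpecIso_hom, ← pullback_comp]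
    exact congrFun hσh y
  -- the generic point
  obtain ⟨η, hη⟩ : ∃ η : ↥(Spec (CommRingCat.of (AdicCompletion (IsLocalRing.maximalIdeal R) R))),
      PrimeSpectrum.asIdeal η = ⊥ :=
    ⟨(⟨⊥, Ideal.isPrime_bot⟩ : PrimeSpectrum (AdicCompletion (IsLocalRing.maximalIdeal R) R)), rfl⟩
  obtain ⟨b1, s1, hs1, h1⟩ := exists_ev_mul_eq ((Spec.map (CommRingCat.ofHom ι)) η)
    ((f.pullback g) ((Spec.map (CommRingCat.ofHom ι)) η))
  have hs10 : s1 ≠ 0 := fun h => hs1 (h ▸ Ideal.zero_mem _)
  have hιs1 : ι s1 ≠ 0 := fun h => hs10 (hinj (by rw [h, map_zero]))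
  have h2 := congrArg ((Spec.map (CommRingCat.ofHom ι)).residueFieldMap η) h1
  rw [map_mul, residueFieldMap_ev, residueFieldMap_ev, ← key η] at h2
  have h3 : rh * ι s1 - ι b1 ∈ PrimeSpectrum.asIdeal η := by
    rw [← ev_eq_zero_iff, map_sub, map_mul, h2, sub_self]
  have h4 : rh * ι s1 = ι b1 := by
    rw [hη, Ideal.mem_bot] at h3
    exact sub_eq_zero.mp h3
  have hdvd : s1 ∣ b1 := by
    rcases ValuationRing.dvd_total s1 b1 with h | ⟨c, hc⟩
    · exact h
    · have hb1 : b1 ≠ 0 := by
        rintro rfl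
        exact hs10 (by simpa using hc)
      have hιb1 : ι b1 ≠ 0 := fun h => hb1 (hinj (by rw [h, map_zero]))
      have h5 : rh * ι c = 1 := by
        have : ι b1 * (rh * ι c) = ι b1 * 1 := by
          rw [mul_one]
          nth_rewrite 2 [← h4]
          rw [hc, map_mul]
          ring
        exact mul_left_cancel₀ hιb1 this
      have hcu : IsUnit c := by
        by_contra hnu
        have hcm : c ∈ IsLocalRing.maximalIdeal R := (IsLocalRing.mem_maximalIdeal c).mpr hnu
        have hcm' : ι c ∈ IsLocalRing.maximalIdeal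
            (AdicCompletion (IsLocalRing.maximalIdeal R) R) := by
          rw [hmax]; exact Ideal.mem_map_of_mem _ hcm
        exact (IsLocalRing.mem_maximalIdeal _).mp hcm'
          (IsUnit.of_mul_eq_one rh (by rw [mul_comm]; exact h5))
      obtain ⟨u, rfl⟩ := hcu
      exact ⟨↑u⁻¹, by rw [hc]; simp [mul_assoc]⟩
  obtain ⟨r, hr⟩ := hdvd
  have hrh : rh = ι r := by
    have : ι s1 * rh = ι s1 * ι r := by rw [← map_mul, ← hr, ← h4, mul_comm]
    exact mul_left_cancel₀ hιs1 this
  -- surjectivity of `Spec Rh → Spec R`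
  have hsurj : ∀ x : ↥(Spec (CommRingCat.of R)),
      ∃ y : ↥(Spec (CommRingCat.of (AdicCompletion (IsLocalRing.maximalIdeal R) R))),
        (Spec.map (CommRingCat.ofHom ι)) y = x := by
    intro x
    by_cases hx : PrimeSpectrum.asIdeal x = ⊥
    · refine ⟨η, ?_⟩
      apply PrimeSpectrum.ext
      change Ideal.comap ι (PrimeSpectrum.asIdeal η) = PrimeSpectrum.asIdeal x
      rw [hx, hη, ← RingHom.ker_eq_comap_bot]
      exact (RingHom.injective_iff_ker_eq_bot ι).mp hinj
    · have hxp : (PrimeSpectrum.asIdeal x).IsPrime := PrimeSpectrum.isPrime x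
      have hxmax : (PrimeSpectrum.asIdeal x).IsMaximal := hxp.isMaximal hx
      have hx' : PrimeSpectrum.asIdeal x = IsLocalRing.maximalIdeal R :=
        IsLocalRing.eq_maximalIdeal hxmax
      refine ⟨IsLocalRing.closedPoint (AdicCompletion (IsLocalRing.maximalIdeal R) R), ?_⟩
      apply PrimeSpectrum.ext
      change Ideal.comap ι (IsLocalRing.maximalIdeal
        (AdicCompletion (IsLocalRing.maximalIdeal R) R)) = PrimeSpectrum.asIdeal x
      rw [hx']
      symm
      apply (IsLocalRing.maximalIdeal.isMaximal R).eq_of_le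
      · exact Ideal.comap_ne_top _ (IsLocalRing.maximalIdeal.isMaximal _).ne_top
      · exact Ideal.le_comap_of_map_le hmax.ge
  refine ⟨(Scheme.ΓSpecIso (CommRingCat.of R)).inv r, ?_⟩
  funext x
  rw [ofSection_inv]
  obtain ⟨y, rfl⟩ := hsurj x
  have hk := key y
  rw [hrh, ← residueFieldMap_ev] at hk
  exact ((Spec.map (CommRingCat.ofHom ι)).residueFieldMap y).hom.injective hk

end Groth.Agent.H19.SN_CDVR
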