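import Groth.Agent.S7779
import Groth.Agent.H8.FormallyEtale

/-!
# Infinitesimal lifting for morphisms locally of finite presentation that are affine-locally
formally smooth (no unramifiedness): local lifts are glued by `S7779`.
-/

set_option autoImplicit false
universe u

namespace Groth.Agent.H19.SmoothFormal

open AlgebraicGeometry CategoryTheory Limits TopologicalSpace

variable {X Y T T' : Scheme.{u}}

theorem exists_lift_of_thickening (f : X ⟶ Y) [LocallyOfFinitePresentation f]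
    (hsm : ∀ {U : X.Opens} (_ : IsAffineOpen U) {V : Y.Opens} (_ : IsAffineOpen V)
      (e : U ≤ f ⁻¹ᵁ V), (f.appLE V U e).hom.FormallySmooth)
    (t : T ⟶ T') [IsClosedImmersion t] [IsAffine T] (hker : t.ker * t.ker = ⊥)
    (a : T ⟶ X) (b : T' ⟶ Y) (w : t ≫ b = a ≫ f) :
    ∃ l : T' ⟶ X, t ≫ l = a ∧ l ≫ f = b := by
  have hn : IsNilpotent t.ker := ⟨2, by rw [pow_two]; exact hker⟩
  have hsq : ∀ (U : T'.affineOpens) (x y : Γ(T', U.1)),
      x ∈ RingHom.ker (t.app U.1).hom → y ∈ RingHom.ker (t.app U.1).hom → x * y = 0 := by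
    intro U x y hx hy
    have h := congrArg (fun K => K.ideal U) hker
    simp only [Scheme.IdealSheafData.ideal_mul, Pi.mul_apply, Scheme.Hom.ker_apply,
      Scheme.IdealSheafData.ideal_bot, Pi.bot_apply] at h
    have hxy : x * y ∈ RingHom.ker (t.app U.1).hom * RingHom.ker (t.app U.1).hom :=
      Ideal.mul_mem_mul hx hy
    rw [h] at hxy
    exact Ideal.mem_bot.mp hxy
  have hloc : ∀ p : T', ∃ W : T'.Opens, p ∈ W ∧ Groth.Agent.H8.HasLift f t a b W := by
    intro p
    obtain ⟨q, rfl⟩ := Groth.Agent.H8.surjective_of_isNilpotent_ker t hn p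
    have hbq : b (t q) = f (a q) := by
      rw [← Scheme.Hom.comp_apply, ← Scheme.Hom.comp_apply, w]
    obtain ⟨V, hV, hqV, -⟩ := Opens.isBasis_iff_nbhd.mp Y.isBasis_affineOpens
      (show f (a q) ∈ (⊤ : Y.Opens) from trivial)
    obtain ⟨U, hU, hqU, e⟩ := Opens.isBasis_iff_nbhd.mp X.isBasis_affineOpens
      (show a q ∈ f ⁻¹ᵁ V from hqV)
    have hopen : IsOpen (t '' (a ⁻¹ᵁ U : Set T)) :=
      (t.isClosedEmbedding.isEmbedding.toHomeomorphOfSurjective
        (Groth.Agent.H8.surjective_of_isNilpotent_ker t hn)).isOpenMap _ (a ⁻¹ᵁ U).isOpen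
    obtain ⟨W, hW, hqW, hWle⟩ := Opens.isBasis_iff_nbhd.mp T'.isBasis_affineOpens
      (show t q ∈ (b ⁻¹ᵁ V) ⊓ (⟨_, hopen⟩ : T'.Opens) from
        ⟨by change b (t q) ∈ V; rw [hbq]; exact hqV, ⟨q, hqU, rfl⟩⟩)
    refine ⟨W, hqW, Groth.Agent.H8.hasLift_of_formallySmooth f t hn a b w hU hV e (hsm hU hV e) hW
      (hWle.trans inf_le_left) ?_⟩
    intro x hx
    obtain ⟨x', hx', hxx'⟩ := (hWle.trans inf_le_right) hx
    have : x' = x := t.isClosedEmbedding.injective hxx'
    exact this ▸ hx'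
  choose W hpW hW using hloc
  choose l hl1 hl2 using hW
  have hU : iSup W = ⊤ := by
    rw [eq_top_iff]
    rintro p -
    exact Opens.mem_iSup.mpr ⟨p, hpW p⟩
  obtain ⟨b', h1, h2⟩ := Groth.Agent.S7779.result f t hsq b a w.symm T' W hU l hl2 hl1
  exact ⟨b', h2, h1⟩

/-- Smooth morphisms are formally smooth in the sense of the Prelude. -/
theorem isFormallySmoothHom_of_smooth (f : X ⟶ Y) [Smooth f] : MoreMor.IsFormallySmoothHom f := by
  intro A _ I hI a b w
  haveI : IsClosedImmersion (Spec.map (CommRingCat.ofHom (Ideal.Quotient.mk I))) :=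
    IsClosedImmersion.spec_of_surjective _ Ideal.Quotient.mk_surjective
  exact exists_lift_of_thickening f
    (fun {_} hU {_} hV e => (f.smooth_appLE hV hU e).formallySmooth)
    (Spec.map (CommRingCat.ofHom (Ideal.Quotient.mk I)))
    (Groth.Agent.H8.ker_SpecMap_mk_mul_self A I hI) a b w

end Groth.Agent.H19.SmoothFormal
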