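import Groth.Agent.H19.InfAff
import Groth.Agent.H52.Topology

/-!
# helper19: affine charts of a thickening of algebraic spaces

`exists_quot_data`: a closed immersion with affine target is `Spec (A ⧸ I) ⟶ Spec A` up to isomorphism
(over `S`).  `exists_thick_chart`: around every point of `T'`, a thickening `i : T ⟶ T'` of algebraic
spaces has an affine etale chart `h_{Spec A} ⟶ T'` on which `i` becomes `Spec (A ⧸ I) ⟶ Spec A` with `I`
a nil ideal.
-/

set_option autoImplicit false
universe u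
open CategoryTheory CategoryTheory.Limits AlgebraicGeometry Opposite

namespace Groth.Agent.H19.Inf

open AlgSp

variable {S : Scheme.{u}}

/-- A closed immersion with affine target is `Spec (A ⧸ I) ⟶ Spec A` up to isomorphism. -/
theorem exists_quot_data {V W : Over S} (snd : W ⟶ V) (hV : IsAffine V.left)
    (hci : IsClosedImmersion snd.left) :
    ∃ (A : Type u) (_ : CommRing A) (I : Ideal A) (str : Spec (.of A) ⟶ S)
      (eV : Over.mk str ≅ V)
      (eW : Over.mk (Spec.map (CommRingCat.ofHom (Ideal.Quotient.mk I)) ≫ str) ≅ W),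
      eW.hom ≫ snd = jOver I str ≫ eV.hom := by
  obtain ⟨hW, hφ⟩ := IsClosedImmersion.isAffine_surjective_of_isAffine snd.left
  let R : Type u := Γ(V.left, ⊤)
  let φ : R →+* Γ(W.left, ⊤) := snd.left.appTop.hom
  let I : Ideal R := RingHom.ker φ
  let ψ : R ⧸ I ≃+* Γ(W.left, ⊤) := RingHom.quotientKerEquivOfSurjective hφ
  have hψ : (CommRingCat.ofHom (Ideal.Quotient.mk I)) ≫ (CommRingCat.ofHom ψ.toRingHom) =
      snd.left.appTop := by
    ext x
    rfl
  let eV₀ : V.left ≅ Spec (.of R) := V.left.isoSpec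
  let eψ : Spec Γ(W.left, ⊤) ≅ Spec (.of (R ⧸ I)) :=
    { hom := Spec.map (CommRingCat.ofHom ψ.toRingHom)
      inv := Spec.map (CommRingCat.ofHom ψ.symm.toRingHom)
      hom_inv_id := by
        rw [← Spec.map_comp, ← Spec.map_id]
        congr 1
        ext x
        exact ψ.apply_symm_apply x
      inv_hom_id := by
        rw [← Spec.map_comp, ← Spec.map_id]
        congr 1
        ext x
        exact ψ.symm_apply_apply x }
  let eW₀ : W.left ≅ Spec (.of (R ⧸ I)) := W.left.isoSpec ≪≫ eψ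
  have hsq' : eW₀.hom ≫ Spec.map (CommRingCat.ofHom (Ideal.Quotient.mk I)) = snd.left ≫ eV₀.hom := by
    have h2 := Scheme.isoSpec_hom_naturality snd.left
    simp only [eW₀, eV₀, eψ, Iso.trans_hom, Category.assoc]
    rw [← h2, ← hψ, Spec.map_comp]
  have hsq'' : eW₀.inv ≫ snd.left = Spec.map (CommRingCat.ofHom (Ideal.Quotient.mk I)) ≫ eV₀.inv := by
    rw [Iso.inv_comp_eq, ← Category.assoc, hsq', Category.assoc, Iso.hom_inv_id, Category.comp_id]
  let str : Spec (.of R) ⟶ S := eV₀.inv ≫ V.hom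
  let eV : Over.mk str ≅ V := Over.isoMk eV₀.symm (by simp [str])
  let eW : Over.mk (Spec.map (CommRingCat.ofHom (Ideal.Quotient.mk I)) ≫ str) ≅ W :=
    Over.isoMk eW₀.symm (by
      simp only [Iso.symm_hom, Over.mk_left, Over.mk_hom, str]
      rw [← Over.w snd, ← Category.assoc, hsq'', Category.assoc])
  refine ⟨R, inferInstance, I, str, eV, eW, ?_⟩
  apply Over.OverMorphism.ext
  simp only [Over.comp_left, eW, eV, Over.isoMk_hom_left, Iso.symm_hom, Over.homMk_left]
  exact hsq''

/-- If `Spec (A ⧸ I) ⟶ Spec A` is surjective then `I` is a nil ideal. -/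
theorem le_nilradical_of_surjective {A : Type u} [CommRing A] (I : Ideal A)
    (h : Function.Surjective (Spec.map (CommRingCat.ofHom (Ideal.Quotient.mk I)))) :
    I ≤ nilradical A := by
  rw [nilradical_eq_sInf]
  refine le_sInf ?_
  intro 𝔭 h𝔭
  obtain ⟨𝔮, h𝔮⟩ := h ⟨𝔭, h𝔭⟩
  intro x hx
  have h1 : (Spec.map (CommRingCat.ofHom (Ideal.Quotient.mk I)) 𝔮).asIdeal = 𝔭 := by rw [h𝔮]
  rw [← h1, Spec.map_apply]
  change Ideal.Quotient.mk I x ∈ 𝔮.asIdeal
  rw [Ideal.Quotient.eq_zero_iff_mem.2 hx]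
  exact zero_mem _

/-- Affine etale charts of a thickening of algebraic spaces. -/
theorem exists_thick_chart {T T' : Sp S} (hT' : IsAlgSpace T') (i : T ⟶ T') (hi : IsThickMor i)
    (t' : Points T') :
    ∃ (A : Type u) (_ : CommRing A) (I : Ideal A) (str : Spec (.of A) ⟶ S)
      (c : (yon S).obj (Over.mk str) ⟶ T')
      (fst : (yon S).obj (Over.mk (Spec.map (CommRingCat.ofHom (Ideal.Quotient.mk I)) ≫ str)) ⟶ T)
      (v : Spec (.of A)),
      I ≤ nilradical A ∧ RepWith @Etale c ∧ IsPullback fst ((yon S).map (jOver I str)) i c ∧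
        Points.ofPt c v = t' := by
  obtain ⟨V₀, p', hpe, hps⟩ := hT'.atlas
  obtain ⟨v₀, hv₀⟩ := H52.surjective_ofPt_of_surjective p' hps t'
  obtain ⟨_, ⟨O, hO, rfl⟩, hvO, -⟩ :=
    V₀.left.isBasis_affineOpens.exists_subset_of_mem_open (Set.mem_univ v₀) isOpen_univ
  have hc₀ : RepWith @Etale ((yon S).map (H50.opensOverι V₀ O) ≫ p') :=
    repWith_etale_opensOverι_comp p' hpe O
  have hr := hi.rep
  have sq₀ := hr.isPullback ((yon S).map (H50.opensOverι V₀ O) ≫ p')
  have hth : thick (hr.snd ((yon S).map (H50.opensOverι V₀ O) ≫ p')).left :=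
    hi.property _ _ _ sq₀
  have hVaff : IsAffine (H50.opensOver V₀ O).left := hO
  obtain ⟨A, _, I, str, eV, eW, hc⟩ := exists_quot_data
    (hr.snd ((yon S).map (H50.opensOverι V₀ O) ≫ p')) hVaff hth.1
  -- surjectivity of `Spec (A ⧸ I) ⟶ Spec A`
  have hjl : Spec.map (CommRingCat.ofHom (Ideal.Quotient.mk I)) =
      eW.hom.left ≫ (hr.snd ((yon S).map (H50.opensOverι V₀ O) ≫ p')).left ≫ eV.inv.left := by
    have h1 : jOver I str = eW.hom ≫ hr.snd ((yon S).map (H50.opensOverι V₀ O) ≫ p') ≫ eV.inv := by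
      rw [← Category.assoc, hc, Category.assoc, Iso.hom_inv_id, Category.comp_id]
    have := congrArg CommaMorphism.left h1
    simpa using this
  have hsurj : Function.Surjective (Spec.map (CommRingCat.ofHom (Ideal.Quotient.mk I))) := by
    rw [hjl]
    haveI : IsIso eW.hom.left := inferInstanceAs (IsIso ((Over.forget S).map eW.hom))
    haveI : IsIso eV.inv.left := inferInstanceAs (IsIso ((Over.forget S).map eV.inv))
    haveI := hth.2
    exact (inferInstance : Surjective (eW.hom.left ≫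
      (hr.snd ((yon S).map (H50.opensOverι V₀ O) ≫ p')).left ≫ eV.inv.left)).surj
  -- the pullback square
  have sqI : IsPullback ((yon S).map eW.hom) ((yon S).map (jOver I str))
      ((yon S).map (hr.snd ((yon S).map (H50.opensOverι V₀ O) ≫ p'))) ((yon S).map eV.hom) :=
    IsPullback.of_horiz_isIso ⟨by
      rw [← CategoryTheory.Functor.map_comp, ← CategoryTheory.Functor.map_comp, hc]⟩
  have sq := sqI.paste_horiz sq₀
  refine ⟨A, inferInstance, I, str, (yon S).map eV.hom ≫ (yon S).map (H50.opensOverι V₀ O) ≫ p',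
    (yon S).map eW.hom ≫ hr.fst ((yon S).map (H50.opensOverι V₀ O) ≫ p'),
    eV.inv.left ⟨v₀, hvO⟩, le_nilradical_of_surjective I hsurj,
    MorphismProperty.comp_mem _ _ _ ((repWith_yon_map_iff _ _).2
      (by haveI : IsIso eV.hom.left := inferInstanceAs (IsIso ((Over.forget S).map eV.hom))
          infer_instance)) hc₀, sq, ?_⟩
  rw [H52.ofPt_yon_map_comp, H52.ofPt_yon_map_comp, ← hv₀]
  congr 1
  have h2 : eV.hom.left (eV.inv.left ⟨v₀, hvO⟩) = ⟨v₀, hvO⟩ := by
    rw [← Scheme.Hom.comp_apply, ← Over.comp_left, Iso.inv_hom_id]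
    rfl
  rw [h2]
  rfl

end Groth.Agent.H19.Inf
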