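import Groth.Agent.H19.SmoothLoc
import Groth.Agent.H19.ThickChart
import Groth.Agent.H19.InfBC
import Groth.Agent.H19.InfGlue
import Groth.Agent.H52.LocPBC
import Groth.Agent.H52.EtLocalInst

/-!
# helper19: smooth morphisms of algebraic spaces lift etale locally along thickenings
-/

set_option autoImplicit false
universe u
open CategoryTheory CategoryTheory.Limits AlgebraicGeometry Opposite

namespace Groth.Agent.H19.Inf

open AlgSp

variable {S : Scheme.{u}}

/-- For a smooth morphism `f : X ⟶ Y` of algebraic spaces, a thickening `i : T ⟶ T'` and a commutative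
square `a ≫ f = i ≫ b`, the dotted arrow exists etale locally on `T'` (scheme valued points form of the
compatibility with `a`). -/
theorem exists_smooth_local_lift {X Y T T' : Sp S} (hX : IsAlgSpace X) (hY : IsAlgSpace Y)
    (hT' : IsAlgSpace T') (f : X ⟶ Y) (hf : LocP @Smooth f) (i : T ⟶ T') (hi : IsThickMor i)
    (a : T ⟶ X) (b : T' ⟶ Y) (w : a ≫ f = i ≫ b) (t' : Points T') :
    ∃ (V : Over S) (e : (yon S).obj V ⟶ T') (ℓ : (yon S).obj V ⟶ X),
      RepWith @Etale e ∧ t' ∈ Set.range (Points.ofPt e) ∧ ℓ ≫ f = e ≫ b ∧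
      ∀ (Q : Over S) (q : Q ⟶ V) (τ : (yon S).obj Q ⟶ T), τ ≫ i = (yon S).map q ≫ e →
        (yon S).map q ≫ ℓ = τ ≫ a := by
  -- the affine chart of the thickening
  obtain ⟨A, _, I, str, c, fst, v, hI, hc, sq, hv⟩ := exists_thick_chart hT' i hi t'
  -- the atlas of `X`
  obtain ⟨U, p, hpe, hps⟩ := hX.atlas
  have hf₀ : LocP @Smooth (p ≫ f) := H52.locP_chart_comp hf p hpe
  -- the base change of `h_U ⟶ Y` to `Spec A`
  have hrE := hY.representable_from_yon (p ≫ f)
  have sqE := hrE.isPullback (c ≫ b)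
  obtain ⟨a', ha'⟩ := (yon S).map_surjective (hrE.fst (c ≫ b))
  have sqE' : IsPullback ((yon S).map a') ((yon S).map (hrE.snd (c ≫ b))) (p ≫ f) (c ≫ b) := by
    rw [ha']; exact sqE
  have hsS : Smooth (hrE.snd (c ≫ b)).left :=
    H52.P_snd_of_locP H52.etLocal_smooth hY (p ≫ f) (c ≫ b) a' (hrE.snd (c ≫ b)) sqE' hf₀
  -- the pullback of the atlas of `X` to `Spec (A ⧸ I)`
  have hp := hpe.rep
  have sqW := hp.isPullback (fst ≫ a)
  obtain ⟨γ₁, hγ₁⟩ := (yon S).map_surjective (hp.fst (fst ≫ a))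
  have hψE : Etale (hp.snd (fst ≫ a)).left := hpe.property _ _ _ sqW
  have hψS : Surjective (hp.snd (fst ≫ a)).left := hps.property _ _ _ sqW
  -- the comparison `W₁ ⟶ E`
  have hcomm : (yon S).map γ₁ ≫ p ≫ f =
      (yon S).map (hp.snd (fst ≫ a) ≫ jOver I str) ≫ c ≫ b := by
    calc (yon S).map γ₁ ≫ p ≫ f
        = (hp.fst (fst ≫ a) ≫ p) ≫ f := by rw [hγ₁, Category.assoc]
      _ = ((yon S).map (hp.snd (fst ≫ a)) ≫ fst ≫ a) ≫ f := by rw [sqW.w]
      _ = (yon S).map (hp.snd (fst ≫ a)) ≫ fst ≫ a ≫ f := by simp only [Category.assoc]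
      _ = (yon S).map (hp.snd (fst ≫ a)) ≫ fst ≫ i ≫ b := by rw [w]
      _ = (yon S).map (hp.snd (fst ≫ a)) ≫ (fst ≫ i) ≫ b := by simp only [Category.assoc]
      _ = (yon S).map (hp.snd (fst ≫ a)) ≫ ((yon S).map (jOver I str) ≫ c) ≫ b := by rw [sq.w]
      _ = _ := by rw [CategoryTheory.Functor.map_comp]; simp only [Category.assoc]
  obtain ⟨δ, hδ⟩ := (yon S).map_surjective (sqE'.lift _ _ hcomm)
  have hδ1 : δ ≫ a' = γ₁ := by
    apply (yon S).map_injective
    rw [CategoryTheory.Functor.map_comp, hδ]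
    exact sqE'.lift_fst _ _ _
  have hδ2 : δ ≫ hrE.snd (c ≫ b) = hp.snd (fst ≫ a) ≫ jOver I str := by
    apply (yon S).map_injective
    rw [CategoryTheory.Functor.map_comp, hδ]
    exact sqE'.lift_snd _ _ _
  have hδ2l : δ.left ≫ (hrE.snd (c ≫ b)).left =
      (hp.snd (fst ≫ a)).left ≫ Spec.map (CommRingCat.ofHom (Ideal.Quotient.mk I)) := by
    have := congrArg CommaMorphism.left hδ2
    simpa using this
  -- the point
  have hsurjI : Function.Surjective (Spec.map (CommRingCat.ofHom (Ideal.Quotient.mk I))) := by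
    haveI : IsClosedImmersion (Spec.map (CommRingCat.ofHom (Ideal.Quotient.mk I))) :=
      IsClosedImmersion.spec_of_surjective _ Ideal.Quotient.mk_surjective
    have hth : thick (jOver I str).left := by
      have := hi.property c fst (jOver I str) sq
      exact this
    exact hth.2.surj
  obtain ⟨τ₀, hτ₀⟩ := hsurjI v
  obtain ⟨w₁, hw₁⟩ := hψS.surj τ₀
  -- the local lift
  obtain ⟨C, _, φ, l₀, υ₀, y₀, hφ, hl₀, hυ₀, hlυ, hy₀⟩ :=
    exists_local_smooth_lift I hI (hrE.snd (c ≫ b)).left hsS (hp.snd (fst ≫ a)).left hψE δ.left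
      hδ2l w₁
  have hφE : Etale (Spec.map (CommRingCat.ofHom φ)) :=
    (HasRingHomProperty.Spec_iff (P := @Etale)).2 hφ
  -- morphisms over `S`
  have hlw : l₀ ≫ (hrE.pullback (c ≫ b)).hom = Spec.map (CommRingCat.ofHom φ) ≫ str := by
    rw [← Over.w (hrE.snd (c ≫ b)), ← Category.assoc, hl₀]
    rfl
  let lO : cV str φ ⟶ hrE.pullback (c ≫ b) := Over.homMk l₀ hlw
  have hυw : υ₀ ≫ (hp.pullback (fst ≫ a)).hom =
      Spec.map (CommRingCat.ofHom (Ideal.Quotient.mk (I.map φ))) ≫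
        Spec.map (CommRingCat.ofHom φ) ≫ str := by
    rw [← Over.w (hp.snd (fst ≫ a)), ← Category.assoc, hυ₀]
    have e1 := spec_quotientMap_comm I φ
    calc Spec.map (CommRingCat.ofHom (Ideal.quotientMap (I.map φ) φ Ideal.le_comap_map)) ≫
          (Spec.map (CommRingCat.ofHom (Ideal.Quotient.mk I)) ≫ str)
        = (Spec.map (CommRingCat.ofHom (Ideal.quotientMap (I.map φ) φ Ideal.le_comap_map)) ≫
            Spec.map (CommRingCat.ofHom (Ideal.Quotient.mk I))) ≫ str :=
          (Category.assoc _ _ _).symm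
      _ = _ := by rw [e1, Category.assoc]
  let υO : Over.mk (Spec.map (CommRingCat.ofHom (Ideal.Quotient.mk (I.map φ))) ≫
      Spec.map (CommRingCat.ofHom φ) ≫ str) ⟶ hp.pullback (fst ≫ a) := Over.homMk υ₀ hυw
  have hlO : lO ≫ hrE.snd (c ≫ b) = cg str φ := by
    apply Over.OverMorphism.ext
    simp only [Over.comp_left, Over.homMk_left, lO]
    exact hl₀
  have hυO : υO ≫ hp.snd (fst ≫ a) = ct I str φ := by
    apply Over.OverMorphism.ext
    simp only [Over.comp_left, Over.homMk_left, υO, ct_left]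
    exact hυ₀
  have hjl : jOver (I.map φ) (Spec.map (CommRingCat.ofHom φ) ≫ str) ≫ lO = υO ≫ δ := by
    apply Over.OverMorphism.ext
    simp only [Over.comp_left, Over.homMk_left, lO, υO]
    exact hlυ
  refine ⟨cV str φ, (yon S).map (cg str φ) ≫ c, (yon S).map lO ≫ (yon S).map a' ≫ p,
    MorphismProperty.comp_mem _ _ _ ((repWith_yon_map_iff _ _).2 hφE) hc, ?_, ?_, ?_⟩
  · -- the point
    refine ⟨Spec.map (CommRingCat.ofHom (Ideal.Quotient.mk (I.map φ))) y₀, ?_⟩
    rw [H52.ofPt_yon_map_comp, ← hv]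
    congr 1
    have e1 := spec_quotientMap_comm I φ
    change (Spec.map (CommRingCat.ofHom φ))
      ((Spec.map (CommRingCat.ofHom (Ideal.Quotient.mk (I.map φ)))) y₀) = v
    rw [← Scheme.Hom.comp_apply, ← e1, Scheme.Hom.comp_apply, ← hυ₀, Scheme.Hom.comp_apply, hy₀,
      hw₁, hτ₀]
  · -- over `Y`
    calc ((yon S).map lO ≫ (yon S).map a' ≫ p) ≫ f
        = (yon S).map lO ≫ (yon S).map a' ≫ p ≫ f := by simp only [Category.assoc]
      _ = (yon S).map lO ≫ (yon S).map (hrE.snd (c ≫ b)) ≫ c ≫ b := by rw [sqE'.w]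
      _ = ((yon S).map lO ≫ (yon S).map (hrE.snd (c ≫ b))) ≫ c ≫ b :=
          (Category.assoc _ _ _).symm
      _ = (yon S).map (cg str φ) ≫ c ≫ b := by rw [← CategoryTheory.Functor.map_comp, hlO]
      _ = _ := (Category.assoc _ _ _).symm
  · -- compatibility with `a`
    intro Q q τ hτ
    have hτ' : τ ≫ i = (yon S).map (q ≫ cg str φ) ≫ c := by
      rw [hτ, CategoryTheory.Functor.map_comp, Category.assoc]
    obtain ⟨μ, hμ⟩ := (yon S).map_surjective (sq.lift τ ((yon S).map (q ≫ cg str φ)) hτ')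
    have hμ1 : (yon S).map μ ≫ fst = τ := by rw [hμ]; exact sq.lift_fst _ _ _
    have hμ2 : μ ≫ jOver I str = q ≫ cg str φ := by
      apply (yon S).map_injective
      rw [CategoryTheory.Functor.map_comp, hμ]
      exact sq.lift_snd _ _ _
    obtain ⟨r, hr1, hr2⟩ := bc_factor I str φ μ q hμ2
    calc (yon S).map q ≫ (yon S).map lO ≫ (yon S).map a' ≫ p
        = (yon S).map ((r ≫ jOver (I.map φ) (Spec.map (CommRingCat.ofHom φ) ≫ str)) ≫ lO) ≫
            (yon S).map a' ≫ p := by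
          rw [hr1, CategoryTheory.Functor.map_comp, Category.assoc]
      _ = (yon S).map (r ≫ υO ≫ δ) ≫ (yon S).map a' ≫ p := by rw [Category.assoc, hjl]
      _ = (yon S).map (r ≫ υO) ≫ (yon S).map (δ ≫ a') ≫ p := by
          simp only [CategoryTheory.Functor.map_comp, Category.assoc]
      _ = (yon S).map (r ≫ υO) ≫ hp.fst (fst ≫ a) ≫ p := by rw [hδ1, hγ₁]
      _ = (yon S).map (r ≫ υO) ≫ (yon S).map (hp.snd (fst ≫ a)) ≫ fst ≫ a := by rw [sqW.w]
      _ = (yon S).map ((r ≫ υO) ≫ hp.snd (fst ≫ a)) ≫ fst ≫ a := by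
          simp only [CategoryTheory.Functor.map_comp, Category.assoc]
      _ = (yon S).map μ ≫ fst ≫ a := by rw [Category.assoc, hυO, hr2]
      _ = τ ≫ a := by rw [← Category.assoc, hμ1]

end Groth.Agent.H19.Inf
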