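import Mathlib

/-!
# helper19: smooth algebras lift along nil ideals

`exists_lift_of_nil`: for a smooth `R`-algebra `B`, an `R`-algebra `C` and an ideal `J` of `C` all of
whose elements are nilpotent, every `R`-algebra map `B → C ⧸ J` lifts to `B → C`.  (Formal smoothness
gives this for nilpotent `J`; finite presentation reduces to a finitely generated subideal.)
-/

set_option autoImplicit false
universe u

namespace Groth.Agent.H19.SmoothNil

open Function

theorem exists_lift_of_nil {R B C : Type u} [CommRing R] [CommRing B] [CommRing C] [Algebra R B]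
    [Algebra R C] [Algebra.FormallySmooth R B] [Algebra.FinitePresentation R B] (J : Ideal C)
    (hJ : ∀ x ∈ J, IsNilpotent x) (g : B →ₐ[R] C ⧸ J) :
    ∃ σ : B →ₐ[R] C, (Ideal.Quotient.mkₐ R J).comp σ = g := by
  obtain ⟨n, f, hf, hK⟩ := Algebra.FinitePresentation.out (R := R) (A := B)
  -- lifts of the images of the variables
  choose c hc using fun i : Fin n => Ideal.Quotient.mk_surjective (g (f (MvPolynomial.X i)))
  let φ : MvPolynomial (Fin n) R →ₐ[R] C := MvPolynomial.aeval c
  have hφ : (Ideal.Quotient.mkₐ R J).comp φ = g.comp f := by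
    apply MvPolynomial.algHom_ext
    intro i
    simp only [AlgHom.comp_apply, φ, MvPolynomial.aeval_X, Ideal.Quotient.mkₐ_eq_mk]
    exact hc i
  -- the finitely generated subideal
  let J₀ : Ideal C := (RingHom.ker f.toRingHom).map φ.toRingHom
  have hJ₀fg : J₀.FG := hK.map _
  have hJ₀le : J₀ ≤ J := by
    rw [Ideal.map_le_iff_le_comap]
    intro x hx
    rw [Ideal.mem_comap, ← Ideal.Quotient.eq_zero_iff_mem]
    have h1 := AlgHom.congr_fun hφ x
    simp only [AlgHom.comp_apply, Ideal.Quotient.mkₐ_eq_mk] at h1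
    have hx' : f x = 0 := hx
    change Ideal.Quotient.mk J (φ x) = 0
    rw [h1, hx', map_zero]
  have hJ₀nil : IsNilpotent J₀ := by
    rw [hJ₀fg.isNilpotent_iff_le_nilradical]
    intro x hx
    exact hJ x (hJ₀le hx)
  -- the induced map `B → C ⧸ J₀`
  have hker : RingHom.ker f.toRingHom ≤
      RingHom.ker ((Ideal.Quotient.mkₐ R J₀).comp φ).toRingHom := by
    intro x hx
    rw [RingHom.mem_ker]
    change Ideal.Quotient.mk J₀ (φ x) = 0
    rw [Ideal.Quotient.eq_zero_iff_mem]
    exact Ideal.mem_map_of_mem _ hx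
  let g₀ : B →ₐ[R] C ⧸ J₀ := AlgHom.liftOfSurjective f hf ((Ideal.Quotient.mkₐ R J₀).comp φ) hker
  have hg₀ : g₀.comp f = (Ideal.Quotient.mkₐ R J₀).comp φ := AlgHom.liftOfSurjective_comp _ _ _ _
  obtain ⟨σ, hσ⟩ := Algebra.FormallySmooth.exists_lift J₀ hJ₀nil g₀
  refine ⟨σ, ?_⟩
  -- check on the generators, using surjectivity of `f`
  apply AlgHom.ext
  intro b
  obtain ⟨x, rfl⟩ := hf b
  have h1 : Ideal.Quotient.mk J₀ (σ (f x)) = Ideal.Quotient.mk J₀ (φ x) := by
    have := AlgHom.congr_fun hσ (f x)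
    simp only [AlgHom.comp_apply, Ideal.Quotient.mkₐ_eq_mk] at this
    rw [this]
    have h2 := AlgHom.congr_fun hg₀ x
    simpa only [AlgHom.comp_apply, Ideal.Quotient.mkₐ_eq_mk] using h2
  have h3 : σ (f x) - φ x ∈ J := hJ₀le (by
    rw [← Ideal.Quotient.eq_zero_iff_mem, map_sub, h1, sub_self])
  have h4 : Ideal.Quotient.mk J (σ (f x)) = Ideal.Quotient.mk J (φ x) := by
    rw [← sub_eq_zero, ← map_sub, Ideal.Quotient.eq_zero_iff_mem]
    exact h3
  have h5 := AlgHom.congr_fun hφ x
  simp only [AlgHom.comp_apply, Ideal.Quotient.mkₐ_eq_mk] at h5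
  simp only [AlgHom.comp_apply, Ideal.Quotient.mkₐ_eq_mk]
  rw [h4, h5]

/-- Ring homomorphism form of `exists_lift_of_nil`. -/
theorem exists_ringHom_lift_of_nil {A B C : Type u} [CommRing A] [CommRing B] [CommRing C]
    (ρ : A →+* B) (hρ : ρ.Smooth) (φ : A →+* C) (J : Ideal C) (hJ : ∀ x ∈ J, IsNilpotent x)
    (g : B →+* C ⧸ J) (hg : g.comp ρ = (Ideal.Quotient.mk J).comp φ) :
    ∃ σ : B →+* C, σ.comp ρ = φ ∧ (Ideal.Quotient.mk J).comp σ = g := by
  letI := ρ.toAlgebra
  letI := φ.toAlgebra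
  haveI : Algebra.Smooth A B := hρ
  let g' : B →ₐ[A] C ⧸ J :=
    { g with
      commutes' := fun r => by
        have := RingHom.congr_fun hg r
        exact this }
  obtain ⟨σ, hσ⟩ := exists_lift_of_nil J hJ g'
  refine ⟨σ.toRingHom, ?_, ?_⟩
  · ext r
    exact σ.commutes r
  · ext b
    have := AlgHom.congr_fun hσ b
    simpa [g'] using this

end Groth.Agent.H19.SmoothNil
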