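import Groth.Agent.H19.InfEt
import Groth.Agent.H19.SmoothNil

/-!
# helper19: etale-local lifting for a smooth morphism along a nil thickening of an affine scheme

`exists_local_smooth_lift` (scheme level): for a smooth `s : E ⟶ Spec A`, a nil ideal `I` of `A`, an etale
`ψ : W₁ ⟶ Spec (A ⧸ I)` and `δ : W₁ ⟶ E` over `Spec A`, around every point of `W₁` there is an etale
`A`-algebra `C`, a morphism `Spec C ⟶ E` over `Spec A` and `Spec (C ⧸ I C) ⟶ W₁` compatible with `δ`.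
-/

set_option autoImplicit false
universe u
open CategoryTheory CategoryTheory.Limits AlgebraicGeometry Opposite

namespace Groth.Agent.H19.Inf

theorem map_le_nilradical {A C : Type u} [CommRing A] [CommRing C] (I : Ideal A) (φ : A →+* C)
    (hI : I ≤ nilradical A) : ∀ x ∈ I.map φ, IsNilpotent x := by
  have h : I.map φ ≤ nilradical C := by
    rw [Ideal.map_le_iff_le_comap]
    intro x hx
    rw [Ideal.mem_comap, mem_nilradical]
    exact (mem_nilradical.1 (hI hx)).map φ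
  exact fun x hx => mem_nilradical.1 (h hx)

theorem exists_local_smooth_lift {A : Type u} [CommRing A] (I : Ideal A) (hI : I ≤ nilradical A)
    {E W₁ : Scheme.{u}} (s : E ⟶ Spec (.of A)) (hs : Smooth s)
    (ψ : W₁ ⟶ Spec (.of (A ⧸ I))) (hψ : Etale ψ) (δ : W₁ ⟶ E)
    (hδ : δ ≫ s = ψ ≫ Spec.map (CommRingCat.ofHom (Ideal.Quotient.mk I))) (w₁ : W₁) :
    ∃ (C : Type u) (_ : CommRing C) (φ : A →+* C) (l : Spec (.of C) ⟶ E)
      (υ : Spec (.of (C ⧸ I.map φ)) ⟶ W₁) (y₀ : Spec (.of (C ⧸ I.map φ))),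
      φ.Etale ∧ l ≫ s = Spec.map (CommRingCat.ofHom φ) ∧
      υ ≫ ψ = Spec.map (CommRingCat.ofHom (Ideal.quotientMap (I.map φ) φ Ideal.le_comap_map)) ∧
      Spec.map (CommRingCat.ofHom (Ideal.Quotient.mk (I.map φ))) ≫ l = υ ≫ δ ∧ υ y₀ = w₁ := by
  -- affine opens
  obtain ⟨_, ⟨OB, hOB, rfl⟩, hδw, -⟩ :=
    E.isBasis_affineOpens.exists_subset_of_mem_open (Set.mem_univ (δ w₁)) isOpen_univ
  have hw₁ : w₁ ∈ δ ⁻¹ᵁ OB := hδw
  obtain ⟨_, ⟨OC, hOC, rfl⟩, hwC, hCB⟩ :=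
    W₁.isBasis_affineOpens.exists_subset_of_mem_open hw₁ (δ ⁻¹ᵁ OB).isOpen
  have hrangeC : Set.range hOC.fromSpec = (OC : Set _) := hOC.range_fromSpec
  have hrangeB : Set.range hOB.fromSpec = (OB : Set _) := hOB.range_fromSpec
  -- the etale ring map `A ⧸ I → C₀`
  obtain ⟨ψ₀, hψ₀⟩ : ∃ ψ₀ : Spec (.of Γ(W₁, OC)) ⟶ Spec (.of (A ⧸ I)),
      ψ₀ = hOC.fromSpec ≫ ψ := ⟨_, rfl⟩
  have hψE : Etale ψ₀ := by
    haveI := hψ
    rw [hψ₀]
    infer_instance
  have hρ₀ : (Spec.preimage ψ₀).hom.Etale := by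
    have : Etale (Spec.map (Spec.preimage ψ₀)) := by rw [Spec.map_preimage]; exact hψE
    exact (HasRingHomProperty.Spec_iff (P := @Etale)).1 this
  obtain ⟨C, _, φ, θ, hφ, hθ, hcomp⟩ := exists_etale_lift I (Spec.preimage ψ₀).hom hρ₀
  -- the smooth ring map `A → B`
  obtain ⟨sB, hsB⟩ : ∃ sB : Spec (.of Γ(E, OB)) ⟶ Spec (.of A), sB = hOB.fromSpec ≫ s :=
    ⟨_, rfl⟩
  have hsBS : Smooth sB := by
    haveI := hs
    rw [hsB]
    infer_instance
  have hρ : (Spec.preimage sB).hom.Smooth := by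
    have : Smooth (Spec.map (Spec.preimage sB)) := by rw [Spec.map_preimage]; exact hsBS
    exact (HasRingHomProperty.Spec_iff (P := @Smooth)).1 this
  -- the map `Spec C₀ ⟶ Spec B`
  have hsub : Set.range (hOC.fromSpec ≫ δ) ⊆ Set.range hOB.fromSpec := by
    rintro _ ⟨y, rfl⟩
    rw [hrangeB]
    have hy : hOC.fromSpec y ∈ (OC : Set _) := by rw [← hrangeC]; exact ⟨y, rfl⟩
    exact hCB hy
  obtain ⟨κ, hκ⟩ : ∃ κ : Spec (.of Γ(W₁, OC)) ⟶ Spec (.of Γ(E, OB)),
      κ ≫ hOB.fromSpec = hOC.fromSpec ≫ δ :=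
    ⟨IsOpenImmersion.lift hOB.fromSpec (hOC.fromSpec ≫ δ) hsub, IsOpenImmersion.lift_fac _ _ _⟩
  -- compatibility of ring maps
  have hcompat : (Spec.preimage κ).hom.comp (Spec.preimage sB).hom =
      (Spec.preimage ψ₀).hom.comp (Ideal.Quotient.mk I) := by
    have h1 : Spec.map (Spec.preimage sB ≫ Spec.preimage κ) =
        Spec.map (CommRingCat.ofHom (Ideal.Quotient.mk I) ≫ Spec.preimage ψ₀) := by
      rw [Spec.map_comp, Spec.map_comp, Spec.map_preimage, Spec.map_preimage, Spec.map_preimage,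
        hsB, ← Category.assoc, hκ, Category.assoc, hδ, hψ₀, Category.assoc]
    have h2 := Spec.map_injective h1
    have h3 := congrArg CommRingCat.Hom.hom h2
    simpa using h3
  -- the lifting problem
  have hg : ((θ.comp (Spec.preimage κ).hom).comp (Spec.preimage sB).hom) =
      (Ideal.Quotient.mk (I.map φ)).comp φ := by
    rw [RingHom.comp_assoc, hcompat, ← RingHom.comp_assoc, hcomp]
    ext x
    simp
  obtain ⟨σ, hσ1, hσ2⟩ := SmoothNil.exists_ringHom_lift_of_nil (Spec.preimage sB).hom hρ φ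
    (I.map φ) (map_le_nilradical I φ hI) (θ.comp (Spec.preimage κ).hom) hg
  have hθiso : IsIso (Spec.map (CommRingCat.ofHom θ)) := by
    haveI : IsIso (CommRingCat.ofHom θ) :=
      (RingEquiv.ofBijective θ hθ).toCommRingCatIso.isIso_hom
    infer_instance
  -- the point
  obtain ⟨y₁, hy₁⟩ : w₁ ∈ Set.range hOC.fromSpec := by rw [hrangeC]; exact hwC
  obtain ⟨y₀, hy₀⟩ := (Spec.map (CommRingCat.ofHom θ)).surjective y₁
  refine ⟨C, inferInstance, φ, Spec.map (CommRingCat.ofHom σ) ≫ hOB.fromSpec,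
    Spec.map (CommRingCat.ofHom θ) ≫ hOC.fromSpec, y₀, hφ, ?_, ?_, ?_, ?_⟩
  · rw [Category.assoc, ← hsB, ← Spec.map_preimage sB, ← Spec.map_comp]
    congr 1
    rw [← CommRingCat.ofHom_hom (Spec.preimage sB), ← CommRingCat.ofHom_comp, hσ1]
  · rw [Category.assoc, ← hψ₀, ← Spec.map_preimage ψ₀, ← Spec.map_comp]
    congr 1
    rw [← CommRingCat.ofHom_hom (Spec.preimage ψ₀), ← CommRingCat.ofHom_comp, hcomp]
  · rw [← Category.assoc, ← Spec.map_comp, ← CommRingCat.ofHom_comp, hσ2, CommRingCat.ofHom_comp,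
      Spec.map_comp, Category.assoc, Category.assoc, ← hκ, CommRingCat.ofHom_hom,
      Spec.map_preimage]
  · rw [Scheme.Hom.comp_apply, hy₀, hy₁]

end Groth.Agent.H19.Inf
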