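import Groth.Prelude.Def_Red
import Groth.Agent.H19.PtSum

/-!
# Commutativity of the kernel of reduction modulo a square-zero ideal
-/

set_option autoImplicit false
universe u
open CategoryTheory MonoidalCategory CartesianMonoidalCategory MonObj AlgebraicGeometry Limits

namespace Groth.Agent.H19.SqZeroComm

open Groth.Agent.H19.PtSum

section core

variable {S : Scheme.{u}} (X : Over S) [MonObj X]
variable {B : CommRingCat.{u}} [IsLocalRing B] (𝒥 : Ideal B) (h𝒥 : 𝒥 * 𝒥 = ⊥) (t : Spec B ⟶ S)

include h𝒥 in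
theorem core (P P' Q : Over.mk t ⟶ X ⊗ X) (c d : Over.mk t ⟶ X)
    (hP : Spec.map (CommRingCat.ofHom (Ideal.Quotient.mk 𝒥)) ≫ P.left =
      Spec.map (CommRingCat.ofHom (Ideal.Quotient.mk 𝒥)) ≫ Q.left)
    (hP' : Spec.map (CommRingCat.ofHom (Ideal.Quotient.mk 𝒥)) ≫ P'.left =
      Spec.map (CommRingCat.ofHom (Ideal.Quotient.mk 𝒥)) ≫ Q.left)
    (hc : ∀ r, IsSum Q.left P.left P'.left r → r ≫ (fst X X).left = c.left)
    (hd : ∀ r, IsSum Q.left P.left P'.left r → r ≫ (snd X X).left = d.left) :
    IsSum (Q ≫ μ[X]).left (P ≫ μ[X]).left (P' ≫ μ[X]).left (c * d).left := by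
  obtain ⟨r, hr⟩ := exists_isSum 𝒥 h𝒥 Q.left P.left P'.left hP hP'
  have e1 := hc r hr
  have e2 := hd r hr
  have w : r ≫ (X ⊗ X).hom = (Over.mk t).hom := by
    rw [← Over.w (fst X X), ← Category.assoc, e1, Over.w c]
  let r' : Over.mk t ⟶ X ⊗ X := Over.homMk r w
  have hr' : r' = lift c d := by
    apply CartesianMonoidalCategory.hom_ext
    · rw [lift_fst]
      apply Over.OverMorphism.ext
      rw [Over.comp_left]
      exact e1
    · rw [lift_snd]
      apply Over.OverMorphism.ext
      rw [Over.comp_left]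
      exact e2
  have hm : (c * d).left = r ≫ (μ[X]).left := by
    rw [Hom.mul_def, ← hr', Over.comp_left]
    rfl
  have := hr.comp (μ[X]).left
  rw [hm]
  simpa only [Over.comp_left] using this

include h𝒥 in
theorem isSum_mul (a b : Over.mk t ⟶ X)
    (ha : Spec.map (CommRingCat.ofHom (Ideal.Quotient.mk 𝒥)) ≫ a.left =
      Spec.map (CommRingCat.ofHom (Ideal.Quotient.mk 𝒥)) ≫ (1 : Over.mk t ⟶ X).left)
    (hb : Spec.map (CommRingCat.ofHom (Ideal.Quotient.mk 𝒥)) ≫ b.left =
      Spec.map (CommRingCat.ofHom (Ideal.Quotient.mk 𝒥)) ≫ (1 : Over.mk t ⟶ X).left) :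
    IsSum (1 : Over.mk t ⟶ X).left a.left b.left (a * b).left ∧
    IsSum (1 : Over.mk t ⟶ X).left a.left b.left (b * a).left := by
  set i := Spec.map (CommRingCat.ofHom (Ideal.Quotient.mk 𝒥)) with hi
  set e : Over.mk t ⟶ X := 1 with he
  -- compatibility of pairs modulo `𝒥`
  have pair : ∀ u v u' v' : Over.mk t ⟶ X, i ≫ u.left = i ≫ u'.left → i ≫ v.left = i ≫ v'.left →
      i ≫ (lift u v).left = i ≫ (lift u' v').left := by
    intro u v u' v' h1 h2
    let ii : Over.mk (i ≫ t) ⟶ Over.mk t := Over.homMk i rfl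
    have e1 : ii ≫ u = ii ≫ u' := Over.OverMorphism.ext (by simpa [ii] using h1)
    have e2 : ii ≫ v = ii ≫ v' := Over.OverMorphism.ext (by simpa [ii] using h2)
    have := congrArg (fun k => k.left) (show ii ≫ lift u v = ii ≫ lift u' v' by
      rw [comp_lift, comp_lift, e1, e2])
    simpa only [Over.comp_left, Over.homMk_left, ii] using this
  constructor
  · have := core X 𝒥 h𝒥 t (lift a e) (lift e b) (lift e e) a b (pair _ _ _ _ ha rfl)
      (pair _ _ _ _ rfl hb) ?_ ?_
    · simpa only [← Hom.mul_def, he, _root_.one_mul, _root_.mul_one] using this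
    · intro r hr
      have := hr.comp (fst X X).left
      simp only [← Over.comp_left, lift_fst] at this
      exact this.eq_left
    · intro r hr
      have := hr.comp (snd X X).left
      simp only [← Over.comp_left, lift_snd] at this
      exact this.eq_right
  · have := core X 𝒥 h𝒥 t (lift e a) (lift b e) (lift e e) b a (pair _ _ _ _ rfl ha)
      (pair _ _ _ _ hb rfl) ?_ ?_
    · simpa only [← Hom.mul_def, he, _root_.one_mul, _root_.mul_one] using this
    · intro r hr
      have := hr.comp (fst X X).left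
      simp only [← Over.comp_left, lift_fst] at this
      exact this.eq_right
    · intro r hr
      have := hr.comp (snd X X).left
      simp only [← Over.comp_left, lift_snd] at this
      exact this.eq_left

end core

section main

variable {R : Type u} [CommRing R] (J : Ideal R)
  (X : Over (Spec (CommRingCat.of R))) [GrpObj X]

theorem left_eq_of_pullback_map_eq_one {B : CommRingCat.{u}} (ψ : CommRingCat.of R ⟶ B)
    (g : Over.mk (Spec.map ψ) ⟶ X)
    (hg : (Over.pullback (Spec.map (CommRingCat.ofHom (Ideal.Quotient.mk J)))).map g = 1) :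
    Spec.map (CommRingCat.ofHom (Ideal.Quotient.mk (J.map ψ.hom))) ≫ g.left =
      Spec.map (CommRingCat.ofHom (Ideal.Quotient.mk (J.map ψ.hom))) ≫
        (1 : Over.mk (Spec.map ψ) ⟶ X).left := by
  set iot := Spec.map (CommRingCat.ofHom (Ideal.Quotient.mk J)) with hiot
  have h0 : pullback.fst (Spec.map ψ) iot ≫ g.left =
      pullback.fst (Spec.map ψ) iot ≫ (1 : Over.mk (Spec.map ψ) ⟶ X).left := by
    have h1 := congrArg (fun v : (Over.pullback iot).obj (Over.mk (Spec.map ψ)) ⟶
        (Over.pullback iot).obj X => v.left ≫ pullback.fst X.hom iot)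
      (hg.trans (Functor.map_one (Over.pullback iot)).symm)
    simp only [Over.pullback, Over.homMk_left, pullback.lift_fst] at h1
    exact h1
  let k : Spec (CommRingCat.of (B ⧸ J.map ψ.hom)) ⟶ pullback (Spec.map ψ) iot :=
    pullback.lift (Spec.map (CommRingCat.ofHom (Ideal.Quotient.mk (J.map ψ.hom))))
      (Spec.map (CommRingCat.ofHom (Ideal.quotientMap (J.map ψ.hom) ψ.hom Ideal.le_comap_map)))
      (by
        rw [hiot, ← Spec.map_comp, ← Spec.map_comp]
        congr 1)
  have hk : k ≫ pullback.fst (Spec.map ψ) iot =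
      Spec.map (CommRingCat.ofHom (Ideal.Quotient.mk (J.map ψ.hom))) := pullback.lift_fst _ _ _
  rw [← hk, Category.assoc, Category.assoc, h0]

include J in
theorem comm_local (hJ : J * J = ⊥) {B : CommRingCat.{u}} [IsLocalRing B]
    (ψ : CommRingCat.of R ⟶ B) (g g' : Over.mk (Spec.map ψ) ⟶ X)
    (hg : (Over.pullback (Spec.map (CommRingCat.ofHom (Ideal.Quotient.mk J)))).map g = 1)
    (hg' : (Over.pullback (Spec.map (CommRingCat.ofHom (Ideal.Quotient.mk J)))).map g' = 1) :
    g * g' = g' * g := by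
  have h𝒥 : J.map ψ.hom * J.map ψ.hom = ⊥ := by
    rw [← Ideal.map_mul, hJ, Ideal.map_bot]
  obtain ⟨s1, s2⟩ := isSum_mul X (J.map ψ.hom) h𝒥 (Spec.map ψ) g g'
    (left_eq_of_pullback_map_eq_one J X ψ g hg) (left_eq_of_pullback_map_eq_one J X ψ g' hg')
  exact Over.OverMorphism.ext (s1.unique s2)

theorem comm (hJ : J * J = ⊥) (Y : Over (Spec (CommRingCat.of R))) (g g' : Y ⟶ X)
    (hg : (Over.pullback (Spec.map (CommRingCat.ofHom (Ideal.Quotient.mk J)))).map g = 1)
    (hg' : (Over.pullback (Spec.map (CommRingCat.ofHom (Ideal.Quotient.mk J)))).map g' = 1) :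
    g * g' = g' * g := by
  apply Over.OverMorphism.ext
  apply hom_ext_of_fromSpecStalk
  intro y
  obtain ⟨ψ, hψ⟩ : ∃ ψ : CommRingCat.of R ⟶ Y.left.presheaf.stalk y,
      Spec.map ψ = Y.left.fromSpecStalk y ≫ Y.hom := ⟨Spec.preimage _, Spec.map_preimage _⟩
  let jj : Over.mk (Spec.map ψ) ⟶ Y := Over.homMk (Y.left.fromSpecStalk y) (by simp [hψ])
  have h1 : (Over.pullback (Spec.map (CommRingCat.ofHom (Ideal.Quotient.mk J)))).map (jj ≫ g) = 1 := by
    rw [Functor.map_comp, hg, MonObj.comp_one]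
  have h2 : (Over.pullback (Spec.map (CommRingCat.ofHom (Ideal.Quotient.mk J)))).map (jj ≫ g') = 1 := by
    rw [Functor.map_comp, hg', MonObj.comp_one]
  have key := comm_local J X hJ ψ (jj ≫ g) (jj ≫ g') h1 h2
  rw [← MonObj.comp_mul, ← MonObj.comp_mul] at key
  have := congrArg (fun k => k.left) key
  simpa only [Over.comp_left, Over.homMk_left, jj] using this

end main

end Groth.Agent.H19.SqZeroComm
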