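import Groth.Agent.H55.TFL.Defs

/-!
# (Q4), (Q5), (Q6) for helper55's S15012 squad: pure module-length lemmas about `len`
(helper19)
-/

set_option autoImplicit false
universe u

namespace Groth.Agent.H19.TFLen

open Groth.Agent.H55.TFL Groth.Agent.H72.CanonDual

/-- `len A B = 0` iff `B ≤ A`. -/
theorem len_eq_zero_iff {R : Type*} [CommRing R] {M : Type*} [AddCommGroup M] [Module R M]
    (A B : Submodule R M) : len A B = 0 ↔ B ≤ A := by
  unfold len
  rw [Module.length_eq_zero_iff, Submodule.Quotient.subsingleton_iff,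
    Submodule.comap_subtype_eq_top]

/-- (Q6) -/
theorem len_map {O : Type u} [CommRing O] {W W' : Type u} [AddCommGroup W] [Module O W]
    [AddCommGroup W'] [Module O W'] (ψ : W ≃ₗ[O] W') (A B : Submodule O W) :
    len (A.map (ψ : W →ₗ[O] W')) (B.map (ψ : W →ₗ[O] W')) = len A B := by
  unfold len
  symm
  refine LinearEquiv.length_eq (Submodule.Quotient.equiv _ _ (ψ.submoduleMap B) ?_)
  ext ⟨x, hx⟩
  simp only [Submodule.mem_map, Submodule.mem_comap, Submodule.subtype_apply]
  constructor
  · rintro ⟨⟨b, hb⟩, hbA, hbx⟩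
    refine ⟨b, hbA, ?_⟩
    have := congrArg Subtype.val hbx
    simpa using this
  · rintro ⟨a, haA, hax⟩
    obtain ⟨b, hbB, hbx⟩ := hx
    have hab : a = b := ψ.injective (by
      change (ψ : W →ₗ[O] W') a = (ψ : W →ₗ[O] W') b
      rw [hax, hbx])
    subst hab
    refine ⟨⟨a, hbB⟩, haA, ?_⟩
    apply Subtype.ext
    simpa using hax

/-- (Q5) -/
theorem len_pi {O : Type u} [CommRing O] {W : Type u} [AddCommGroup W] [Module O W] (n : ℕ)
    (A B : Submodule O W) (h : A ≤ B) :
    len (Submodule.pi Set.univ (fun _ : Fin n => A)) (Submodule.pi Set.univ (fun _ : Fin n => B))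
      = n • len A B := by
  unfold len
  set PB : Submodule O (Fin n → W) := Submodule.pi Set.univ (fun _ : Fin n => B) with hPB
  set PA : Submodule O (Fin n → W) := Submodule.pi Set.univ (fun _ : Fin n => A) with hPA
  let F : ↥PB →ₗ[O] (Fin n → ↥B ⧸ Submodule.comap B.subtype A) :=
    { toFun := fun x i => Submodule.Quotient.mk ⟨x.1 i, x.2 i (Set.mem_univ i)⟩
      map_add' := by intro x y; rfl
      map_smul' := by intro c x; rfl }
  have hFsurj : Function.Surjective F := by
    intro q
    choose b hb using fun i => Submodule.Quotient.mk_surjective _ (q i)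
    refine ⟨⟨fun i => (b i).1, fun i _ => (b i).2⟩, ?_⟩
    funext i
    exact hb i
  have hker : LinearMap.ker F = Submodule.comap PB.subtype PA := by
    ext x
    rw [LinearMap.mem_ker, Submodule.mem_comap]
    constructor
    · intro hx i _
      have := congrFun hx i
      change Submodule.Quotient.mk (p := Submodule.comap B.subtype A)
        (⟨x.1 i, x.2 i (Set.mem_univ i)⟩ : ↥B) = 0 at this
      rw [Submodule.Quotient.mk_eq_zero] at this
      exact this
    · intro hx
      funext i
      change Submodule.Quotient.mk (p := Submodule.comap B.subtype A)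
        (⟨x.1 i, x.2 i (Set.mem_univ i)⟩ : ↥B) = 0
      rw [Submodule.Quotient.mk_eq_zero]
      exact hx i (Set.mem_univ i)
  have e : (↥PB ⧸ Submodule.comap PB.subtype PA) ≃ₗ[O]
      (Fin n → ↥B ⧸ Submodule.comap B.subtype A) :=
    (Submodule.quotEquivOfEq _ _ hker.symm).trans (F.quotKerEquivOfSurjective hFsurj)
  rw [e.length_eq, Module.length_pi]
  simp [nsmul_eq_mul]

/-- `len` is monotone in the second variable (above the first). -/
theorem len_le_of_le {R : Type*} [CommRing R] {M : Type*} [AddCommGroup M] [Module R M]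
    (N₁ N₂ N₃ : Submodule R M) (h12 : N₁ ≤ N₂) (h23 : N₂ ≤ N₃) : len N₁ N₂ ≤ len N₁ N₃ := by
  rw [len_add N₁ N₂ N₃ h12 h23]
  exact le_self_add

theorem len_le_of_le' {R : Type*} [CommRing R] {M : Type*} [AddCommGroup M] [Module R M]
    (N₁ N₂ N₃ : Submodule R M) (h12 : N₁ ≤ N₂) (h23 : N₂ ≤ N₃) : len N₂ N₃ ≤ len N₁ N₃ := by
  rw [len_add N₁ N₂ N₃ h12 h23]
  exact le_add_self

section Q4

variable {O : Type u} [CommRing O] {B : Type u} [CommRing B] [Algebra O B]
  {V : Type u} [AddCommGroup V] [Module O V] [Module B V] [IsScalarTower O B V]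

/-- Key step: a covering pair of `B`-submodules is a covering pair of `O`-submodules when every
residue field of `B` is hit by `O`. -/
theorem covBy_restrictScalars
    (hres : ∀ (𝔪 : Ideal B) [𝔪.IsMaximal] (a : B), ∃ r : O, a - algebraMap O B r ∈ 𝔪)
    (Λ Λ' : Submodule B V) (hcov : Λ ⋖ Λ') : Λ.restrictScalars O ⋖ Λ'.restrictScalars O := by
  have hle : Λ ≤ Λ' := hcov.le
  have hsimple : IsSimpleModule B (↥Λ' ⧸ Submodule.comap Λ'.subtype Λ) :=
    (covBy_iff_quot_is_simple hle).mp hcov
  obtain ⟨𝔪, h𝔪, ⟨e⟩⟩ := isSimpleModule_iff_quot_maximal.mp hsimple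
  -- `𝔪` kills `Λ'/Λ`
  have hkill : ∀ m ∈ 𝔪, ∀ y ∈ Λ', m • y ∈ Λ := by
    intro m hm y hy
    have h0 : e (m • Submodule.Quotient.mk (p := Submodule.comap Λ'.subtype Λ) ⟨y, hy⟩) = 0 := by
      rw [map_smul]
      obtain ⟨c, hc⟩ := Submodule.Quotient.mk_surjective _
        (e (Submodule.Quotient.mk (p := Submodule.comap Λ'.subtype Λ) ⟨y, hy⟩))
      rw [← hc, ← Submodule.Quotient.mk_smul, Submodule.Quotient.mk_eq_zero]
      exact 𝔪.mul_mem_right _ hm
    have h1 : m • Submodule.Quotient.mk (p := Submodule.comap Λ'.subtype Λ) (⟨y, hy⟩ : ↥Λ') = 0 :=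
      e.injective (by rw [h0, map_zero])
    rw [← Submodule.Quotient.mk_smul, Submodule.Quotient.mk_eq_zero] at h1
    exact h1
  refine ⟨?_, ?_⟩
  · refine lt_of_le_of_ne (fun x hx => hle hx) ?_
    intro heq
    apply hcov.lt.ne
    ext x
    have := congrArg (fun S : Submodule O V => x ∈ S) heq
    simpa using this
  · intro Q hQ1 hQ2
    -- `Q` is `B`-stable
    have hstab : ∀ (b : B) (q : V), q ∈ Q → b • q ∈ Q := by
      intro b q hq
      obtain ⟨r, hr⟩ := hres 𝔪 b
      have hq' : q ∈ Λ' := hQ2.le hq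
      have h1 : (b - algebraMap O B r) • q ∈ Λ := hkill _ hr q hq'
      have h2 : b • q = (b - algebraMap O B r) • q + r • q := by
        rw [sub_smul, algebraMap_smul]; abel
      rw [h2]
      exact Q.add_mem (hQ1.le h1) (Q.smul_mem r hq)
    let Q' : Submodule B V :=
      { carrier := Q
        add_mem' := fun ha hb => Q.add_mem ha hb
        zero_mem' := Q.zero_mem
        smul_mem' := fun b q hq => hstab b q hq }
    have hQ'1 : Λ < Q' := by
      refine lt_of_le_of_ne (fun x hx => hQ1.le hx) ?_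
      intro heq
      apply hQ1.ne
      ext x
      have := congrArg (fun S : Submodule B V => x ∈ S) heq
      exact this ▸ Iff.rfl
    have hQ'2 : Q' < Λ' := by
      refine lt_of_le_of_ne (fun x hx => hQ2.le hx) ?_
      intro heq
      apply hQ2.ne
      ext x
      have := congrArg (fun S : Submodule B V => x ∈ S) heq
      exact this ▸ Iff.rfl
    exact hcov.2 hQ'1 hQ'2

/-- (Q4) intermediate value property for `len`. -/
theorem exists_between_of_len {O : Type u} [CommRing O] {B : Type u} [CommRing B] [Algebra O B]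
    (hres : ∀ (𝔪 : Ideal B) [𝔪.IsMaximal] (a : B), ∃ r : O, a - algebraMap O B r ∈ 𝔪)
    {V : Type u} [AddCommGroup V] [Module O V] [Module B V] [IsScalarTower O B V]
    (Λ₁ Λ₂ : Submodule B V) (h : Λ₁ ≤ Λ₂)
    (hfin : len (Λ₁.restrictScalars O) (Λ₂.restrictScalars O) ≠ ⊤) (j : ℕ)
    (hj : (j : ℕ∞) ≤ len (Λ₁.restrictScalars O) (Λ₂.restrictScalars O)) :
    ∃ Λ : Submodule B V, Λ₁ ≤ Λ ∧ Λ ≤ Λ₂ ∧
      len (Λ₁.restrictScalars O) (Λ.restrictScalars O) = j := by
  induction j with
  | zero =>
    refine ⟨Λ₁, le_rfl, h, ?_⟩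
    rw [Nat.cast_zero, len_eq_zero_iff]
  | succ j ih =>
    have hj' : (j : ℕ∞) ≤ len (Λ₁.restrictScalars O) (Λ₂.restrictScalars O) :=
      le_trans (by exact_mod_cast Nat.le_succ j) hj
    obtain ⟨Λ, h1, h2, hlen⟩ := ih hj'
    have h1' : Λ₁.restrictScalars O ≤ Λ.restrictScalars O := fun x hx => h1 hx
    have h2' : Λ.restrictScalars O ≤ Λ₂.restrictScalars O := fun x hx => h2 hx
    have hadd := len_add _ _ _ h1' h2'
    -- `len Λ Λ₂ ≥ 1`
    have hpos : len (Λ.restrictScalars O) (Λ₂.restrictScalars O) ≠ 0 := by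
      intro h0
      rw [hadd, hlen, h0, add_zero] at hj
      have : (j + 1 : ℕ) ≤ j := by exact_mod_cast hj
      omega
    have hne : ¬ Λ₂ ≤ Λ := by
      intro hle
      apply hpos
      rw [len_eq_zero_iff]
      exact fun x hx => hle hx
    -- choose a `B`-submodule `Λ'` with `Λ < Λ' ≤ Λ₂` of minimal `O`-colength over `Λ`
    let S : Set (Submodule B V) := {Q | Λ < Q ∧ Q ≤ Λ₂}
    have hS : S.Nonempty := ⟨Λ₂, lt_of_le_not_ge h2 hne, le_rfl⟩
    let f : Submodule B V → ℕ∞ := fun Q => len (Λ.restrictScalars O) (Q.restrictScalars O)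
    obtain ⟨Λ', hΛ'S, hmin⟩ := (InvImage.wf f wellFounded_lt).has_min S hS
    obtain ⟨hlt, hle2⟩ := hΛ'S
    have hfinΛ' : len (Λ.restrictScalars O) (Λ'.restrictScalars O) ≠ ⊤ := by
      intro htop
      have h3 : len (Λ.restrictScalars O) (Λ'.restrictScalars O) ≤
          len (Λ.restrictScalars O) (Λ₂.restrictScalars O) :=
        len_le_of_le _ _ _ (fun x hx => hlt.le hx) (fun x hx => hle2 hx)
      have h4 : len (Λ.restrictScalars O) (Λ₂.restrictScalars O) ≤
          len (Λ₁.restrictScalars O) (Λ₂.restrictScalars O) :=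
        len_le_of_le' _ _ _ h1' h2'
      rw [htop, top_le_iff] at h3
      rw [h3, top_le_iff] at h4
      exact hfin h4
    have hcov : Λ ⋖ Λ' := by
      refine ⟨hlt, ?_⟩
      intro Q hQ1 hQ2
      have hQS : Q ∈ S := ⟨hQ1, hQ2.le.trans hle2⟩
      apply hmin Q hQS
      change len (Λ.restrictScalars O) (Q.restrictScalars O) <
        len (Λ.restrictScalars O) (Λ'.restrictScalars O)
      have hadd2 := len_add (Λ.restrictScalars O) (Q.restrictScalars O) (Λ'.restrictScalars O)
        (fun x hx => hQ1.le hx) (fun x hx => hQ2.le hx)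
      have hpos2 : len (Q.restrictScalars O) (Λ'.restrictScalars O) ≠ 0 := by
        rw [Ne, len_eq_zero_iff]
        intro hle
        exact hQ2.not_ge (fun x hx => hle hx)
      have hfinQ : len (Λ.restrictScalars O) (Q.restrictScalars O) ≠ ⊤ := by
        intro htop
        rw [htop, top_add] at hadd2
        exact hfinΛ' hadd2
      rw [hadd2]
      calc len (Λ.restrictScalars O) (Q.restrictScalars O)
          = len (Λ.restrictScalars O) (Q.restrictScalars O) + 0 := (add_zero _).symm
        _ < _ := (ENat.add_lt_add_iff_left hfinQ).mpr (pos_iff_ne_zero.mpr hpos2)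
    have hcovO := covBy_restrictScalars hres Λ Λ' hcov
    have hone : len (Λ.restrictScalars O) (Λ'.restrictScalars O) = 1 := by
      unfold len
      rw [Module.length_eq_one_iff]
      exact (covBy_iff_quot_is_simple hcovO.le).mp hcovO
    refine ⟨Λ', h1.trans hlt.le, hle2, ?_⟩
    rw [len_add _ _ _ h1' (fun x hx => hlt.le hx), hlen, hone]
    push_cast
    rfl

end Q4

end Groth.Agent.H19.TFLen
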