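import Mathlib

set_option autoImplicit false

universe u

open CategoryTheory Limits AlgebraicGeometry

namespace Groth.Agent.H19.TQ_COV

/-- (TQ-COV) the fibre product of two fpqc covers is an fpqc cover. -/
theorem prod_cover {S S₁ S₂ : Scheme.{u}} (f₁ : S₁ ⟶ S) (f₂ : S₂ ⟶ S) [Flat f₁] [Flat f₂]
    [Surjective f₁] [Surjective f₂]
    (h₁ : ∀ V : S.Opens, IsAffineOpen V → ∃ W : S₁.Opens, IsCompact (W : Set S₁) ∧
      f₁.base '' (W : Set S₁) = (V : Set S))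
    (h₂ : ∀ V : S.Opens, IsAffineOpen V → ∃ W : S₂.Opens, IsCompact (W : Set S₂) ∧
      f₂.base '' (W : Set S₂) = (V : Set S)) :
    Flat (pullback.fst f₁ f₂ ≫ f₁) ∧ Surjective (pullback.fst f₁ f₂ ≫ f₁) ∧
      ∀ V : S.Opens, IsAffineOpen V → ∃ W : (pullback f₁ f₂).Opens,
        IsCompact (W : Set ↥(pullback f₁ f₂)) ∧
        (pullback.fst f₁ f₂ ≫ f₁).base '' (W : Set ↥(pullback f₁ f₂)) = (V : Set S) := by
  refine ⟨inferInstance, inferInstance, ?_⟩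
  intro V hV
  obtain ⟨W₁, hW₁c, hW₁⟩ := h₁ V hV
  obtain ⟨W₂, hW₂c, hW₂⟩ := h₂ V hV
  have : CompactSpace W₁ := isCompact_iff_compactSpace.mp hW₁c
  have : CompactSpace W₂ := isCompact_iff_compactSpace.mp hW₂c
  have : IsAffine V := hV
  -- the maps `W_i ⟶ V`
  have hr₁ : Set.range (W₁.ι ≫ f₁).base ⊆ Set.range V.ι.base := by
    rintro _ ⟨x, rfl⟩
    have : f₁.base x.1 ∈ (V : Set S) := by
      rw [← hW₁]; exact ⟨x.1, x.2, rfl⟩
    simp only [Scheme.Opens.range_ι, SetLike.mem_coe]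
    exact this
  have hr₂ : Set.range (W₂.ι ≫ f₂).base ⊆ Set.range V.ι.base := by
    rintro _ ⟨x, rfl⟩
    have : f₂.base x.1 ∈ (V : Set S) := by
      rw [← hW₂]; exact ⟨x.1, x.2, rfl⟩
    simp only [Scheme.Opens.range_ι, SetLike.mem_coe]
    exact this
  let j₁ : (W₁ : Scheme.{u}) ⟶ V := IsOpenImmersion.lift V.ι (W₁.ι ≫ f₁) hr₁
  let j₂ : (W₂ : Scheme.{u}) ⟶ V := IsOpenImmersion.lift V.ι (W₂.ι ≫ f₂) hr₂
  have e₁ : j₁ ≫ V.ι = W₁.ι ≫ f₁ := IsOpenImmersion.lift_fac _ _ _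
  have e₂ : j₂ ≫ V.ι = W₂.ι ≫ f₂ := IsOpenImmersion.lift_fac _ _ _
  have : QuasiCompact j₁ := inferInstance
  have : CompactSpace ↑(pullback j₁ j₂) := inferInstance
  let m : pullback j₁ j₂ ⟶ pullback f₁ f₂ := pullback.map j₁ j₂ f₁ f₂ W₁.ι W₂.ι V.ι e₁ e₂
  have hm : Set.range m.base = (pullback.fst f₁ f₂).base ⁻¹' (W₁ : Set S₁) ∩
      (pullback.snd f₁ f₂).base ⁻¹' (W₂ : Set S₂) := by
    have := Scheme.Pullback.range_map (f := j₁) (g := j₂) f₁ f₂ W₁.ι W₂.ι V.ι e₁ e₂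
    rw [Scheme.Opens.range_ι, Scheme.Opens.range_ι] at this
    exact this
  refine ⟨(pullback.fst f₁ f₂) ⁻¹ᵁ W₁ ⊓ (pullback.snd f₁ f₂) ⁻¹ᵁ W₂, ?_, ?_⟩
  · have : (((pullback.fst f₁ f₂) ⁻¹ᵁ W₁ ⊓ (pullback.snd f₁ f₂) ⁻¹ᵁ W₂ : (pullback f₁ f₂).Opens) :
        Set ↥(pullback f₁ f₂)) = Set.range m.base := by
      rw [hm]; rfl
    rw [this]
    exact isCompact_range m.base.hom.continuous
  · ext v
    constructor
    · rintro ⟨z, hz, rfl⟩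
      rw [← hW₁]
      exact ⟨(pullback.fst f₁ f₂).base z, hz.1, by simp⟩
    · intro hv
      have hv₁ := hv
      rw [← hW₁] at hv₁
      obtain ⟨w₁, hw₁, hw₁v⟩ := hv₁
      have hv₂ := hv
      rw [← hW₂] at hv₂
      obtain ⟨w₂, hw₂, hw₂v⟩ := hv₂
      obtain ⟨z, hz₁, hz₂⟩ := Scheme.Pullback.exists_preimage_pullback w₁ w₂ (hw₁v.trans hw₂v.symm)
      refine ⟨z, ⟨?_, ?_⟩, ?_⟩
      · show (pullback.fst f₁ f₂).base z ∈ (W₁ : Set S₁)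
        rw [hz₁]; exact hw₁
      · show (pullback.snd f₁ f₂).base z ∈ (W₂ : Set S₂)
        rw [hz₂]; exact hw₂
      · simp only [Scheme.Hom.comp_base, TopCat.hom_comp, ContinuousMap.comp_apply]
        rw [hz₁]; exact hw₁v

end Groth.Agent.H19.TQ_COV
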