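import Groth.Prelude.Def_RedSub
import Groth.Agent.H91.KummerKer
import Groth.Agent.H27.DiagHom

set_option autoImplicit false

universe u

open CategoryTheory Limits MonoidalCategory CartesianMonoidalCategory MonObj GrpObj AlgebraicGeometry

namespace Groth.Agent.H19.TQ_DSISO

/-- (TQ-DSISO) an isomorphism of character groups gives an isomorphism of diagonalizable groups. -/
theorem DS_grpIso (X : Scheme.{u}) {N N' : Type} [AddCommGroup N] [AddCommGroup N'] (e : N ≃+ N') :
    Nonempty (Grp.mk (Red.DS X N) ≅ Grp.mk (Red.DS X N')) := by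
  have h1 : Red.DSmap X e.symm.toAddMonoidHom ≫ Red.DSmap X e.toAddMonoidHom = 𝟙 _ := by
    rw [← Groth.Agent.H27.DiagHom.DSmap_comp]
    have : e.symm.toAddMonoidHom.comp e.toAddMonoidHom = AddMonoidHom.id N := by
      ext x; simp
    rw [this, Groth.Agent.H27.DiagHom.DSmap_id]
  have h2 : Red.DSmap X e.toAddMonoidHom ≫ Red.DSmap X e.symm.toAddMonoidHom = 𝟙 _ := by
    rw [← Groth.Agent.H27.DiagHom.DSmap_comp]
    have : e.toAddMonoidHom.comp e.symm.toAddMonoidHom = AddMonoidHom.id N' := by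
      ext x; simp
    rw [this, Groth.Agent.H27.DiagHom.DSmap_id]
  let i : Red.DS X N ≅ Red.DS X N' :=
    ⟨Red.DSmap X e.symm.toAddMonoidHom, Red.DSmap X e.toAddMonoidHom, h1, h2⟩
  have : IsMonHom i.hom := Groth.Agent.H91.KummerKer.dsMap_isMonHom X _
  exact ⟨Grp.mkIso' i⟩

end Groth.Agent.H19.TQ_DSISO
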