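import Mathlib

set_option autoImplicit false

namespace Groth.Agent.H19.TQ_FREE

/-- (TQ-FREE) a subgroup of `ℤ^r` is free of rank `≤ r`. -/
theorem exists_addEquiv_of_le (r : ℕ) (N : AddSubgroup (Fin r → ℤ)) :
    ∃ r' : ℕ, r' ≤ r ∧ Nonempty (N ≃+ (Fin r' → ℤ)) := by
  classical
  let N' : Submodule ℤ (Fin r → ℤ) := AddSubgroup.toIntSubmodule N
  obtain ⟨n, b⟩ := Submodule.basisOfPid (Pi.basisFun ℤ (Fin r)) N'
  refine ⟨n, ?_, ⟨?_⟩⟩
  · have h1 : Module.finrank ℤ N' = n := by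
      rw [Module.finrank_eq_card_basis b, Fintype.card_fin]
    have h2 : Module.finrank ℤ N' ≤ Module.finrank ℤ (Fin r → ℤ) := Submodule.finrank_le N'
    rw [Module.finrank_fin_fun] at h2
    omega
  · let e0 : N ≃+ N' :=
      { toFun := fun x => ⟨x.1, x.2⟩
        invFun := fun x => ⟨x.1, x.2⟩
        left_inv := fun _ => rfl
        right_inv := fun _ => rfl
        map_add' := fun _ _ => rfl }
    exact e0.trans b.equivFun.toAddEquiv

end Groth.Agent.H19.TQ_FREE
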