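import Groth.Prelude.Def_RedSub

set_option autoImplicit false

universe u

open CategoryTheory Limits MonoidalCategory CartesianMonoidalCategory MonObj GrpObj AlgebraicGeometry

namespace Groth.Agent.H19.TQ_K1

/-- (TQ-K1) a kernel gives the quotient square: `G × K ≅ G ×_Q G`, `(g, k) ↦ (g, g·k)`. -/
theorem isPullback_of_isKernel {S : Scheme.{u}} {G K Q : Over S} [GrpObj G] [GrpObj Q]
    (i : K ⟶ G) (q : G ⟶ Q) [IsMonHom q] (hk : AlgGrp.IsKernel i q) :
    IsPullback (fst G K) ((G ◁ i) ≫ μ[G]) q q := by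
  have hk' : IsPullback i (toUnit K) q η[Q] := hk
  have hμ : (G ◁ i) ≫ μ[G] = fst G K * (snd G K ≫ i) := by
    rw [Hom.mul_def]
    congr 1
  have hiq : i ≫ q = 1 := by
    rw [hk'.w, Hom.one_def]
  have comm : fst G K ≫ q = ((G ◁ i) ≫ μ[G]) ≫ q := by
    rw [hμ, MonObj.mul_comp, Category.assoc, hiq, MonObj.comp_one, _root_.mul_one]
  -- the lift
  have key : ∀ {T : Over S} (a b : T ⟶ G), a ≫ q = b ≫ q →
      (a⁻¹ * b) ≫ q = toUnit T ≫ η[Q] := by
    intro T a b h
    rw [MonObj.mul_comp, GrpObj.inv_comp, h, inv_mul_cancel, Hom.one_def]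
  refine IsPullback.mk ⟨comm⟩ ⟨PullbackCone.IsLimit.mk comm
    (fun s => lift s.fst (hk'.lift (s.fst⁻¹ * s.snd) (toUnit _) (key _ _ s.condition)))
    (fun s => by simp) (fun s => ?_) (fun s m h1 h2 => ?_)⟩
  · rw [hμ, MonObj.comp_mul, lift_fst, lift_snd_assoc, hk'.lift_fst, mul_inv_cancel_left]
  · have h3 : (m ≫ snd G K) ≫ i = s.fst⁻¹ * s.snd := by
      rw [hμ, MonObj.comp_mul, h1] at h2
      rw [eq_inv_mul_iff_mul_eq, Category.assoc]
      exact h2
    apply CartesianMonoidalCategory.hom_ext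
    · rw [lift_fst]; exact h1
    · rw [lift_snd]
      apply hk'.hom_ext
      · rw [h3, hk'.lift_fst]
      · exact toUnit_unique _ _

end Groth.Agent.H19.TQ_K1
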