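import Groth.Prelude.Def_RedSub
import Groth.Agent.H91.KummerKer

/-! (TQ-K2) `D` turns a right exact sequence `N → A → M → 0` into a kernel square. -/

set_option autoImplicit false

universe u

open CategoryTheory Limits MonoidalCategory CartesianMonoidalCategory MonObj GrpObj AlgebraicGeometry

namespace Groth.Agent.H19.TQ_K2

open MonoidAlgebra

section Ring

variable (k : Type u) [CommRing k] {N A M : Type} [AddCommGroup N] [AddCommGroup A] [AddCommGroup M]

/-- `k[N] → k[A]`. -/
noncomputable def mapR (ψ : N →+ A) :
    MonoidAlgebra k (Multiplicative N) →+* MonoidAlgebra k (Multiplicative A) :=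
  (mapDomainAlgHom k k (AddMonoidHom.toMultiplicative ψ)).toRingHom

/-- the counit `k[N] → k`. -/
noncomputable def eps (N : Type) [AddCommGroup N] : MonoidAlgebra k (Multiplicative N) →+* k :=
  (Bialgebra.counitAlgHom k (MonoidAlgebra k (Multiplicative N))).toRingHom

theorem mapR_single (ψ : N →+ A) (g : Multiplicative N) (r : k) :
    mapR k ψ (single g r) = single (AddMonoidHom.toMultiplicative ψ g) r := by
  simp [mapR, mapDomain_single]

theorem eps_single (g : Multiplicative N) (r : k) : eps k N (single g r) = r := by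
  simp [eps]

variable {k}
variable {C : Type u} [CommRing C]

/-- the character (valued in units) attached to a ring map out of `k[A]`. -/
noncomputable def chiU (a : MonoidAlgebra k (Multiplicative A) →+* C) : Multiplicative A →* Cˣ :=
  ((a : MonoidAlgebra k (Multiplicative A) →* C).comp (of k (Multiplicative A))).toHomUnits

theorem chiU_val (a : MonoidAlgebra k (Multiplicative A) →+* C) (g : Multiplicative A) :
    (chiU a g : C) = a (single g 1) := rfl

variable (incl : N →+ A) (φ : A →+ M) (hφ : Function.Surjective φ)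
  (hex : ∀ a, φ a = 0 ↔ a ∈ incl.range)

include hex in
theorem ker_le (a : MonoidAlgebra k (Multiplicative A) →+* C)
    (h1 : ∀ n : N, a (single (Multiplicative.ofAdd (incl n)) 1) = 1) :
    (AddMonoidHom.toMultiplicative φ).ker ≤ (chiU a).ker := by
  intro g hg
  rw [MonoidHom.mem_ker] at hg ⊢
  obtain ⟨x, rfl⟩ := Multiplicative.ofAdd.surjective g
  have hx : φ x = 0 := by
    have := congrArg Multiplicative.toAdd hg
    simpa using this
  obtain ⟨n, rfl⟩ := (hex x).1 hx
  exact Units.ext (h1 n)

/-- the induced character of `M`. -/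
noncomputable def chi (a : MonoidAlgebra k (Multiplicative A) →+* C)
    (h1 : ∀ n : N, a (single (Multiplicative.ofAdd (incl n)) 1) = 1) : Multiplicative M →* Cˣ :=
  (AddMonoidHom.toMultiplicative φ).liftOfRightInverse (Function.surjInv
      (f := AddMonoidHom.toMultiplicative φ) (fun m => by
        obtain ⟨x, hx⟩ := hφ (Multiplicative.toAdd m)
        exact ⟨Multiplicative.ofAdd x, by simp [hx]⟩))
    (Function.rightInverse_surjInv _) ⟨chiU a, ker_le incl φ hex a h1⟩

theorem chi_apply (a : MonoidAlgebra k (Multiplicative A) →+* C)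
    (h1 : ∀ n : N, a (single (Multiplicative.ofAdd (incl n)) 1) = 1) (g : Multiplicative A) :
    (chi incl φ hφ hex a h1 (AddMonoidHom.toMultiplicative φ g) : C) = a (single g 1) := by
  unfold chi
  rw [MonoidHom.liftOfRightInverse_comp_apply]
  rfl

/-- the descent map `k[M] → C`. -/
noncomputable def desc (a : MonoidAlgebra k (Multiplicative A) →+* C) (b : k →+* C)
    (h1 : ∀ n : N, a (single (Multiplicative.ofAdd (incl n)) 1) = 1) :
    MonoidAlgebra k (Multiplicative M) →+* C :=
  MonoidAlgebra.liftNCRingHom b ((Units.coeHom C).comp (chi incl φ hφ hex a h1))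
    (fun _ _ => Commute.all _ _)

theorem desc_single (a : MonoidAlgebra k (Multiplicative A) →+* C) (b : k →+* C)
    (h1 : ∀ n : N, a (single (Multiplicative.ofAdd (incl n)) 1) = 1)
    (g : Multiplicative M) (r : k) :
    desc incl φ hφ hex a b h1 (single g r) = b r * (chi incl φ hφ hex a h1 g : C) := by
  simp [desc, MonoidAlgebra.liftNCRingHom]

include hex in
theorem incl_phi (k : Type u) [CommRing k] :
    (mapR k φ).comp (mapR k incl) =
      (algebraMap k (MonoidAlgebra k (Multiplicative M))).comp (eps k N) := by
  refine MonoidAlgebra.ringHom_ext (fun r => ?_) (fun g => ?_)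
  · rw [RingHom.comp_apply, RingHom.comp_apply, mapR_single, mapR_single, eps_single]
    simp [MonoidAlgebra.one_def]
  · obtain ⟨n, rfl⟩ := Multiplicative.ofAdd.surjective g
    rw [RingHom.comp_apply, RingHom.comp_apply, mapR_single, mapR_single, eps_single]
    have : φ (incl n) = 0 := (hex _).2 ⟨n, rfl⟩
    simp [this]

include hφ hex in
theorem isPushout (k : Type u) [CommRing k]
    (hk : ∀ (C : Type u) [CommRing C] (f g : k →+* C), f = g) :
    IsPushout (CommRingCat.ofHom (mapR k incl)) (CommRingCat.ofHom (eps k N))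
      (CommRingCat.ofHom (mapR k φ))
      (CommRingCat.ofHom (algebraMap k (MonoidAlgebra k (Multiplicative M)))) := by
  have hw : CommRingCat.ofHom (mapR k incl) ≫ CommRingCat.ofHom (mapR k φ) =
      CommRingCat.ofHom (eps k N) ≫
        CommRingCat.ofHom (algebraMap k (MonoidAlgebra k (Multiplicative M))) := by
    rw [← CommRingCat.ofHom_comp, ← CommRingCat.ofHom_comp, incl_phi incl φ hex]
  have h1 : ∀ s : PushoutCocone (CommRingCat.ofHom (mapR k incl)) (CommRingCat.ofHom (eps k N)),
      ∀ n : N, s.inl.hom (single (Multiplicative.ofAdd (incl n)) 1) = 1 := by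
    intro s n
    have := congrArg (fun f => f.hom (single (Multiplicative.ofAdd n) (1 : k))) s.condition
    simp only [CommRingCat.hom_comp, CommRingCat.hom_ofHom, RingHom.comp_apply] at this
    rw [mapR_single, eps_single] at this
    rw [map_one] at this
    exact this
  refine ⟨⟨hw⟩, ⟨PushoutCocone.IsColimit.mk _
    (fun s => CommRingCat.ofHom (desc incl φ hφ hex s.inl.hom s.inr.hom (h1 s))) ?_ ?_ ?_⟩⟩
  · intro s
    refine CommRingCat.hom_ext (MonoidAlgebra.ringHom_ext (fun r => ?_) (fun g => ?_))
    · simp only [CommRingCat.hom_comp, CommRingCat.hom_ofHom, RingHom.comp_apply]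
      rw [mapR_single, desc_single]
      have := hk _ s.inr.hom (s.inl.hom.comp (algebraMap k _))
      rw [this]
      simp [MonoidAlgebra.one_def]
    · simp only [CommRingCat.hom_comp, CommRingCat.hom_ofHom, RingHom.comp_apply]
      rw [mapR_single, desc_single, chi_apply, map_one, _root_.one_mul]
  · intro s
    ext x
    simp only [CommRingCat.hom_comp, CommRingCat.hom_ofHom, RingHom.comp_apply]
    rw [MonoidAlgebra.coe_algebraMap]
    simp [desc_single]
  · intro s m hm1 hm2
    refine CommRingCat.hom_ext (MonoidAlgebra.ringHom_ext (fun r => ?_) (fun g => ?_))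
    · have := congrArg (fun f => f.hom r) hm2
      simp only [CommRingCat.hom_comp, CommRingCat.hom_ofHom, RingHom.comp_apply] at this
      rw [MonoidAlgebra.coe_algebraMap] at this
      simp only [CommRingCat.hom_ofHom]
      rw [desc_single, map_one]
      simpa using this
    · obtain ⟨y, rfl⟩ := Multiplicative.ofAdd.surjective g
      obtain ⟨x, rfl⟩ := hφ y
      have := congrArg (fun f => f.hom (single (Multiplicative.ofAdd x) (1 : k))) hm1
      simp only [CommRingCat.hom_comp, CommRingCat.hom_ofHom, RingHom.comp_apply] at this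
      rw [mapR_single] at this
      simp only [CommRingCat.hom_ofHom]
      have e : (Multiplicative.ofAdd (φ x) : Multiplicative M) =
          AddMonoidHom.toMultiplicative φ (Multiplicative.ofAdd x) := rfl
      rw [desc_single, map_one, _root_.one_mul, e, chi_apply]
      exact this

end Ring

theorem isKernel_diag (k : Type u) [CommRing k]
    (hk : ∀ (C : Type u) [CommRing C] (f g : k →+* C), f = g)
    {N A M : Type} [AddCommGroup N] [AddCommGroup A] [AddCommGroup M]
    (incl : N →+ A) (φ : A →+ M) (hφ : Function.Surjective φ)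
    (hex : ∀ a, φ a = 0 ↔ a ∈ incl.range) :
    AlgGrp.IsKernel (Red.diagMap k φ) (Red.diagMap k incl) := by
  have H := isPullback_SpecMap_of_isPushout _ _ _ _ (isPushout incl φ hφ hex k hk)
  have e : Red.diagMap k φ ≫ Red.diagMap k incl = toUnit _ ≫ η[Red.diag k N] := by
    apply Over.OverMorphism.ext
    exact H.w
  exact IsPullback.of_map (Over.forget _) e H

/-- (TQ-K2) -/
theorem isKernel_DSmap (X : Scheme.{u}) {N A M : Type} [AddCommGroup N] [AddCommGroup A]
    [AddCommGroup M] (incl : N →+ A) (φ : A →+ M) (hφ : Function.Surjective φ)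
    (hex : ∀ a, φ a = 0 ↔ a ∈ incl.range) :
    AlgGrp.IsKernel (Red.DSmap X φ) (Red.DSmap X incl) :=
  Groth.Agent.H91.KerTorsor.isKernel_bc _ _ _
    (isKernel_diag (ULift.{u} ℤ) (fun _ _ f g => Groth.Agent.H93.GaGmLaw.ulift_hom_ext f g)
      incl φ hφ hex)

end Groth.Agent.H19.TQ_K2
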