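import Groth.Prelude.Def_RedSub
import Groth.Agent.H27.OverPullback

set_option autoImplicit false

universe u

open CategoryTheory Limits MonoidalCategory CartesianMonoidalCategory MonObj GrpObj AlgebraicGeometry

namespace Groth.Agent.H19.TQ_K3

/-- ring-level statement: `k[N] → k[A]` is of finite presentation for f.g. `N`, `A` and noetherian `k`. -/
theorem mapDomain_finitePresentation (k : Type u) [CommRing k] [IsNoetherianRing k]
    {N A : Type} [AddCommGroup N] [AddCommGroup A] (hN : AddGroup.FG N) (hA : AddGroup.FG A)
    (incl : N →+ A) :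
    (MonoidAlgebra.mapDomainAlgHom k k (AddMonoidHom.toMultiplicative incl)).toRingHom.FinitePresentation := by
  have := hN
  have := hA
  set ψ := MonoidAlgebra.mapDomainAlgHom k k (AddMonoidHom.toMultiplicative incl) with hψ
  have hA' : Algebra.FiniteType k (MonoidAlgebra k (Multiplicative A)) := inferInstance
  have hN' : Algebra.FiniteType k (MonoidAlgebra k (Multiplicative N)) := inferInstance
  have hAfp : Algebra.FinitePresentation k (MonoidAlgebra k (Multiplicative A)) :=
    Algebra.FinitePresentation.of_finiteType.mp hA'
  have hcomp : ψ.toRingHom.comp (algebraMap k (MonoidAlgebra k (Multiplicative N))) =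
      algebraMap k (MonoidAlgebra k (Multiplicative A)) := ψ.comp_algebraMap
  refine RingHom.FinitePresentation.of_comp_finiteType
    (algebraMap k (MonoidAlgebra k (Multiplicative N))) ?_ ?_
  · rw [hcomp]
    exact RingHom.finitePresentation_algebraMap.mpr hAfp
  · exact RingHom.finiteType_algebraMap.mpr hN'

/-- (TQ-K3) `D_X(A) ⟶ D_X(N)` is locally of finite presentation for f.g. `N`, `A`. -/
theorem DSmap_lfp (X : Scheme.{u}) {N A : Type} [AddCommGroup N] [AddCommGroup A]
    (hN : AddGroup.FG N) (hA : AddGroup.FG A) (incl : N →+ A) :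
    LocallyOfFinitePresentation (Red.DSmap X incl).left := by
  unfold Red.DSmap
  apply Groth.Agent.H27.pullback_map_left_of_stable @LocallyOfFinitePresentation
  have : IsNoetherianRing (ULift.{u} ℤ) := isNoetherianRing_of_ringEquiv ℤ ULift.ringEquiv.symm
  have h := mapDomain_finitePresentation (ULift.{u} ℤ) hN hA incl
  change LocallyOfFinitePresentation (Spec.map (CommRingCat.ofHom
    (MonoidAlgebra.mapDomainAlgHom (ULift.{u} ℤ) (ULift.{u} ℤ)
      (AddMonoidHom.toMultiplicative incl)).toRingHom))
  rw [HasRingHomProperty.Spec_iff (P := @LocallyOfFinitePresentation)]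
  exact h

end Groth.Agent.H19.TQ_K3
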