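import Groth.Prelude.Def_RedSub

set_option autoImplicit false

universe u

open CategoryTheory Limits MonoidalCategory CartesianMonoidalCategory MonObj GrpObj AlgebraicGeometry

namespace Groth.Agent.H19.TQ_TR

/-- (TQ-TR) transport of a quotient along isomorphisms of the group and the subgroup. -/
theorem isQuotient_transport {S : Scheme.{u}} {G H G' H' Q : Over S} [GrpObj G] [GrpObj H]
    [GrpObj G'] [GrpObj H'] (i : H ⟶ G) (i' : H' ⟶ G') (α : H ≅ H') (β : G ≅ G')
    [IsMonHom β.hom] (w : i ≫ β.hom = α.hom ≫ i') (q : G ⟶ Q) (hq : RedSub.IsQuotient i q) :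
    RedSub.IsQuotient i' (β.inv ≫ q) := by
  obtain ⟨h1, h2, h3, h4⟩ := hq
  have : IsIso β.inv.left := (inferInstance : IsIso ((Over.forget S).map β.inv))
  refine ⟨?_, ?_, ?_, ?_⟩
  · rw [Over.comp_left]; infer_instance
  · rw [Over.comp_left]; infer_instance
  · rw [Over.comp_left]; infer_instance
  · refine IsPullback.of_iso h4 (tensorIso β α) β β (Iso.refl Q) ?_ ?_ ?_ ?_
    · simp
    · simp only [tensorIso_hom, Category.assoc]
      rw [IsMonHom.mul_hom]
      rw [← Category.assoc, ← Category.assoc]
      congr 1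
      rw [← id_tensorHom, ← id_tensorHom, tensorHom_comp_tensorHom, tensorHom_comp_tensorHom]
      rw [Category.id_comp, Category.comp_id, w]
    · simp
    · simp

end Groth.Agent.H19.TQ_TR
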