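import Mathlib
import Groth.Agent.H44.Cartier

/-!
# Ring-level core of S16548: ramified points of maps of smooth curves have separable residue fields
-/

set_option autoImplicit false
set_option linter.style.haveILetI false
universe u
open IsLocalRing KaehlerDifferential

namespace Groth.Agent.H19.TameSep

/-- An algebraic, formally smooth, essentially finite type field extension is separable. -/
theorem isSeparable_of_formallySmooth_of_isAlgebraic (k K : Type u) [Field k] [Field K]
    [Algebra k K] [Algebra.EssFiniteType k K] [Algebra.FormallySmooth k K]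
    [Algebra.IsAlgebraic k K] : Algebra.IsSeparable k K := by
  obtain ⟨hfin, hfinH, heq⟩ := Groth.Agent.H44.Cartier.cartier k K
  have htr : Algebra.trdeg k K = 0 := trdeg_eq_zero
  have h0 : Module.finrank K (Algebra.H1Cotangent k K) = 0 := Module.finrank_zero_of_subsingleton
  rw [h0, htr] at heq
  simp only [Nat.cast_zero, sub_zero, Cardinal.zero_toNat] at heq
  have heq' : Module.finrank K Ω[K⁄k] = 0 := by exact_mod_cast heq
  haveI : Subsingleton Ω[K⁄k] := Module.finrank_zero_iff.mp heq'
  haveI : Algebra.FormallyUnramified k K := ⟨inferInstance⟩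
  exact Algebra.FormallyUnramified.isSeparable k K

theorem ring_main' {k A B : Type u} [Field k] [CommRing A] [CommRing B] [IsLocalRing A]
    [IsLocalRing B] [Algebra k A] [Algebra k B] [Algebra A B] [IsScalarTower k A B]
    [IsLocalHom (algebraMap A B)]
    [Algebra.EssFiniteType k A] [Algebra.EssFiniteType k B] [Algebra.FormallySmooth k B]
    [IsNoetherianRing B]
    (hgen : ∃ ω : Ω[B⁄k], Submodule.span B {ω} = ⊤)
    [Algebra.IsAlgebraic k (ResidueField B)]
    (e : ℕ) (he : (maximalIdeal A).map (algebraMap A B) = maximalIdeal B ^ e) (h2 : 2 ≤ e)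
    [Algebra.IsSeparable (ResidueField A) (ResidueField B)] :
    Algebra.IsSeparable k (ResidueField B) := by
  by_contra hns
  haveI : Algebra.EssFiniteType k (ResidueField B) := Algebra.EssFiniteType.comp k B _
  haveI : Algebra.EssFiniteType k (ResidueField A) := Algebra.EssFiniteType.comp k A _
  have hL : ¬ Subsingleton Ω[ResidueField A⁄k] := fun h => by
    haveI : Algebra.FormallyUnramified k (ResidueField A) := ⟨h⟩
    haveI : Algebra.IsSeparable k (ResidueField A) := Algebra.FormallyUnramified.isSeparable k _
    exact hns (Algebra.IsSeparable.trans k (ResidueField A) (ResidueField B))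
  have hinj : Function.Injective
      (KaehlerDifferential.map k k (ResidueField A) (ResidueField B)) := by
    haveI : Algebra.FormallyEtale (ResidueField A) (ResidueField B) :=
      Algebra.FormallyEtale.of_isSeparable _ _
    have h1 := (KaehlerDifferential.tensorKaehlerEquivOfFormallyEtale k (ResidueField A)
      (ResidueField B)).injective
    have h2 := Module.Flat.tensorProduct_mk_injective (ResidueField A) Ω[ResidueField A⁄k]
      (ResidueField B)
    intro z w hzw
    apply h2
    apply h1
    simp only [KaehlerDifferential.tensorKaehlerEquivOfFormallyEtale_apply, TensorProduct.mk_apply,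
      KaehlerDifferential.mapBaseChange_tmul, one_smul]
    exact hzw
  obtain ⟨ω, hω⟩ := hgen
  have hspan : ∀ y : Ω[B⁄k], ∃ c : B, c • ω = y := fun y =>
    Submodule.mem_span_singleton.mp (hω ▸ Submodule.mem_top)
  have key : ∃ (a : A) (c : B), IsUnit c ∧ D k B (algebraMap A B a) = c • ω := by
    by_contra hcon
    push Not at hcon
    have hzero : ∀ a : A, KaehlerDifferential.map k k (ResidueField A) (ResidueField B)
        (D k (ResidueField A) (residue A a)) = 0 := by
      intro a
      obtain ⟨c, hc⟩ := hspan (D k B (algebraMap A B a))
      have hcm : c ∈ maximalIdeal B := by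
        by_contra hcu
        exact hcon a c (by simpa [mem_maximalIdeal, mem_nonunits_iff] using hcu) hc.symm
      have h3 : KaehlerDifferential.map k k B (ResidueField B) (D k B (algebraMap A B a)) = 0 := by
        rw [← hc, map_smul, ← algebraMap_smul (ResidueField B) c, ResidueField.algebraMap_eq,
          (residue_eq_zero_iff c).mpr hcm, zero_smul]
      rw [KaehlerDifferential.map_D] at h3 ⊢
      exact h3
    have hmapzero : ∀ z : Ω[ResidueField A⁄k],
        KaehlerDifferential.map k k (ResidueField A) (ResidueField B) z = 0 := by
      intro z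
      have hz : z ∈ Submodule.span (ResidueField A) (Set.range (D k (ResidueField A))) := by
        rw [KaehlerDifferential.span_range_derivation]; trivial
      induction hz using Submodule.span_induction with
      | mem x hx =>
        obtain ⟨l, rfl⟩ := hx
        obtain ⟨a, rfl⟩ := residue_surjective l
        exact hzero a
      | zero => simp
      | add x y _ _ hx hy => rw [map_add, hx, hy, add_zero]
      | smul c x _ hx => rw [map_smul, hx, smul_zero]
    exact hL ⟨fun z w => hinj (by rw [hmapzero z, hmapzero w])⟩
  obtain ⟨a, c, hc, hD⟩ := key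
  haveI hsub : Subsingleton Ω[B⁄A] := by
    have hω0 : KaehlerDifferential.map k A B B ω = 0 := by
      have hω' : ω = (hc.unit⁻¹ : Bˣ) • D k B (algebraMap A B a) := by
        rw [hD, Units.smul_def, smul_smul]
        simp
      rw [hω', Units.smul_def, map_smul, KaehlerDifferential.map_D]
      simp
    have hall : ∀ y : Ω[B⁄k], KaehlerDifferential.map k A B B y = 0 := fun y => by
      obtain ⟨b, rfl⟩ := hspan y
      rw [map_smul, hω0, smul_zero]
    refine ⟨fun z w => ?_⟩
    obtain ⟨z', rfl⟩ := KaehlerDifferential.map_surjective k A B z
    obtain ⟨w', rfl⟩ := KaehlerDifferential.map_surjective k A B w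
    rw [hall, hall]
  haveI : Algebra.FormallyUnramified A B := ⟨hsub⟩
  haveI : Algebra.EssFiniteType A B := Algebra.EssFiniteType.of_comp k A B
  have hmax := Algebra.FormallyUnramified.map_maximalIdeal (R := A) (S := B)
  rw [he] at hmax
  have hbot : maximalIdeal B = ⊥ := by
    apply Submodule.eq_bot_of_le_smul_of_le_jacobson_bot (maximalIdeal B) (maximalIdeal B)
      (IsNoetherian.noetherian _)
    · rw [smul_eq_mul, ← pow_two]
      conv_lhs => rw [← hmax]
      exact Ideal.pow_le_pow_right h2
    · exact maximalIdeal_le_jacobson ⊥
  have hbij : Function.Bijective (algebraMap B (ResidueField B)) := by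
    refine ⟨?_, residue_surjective⟩
    rw [injective_iff_map_eq_zero]
    intro b hb
    have := (residue_eq_zero_iff b).mp hb
    rw [hbot] at this
    exact this
  let eBK : B ≃ₐ[k] ResidueField B :=
    AlgEquiv.ofBijective (IsScalarTower.toAlgHom k B (ResidueField B)) hbij
  haveI : Algebra.FormallySmooth k (ResidueField B) := Algebra.FormallySmooth.of_equiv eBK
  exact hns (isSeparable_of_formallySmooth_of_isAlgebraic k (ResidueField B))

end Groth.Agent.H19.TameSep
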