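import Mathlib
import Groth.Prelude.Def_CurvBase
import Groth.Agent.H19.TameSep

/-!
# Scheme-level plumbing for S16548
-/

set_option autoImplicit false
set_option linter.style.haveILetI false
universe u
open AlgebraicGeometry CategoryTheory IsLocalRing KaehlerDifferential

namespace Groth.Agent.H19.TameSepSch

/-- Kähler differentials of a standard smooth algebra of relative dimension one are generated
by one element. -/
theorem exists_generator {R S : Type u} [CommRing R] [CommRing S] [Algebra R S]
    [Algebra.IsStandardSmoothOfRelativeDimension 1 R S] :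
    ∃ ω : Ω[S⁄R], Submodule.span S {ω} = ⊤ := by
  classical
  obtain ⟨ι', σ, _, _, P, e⟩ :=
    Algebra.IsStandardSmoothOfRelativeDimension.out (R := R) (S := S) (n := 1)
  have hcard : Nat.card ((Set.range P.map)ᶜ : Set ι') = 1 := by
    rw [Nat.card_coe_set_eq, Set.ncard_compl, Set.ncard_range_of_injective P.map_inj, ← e,
      Algebra.Presentation.dimension]
  obtain ⟨i₀, hi₀⟩ := Nat.card_eq_one_iff_exists.mp hcard
  refine ⟨P.basisKaehler i₀, ?_⟩
  rw [eq_top_iff, ← P.basisKaehler.span_eq]
  apply Submodule.span_mono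
  rintro _ ⟨i, rfl⟩
  rw [hi₀ i]
  exact Set.mem_singleton _


/-- Version of `TameSep.ring_main'` with arbitrary (compatible) algebra structures on the
residue fields. -/
theorem ring_main {k A B : Type u} [Field k] [CommRing A] [CommRing B] [IsLocalRing A]
    [IsLocalRing B] [Algebra k A] [Algebra k B] [Algebra A B] [IsScalarTower k A B]
    [IsLocalHom (algebraMap A B)]
    [Algebra.EssFiniteType k A] [Algebra.EssFiniteType k B] [Algebra.FormallySmooth k B]
    [IsNoetherianRing B]
    (hgen : ∃ ω : Ω[B⁄k], Submodule.span B {ω} = ⊤)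
    [Algebra.IsAlgebraic k (ResidueField B)]
    (e : ℕ) (he : (maximalIdeal A).map (algebraMap A B) = maximalIdeal B ^ e) (h2 : 2 ≤ e)
    (algkK : Algebra k (ResidueField B))
    (hkK : ∀ c : k, @algebraMap k (ResidueField B) _ _ algkK c = residue B (algebraMap k B c))
    (algLK : Algebra (ResidueField A) (ResidueField B))
    (hLK : ∀ a : A, @algebraMap (ResidueField A) (ResidueField B) _ _ algLK (residue A a) =
      residue B (algebraMap A B a))
    (hsep : @Algebra.IsSeparable (ResidueField A) (ResidueField B) _ _ algLK) :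
    @Algebra.IsSeparable k (ResidueField B) _ _ algkK := by
  have e1 : algkK = ResidueField.algebra B := Algebra.algebra_ext _ _ (fun c => by
    rw [hkK]; rfl)
  have e2 : algLK = ResidueField.instAlgebra :=
    Algebra.algebra_ext _ _ (fun r => by
      obtain ⟨a, rfl⟩ := residue_surjective r
      exact (hLK a).trans rfl)
  subst e1 e2
  exact Groth.Agent.H19.TameSep.ring_main' hgen e he h2

set_option maxHeartbeats 800000 in
/-- Stalk-level facts for a scheme smooth of relative dimension one over a field. -/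
theorem stalk_facts {k : Type u} [Field k] {X : Scheme.{u}} (g : X ⟶ Spec (CommRingCat.of k))
    [SmoothOfRelativeDimension 1 g] (x : X) :
    letI : Algebra k (X.presheaf.stalk x) :=
      ((X.presheaf.germ ⊤ x trivial).hom.comp (Coh.toGlobal g)).toAlgebra
    Algebra.FormallySmooth k (X.presheaf.stalk x) ∧
      Algebra.EssFiniteType k (X.presheaf.stalk x) ∧
      IsNoetherianRing (X.presheaf.stalk x) ∧
      (∃ ω : Ω[X.presheaf.stalk x⁄k], Submodule.span (X.presheaf.stalk x) {ω} = ⊤) ∧
      (IsClosed ({x} : Set X) → Algebra.IsAlgebraic k (ResidueField (X.presheaf.stalk x))) := by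
  obtain ⟨U, hU, V, hV, hxV, e, hs⟩ :=
    SmoothOfRelativeDimension.exists_isStandardSmoothOfRelativeDimension (n := 1) (f := g) x
  haveI : Subsingleton (Spec (CommRingCat.of k)) :=
    inferInstanceAs (Subsingleton (PrimeSpectrum k))
  have hUtop : U = ⊤ := by
    ext y
    simp only [TopologicalSpace.Opens.coe_top, Set.mem_univ, iff_true, SetLike.mem_coe]
    rw [Subsingleton.elim y (g x)]
    exact e hxV
  subst hUtop
  letI algR : Algebra k Γ(X, V) :=
    ((g.appLE ⊤ V e).hom.comp (Scheme.ΓSpecIso (CommRingCat.of k)).inv.hom).toAlgebra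
  haveI hss : Algebra.IsStandardSmoothOfRelativeDimension 1 k Γ(X, V) := by
    have := RingHom.isStandardSmoothOfRelativeDimension_respectsIso.2 (g.appLE ⊤ V e).hom
      (Scheme.ΓSpecIso (CommRingCat.of k)).symm.commRingCatIsoToRingEquiv hs
    exact this
  letI algB : Algebra k (X.presheaf.stalk x) :=
      ((X.presheaf.germ ⊤ x trivial).hom.comp (Coh.toGlobal g)).toAlgebra
  letI algRB : Algebra Γ(X, V) (X.presheaf.stalk x) :=
    TopCat.Presheaf.algebra_section_stalk X.presheaf ⟨x, hxV⟩
  haveI : IsScalarTower k Γ(X, V) (X.presheaf.stalk x) := by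
    refine IsScalarTower.of_algebraMap_eq' ?_
    ext c
    simp only [RingHom.algebraMap_toAlgebra, RingHom.comp_apply, Coh.toGlobal]
    change _ = (X.presheaf.germ V x hxV).hom _
    unfold Scheme.Hom.appLE
    simp only [CommRingCat.hom_comp, RingHom.comp_apply]
    erw [TopCat.Presheaf.germ_res_apply]
    rfl
  haveI hloc := hV.isLocalization_stalk ⟨x, hxV⟩
  haveI : Algebra.FormallySmooth Γ(X, V) (X.presheaf.stalk x) :=
    Algebra.FormallySmooth.of_isLocalization (hV.primeIdealOf ⟨x, hxV⟩).asIdeal.primeCompl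
  haveI : Algebra.EssFiniteType Γ(X, V) (X.presheaf.stalk x) :=
    Algebra.EssFiniteType.of_isLocalization _ (hV.primeIdealOf ⟨x, hxV⟩).asIdeal.primeCompl
  haveI : Algebra.IsStandardSmooth k Γ(X, V) :=
    Algebra.IsStandardSmoothOfRelativeDimension.isStandardSmooth 1
  haveI : Algebra.FinitePresentation k Γ(X, V) := inferInstance
  haveI : Algebra.FormallySmooth k Γ(X, V) := inferInstance
  haveI : IsNoetherianRing Γ(X, V) := Algebra.FiniteType.isNoetherianRing k _
  refine ⟨Algebra.FormallySmooth.comp k Γ(X, V) _, Algebra.EssFiniteType.comp k Γ(X, V) _,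
    IsLocalization.isNoetherianRing (hV.primeIdealOf ⟨x, hxV⟩).asIdeal.primeCompl _ inferInstance,
    ?_, ?_⟩
  · obtain ⟨ω₀, hω₀⟩ := exists_generator (R := k) (S := Γ(X, V))
    refine ⟨KaehlerDifferential.map k k Γ(X, V) (X.presheaf.stalk x) ω₀, ?_⟩
    rw [eq_top_iff, ← KaehlerDifferential.span_range_map_derivation_of_isLocalization k Γ(X, V)
      (X.presheaf.stalk x) (hV.primeIdealOf ⟨x, hxV⟩).asIdeal.primeCompl, Submodule.span_le]
    rintro _ ⟨r, rfl⟩
    obtain ⟨c, hc⟩ := Submodule.mem_span_singleton.mp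
      (hω₀ ▸ Submodule.mem_top : D k Γ(X, V) r ∈ Submodule.span Γ(X, V) {ω₀})
    simp only [Function.comp_apply, SetLike.mem_coe]
    rw [← hc, map_smul, ← algebraMap_smul (X.presheaf.stalk x) c]
    exact Submodule.smul_mem _ _ (Submodule.mem_span_singleton_self _)
  · intro hx
    haveI hmax : (hV.primeIdealOf ⟨x, hxV⟩).asIdeal.IsMaximal :=
      hV.primeIdealOf_isMaximal_of_isClosed ⟨x, hxV⟩ hx
    have hsurj : Function.Surjective
        (algebraMap Γ(X, V) (ResidueField (X.presheaf.stalk x))) := by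
      intro y
      obtain ⟨r, hr⟩ := Ideal.Quotient.mk_surjective
        ((IsLocalization.AtPrime.equivQuotMaximalIdeal (hV.primeIdealOf ⟨x, hxV⟩).asIdeal
          (X.presheaf.stalk x)).symm y)
      refine ⟨r, ?_⟩
      have := (IsLocalization.AtPrime.equivQuotMaximalIdeal
        (hV.primeIdealOf ⟨x, hxV⟩).asIdeal (X.presheaf.stalk x)).apply_symm_apply y
      rw [← hr, IsLocalization.AtPrime.equivQuotMaximalIdeal_apply_mk] at this
      exact this
    haveI : Algebra.FiniteType k (ResidueField (X.presheaf.stalk x)) :=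
      Algebra.FiniteType.of_surjective
        (IsScalarTower.toAlgHom k Γ(X, V) (ResidueField (X.presheaf.stalk x))) hsurj
    haveI : Module.Finite k (ResidueField (X.presheaf.stalk x)) :=
      finite_of_finite_type_of_isJacobsonRing k _
    exact Algebra.IsAlgebraic.of_finite k _


/-- Compatibility of the structure maps to stalks along a morphism over `Spec k`. -/
theorem stalkMap_comp {k : Type u} [Field k] {X Y : Scheme.{u}}
    (gX : X ⟶ Spec (CommRingCat.of k)) (gY : Y ⟶ Spec (CommRingCat.of k)) (f : X ⟶ Y)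
    (hf : f ≫ gY = gX) (x : X) :
    (f.stalkMap x).hom.comp ((Y.presheaf.germ ⊤ (f x) trivial).hom.comp (Coh.toGlobal gY)) =
      (X.presheaf.germ ⊤ x trivial).hom.comp (Coh.toGlobal gX) := by
  subst hf
  ext c
  simp only [RingHom.comp_apply, Coh.toGlobal]
  erw [Scheme.Hom.germ_stalkMap_apply]
  rfl

attribute [local instance] Curv2.resAlgebra in
theorem main (k : Type u) [Field k]
    (X Y : Scheme.{u}) [X.Over (Spec (CommRingCat.of k))] [Y.Over (Spec (CommRingCat.of k))]
    [SmoothOfRelativeDimension 1 (X ↘ Spec (CommRingCat.of k))]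
    [SmoothOfRelativeDimension 1 (Y ↘ Spec (CommRingCat.of k))]
    (f : X ⟶ Y) [IsFinite f] (hf : f ≫ (Y ↘ Spec (CommRingCat.of k)) = X ↘ Spec (CommRingCat.of k))
    (x : X) (hx : IsClosed ({x} : Set X)) (e : ℕ)
    (he : (IsLocalRing.maximalIdeal (Y.presheaf.stalk (f.base x))).map (f.stalkMap x).hom =
      IsLocalRing.maximalIdeal (X.presheaf.stalk x) ^ e)
    (h2 : 2 ≤ e)
    (hsep : @Algebra.IsSeparable (Y.residueField (f.base x)) (X.residueField x) _ _
      (f.residueFieldMap x).hom.toAlgebra) :
    Algebra.IsSeparable k (X.residueField x) := by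
  letI algA : Algebra k (Y.presheaf.stalk (f x)) :=
    ((Y.presheaf.germ ⊤ (f x) trivial).hom.comp
      (Coh.toGlobal (Y ↘ Spec (CommRingCat.of k)))).toAlgebra
  letI algB : Algebra k (X.presheaf.stalk x) :=
    ((X.presheaf.germ ⊤ x trivial).hom.comp
      (Coh.toGlobal (X ↘ Spec (CommRingCat.of k)))).toAlgebra
  letI algAB : Algebra (Y.presheaf.stalk (f x)) (X.presheaf.stalk x) :=
    (f.stalkMap x).hom.toAlgebra
  haveI : IsScalarTower k (Y.presheaf.stalk (f x)) (X.presheaf.stalk x) :=
    IsScalarTower.of_algebraMap_eq' (stalkMap_comp _ _ f hf x).symm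
  haveI : IsLocalHom (algebraMap (Y.presheaf.stalk (f x)) (X.presheaf.stalk x)) :=
    inferInstanceAs (IsLocalHom (f.stalkMap x).hom)
  obtain ⟨hfsB, heftB, hnoeB, hgenB, halgB⟩ := stalk_facts (X ↘ Spec (CommRingCat.of k)) x
  obtain ⟨-, heftA, -, -, -⟩ := stalk_facts (Y ↘ Spec (CommRingCat.of k)) (f x)
  haveI := halgB hx
  exact ring_main (k := k) (A := Y.presheaf.stalk (f x)) (B := X.presheaf.stalk x) hgenB e he h2
    (Curv2.resAlgebra k X x) (fun c => rfl) ((f.residueFieldMap x).hom.toAlgebra)
    (fun a => rfl) hsep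

end Groth.Agent.H19.TameSepSch
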