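import Mathlib
import Groth.Prelude.Def_PBC
import Groth.Prelude.Def_ProEtS

/-!
# (E1) for helper23's S0732 squad (helper19)
-/

set_option autoImplicit false
set_option linter.style.haveILetI false
set_option backward.isDefEq.respectTransparency.types false
universe u
open CategoryTheory CategoryTheory.Limits AlgebraicGeometry Opposite

namespace Groth.Agent.H19.WC_E1

/-- general form -/
theorem subsingleton_sheafify_general {C : Type (u + 1)} [Category.{u} C]
    (J : GrothendieckTopology C) (P : Cᵒᵖ ⥤ AddCommGrpCat.{u + 1}) (V : C)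
    (h : ∀ R ∈ J V, ∃ (ι : Type) (Z : ι → C) (g : ∀ k, Z k ⟶ V),
      (∀ k, R.arrows (g k)) ∧ Sieve.generate (Presieve.ofArrows Z g) ∈ J V ∧
      ∀ k, Subsingleton (P.obj (op (Z k)))) :
    Subsingleton ((sheafify J P).obj (op V)) := by
  set F := sheafify J P with hF
  let η : P ⟶ F := toSheafify J P
  haveI : Presheaf.IsLocallySurjective J η := Presheaf.isLocallySurjective_toSheafify' J P
  have hsheaf : Presheaf.IsSheaf J F := ((presheafToSheaf J AddCommGrpCat.{u + 1}).obj P).property
  have hsheaf' : Presieve.IsSheaf J (F ⋙ forget AddCommGrpCat.{u + 1}) :=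
    (isSheaf_iff_isSheaf_of_type _ _).mp
      ((Presheaf.isSheaf_iff_isSheaf_forget J F (forget AddCommGrpCat.{u + 1})).mp hsheaf)
  constructor
  intro s t
  have hR : Presheaf.imageSieve η s ⊓ Presheaf.imageSieve η t ∈ J V :=
    J.intersection_covering (Presheaf.imageSieve_mem J η (U := op V) s)
      (Presheaf.imageSieve_mem J η (U := op V) t)
  obtain ⟨ι, Z, g, hgR, hcov, hsub⟩ := h _ hR
  have hk : ∀ k, F.map (g k).op s = F.map (g k).op t := by
    intro k
    obtain ⟨⟨a, ha⟩, ⟨b, hb⟩⟩ := hgR k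
    have hab : a = b := (hsub k).elim a b
    rw [← ha, ← hb, hab]
  refine (hsheaf'.isSeparated _ hcov).ext ?_
  rintro Y f ⟨W, e, g', ⟨k⟩, rfl⟩
  change F.map (e ≫ g k).op s = F.map (e ≫ g k).op t
  rw [op_comp, F.map_comp, ConcreteCategory.comp_apply, ConcreteCategory.comp_apply, hk k]

/-- (E1) -/
theorem subsingleton_sheafify_of_forall_cover {X : Scheme.{u}}
    (P : X.ProEtᵒᵖ ⥤ AddCommGrpCat.{u + 1}) (V : X.ProEt)
    (h : ∀ R ∈ Scheme.ProEt.topology X V, ∃ (ι : Type) (Z : ι → X.ProEt) (g : ∀ k, Z k ⟶ V),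
      (∀ k, R.arrows (g k)) ∧
      Sieve.generate (Presieve.ofArrows Z g) ∈ Scheme.ProEt.topology X V ∧
      ∀ k, Subsingleton (P.obj (op (Z k)))) :
    Subsingleton ((sheafify (Scheme.ProEt.topology X) P).obj (op V)) :=
  subsingleton_sheafify_general (Scheme.ProEt.topology X) P V h

end Groth.Agent.H19.WC_E1
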