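import Mathlib
import Groth.Prelude.Def_PBC
import Groth.Prelude.Def_ProEtS

/-!
# (E2) for helper23's S0732 squad (helper19)
-/

set_option autoImplicit false
set_option linter.style.haveILetI false
set_option backward.isDefEq.respectTransparency.types false
universe u
open CategoryTheory CategoryTheory.Limits AlgebraicGeometry Opposite

namespace Groth.Agent.H19.WC_E2

/-- general form: the left Kan extension vanishes at objects receiving no map. -/
theorem subsingleton_lan_general {C D : Type (u + 1)} [Category.{u} C] [Category.{u} D]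
    (L : C ⥤ D) (Q : Cᵒᵖ ⥤ AddCommGrpCat.{u + 1}) (Z : D)
    (hZ : ∀ V' : C, IsEmpty (Z ⟶ L.obj V')) :
    Subsingleton ((L.op.lan.obj Q).obj (op Z)) := by
  have hpt := Functor.isPointwiseLeftKanExtensionLeftKanExtensionUnit L.op Q (op Z)
  haveI : IsEmpty (CostructuredArrow L.op (op Z)) :=
    ⟨fun a => (hZ a.left.unop).false a.hom.unop⟩
  have h0 : (𝟙 ((L.op.lan.obj Q).obj (op Z)) : _ ⟶ _) = 0 :=
    hpt.hom_ext (fun a => isEmptyElim a)
  constructor
  intro x y
  have hx : x = 0 := by
    have := congrArg (fun f => (ConcreteCategory.hom f) x) h0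
    simpa using this
  have hy : y = 0 := by
    have := congrArg (fun f => (ConcreteCategory.hom f) y) h0
    simpa using this
  rw [hx, hy]

/-- (E2) -/
theorem subsingleton_lan_of_isEmpty {U X : Scheme.{u}} (j : U ⟶ X) [WeaklyEtale j]
    (Q : U.ProEtᵒᵖ ⥤ AddCommGrpCat.{u + 1}) (Z : X.ProEt)
    (hZ : ∀ V' : U.ProEt, IsEmpty (Z ⟶ (ProEtS.compP j).obj V')) :
    Subsingleton (((ProEtS.compP j).op.lan.obj Q).obj (op Z)) :=
  subsingleton_lan_general (ProEtS.compP j) Q Z hZ

end Groth.Agent.H19.WC_E2
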