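import Mathlib
import Groth.Prelude.Def_PBC
import Groth.Prelude.Def_ProEtS
import Groth.Agent.H23.WCDefs

/-!
# (L3) for helper23's S0715/S0757 squad: clopen refinement of a finite weakly étale affine
covering of a w-contractible affine scheme (helper19)
-/

set_option autoImplicit false
set_option linter.style.haveILetI false
set_option backward.isDefEq.respectTransparency.types false
universe u v
open CategoryTheory CategoryTheory.Limits AlgebraicGeometry Opposite
open Groth.Agent.H23.WCDefs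

namespace Groth.Agent.H19.WC_L3

/-- The affine case of weak étaleness (copy of `Groth.Agent.S7178.weaklyEtale_SpecMap_iff`). -/
theorem weaklyEtale_SpecMap_iff {R S : CommRingCat.{u}} (φ : R ⟶ S) :
    WeaklyEtale (Spec.map φ) ↔
      (letI := φ.hom.toAlgebra
       Algebra.WeaklyEtale R S) := by
  algebraize [φ.hom]
  have hφ : φ = CommRingCat.ofHom (algebraMap R S) := rfl
  rw [weaklyEtale_iff, Algebra.weaklyEtale_iff]
  have h1 : Flat (Spec.map φ) ↔ Module.Flat R S := by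
    rw [HasRingHomProperty.Spec_iff (P := @Flat)]
    rfl
  have h2 : Flat (pullback.diagonal (Spec.map φ)) ↔
      (Algebra.TensorProduct.lmul' R (S := S)).Flat := by
    rw [hφ, diagonal_SpecMap R S,
      MorphismProperty.cancel_right_of_respectsIso (P := @Flat),
      HasRingHomProperty.Spec_iff (P := @Flat)]
    rfl
  rw [h1, h2]

/-- (L1) a weakly étale surjection of affine schemes onto an affine scheme with w-contractible
ring of global sections has a section. -/
theorem exists_section_of_isWContractible {U Y : Scheme.{u}} [IsAffine U] [IsAffine Y]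
    (q : Y ⟶ U) [WeaklyEtale q] [Surjective q] (h : EtPBC.IsWContractible ↥(Γ(U, ⊤))) :
    ∃ σ : U ⟶ Y, σ ≫ q = 𝟙 U := by
  let φ : Γ(U, ⊤) ⟶ Γ(Y, ⊤) := q.appTop
  have hnat : Y.isoSpec.hom ≫ Spec.map φ = q ≫ U.isoSpec.hom :=
    (Scheme.isoSpec_hom_naturality q)
  have hq : q = Y.isoSpec.hom ≫ Spec.map φ ≫ U.isoSpec.inv := by
    rw [← Category.assoc, hnat, Category.assoc, Iso.hom_inv_id, Category.comp_id]
  have hSpec : Spec.map φ = Y.isoSpec.inv ≫ q ≫ U.isoSpec.hom := by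
    rw [← hnat, Iso.inv_hom_id_assoc]
  have hW : WeaklyEtale (Spec.map φ) := by
    rw [hSpec]; infer_instance
  have hS : Surjective (Spec.map φ) := by
    rw [hSpec]; infer_instance
  letI := φ.hom.toAlgebra
  have hwe : Algebra.WeaklyEtale Γ(U, ⊤) Γ(Y, ⊤) := (weaklyEtale_SpecMap_iff φ).mp hW
  have hff : Module.FaithfullyFlat Γ(U, ⊤) Γ(Y, ⊤) :=
    (flat_and_surjective_SpecMap_iff φ).mp ⟨inferInstance, hS⟩
  obtain ⟨r⟩ := h Γ(Y, ⊤) hff hwe
  have hr : φ ≫ CommRingCat.ofHom r.toRingHom = 𝟙 _ := by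
    ext x
    exact r.commutes x
  refine ⟨U.isoSpec.hom ≫ Spec.map (CommRingCat.ofHom r.toRingHom) ≫ Y.isoSpec.inv, ?_⟩
  rw [hq]
  simp only [Category.assoc, Iso.inv_hom_id_assoc]
  rw [← Spec.map_comp_assoc, hr, Spec.map_id, Category.id_comp, Iso.hom_inv_id]

/-- (L3) with (L1) as an explicit hypothesis. -/
theorem exists_clopen_refinement_core {U : Scheme.{u}}
    (hL1 : ∀ (Y' : Scheme.{u}) (_ : IsAffine Y') (q : Y' ⟶ U) (_ : WeaklyEtale q)
      (_ : Surjective q), ∃ σ : U ⟶ Y', σ ≫ q = 𝟙 U)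
    {n : ℕ} (Y : Fin n → Scheme.{u})
    (f : ∀ k, Y k ⟶ U) (hf : ∀ k, WeaklyEtale (f k)) (V : ∀ k, (Y k).Opens)
    (hV : ∀ k, IsAffineOpen (V k)) (hcov : ⋃ k, (f k) '' (V k : Set ↥(Y k)) = Set.univ) :
    ∃ W : Fin n → U.Opens, (∀ k, IsClopen ((W k : Set ↥U))) ∧
      Pairwise (fun k l => Disjoint (W k : Set ↥U) (W l)) ∧ (⋃ k, (W k : Set ↥U)) = Set.univ ∧
      ∀ k, ∃ σ : (W k : Scheme.{u}) ⟶ Y k, σ ≫ f k = (W k).ι := by
  let g : Fin n → Scheme.{u} := fun k => ((V k : (Y k).Opens) : Scheme.{u})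
  haveI : ∀ k, IsAffine (g k) := fun k => hV k
  let a : ∀ k, g k ⟶ U := fun k => (V k).ι ≫ f k
  haveI : ∀ k, WeaklyEtale (a k) := fun k => by
    haveI := hf k
    infer_instance
  let q : (∐ g) ⟶ U := Sigma.desc a
  haveI hqW : WeaklyEtale q := IsZariskiLocalAtSource.sigmaDesc (fun k => inferInstance)
  haveI hqS : Surjective q := by
    apply Surjective.sigmaDesc_of_union_range_eq_univ
    rw [← hcov]
    congr 1
    funext k
    simp only [a, Scheme.Hom.comp_base, TopCat.hom_comp, ContinuousMap.coe_comp, Set.range_comp]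
    congr 1
    exact (V k).range_ι
  obtain ⟨σ, hσ⟩ := hL1 (∐ g) inferInstance q hqW hqS
  refine ⟨fun k => σ ⁻¹ᵁ (Sigma.ι g k).opensRange, ?_, ?_, ?_, ?_⟩
  · intro k
    refine ⟨?_, (σ ⁻¹ᵁ (Sigma.ι g k).opensRange).isOpen⟩
    -- complement is the union of the other components
    have hcompl : ((Sigma.ι g k).opensRange : Set ↥(∐ g))ᶜ =
        ⋃ l ∈ {l : Fin n | l ≠ k}, ((Sigma.ι g l).opensRange : Set ↥(∐ g)) := by
      ext y
      simp only [Set.mem_compl_iff, Set.mem_iUnion, Set.mem_ofPred_eq, exists_prop]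
      constructor
      · intro hy
        obtain ⟨l, z, hz⟩ := (sigmaOpenCover g).exists_eq y
        refine ⟨l, ?_, ⟨z, hz⟩⟩
        rintro rfl
        exact hy ⟨z, hz⟩
      · rintro ⟨l, hl, hyl⟩ hyk
        exact (Set.disjoint_left.mp
          ((TopologicalSpace.Opens.coe_disjoint).mpr (disjoint_opensRange_sigmaι g l k hl))) hyl hyk
    have hclosed : IsClosed ((Sigma.ι g k).opensRange : Set ↥(∐ g)) := by
      rw [← isOpen_compl_iff, hcompl]
      exact isOpen_biUnion (fun l _ => (Sigma.ι g l).opensRange.isOpen)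
    exact hclosed.preimage σ.continuous
  · intro k l hkl
    have := disjoint_opensRange_sigmaι g k l hkl
    rw [Set.disjoint_left]
    intro x hxk hxl
    exact (Set.disjoint_left.mp ((TopologicalSpace.Opens.coe_disjoint).mpr this)) hxk hxl
  · rw [Set.eq_univ_iff_forall]
    intro x
    obtain ⟨l, z, hz⟩ := (sigmaOpenCover g).exists_eq (σ x)
    exact Set.mem_iUnion.mpr ⟨l, ⟨z, hz⟩⟩
  · intro k
    have hrange : Set.range ((σ ⁻¹ᵁ (Sigma.ι g k).opensRange).ι ≫ σ) ⊆
        Set.range (Sigma.ι g k) := by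
      rintro _ ⟨x, rfl⟩
      exact x.2
    refine ⟨IsOpenImmersion.lift (Sigma.ι g k) ((σ ⁻¹ᵁ (Sigma.ι g k).opensRange).ι ≫ σ) hrange ≫
      (V k).ι, ?_⟩
    have h1 : (V k).ι ≫ f k = Sigma.ι g k ≫ q := (Sigma.ι_desc a k).symm
    rw [Category.assoc, h1, ← Category.assoc, IsOpenImmersion.lift_fac, Category.assoc, hσ,
      Category.comp_id]

/-- (L3) -/
theorem exists_clopen_refinement {U : Scheme.{u}} [IsAffine U]
    (h : EtPBC.IsWContractible ↥(Γ(U, ⊤))) {n : ℕ} (Y : Fin n → Scheme.{u})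
    (f : ∀ k, Y k ⟶ U) (hf : ∀ k, WeaklyEtale (f k)) (V : ∀ k, (Y k).Opens)
    (hV : ∀ k, IsAffineOpen (V k)) (hcov : ⋃ k, (f k) '' (V k : Set ↥(Y k)) = Set.univ) :
    ∃ W : Fin n → U.Opens, (∀ k, IsClopen ((W k : Set ↥U))) ∧
      Pairwise (fun k l => Disjoint (W k : Set ↥U) (W l)) ∧ (⋃ k, (W k : Set ↥U)) = Set.univ ∧
      ∀ k, ∃ σ : (W k : Scheme.{u}) ⟶ Y k, σ ≫ f k = (W k).ι :=
  exists_clopen_refinement_core
    (fun _ _ q _ _ => exists_section_of_isWContractible q h) Y f hf V hV hcov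

end Groth.Agent.H19.WC_L3
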