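import Mathlib
import Groth.Prelude

/-!
# (GEN) for helper85's S17377 squad (helper19)

A morphism of integral schemes sending generic point to generic point with residue degree one there
induces an isomorphism on the stalks at the generic points (both are fields).
-/

set_option autoImplicit false
universe u
open CategoryTheory CategoryTheory.Limits AlgebraicGeometry

namespace Groth.Agent.H19.WeilSplit_GEN

theorem isField_stalk_of_eq_genericPoint (D : Scheme.{u}) [IsIntegral D] (x : D)
    (hx : x = genericPoint D) : IsField (D.presheaf.stalk x) := by
  subst hx
  exact Field.toIsField D.functionField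

theorem residue_bijective_of_isField (R : Type u) [CommRing R] [IsLocalRing R] (hR : IsField R) :
    Function.Bijective (IsLocalRing.residue R) := by
  refine ⟨?_, IsLocalRing.residue_surjective⟩
  rw [injective_iff_map_eq_zero]
  intro a ha
  have h1 : a ∈ IsLocalRing.maximalIdeal R := by
    rw [← IsLocalRing.ker_residue]; exact ha
  rw [(IsLocalRing.isField_iff_maximalIdeal_eq).mp hR] at h1
  exact h1

/-- (GEN) -/
theorem isIso_stalkMap_genericPoint_of_residueDegree_eq_one {E D : Scheme.{u}} [IsIntegral E]
    [IsIntegral D] (g : E ⟶ D) (hgen : g (genericPoint E) = genericPoint D)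
    (hdeg : g.residueDegree (genericPoint E) = 1) : IsIso (g.stalkMap (genericPoint E)) := by
  have hE : IsField (E.presheaf.stalk (genericPoint E)) :=
    isField_stalk_of_eq_genericPoint E _ rfl
  have hD : IsField (D.presheaf.stalk (g (genericPoint E))) :=
    isField_stalk_of_eq_genericPoint D _ hgen
  have hrE : Function.Bijective (E.residue (genericPoint E)) :=
    residue_bijective_of_isField _ hE
  have hrD : Function.Bijective (D.residue (g (genericPoint E))) :=
    residue_bijective_of_isField _ hD
  have hres : Function.Bijective (g.residueFieldMap (genericPoint E)) := by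
    letI := (g.residueFieldMap (genericPoint E)).hom.toAlgebra
    have h1 : Module.finrank (D.residueField (g (genericPoint E)))
        (E.residueField (genericPoint E)) = 1 := hdeg
    refine ⟨(g.residueFieldMap (genericPoint E)).hom.injective, ?_⟩
    have h2 := Subalgebra.bot_eq_top_of_finrank_eq_one h1
    exact Algebra.surjective_algebraMap_iff.mpr h2.symm
  have hsq := Scheme.residue_residueFieldMap g (genericPoint E)
  have hcomp : Function.Bijective
      ((E.residue (genericPoint E)) ∘ (g.stalkMap (genericPoint E))) := by
    have : ((E.residue (genericPoint E)) ∘ (g.stalkMap (genericPoint E)) : _ → _) =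
        (g.residueFieldMap (genericPoint E)) ∘ (D.residue (g (genericPoint E))) := by
      funext a
      exact (congrArg (fun φ => φ a) hsq).symm
    rw [this]
    exact hres.comp hrD
  have hb : Function.Bijective (g.stalkMap (genericPoint E)) :=
    (Function.Bijective.of_comp_iff' hrE _).mp hcomp
  exact (ConcreteCategory.isIso_iff_bijective _).mpr hb

end Groth.Agent.H19.WeilSplit_GEN
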